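import Cfsg.Agent.Lib.Helper9.McLa
import Cfsg.Agent.Lib.Helper9.SlpS

/-! Kernel-checked certificates for the tables of `McLa` (generated). -/

set_option autoImplicit false
set_option maxHeartbeats 0
set_option maxRecDepth 1000000

namespace Cfsg.Agent.Lib.Helper9.McLa

open Cfsg.Agent.Lib.Helper8.SS Cfsg.Agent.Lib.Helper8.MatN Cfsg.Agent.Lib.Helper9.SlpS

theorem lv0 : LevelOK 275 pN 528 L0 L1.S (deepOf [L1, L2, L3, L4]) :=
  levelOK_of (by decide +kernel) (by decide +kernel) (by decide +kernel)
    (by decide +kernel)

theorem lv1 : LevelOK 275 pN 528 L1 L2.S (deepOf [L2, L3, L4]) :=
  levelOK_of (by decide +kernel) (by decide +kernel) (by decide +kernel)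
    (by decide +kernel)

theorem lv2 : LevelOK 275 pN 528 L2 L3.S (deepOf [L3, L4]) :=
  levelOK_of (by decide +kernel) (by decide +kernel) (by decide +kernel)
    (by decide +kernel)

theorem lv3 : LevelOK 275 pN 528 L3 L4.S (deepOf [L4]) :=
  levelOK_of (by decide +kernel) (by decide +kernel) (by decide +kernel)
    (by decide +kernel)

theorem lv4 : LevelOK 275 pN 528 L4 [] (deepOf []) :=
  levelOK_of (by decide +kernel) (by decide +kernel) (by decide +kernel)
    (by decide +kernel)

theorem chain : ChainOK 275 pN 528 [L0, L1, L2, L3, L4] :=
  ⟨lv0, lv1, lv2, lv3, lv4, trivial⟩

def W : List ℕ := List.range 528

def slpW : List (List (ℕ × Bool)) := [[], [], [], [], [(1, true), (0, true)], [(2, true), (0, true)], [(3, true), (0, true)], [(1, true), (4, true)], [(2, true), (4, true)], [(3, true), (4, true)], [(1, true), (5, true)], [(1, true), (6, true)], [(2, true), (6, true)], [(1, true), (7, true)], [(2, true), (7, true)], [(3, true), (7, true)], [(1, true), (8, true)], [(2, true), (8, true)], [(3, true), (8, true)], [(1, true), (9, true)], [(2, true), (9, true)], [(1, true), (10, true)], [(2, true), (10, true)], [(3, true), (10, true)], [(1, true), (11, true)], [(2, true), (11, true)], [(3, true), (11, true)], [(1, true), (12, true)], [(2, true), (12, true)], [(1, true),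 (13, true)], [(3, true), (13, true)], [(1, true), (14, true)], [(2, true), (14, true)], [(1, true), (15, true)], [(2, true), (15, true)], [(1, true), (16, true)], [(2, true), (16, true)], [(3, true), (16, true)], [(1, true), (17, true)], [(1, true), (18, true)], [(2, true), (18, true)], [(2, true), (19, true)], [(3, true), (19, true)], [(1, true), (20, true)], [(1, true), (21, true)], [(2, true), (21, true)], [(3, true), (21, true)], [(1, true), (22, true)], [(2, true), (22, true)], [(3, true), (22, true)], [(1, true), (23, true)], [(2, true), (23, true)], [(1, true), (24, true)], [(3, true), (24, true)], [(1, true), (25, true)], [(2, true), (25, true)], [(3, true), (25, true)], [(1, true), (26, true)], [(1, true), (27, true)], [(2, true), (27, true)], [(3, true), (27, true)], [(1, true), (28, true)], [(2, true), (28, true)], [(1, true), (29, true)], [(2, true), (29, true)], [(3, true), (29, true)], [(1, true), (30, true)], [(2, true), (30, true)], [(1, true), (31, true)], [(2, true), (31, true)], [(3, true), (31, true)], [(3, true), (32, true)], [(1, true), (33, true)], [(2, true), (33, true)], [(3, true), (33, true)], [(1, true), (34, true)], [(2, true), (34, true)], [(3, true), (34, true)], [(1, true), (35, true)], [(2, true), (35, true)], [(1, true), (36, true)], [(2,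 true), (36, true)], [(1, true), (37, true)], [(2, true), (37, true)], [(2, true), (38, true)], [(1, true), (39, true)], [(2, true), (39, true)], [(3, true), (39, true)], [(1, true), (40, true)], [(2, true), (40, true)], [(3, true), (40, true)], [(1, true), (41, true)], [(3, true), (41, true)], [(1, true), (42, true)], [(2, true), (42, true)], [(1, true), (43, true)], [(2, true), (43, true)], [(3, true), (43, true)], [(1, true), (44, true)], [(2, true), (44, true)], [(3, true), (44, true)], [(1, true), (45, true)], [(2, true), (45, true)], [(3, true), (45, true)], [(1, true), (46, true)], [(2, true), (46, true)], [(1, true), (47, true)], [(2, true), (47, true)], [(1, true), (48, true)], [(3, true), (48, true)], [(2, true), (49, true)], [(1, true), (50, true)], [(2, true), (50, true)], [(3, true), (50, true)], [(1, true), (51, true)], [(2, true), (51, true)], [(3, true), (51, true)], [(1, true), (52, true)], [(2, true), (52, true)], [(3, true), (52, true)], [(1, true), (53, true)], [(2, true), (53, true)], [(1, true), (54, true)], [(3, true), (54, true)], [(3, true), (55, true)], [(1, true), (56, true)], [(2, true), (56, true)], [(1, true), (57, true)], [(2, true), (57, true)], [(1, true), (58, true)], [(2, true), (59, true)], [(3, true), (59, true)], [(2, true), (60, true)],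 [(2, true), (61, true)], [(3, true), (61, true)], [(1, true), (62, true)], [(2, true), (63, true)], [(3, true), (63, true)], [(2, true), (64, true)], [(3, true), (64, true)], [(1, true), (65, true)], [(1, true), (66, true)], [(2, true), (66, true)], [(1, true), (67, true)], [(1, true), (68, true)], [(2, true), (68, true)], [(1, true), (69, true)], [(3, true), (69, true)], [(1, true), (70, true)], [(2, true), (70, true)], [(2, true), (71, true)], [(2, true), (72, true)], [(1, true), (73, true)], [(2, true), (73, true)], [(3, true), (73, true)], [(2, true), (74, true)], [(1, true), (75, true)], [(2, true), (75, true)], [(2, true), (76, true)], [(1, true), (78, true)], [(1, true), (79, true)], [(2, true), (80, true)], [(1, true), (83, true)], [(1, true), (84, true)], [(3, true), (84, true)], [(2, true), (85, true)], [(1, true), (86, true)], [(1, true), (87, true)], [(2, true), (87, true)], [(2, true), (88, true)], [(1, true), (89, true)], [(2, true), (90, true)], [(2, true), (91, true)], [(1, true), (93, true)], [(1, true), (94, true)], [(3, true), (94, true)], [(3, true), (95, true)], [(3, true), (96, true)], [(1, true), (97, true)], [(2, true), (97, true)], [(3, true), (99, true)], [(1, true), (101, true)], [(1, true), (102, true)], [(2, true), (103, true)], [(2, true), (104,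 true)], [(3, true), (104, true)], [(1, true), (106, true)], [(2, true), (106, true)], [(3, true), (106, true)], [(1, true), (107, true)], [(3, true), (107, true)], [(1, true), (109, true)], [(2, true), (110, true)], [(1, true), (111, true)], [(2, true), (111, true)], [(2, true), (113, true)], [(1, true), (114, true)], [(2, true), (114, true)], [(2, true), (115, true)], [(3, true), (115, true)], [(2, true), (117, true)], [(1, true), (121, true)], [(2, true), (121, true)], [(1, true), (122, true)], [(2, true), (122, true)], [(2, true), (124, true)], [(3, true), (125, true)], [(2, true), (126, true)], [(2, true), (127, true)], [(2, true), (128, true)], [(2, true), (129, true)], [(3, true), (129, true)], [(1, true), (130, true)], [(2, true), (130, true)], [(1, true), (132, true)], [(3, true), (132, true)], [(2, true), (133, true)], [(3, true), (133, true)], [(2, true), (135, true)], [(3, true), (135, true)], [(2, true), (136, true)], [(3, true), (136, true)], [(2, true), (137, true)], [(2, true), (139, true)], [(1, true), (140, true)], [(2, true), (141, true)], [(2, true), (142, true)], [(1, true), (143, true)], [(1, true), (144, true)], [(2, true), (144, true)], [(1, true), (145, true)], [(2, true), (145, true)], [(3, true), (146, true)], [(1, true), (147, true)], [(2, true),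 (147, true)], [(1, true), (149, true)], [(1, true), (153, true)], [(1, true), (155, true)], [(2, true), (158, true)], [(1, true), (159, true)], [(1, true), (160, true)], [(2, true), (160, true)], [(2, true), (161, true)], [(3, true), (161, true)], [(1, true), (162, true)], [(2, true), (162, true)], [(1, true), (163, true)], [(1, true), (164, true)], [(1, true), (165, true)], [(2, true), (167, true)], [(1, true), (168, true)], [(1, true), (169, true)], [(2, true), (169, true)], [(3, true), (169, true)], [(2, true), (176, true)], [(1, true), (178, true)], [(3, true), (178, true)], [(1, true), (179, true)], [(1, true), (181, true)], [(2, true), (183, true)], [(3, true), (184, true)], [(2, true), (185, true)], [(1, true), (186, true)], [(2, true), (186, true)], [(3, true), (186, true)], [(3, true), (187, true)], [(2, true), (188, true)], [(1, true), (190, true)], [(3, true), (191, true)], [(1, true), (195, true)], [(3, true), (205, true)], [(2, true), (208, true)], [(1, true), (210, true)], [(2, true), (211, true)], [(2, true), (220, true)], [(2, true), (228, true)], [(1, true), (232, true)], [(2, true), (237, true)], [(154, false), (1, true), (191, true)], [(160, false), (3, true), (141, true)], [(278, true), (0, true)], [(279, true), (0, true)], [(278, true), (280, true)],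 [(279, true), (280, true)], [(278, true), (281, true)], [(279, true), (281, true)], [(278, true), (282, true)], [(279, true), (282, true)], [(278, true), (283, true)], [(279, true), (283, true)], [(278, true), (284, true)], [(279, true), (284, true)], [(278, true), (285, true)], [(279, true), (285, true)], [(278, true), (286, true)], [(279, true), (286, true)], [(278, true), (287, true)], [(278, true), (288, true)], [(279, true), (288, true)], [(278, true), (289, true)], [(279, true), (289, true)], [(278, true), (290, true)], [(279, true), (290, true)], [(278, true), (291, true)], [(279, true), (291, true)], [(278, true), (292, true)], [(279, true), (292, true)], [(278, true), (293, true)], [(278, true), (294, true)], [(279, true), (294, true)], [(278, true), (295, true)], [(279, true), (295, true)], [(278, true), (296, true)], [(279, true), (296, true)], [(278, true), (297, true)], [(279, true), (297, true)], [(279, true), (298, true)], [(278, true), (299, true)], [(279, true), (299, true)], [(279, true), (300, true)], [(279, true), (301, true)], [(278, true), (302, true)], [(279, true), (302, true)], [(278, true), (303, true)], [(279, true), (303, true)], [(278, true), (305, true)], [(279, true), (305, true)], [(278, true), (306, true)], [(279, true), (306, true)], [(278,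 true), (307, true)], [(279, true), (307, true)], [(278, true), (308, true)], [(279, true), (308, true)], [(278, true), (310, true)], [(278, true), (312, true)], [(279, true), (313, true)], [(278, true), (314, true)], [(279, true), (314, true)], [(278, true), (316, true)], [(279, true), (316, true)], [(278, true), (317, true)], [(279, true), (317, true)], [(279, true), (318, true)], [(278, true), (319, true)], [(279, true), (319, true)], [(278, true), (320, true)], [(279, true), (320, true)], [(278, true), (321, true)], [(279, true), (321, true)], [(279, true), (322, true)], [(279, true), (323, true)], [(278, true), (324, true)], [(278, true), (325, true)], [(279, true), (325, true)], [(278, true), (327, true)], [(279, true), (328, true)], [(279, true), (329, true)], [(278, true), (330, true)], [(279, true), (331, true)], [(279, true), (332, true)], [(279, true), (333, true)], [(278, true), (334, true)], [(279, true), (334, true)], [(278, true), (337, true)], [(278, true), (338, true)], [(279, true), (338, true)], [(278, true), (339, true)], [(279, true), (340, true)], [(278, true), (341, true)], [(279, true), (341, true)], [(278, true), (345, true)], [(279, true), (345, true)], [(278, true), (346, true)], [(279, true), (346, true)], [(278, true), (347, true)], [(278, true),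 (348, true)], [(279, true), (348, true)], [(279, true), (350, true)], [(279, true), (355, true)], [(278, true), (356, true)], [(279, true), (356, true)], [(278, true), (357, true)], [(278, true), (360, true)], [(279, true), (362, true)], [(279, true), (364, true)], [(278, true), (366, true)], [(279, true), (367, true)], [(279, true), (369, true)], [(279, true), (372, true)], [(279, true), (374, true)], [(279, true), (375, true)], [(284, false), (279, true), (287, true)], [(289, false), (278, true), (332, true)], [(391, true), (0, true)], [(392, true), (0, true)], [(391, true), (393, true)], [(392, true), (393, true)], [(391, true), (394, true)], [(392, true), (394, true)], [(391, true), (395, true)], [(392, true), (395, true)], [(392, true), (396, true)], [(391, true), (397, true)], [(392, true), (397, true)], [(391, true), (398, true)], [(392, true), (398, true)], [(392, true), (399, true)], [(391, true), (400, true)], [(392, true), (400, true)], [(391, true), (401, true)], [(392, true), (401, true)], [(391, true), (402, true)], [(392, true), (402, true)], [(391, true), (403, true)], [(392, true), (403, true)], [(391, true), (404, true)], [(392, true), (404, true)], [(391, true), (405, true)], [(392, true), (405, true)], [(391, true), (406, true)], [(392, true), (406, true)],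 [(391, true), (407, true)], [(392, true), (407, true)], [(391, true), (408, true)], [(392, true), (408, true)], [(392, true), (409, true)], [(392, true), (410, true)], [(391, true), (412, true)], [(392, true), (412, true)], [(391, true), (413, true)], [(392, true), (413, true)], [(391, true), (414, true)], [(391, true), (416, true)], [(392, true), (416, true)], [(392, true), (417, true)], [(391, true), (418, true)], [(392, true), (418, true)], [(392, true), (419, true)], [(391, true), (420, true)], [(392, true), (421, true)], [(391, true), (422, true)], [(392, true), (422, true)], [(392, true), (423, true)], [(391, true), (424, true)], [(392, true), (424, true)], [(391, true), (426, true)], [(392, true), (426, true)], [(392, true), (427, true)], [(391, true), (428, true)], [(392, true), (428, true)], [(392, true), (429, true)], [(391, true), (430, true)], [(391, true), (432, true)], [(391, true), (433, true)], [(392, true), (433, true)], [(392, true), (435, true)], [(391, true), (436, true)], [(392, true), (438, true)], [(391, true), (439, true)], [(392, true), (439, true)], [(391, true), (440, true)], [(392, true), (440, true)], [(391, true), (443, true)], [(392, true), (443, true)], [(391, true), (448, true)], [(391, true), (449, true)], [(392, true), (452, true)], [(391,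 true), (455, true)], [(391, true), (457, true)], [(392, true), (459, true)], [(392, true), (461, true)], [(391, true), (465, true)], [(391, true), (469, true)], [(443, false), (392, true), (449, true)], [(438, false), (392, true), (431, true)], [(473, true), (0, true)], [(474, true), (0, true)], [(473, true), (475, true)], [(474, true), (475, true)], [(473, true), (476, true)], [(474, true), (476, true)], [(473, true), (477, true)], [(474, true), (477, true)], [(473, true), (478, true)], [(474, true), (478, true)], [(473, true), (479, true)], [(474, true), (479, true)], [(473, true), (480, true)], [(474, true), (480, true)], [(474, true), (481, true)], [(473, true), (482, true)], [(474, true), (482, true)], [(473, true), (484, true)], [(474, true), (484, true)], [(474, true), (485, true)], [(474, true), (487, true)], [(473, true), (488, true)], [(474, true), (489, true)], [(474, true), (490, true)], [(473, true), (491, true)], [(473, true), (495, true)], [(474, true), (495, true)], [(474, true), (496, true)], [(474, true), (501, true)], [(480, false), (473, true), (490, true)], [(484, false), (473, true), (498, true)], [(504, true), (0, true)], [(505, true), (0, true)], [(505, true), (506, true)], [(504, true), (507, true)], [(505, true), (507, true)], [(504, true), (508,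 true)], [(505, true), (508, true)], [(505, true), (509, true)], [(504, true), (510, true)], [(505, true), (513, true)], [(505, true), (514, true)], [(2, true), (1, true), (1, true)], [(517, true), (517, true)], [(517, true), (518, true)], [(517, true), (519, true)], [(517, true), (520, true)], [(517, true), (521, true)], [(517, true), (522, true)], [(517, true), (523, true)], [(517, true), (524, true)], [(517, true), (525, true)], [(107, true), (336, true), (456, true), (490, true)]]

theorem slp_ok : SlpS 275 pN pM 528 [1, 2, 3] W slpW := by
  unfold SlpS; decide +kernel

theorem S0_sub : ∀ i ∈ L0.S, i ∈ W := by decide +kernel

end Cfsg.Agent.Lib.Helper9.McLa
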