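import Cfsg.Agent.Lib.Helper9.McLb

set_option autoImplicit false

/-! The permutation group of degree 275 and order 898128000 generated by three of the tables of
`McLa`. -/

namespace Cfsg.Agent.Lib.Helper9.McLa

open Cfsg.Agent.Lib.Helper8.SS Cfsg.Agent.Lib.Helper9.SlpS

/-- the permutation group -/
noncomputable def K : Subgroup (Equiv.Perm (Fin 275)) := grp 275 pN pM L0.S

theorem card_K : Nat.card K = 898128000 := by
  have h := (chain_spec (pM := pM) valid_all id_tab _ chain).2
  have h2 : ([L0, L1, L2, L3, L4].map (fun L => L.U.length)).prod = 898128000 := by decide +kernel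
  rw [h2] at h
  exact h

theorem K_eq : K = grp 275 pN pM [1, 2, 3] :=
  grp_eq_of_slp valid_all slp_ok S0_sub (by decide)

instance : Finite K := inferInstance

/-- all tables of the chain lie in the group -/
theorem P_mem_K : ∀ i < 528, P 275 pN pM i ∈ K := by
  intro i hi
  rw [K_eq]
  apply slpS_mem valid_all slp_ok
  unfold W
  simp only [List.mem_range]
  exact hi

end Cfsg.Agent.Lib.Helper9.McLa
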