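import Cfsg.Agent.Lib.Helper9.McLh
import Cfsg.Agent.Lib.Helper9.GrpCount

set_option autoImplicit false
set_option maxRecDepth 100000

/-! Words in the tables of the permutation group of degree 275: membership, equality on the base
points, the stabiliser of the first base point. -/

namespace Cfsg.Agent.Lib.Helper9.McLa

open Cfsg.Agent.Lib.Helper8.SS Cfsg.Agent.Lib.Helper8.MatN Cfsg.Agent.Lib.Helper8.FastDec
  Cfsg.Agent.Lib.Helper9.SSB Cfsg.Agent.Lib.Helper9.SSC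

/-- the permutation of a word -/
noncomputable abbrev KW (w : List ℕ) : Equiv.Perm (Fin 275) := prodW 275 pN pM w

/-- the permutation of a signed word -/
noncomputable abbrev KS (w : List (ℕ × Bool)) : Equiv.Perm (Fin 275) := prodS 275 pN pM w

/-- the first base point -/
def p0 : Fin 275 := ⟨0, by norm_num⟩

/-- the stabiliser of the first base point -/
noncomputable def K0 : Subgroup (Equiv.Perm (Fin 275)) := grp 275 pN pM L1.S

theorem chain1 : ChainOK 275 pN 528 [L1, L2, L3, L4] := chain.2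

theorem card_K0 : Nat.card K0 = 3265920 := by
  have h := (chain_spec (pM := pM) valid_all id_tab _ chain1).2
  have h2 : ([L1, L2, L3, L4].map (fun L => L.U.length)).prod = 3265920 := by decide +kernel
  rw [h2] at h
  exact h

theorem deep1_mem : ∀ i ∈ deep1, i < 528 ∧ P 275 pN pM i ∈ K0 :=
  (chain_spec (pM := pM) valid_all id_tab _ chain1).1

theorem K0_le : K0 ≤ K :=
  (level_spec (pM := pM) valid_all id_tab L0 L1.S (deepOf [L1, L2, L3, L4]) chain.1 deep1_mem).2.1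

theorem K0_fix (g : Equiv.Perm (Fin 275)) (hg : g ∈ K0) : g p0 = p0 :=
  grp_fix valid_all chain1.1.2.1 (by norm_num : 0 < 275) chain.1.2.2.2.2.2.2.2.1 g hg

theorem mem_K0_of_fix (g : Equiv.Perm (Fin 275)) (hg : g ∈ K) (h : g p0 = p0) : g ∈ K0 :=
  stab_spec valid_all id_tab L0 L1.S (deepOf [L1, L2, L3, L4]) chain.1 deep1_mem g hg h

theorem KW_mem_K0 {w : List ℕ} (hw : ∀ i ∈ w, i ∈ deep1) : KW w ∈ K0 :=
  prodW_mem (fun i hi => (deep1_mem i (hw i hi)).2)

theorem lt_of_deep1 {w : List ℕ} (hw : ∀ i ∈ w, i ∈ deep1) : ∀ i ∈ w, i < 528 :=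
  fun i hi => (deep1_mem i (hw i hi)).1

theorem KW_mem_K {w : List ℕ} (hw : ∀ i ∈ w, i < 528) : KW w ∈ K :=
  prodW_mem (fun i hi => P_mem_K i (hw i hi))

theorem fwd_lt {w : List ℕ} (hw : ∀ i ∈ w, i < 528) : ∀ l ∈ fwd w, l.1 < 528 := by
  intro l hl
  unfold fwd at hl
  rw [List.mem_map] at hl
  obtain ⟨i, hi, rfl⟩ := hl
  exact hw i hi

theorem KS_mem_K {w : List (ℕ × Bool)} (hw : ∀ l ∈ w, l.1 < 528) : KS w ∈ K :=
  prodS_mem' (fun l hl => P_mem_K l.1 (hw l hl))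

theorem base_eq : baseOf [L0, L1, L2, L3, L4] = BASE := by decide

/-- signed words that agree on the base points are equal -/
theorem KS_eq_of_eqP {w w' : List (ℕ × Bool)} (hw : ∀ l ∈ w, l.1 < 528)
    (hw' : ∀ l ∈ w', l.1 < 528) (h : eqP pN pM BASE w w' = true) : KS w = KS w' := by
  rw [← base_eq] at h
  exact prodS_eq_of_eqP valid_all id_tab [L0, L1, L2, L3, L4] chain
    (fun l hl => ⟨hw l hl, P_mem_K l.1 (hw l hl)⟩)
    (fun l hl => ⟨hw' l hl, P_mem_K l.1 (hw' l hl)⟩) h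

theorem KS_fwd (w : List ℕ) : KS (fwd w) = KW w := prodS_fwd 275 pN pM w

theorem KW_eq_of_eqw {w w' : List ℕ} (hw : ∀ i ∈ w, i < 528) (hw' : ∀ i ∈ w', i < 528)
    (h : eqw w w' = true) : KW w = KW w' := by
  have := KS_eq_of_eqP (fwd_lt hw) (fwd_lt hw') h
  rwa [KS_fwd, KS_fwd] at this

theorem BASE_lt : ∀ x ∈ BASE, x < 275 := by decide

theorem fpS_eq {w w' : List (ℕ × Bool)} (hw : ∀ l ∈ w, l.1 < 528) (hw' : ∀ l ∈ w', l.1 < 528)
    (e : KS w = KS w') : fpS pN pM BASE w = fpS pN pM BASE w' :=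
  fpS_eq_of_prodS valid_all BASE_lt hw hw' e

theorem fpw_eq {w w' : List ℕ} (hw : ∀ i ∈ w, i < 528) (hw' : ∀ i ∈ w', i < 528)
    (e : KW w = KW w') : fpw w = fpw w' := by
  apply fpS_eq (fwd_lt hw) (fwd_lt hw')
  rw [KS_fwd, KS_fwd]
  exact e

theorem conjw_lt {c w : List ℕ} (hc : ∀ i ∈ c, i < 528) (hw : ∀ i ∈ w, i < 528) :
    ∀ l ∈ conjw c w, l.1 < 528 := by
  intro l hl
  unfold conjw conjS at hl
  rw [List.mem_append, List.mem_append] at hl
  rcases hl with (h | h) | h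
  · exact fwd_lt hc l h
  · exact fwd_lt hw l h
  · rw [List.mem_map] at h
    obtain ⟨l', hl', rfl⟩ := h
    exact fwd_lt hc l' (List.mem_reverse.mp hl')

theorem KS_conjw (c w : List ℕ) : KS (conjw c w) = KW c * KW w * (KW c)⁻¹ := by
  have h : KS (conjS (fwd c) (fwd w)) = KS (fwd c) * KS (fwd w) * (KS (fwd c))⁻¹ :=
    prodS_conjS _ _
  rw [KS_fwd, KS_fwd] at h
  exact h

theorem append_lt {w w' : List ℕ} (hw : ∀ i ∈ w, i < 528) (hw' : ∀ i ∈ w', i < 528) :
    ∀ i ∈ w ++ w', i < 528 := by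
  intro i hi
  rcases List.mem_append.mp hi with h | h
  · exact hw i h
  · exact hw' i h

end Cfsg.Agent.Lib.Helper9.McLa
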