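import Cfsg.Agent.Lib.Helper2.SimpCrit2
import Cfsg.Agent.Lib.Helper1.Nilpotent

set_option autoImplicit false

/-! Self-normalizing Sylow `2`-subgroups and simplicity of the `2`-fusion system, from
elementwise data on one explicit Sylow subgroup. -/

namespace Cfsg.Agent.Lib.Helper9.Syl2A

open Cfsg Cfsg.Agent.Lib.Helper9 Cfsg.Agent.Lib.Helper2.SimpCrit2
open scoped Pointwise

section abstract

variable {H : Type*} [Group H]

/-- the elementwise data: `P` contains its normalizer, and has no proper nontrivial subgroup closed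
under fusion -/
structure GoodH (P : Subgroup H) : Prop where
  nrm : ∀ g : H, (∀ x, x ∈ P ↔ g * x * g⁻¹ ∈ P) → g ∈ P
  sc : ∀ T : Subgroup H, T ≤ P → T ≠ ⊥ →
    (∀ x ∈ T, ∀ g : H, g * x * g⁻¹ ∈ P → g * x * g⁻¹ ∈ T) → T = P

theorem mem_conj_smul_iff (g : H) (P : Subgroup H) (x : H) :
    x ∈ MulAut.conj g • P ↔ g⁻¹ * x * g ∈ P := by
  rw [Subgroup.mem_pointwise_smul_iff_inv_smul_mem]
  simp [MulAut.smul_def]

theorem GoodH.conj {P : Subgroup H} (hP : GoodH P) (g : H) : GoodH (MulAut.conj g • P) := by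
  constructor
  · intro n hn
    rw [mem_conj_smul_iff]
    apply hP.nrm
    intro x
    have h1 := hn (g * x * g⁻¹)
    rw [mem_conj_smul_iff, mem_conj_smul_iff] at h1
    have e1 : g⁻¹ * (g * x * g⁻¹) * g = x := by group
    have e2 : g⁻¹ * (n * (g * x * g⁻¹) * n⁻¹) * g = g⁻¹ * n * g * x * (g⁻¹ * n * g)⁻¹ := by group
    rw [e1, e2] at h1
    exact h1
  · intro T hT hT1 hcl
    -- pull `T` back
    have key := hP.sc (MulAut.conj g⁻¹ • T) ?_ ?_ ?_
    · rw [← key]
      ext x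
      rw [mem_conj_smul_iff, mem_conj_smul_iff]
      have e : g⁻¹⁻¹ * (g⁻¹ * x * g) * g⁻¹ = x := by group
      rw [e]
    · intro x hx
      rw [mem_conj_smul_iff] at hx
      have := hT hx
      rw [mem_conj_smul_iff] at this
      have e : g⁻¹ * (g⁻¹⁻¹ * x * g⁻¹) * g = x := by group
      rwa [e] at this
    · intro h
      apply hT1
      rw [eq_bot_iff]
      intro x hx
      have : g⁻¹ * x * g ∈ MulAut.conj g⁻¹ • T := by
        rw [mem_conj_smul_iff]
        have e : g⁻¹⁻¹ * (g⁻¹ * x * g) * g⁻¹ = x := by group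
        rwa [e]
      rw [h, Subgroup.mem_bot] at this
      rw [Subgroup.mem_bot]
      have e : x = g * (g⁻¹ * x * g) * g⁻¹ := by group
      rw [e, this]
      group
    · intro x hx k hk
      rw [mem_conj_smul_iff] at hx ⊢
      have h1 := hcl _ hx (g * k * g⁻¹) ?_
      · have e : g⁻¹⁻¹ * (k * x * k⁻¹) * g⁻¹ =
            g * k * g⁻¹ * (g⁻¹⁻¹ * x * g⁻¹) * (g * k * g⁻¹)⁻¹ := by group
        rw [e]
        exact h1
      · rw [mem_conj_smul_iff]
        have e : g⁻¹ * (g * k * g⁻¹ * (g⁻¹⁻¹ * x * g⁻¹) * (g * k * g⁻¹)⁻¹) * g = k * x * k⁻¹ := by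
          group
        rw [e]
        exact hk

variable [Finite H]

/-- the fusion system of a good Sylow `2`-subgroup is simple -/
theorem simple_of_goodH (S : Sylow 2 H) (hS1 : (S : Subgroup H) ≠ ⊥) (hg : GoodH (S : Subgroup H)) :
    (groupFusionSystem (S : Subgroup H)).IsSimple 2 := by
  haveI : Fact (Nat.Prime 2) := ⟨Nat.prime_two⟩
  apply simple_of_fn_centric S hS1
  · intro T hT
    by_cases hbot : T = ⊥
    · exact Or.inl hbot
    · right
      exact hg.sc T hT.1 hbot (fun x hx g hgx => stronglyClosed_conj_mem hT hx hgx)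
  · intro α hα
    obtain ⟨g, -, hgα⟩ := (mem_autInducedBy_iff ⊤ _ α).mp hα
    have hgN := mem_normalizer_of_induces α hgα
    have hgS : g ∈ (S : Subgroup H) := by
      apply hg.nrm
      exact Subgroup.mem_normalizer_iff.mp hgN
    refine Subgroup.mem_iSup_of_mem (S : Subgroup H)
      (Subgroup.mem_iSup_of_mem ⟨fullyNormalized_top _, centric_top _⟩ ?_)
    rw [mem_autInducedBy_iff]
    refine ⟨g, Subgroup.subset_closure ⟨hgN, ?_⟩, hgα⟩
    obtain ⟨k, hk⟩ := S.isPGroup' ⟨g, hgS⟩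
    have hd : orderOf g ∣ 2 ^ k := by
      apply orderOf_dvd_of_pow_eq_one
      have h2 := congrArg Subtype.val hk
      simpa using h2
    obtain ⟨j, -, hj⟩ := (Nat.dvd_prime_pow Nat.prime_two).1 hd
    exact ⟨j, hj⟩

theorem normalizer_eq_of_goodH (P : Subgroup H) (hg : GoodH P) :
    Subgroup.normalizer (P : Set H) = P := by
  apply le_antisymm
  · intro g hgN
    exact hg.nrm g (Subgroup.mem_normalizer_iff.mp hgN)
  · exact Subgroup.le_normalizer

/-- all Sylow `2`-subgroups are good once one is -/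
theorem goodH_all (Q : Sylow 2 H) (hQ : GoodH (Q : Subgroup H)) (S : Sylow 2 H) :
    GoodH (S : Subgroup H) := by
  haveI : Fact (Nat.Prime 2) := ⟨Nat.prime_two⟩
  obtain ⟨g, hg⟩ := MulAction.exists_smul_eq H Q S
  have h1 : (S : Subgroup H) = MulAut.conj g • (Q : Subgroup H) := by
    rw [← hg]
    rfl
  rw [h1]
  exact hQ.conj g

end abstract

section ambient

variable {A : Type*} [Group A]

/-- the elementwise data in an ambient group: `P ≤ G` contains its normalizer in `G`, and has no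
proper nontrivial subgroup closed under `G`-fusion -/
structure Good (G P : Subgroup A) : Prop where
  le : P ≤ G
  nrm : ∀ g ∈ G, (∀ x, x ∈ P ↔ g * x * g⁻¹ ∈ P) → g ∈ P
  sc : ∀ T : Subgroup A, T ≤ P → T ≠ ⊥ →
    (∀ x ∈ T, ∀ g ∈ G, g * x * g⁻¹ ∈ P → g * x * g⁻¹ ∈ T) → T = P

theorem Good.goodH {G P : Subgroup A} (h : Good G P) : GoodH (P.subgroupOf G) := by
  constructor
  · intro g hg
    rw [Subgroup.mem_subgroupOf]
    apply h.nrm g.1 g.2
    intro x
    constructor
    · intro hx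
      have h1 := (hg ⟨x, h.le hx⟩).mp (by rw [Subgroup.mem_subgroupOf]; exact hx)
      rw [Subgroup.mem_subgroupOf] at h1
      simpa using h1
    · intro hx
      have hxG : x ∈ G := by
        have h2 := G.mul_mem (G.mul_mem (G.inv_mem g.2) (h.le hx)) g.2
        have e : (g.1)⁻¹ * (g.1 * x * (g.1)⁻¹) * g.1 = x := by group
        rwa [e] at h2
      have h1 := (hg ⟨x, hxG⟩).mpr (by rw [Subgroup.mem_subgroupOf]; simpa using hx)
      rwa [Subgroup.mem_subgroupOf] at h1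
  · intro T hT hT1 hcl
    have key := h.sc (T.map G.subtype) ?_ ?_ ?_
    · ext x
      rw [Subgroup.mem_subgroupOf, ← key]
      constructor
      · intro hx
        exact ⟨x, hx, rfl⟩
      · rintro ⟨y, hy, hyx⟩
        have : y = x := Subtype.ext hyx
        rwa [← this]
    · rintro _ ⟨y, hy, rfl⟩
      have := hT hy
      rwa [Subgroup.mem_subgroupOf] at this
    · intro hbot
      apply hT1
      rw [eq_bot_iff]
      intro x hx
      have : (x : A) ∈ T.map G.subtype := ⟨x, hx, rfl⟩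
      rw [hbot, Subgroup.mem_bot] at this
      rw [Subgroup.mem_bot]
      exact Subtype.ext this
    · rintro _ ⟨y, hy, rfl⟩ g hg hgP
      have h1 := hcl y hy ⟨g, hg⟩ (by rw [Subgroup.mem_subgroupOf]; simpa using hgP)
      exact ⟨_, h1, by simp⟩

theorem fact_two_pow {k m : ℕ} (hm : ¬ 2 ∣ m) : (2 ^ k * m).factorization 2 = k := by
  have hm0 : m ≠ 0 := by
    rintro rfl
    exact hm (dvd_zero 2)
  rw [Nat.factorization_mul (by positivity) hm0, Finsupp.add_apply,
    Nat.Prime.factorization_pow Nat.prime_two, Finsupp.single_eq_same,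
    Nat.factorization_eq_zero_of_not_dvd hm, add_zero]

/-- from the data on one explicit subgroup of order `2 ^ k` to every Sylow `2`-subgroup -/
theorem main {G P : Subgroup A} [Finite G] (h : Good G P) (k m : ℕ) (hk : 1 ≤ k)
    (hP : Nat.card P = 2 ^ k) (hG : Nat.card G = 2 ^ k * m) (hm : ¬ 2 ∣ m) (S : Sylow 2 ↥G) :
    GoodH (S : Subgroup ↥G) ∧ (S : Subgroup ↥G) ≠ ⊥ := by
  haveI : Fact (Nat.Prime 2) := ⟨Nat.prime_two⟩
  have hc : Nat.card (P.subgroupOf G) = 2 ^ (Nat.card G).factorization 2 := by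
    rw [hG, fact_two_pow hm, ← hP]
    exact Nat.card_congr (Subgroup.subgroupOfEquivOfLe h.le).toEquiv
  let Q : Sylow 2 ↥G := Sylow.ofCard (P.subgroupOf G) hc
  have hQ : GoodH (Q : Subgroup ↥G) := h.goodH
  refine ⟨goodH_all Q hQ S, ?_⟩
  intro hbot
  have h1 := Sylow.card_eq_multiplicity S
  rw [hbot, hG, fact_two_pow hm, Subgroup.card_bot] at h1
  have : 2 ^ 1 ≤ 2 ^ k := Nat.pow_le_pow_right (by norm_num) hk
  omega

theorem simple_main {G P : Subgroup A} [Finite G] (h : Good G P) (k m : ℕ) (hk : 1 ≤ k)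
    (hP : Nat.card P = 2 ^ k) (hG : Nat.card G = 2 ^ k * m) (hm : ¬ 2 ∣ m) (S : Sylow 2 ↥G) :
    (groupFusionSystem (S : Subgroup ↥G)).IsSimple 2 := by
  obtain ⟨h1, h2⟩ := main h k m hk hP hG hm S
  exact simple_of_goodH S h2 h1

theorem normalizer_main {G P : Subgroup A} [Finite G] (h : Good G P) (k m : ℕ) (hk : 1 ≤ k)
    (hP : Nat.card P = 2 ^ k) (hG : Nat.card G = 2 ^ k * m) (hm : ¬ 2 ∣ m) (S : Sylow 2 ↥G) :
    Subgroup.normalizer ((S : Subgroup ↥G) : Set ↥G) = (S : Subgroup ↥G) := by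
  obtain ⟨h1, -⟩ := main h k m hk hP hG hm S
  exact normalizer_eq_of_goodH _ h1

end ambient

section center

variable {A : Type*} [Group A]

/-- a nontrivial subgroup of the `2`-group `P` closed under `P`-conjugation contains the unique
central involution -/
theorem sc_of_center (G P : Subgroup A) [Finite P] (hPG : P ≤ G) (hP2 : IsPGroup 2 P) (z : A)
    (hzc : ∀ x ∈ P, (∀ y ∈ P, x * y = y * x) → x = 1 ∨ x = z)
    (hgen : ∀ T : Subgroup A, T ≤ P → z ∈ T →
      (∀ x ∈ T, ∀ g ∈ G, g * x * g⁻¹ ∈ P → g * x * g⁻¹ ∈ T) → T = P)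
    (T : Subgroup A) (hT : T ≤ P) (hT1 : T ≠ ⊥)
    (hcl : ∀ x ∈ T, ∀ g ∈ G, g * x * g⁻¹ ∈ P → g * x * g⁻¹ ∈ T) : T = P := by
  haveI : Fact (Nat.Prime 2) := ⟨Nat.prime_two⟩
  apply hgen T hT _ hcl
  haveI : Group.IsNilpotent ↥P := hP2.isNilpotent
  haveI hN : (T.subgroupOf P).Normal := by
    constructor
    intro n hn g
    rw [Subgroup.mem_subgroupOf] at hn ⊢
    have := hcl n.1 hn g.1 (hPG g.2) (P.mul_mem (P.mul_mem g.2 n.2) (P.inv_mem g.2))
    simpa using this
  have hne : T.subgroupOf P ≠ ⊥ := by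
    intro hbot
    apply hT1
    rw [eq_bot_iff]
    intro x hx
    have h1 : (⟨x, hT hx⟩ : ↥P) ∈ T.subgroupOf P := by
      rw [Subgroup.mem_subgroupOf]
      exact hx
    rw [hbot, Subgroup.mem_bot] at h1
    rw [Subgroup.mem_bot]
    exact congrArg Subtype.val h1
  have h2 := Cfsg.Agent.Lib.Helper1.normal_inf_center_ne_bot (T.subgroupOf P) hne
  obtain ⟨w, hw, hw1⟩ : ∃ w ∈ T.subgroupOf P ⊓ Subgroup.center ↥P, w ≠ 1 := by
    by_contra hcon
    push Not at hcon
    apply h2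
    rw [eq_bot_iff]
    intro w hw
    rw [Subgroup.mem_bot]
    exact hcon w hw
  obtain ⟨hwT, hwZ⟩ := Subgroup.mem_inf.mp hw
  rw [Subgroup.mem_subgroupOf] at hwT
  have hwc : ∀ y ∈ P, w.1 * y = y * w.1 := by
    intro y hy
    have := Subgroup.mem_center_iff.mp hwZ ⟨y, hy⟩
    exact (congrArg Subtype.val this).symm
  rcases hzc w.1 w.2 hwc with h3 | h3
  · exfalso
    apply hw1
    exact Subtype.ext h3
  · rw [← h3]
    exact hwT

end center

section twoelt

variable {A : Type*} [Group A]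

/-- a `2`-element of `G` normalizing a subgroup of `G` of full `2`-power order lies in it -/
theorem mem_of_pow_two (G P : Subgroup A) [Finite G] (hPG : P ≤ G) (k m : ℕ)
    (hP : Nat.card P = 2 ^ k) (hG : Nat.card G = 2 ^ k * m) (hm : ¬ 2 ∣ m) (g : A) (hg : g ∈ G)
    (hN : ∀ x, x ∈ P ↔ g * x * g⁻¹ ∈ P) (j : ℕ) (hj : g ^ 2 ^ j = 1) : g ∈ P := by
  haveI : Fact (Nat.Prime 2) := ⟨Nat.prime_two⟩
  have hm0 : m ≠ 0 := by
    rintro rfl
    exact hm (dvd_zero 2)
  have hPp : IsPGroup 2 P := IsPGroup.of_card hP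
  have hZp : IsPGroup 2 (Subgroup.zpowers g) := by
    rintro ⟨x, hx⟩
    obtain ⟨i, rfl⟩ := Subgroup.mem_zpowers_iff.mp hx
    refine ⟨j, Subtype.ext ?_⟩
    show (g ^ i) ^ 2 ^ j = 1
    rw [← zpow_natCast, ← zpow_mul, mul_comm, zpow_mul, zpow_natCast, hj, one_zpow]
  have hZN : Subgroup.zpowers g ≤ Subgroup.normalizer (P : Set A) := by
    rw [Subgroup.zpowers_le]
    exact Subgroup.mem_normalizer_iff.mpr hN
  have hKp : IsPGroup 2 ↥(Subgroup.zpowers g ⊔ P) := IsPGroup.to_sup_of_normal_right' hZp hPp hZN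
  have hKG : Subgroup.zpowers g ⊔ P ≤ G := sup_le (Subgroup.zpowers_le.mpr hg) hPG
  haveI : Finite ↥(Subgroup.zpowers g ⊔ P) := Finite.of_injective (Subgroup.inclusion hKG)
    (Subgroup.inclusion_injective hKG)
  obtain ⟨i, hi⟩ := IsPGroup.iff_card.mp hKp
  have hdvd : Nat.card ↥(Subgroup.zpowers g ⊔ P) ∣ Nat.card G := Subgroup.card_dvd_of_le hKG
  rw [hi, hG] at hdvd
  have hcop : Nat.Coprime (2 ^ i) m :=
    Nat.Coprime.pow_left i ((Nat.Prime.coprime_iff_not_dvd Nat.prime_two).mpr hm)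
  have hdvd2 : 2 ^ i ∣ 2 ^ k := hcop.dvd_of_dvd_mul_right hdvd
  have hle : Nat.card ↥(Subgroup.zpowers g ⊔ P) ≤ Nat.card P := by
    rw [hi, hP]
    exact Nat.le_of_dvd (by positivity) hdvd2
  have hEq : P = Subgroup.zpowers g ⊔ P := Subgroup.eq_of_le_of_card_ge le_sup_right hle
  rw [hEq]
  exact le_sup_left (a := Subgroup.zpowers g) (Subgroup.mem_zpowers g)

end twoelt

end Cfsg.Agent.Lib.Helper9.Syl2A
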