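import Cfsg.Agent.Lib.Helper9.McLi
import Cfsg.Agent.Lib.Helper9.Syl2A

set_option autoImplicit false
set_option maxRecDepth 100000

/-! An explicit Sylow `2`-subgroup of the permutation group of degree 275: its elements, its
centre, its fixed point, its normaliser. -/

namespace Cfsg.Agent.Lib.Helper9.McLa

open Cfsg.Agent.Lib.Helper8.SS Cfsg.Agent.Lib.Helper8.MatN Cfsg.Agent.Lib.Helper8.FastDec
  Cfsg.Agent.Lib.Helper9.SSB Cfsg.Agent.Lib.Helper9.SSC Cfsg.Agent.Lib.Helper9.GrpCount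

theorem getD_forall {α : Type*} {l : List (List α)} {p : α → Prop} (h : ∀ w ∈ l, ∀ i ∈ w, p i)
    (a : ℕ) : ∀ i ∈ l.getD a [], p i := by
  intro i hi
  by_cases ha : a < l.length
  · rw [List.getD_eq_getElem _ _ ha] at hi
    exact h _ (List.getElem_mem ha) i hi
  · rw [List.getD_eq_default _ _ (not_lt.mp ha)] at hi
    simp at hi

theorem idx_eq_of_nodup {α β : Type*} (l : List α) (d : α) (F : α → β) (h : (l.map F).Nodup)
    {i j : ℕ} (hi : i < l.length) (hj : j < l.length) (e : F (l.getD i d) = F (l.getD j d)) :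
    i = j := by
  rw [List.getD_eq_getElem _ _ hi, List.getD_eq_getElem _ _ hj] at e
  have hi' : i < (l.map F).length := by rw [List.length_map]; exact hi
  have hj' : j < (l.map F).length := by rw [List.length_map]; exact hj
  have : (l.map F)[i] = (l.map F)[j] := by rw [List.getElem_map, List.getElem_map]; exact e
  exact (List.Nodup.getElem_inj_iff h).mp this

/-- the generators of the Sylow subgroup -/
noncomputable def sg (a : ℕ) : Equiv.Perm (Fin 275) := KW (SGW.getD a [])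

/-- the elements of the Sylow subgroup -/
noncomputable def sw (m : ℕ) : Equiv.Perm (Fin 275) := KW (SW.getD m [])

/-- the central involution -/
noncomputable def tt : Equiv.Perm (Fin 275) := KW wt

/-- the Sylow subgroup -/
noncomputable def Sg : Subgroup (Equiv.Perm (Fin 275)) :=
  Subgroup.closure {g | ∃ a < 5, sg a = g}

theorem SGW_d (a : ℕ) : ∀ i ∈ SGW.getD a [], i ∈ deep1 := getD_forall SGW_deep a

theorem SW_d (m : ℕ) : ∀ i ∈ SW.getD m [], i ∈ deep1 := getD_forall SW_deep m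

theorem SGW_l (a : ℕ) : ∀ i ∈ SGW.getD a [], i < 528 := lt_of_deep1 (SGW_d a)

theorem SW_l (m : ℕ) : ∀ i ∈ SW.getD m [], i < 528 := lt_of_deep1 (SW_d m)

theorem CG_l (a : ℕ) : ∀ i ∈ CG.getD a [], i < 528 := getD_forall CG_lt a

theorem wt_d : ∀ i ∈ wt, i ∈ deep1 := by
  rw [← wt_eq]
  exact SW_d tIdx

theorem wt_l : ∀ i ∈ wt, i < 528 := lt_of_deep1 wt_d

theorem sw_zero : sw 0 = 1 := by
  unfold sw
  rw [SW_zero]
  rfl

theorem sw_t : sw tIdx = tt := by
  unfold sw tt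
  rw [wt_eq]

theorem sg_mem_K0 (a : ℕ) : sg a ∈ K0 := KW_mem_K0 (SGW_d a)

theorem sw_mem_K0 (m : ℕ) : sw m ∈ K0 := KW_mem_K0 (SW_d m)

theorem tt_mem_K0 : tt ∈ K0 := KW_mem_K0 wt_d

theorem Sg_le_K0 : Sg ≤ K0 := by
  unfold Sg
  rw [Subgroup.closure_le]
  rintro g ⟨a, -, rfl⟩
  exact sg_mem_K0 a

theorem Sg_le_K : Sg ≤ K := Sg_le_K0.trans K0_le

theorem sg_mul_sw (a m : ℕ) (ha : a < 5) (hm : m < 128) :
    (GT.getD a []).getD m 0 < 128 ∧ sg a * sw m = sw ((GT.getD a []).getD m 0) := by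
  obtain ⟨h1, h2⟩ := S_tab a ha m hm
  refine ⟨h1, ?_⟩
  have := KW_eq_of_eqw (append_lt (SGW_l a) (SW_l m)) (SW_l _) h2
  unfold sg sw
  rw [← this]
  exact (prodW_append 275 pN pM _ _).symm

theorem sw_mem_Sg : ∀ m < 128, sw m ∈ Sg := by
  intro m
  induction m using Nat.strong_induction_on with
  | _ m ih =>
    intro hm
    rcases S_tree m hm with rfl | ⟨h1, h2, h3⟩
    · rw [sw_zero]; exact Sg.one_mem
    · have := (sg_mul_sw _ _ h2 (lt_trans h1 hm)).2
      rw [h3] at this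
      rw [← this]
      apply Sg.mul_mem
      · exact Subgroup.subset_closure ⟨_, h2, rfl⟩
      · exact ih _ h1 (lt_trans h1 hm)

theorem mem_Sg_iff (g : Equiv.Perm (Fin 275)) : g ∈ Sg ↔ ∃ m < 128, sw m = g := by
  constructor
  · intro hg
    have key := closure_mul_mem (S := {g | ∃ a < 5, sg a = g}) (T := {g | ∃ m < 128, sw m = g})
      (by
        rintro s ⟨a, ha, rfl⟩ t ⟨m, hm, rfl⟩
        obtain ⟨h1, h2⟩ := sg_mul_sw a m ha hm
        exact ⟨_, h1, h2.symm⟩) g hg 1 ⟨0, by norm_num, sw_zero⟩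
    rwa [mul_one] at key
  · rintro ⟨m, hm, rfl⟩
    exact sw_mem_Sg m hm

theorem SW_nodup : (SW.map fpw).Nodup := by
  apply nodup_of_nodupB
  have := S_fp
  rwa [forceList_eq] at this

theorem sw_inj {m m' : ℕ} (hm : m < 128) (hm' : m' < 128) (e : sw m = sw m') : m = m' := by
  apply idx_eq_of_nodup SW [] fpw SW_nodup (by rw [SW_len]; exact hm) (by rw [SW_len]; exact hm')
  exact fpw_eq (SW_l m) (SW_l m') e

theorem card_Sg : Nat.card Sg = 2 ^ 7 := by
  let f : Fin 128 → Sg := fun m => ⟨sw m.1, sw_mem_Sg m.1 m.2⟩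
  have hf : Function.Bijective f := by
    constructor
    · intro m m' h
      exact Fin.ext (sw_inj m.2 m'.2 (congrArg Subtype.val h))
    · rintro ⟨g, hg⟩
      obtain ⟨m, hm, rfl⟩ := (mem_Sg_iff g).mp hg
      exact ⟨⟨m, hm⟩, rfl⟩
  rw [← Nat.card_congr (Equiv.ofBijective f hf), Nat.card_fin]
  norm_num

instance : Finite Sg := Nat.finite_of_card_ne_zero (by rw [card_Sg]; norm_num)

theorem tt_mem_Sg : tt ∈ Sg := by
  rw [← sw_t]
  exact sw_mem_Sg _ (by decide)

theorem tt_ne_one : tt ≠ 1 := by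
  intro h
  apply t_ne
  apply fpw_eq wt_l (by simp)
  exact h

theorem tt_comm (x : Equiv.Perm (Fin 275)) (hx : x ∈ Sg) : x * tt = tt * x := by
  obtain ⟨m, hm, rfl⟩ := (mem_Sg_iff x).mp hx
  have := KW_eq_of_eqw (append_lt (SW_l m) wt_l) (append_lt wt_l (SW_l m)) (t_comm m hm)
  unfold sw tt
  rw [← prodW_append, ← prodW_append]
  exact this

theorem center_Sg (x : Equiv.Perm (Fin 275)) (hx : x ∈ Sg) (hc : ∀ y ∈ Sg, x * y = y * x) :
    x = 1 ∨ x = tt := by
  obtain ⟨m, hm, rfl⟩ := (mem_Sg_iff x).mp hx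
  rcases Z_ok m hm with rfl | rfl | ⟨h1, h2⟩
  · left; exact sw_zero
  · right; exact sw_t
  · exfalso
    apply h2
    apply fpw_eq (append_lt (SW_l m) (SW_l _)) (append_lt (SW_l _) (SW_l m))
    have := hc _ (sw_mem_Sg _ h1)
    unfold sw at this
    rw [← prodW_append, ← prodW_append] at this
    exact this

theorem Sg_fix (x : Equiv.Perm (Fin 275)) (hx : x ∈ Sg) : x p0 = p0 := K0_fix x (Sg_le_K0 hx)

theorem fix_Sg (y : Fin 275) (h : ∀ x ∈ Sg, x y = y) : y = p0 := by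
  rcases fix_ok y.1 y.2 with h0 | ⟨a, ha, hne⟩
  · exact Fin.ext h0
  · exfalso
    apply hne
    have := h (sg a) (Subgroup.subset_closure ⟨a, ha, rfl⟩)
    have h2 := congrArg Fin.val this
    unfold sg at h2
    rw [prodW_apply 275 pN pM (fun i hi => valid_all i (SGW_l a i hi))] at h2
    exact h2

theorem sg_conj (a : ℕ) (ha : a < 5) : sg a = KW (CG.getD a []) * tt * (KW (CG.getD a []))⁻¹ := by
  have := KS_eq_of_eqP (conjw_lt (CG_l a) wt_l) (fwd_lt (SGW_l a)) (conj_ok a ha)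
  rw [KS_conjw, KS_fwd] at this
  exact this.symm

end Cfsg.Agent.Lib.Helper9.McLa
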