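import Cfsg.Agent.Lib.Helper9.McLj

set_option autoImplicit false
set_option maxRecDepth 100000

/-! The centraliser of the central involution in the point stabiliser, and the normaliser of the
Sylow `2`-subgroup of the permutation group of degree 275. -/

namespace Cfsg.Agent.Lib.Helper9.McLa

open Cfsg.Agent.Lib.Helper8.SS Cfsg.Agent.Lib.Helper8.MatN Cfsg.Agent.Lib.Helper8.FastDec
  Cfsg.Agent.Lib.Helper9.SSB Cfsg.Agent.Lib.Helper9.SSC Cfsg.Agent.Lib.Helper9.GrpCount

/-- the centraliser of the involution in the point stabiliser -/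
noncomputable def M1 : Subgroup (Equiv.Perm (Fin 275)) := K0 ⊓ Subgroup.centralizer {tt}

theorem CLW_d : ∀ w ∈ CLW, ∀ i ∈ w, i ∈ deep1 := by
  have h := CLW_deep
  rw [forceList_eq, List.all_eq_true] at h
  intro w hw i hi
  have := h w hw
  rw [List.all_eq_true] at this
  exact (memB_iff _ _).mp (this i hi)

theorem M1D_d : ∀ d ∈ M1D, ∀ i ∈ d.1, i ∈ deep1 := by
  have h := M1D_deep
  rw [forceList_eq, List.all_eq_true] at h
  intro w hw i hi
  have := h w hw
  rw [List.all_eq_true] at this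
  exact (memB_iff _ _).mp (this i hi)

theorem CLW_dd (j : ℕ) : ∀ i ∈ CLW.getD j [], i ∈ deep1 := getD_forall CLW_d j

theorem CLW_l (j : ℕ) : ∀ i ∈ CLW.getD j [], i < 528 := lt_of_deep1 (CLW_dd j)

theorem M1D_dd (j : ℕ) : ∀ i ∈ (M1D.getD j ([], 0)).1, i ∈ deep1 := by
  by_cases hj : j < M1D.length
  · rw [List.getD_eq_getElem _ _ hj]
    exact M1D_d _ (List.getElem_mem hj)
  · rw [List.getD_eq_default _ _ (not_lt.mp hj)]
    simp

theorem M1D_l (j : ℕ) : ∀ i ∈ (M1D.getD j ([], 0)).1, i < 528 := lt_of_deep1 (M1D_dd j)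

theorem CL_nodup : (CLW.map (fun c => fpS pN pM BASE (conjw c wt))).Nodup := by
  apply nodup_of_nodupB
  have := CL_fp
  rwa [forceList_eq] at this

theorem M1_nodup : (M1D.map (fun d => fpw d.1)).Nodup := by
  apply nodup_of_nodupB
  have := M1_fp
  rwa [forceList_eq] at this

instance : Finite K0 := Nat.finite_of_card_ne_zero (by rw [card_K0]; norm_num)

theorem card_M1_le : Nat.card M1 ≤ 1152 := by
  have h := card_centralizer_le K0 tt 2835 (fun j => KW (CLW.getD j.1 []))
    (fun j => KW_mem_K0 (CLW_dd j.1))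
    (by
      intro j j' e
      apply Fin.ext
      apply idx_eq_of_nodup CLW [] (fun c => fpS pN pM BASE (conjw c wt)) CL_nodup
        (by rw [CLW_len]; exact j.2) (by rw [CLW_len]; exact j'.2)
      apply fpS_eq (conjw_lt (CLW_l j.1) wt_l) (conjw_lt (CLW_l j'.1) wt_l)
      rw [KS_conjw, KS_conjw]
      exact e)
  rw [card_K0] at h
  unfold M1
  omega

/-- what the certificate of an element of the centraliser says -/
theorem M1_chk : ∀ d ∈ M1D, chkM1 (SW.map fpw) d.1 d.2 = true := by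
  have h := M1_ok
  rw [forceList_eq, List.all_eq_true] at h
  exact h

theorem M1_chk' (j : ℕ) (hj : j < 1152) :
    chkM1 (SW.map fpw) (M1D.getD j ([], 0)).1 (M1D.getD j ([], 0)).2 = true := by
  have hj' : j < M1D.length := by rw [M1D_len]; exact hj
  rw [List.getD_eq_getElem _ _ hj']
  exact M1_chk _ (List.getElem_mem hj')

/-- the elements of the list -/
noncomputable def m1 (j : ℕ) : Equiv.Perm (Fin 275) := KW (M1D.getD j ([], 0)).1

theorem m1_comm (j : ℕ) (hj : j < 1152) : m1 j * tt = tt * m1 j := by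
  have h := M1_chk' j hj
  unfold chkM1 at h
  rw [Bool.and_eq_true] at h
  have := KW_eq_of_eqw (append_lt (M1D_l j) wt_l) (append_lt wt_l (M1D_l j)) h.1
  unfold m1 tt
  rw [← prodW_append, ← prodW_append]
  exact this

theorem m1_mem (j : ℕ) (hj : j < 1152) : m1 j ∈ M1 := by
  unfold M1
  rw [Subgroup.mem_inf]
  refine ⟨KW_mem_K0 (M1D_dd j), ?_⟩
  rw [Subgroup.mem_centralizer_iff]
  intro h hh
  rw [Set.mem_singleton_iff] at hh
  subst hh
  exact (m1_comm j hj).symm

theorem m1_inj {j j' : ℕ} (hj : j < 1152) (hj' : j' < 1152) (e : m1 j = m1 j') : j = j' := by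
  apply idx_eq_of_nodup M1D ([], 0) (fun d => fpw d.1) M1_nodup (by rw [M1D_len]; exact hj)
    (by rw [M1D_len]; exact hj')
  exact fpw_eq (M1D_l j) (M1D_l j') e

instance : Finite M1 := inferInstance

theorem M1_list (g : Equiv.Perm (Fin 275)) (hg : g ∈ M1) : ∃ j < 1152, m1 j = g := by
  have := exists_of_card_le (M1 : Set (Equiv.Perm (Fin 275))) 1152 (fun j => m1 j.1)
    (fun j j' e => Fin.ext (m1_inj j.2 j'.2 e)) (fun j => m1_mem j.1 j.2) card_M1_le g hg
  obtain ⟨j, hj⟩ := this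
  exact ⟨j.1, j.2, hj⟩

/-- an element of the list that normalises the Sylow subgroup lies in it -/
theorem m1_nrm (j : ℕ) (hj : j < 1152) (hn : ∀ x ∈ Sg, m1 j * x * (m1 j)⁻¹ ∈ Sg) : m1 j ∈ Sg := by
  have h := M1_chk' j hj
  unfold chkM1 at h
  rw [Bool.and_eq_true] at h
  have h2 := h.2
  cases hr : Nat.blt (M1D.getD j ([], 0)).2 128
  · rw [hr, cond_false, Bool.and_eq_true] at h2
    exfalso
    have ha : (M1D.getD j ([], 0)).2 - 128 < 5 := by
      have := h2.1
      rwa [Nat.blt_eq] at this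
    have h3 := h2.2
    rw [nthR_eq, Bool.not_eq_true', ← Bool.not_eq_true, memB_iff] at h3
    apply h3
    have hx := hn (sg ((M1D.getD j ([], 0)).2 - 128)) (Subgroup.subset_closure ⟨_, ha, rfl⟩)
    obtain ⟨m, hm, e⟩ := (mem_Sg_iff _).mp hx
    rw [List.mem_map]
    refine ⟨SW.getD m [], ?_, ?_⟩
    · rw [List.getD_eq_getElem _ _ (by rw [SW_len]; exact hm)]
      exact List.getElem_mem _
    · unfold fpw
      apply fpS_eq (fwd_lt (SW_l m)) (conjw_lt (M1D_l j) (SGW_l _))
      rw [KS_fwd, KS_conjw]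
      exact e
  · rw [hr, cond_true, nthR_eq] at h2
    have hlt : (M1D.getD j ([], 0)).2 < 128 := by rwa [Nat.blt_eq] at hr
    have := KW_eq_of_eqw (M1D_l j) (SW_l _) h2
    unfold m1
    rw [this]
    exact sw_mem_Sg _ hlt

/-- the Sylow subgroup contains its normaliser -/
theorem Sg_nrm (g : Equiv.Perm (Fin 275)) (hg : g ∈ K)
    (hn : ∀ x, x ∈ Sg ↔ g * x * g⁻¹ ∈ Sg) : g ∈ Sg := by
  -- `g` commutes with the central involution
  have h1 : g * tt * g⁻¹ = tt := by
    have hm : g * tt * g⁻¹ ∈ Sg := (hn tt).mp tt_mem_Sg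
    rcases center_Sg _ hm (by
      intro y hy
      have hy' : g⁻¹ * y * g ∈ Sg := by
        rw [hn]
        have : g * (g⁻¹ * y * g) * g⁻¹ = y := by group
        rw [this]
        exact hy
      have hc := tt_comm _ hy'
      calc g * tt * g⁻¹ * y = g * (tt * (g⁻¹ * y * g)) * g⁻¹ := by group
        _ = g * ((g⁻¹ * y * g) * tt) * g⁻¹ := by rw [hc]
        _ = y * (g * tt * g⁻¹) := by group) with h | h
    · exfalso
      apply tt_ne_one
      have : tt = g⁻¹ * (g * tt * g⁻¹) * g := by group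
      rw [this, h]
      group
    · exact h
  -- `g` fixes the base point
  have h2 : g p0 = p0 := by
    have : g⁻¹ p0 = p0 := by
      apply fix_Sg
      intro x hx
      have := Sg_fix _ ((hn x).mp hx)
      rw [Equiv.Perm.mul_apply, Equiv.Perm.mul_apply] at this
      exact Equiv.Perm.eq_inv_iff_eq.mpr this
    exact (Equiv.Perm.inv_eq_iff_eq.mp this).symm
  have h3 : g ∈ M1 := by
    unfold M1
    rw [Subgroup.mem_inf]
    refine ⟨mem_K0_of_fix g hg h2, ?_⟩
    rw [Subgroup.mem_centralizer_iff]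
    intro h hh
    rw [Set.mem_singleton_iff] at hh
    rw [hh]
    have : g * tt = (g * tt * g⁻¹) * g := by group
    rw [this, h1]
  obtain ⟨j, hj, rfl⟩ := M1_list g h3
  exact m1_nrm j hj (fun x hx => (hn x).mp hx)

theorem good : Cfsg.Agent.Lib.Helper9.Syl2A.Good K Sg := by
  refine ⟨Sg_le_K, Sg_nrm, ?_⟩
  apply Cfsg.Agent.Lib.Helper9.Syl2A.sc_of_center K Sg Sg_le_K (IsPGroup.of_card card_Sg) tt
    center_Sg
  intro T hT hz hcl
  apply le_antisymm hT
  unfold Sg
  rw [Subgroup.closure_le]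
  rintro g ⟨a, ha, rfl⟩
  rw [sg_conj a ha]
  apply hcl tt hz _ (KW_mem_K (CG_l a))
  rw [← sg_conj a ha]
  exact Subgroup.subset_closure ⟨a, ha, rfl⟩

end Cfsg.Agent.Lib.Helper9.McLa
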