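import Cfsg.Agent.Lib.Helper9.LeechF4
import Cfsg.Agent.Lib.Helper9.LeechX12
import Cfsg.Agent.Lib.Helper9.LeechM4

set_option autoImplicit false

/-! The automorphisms fixing the three standard vectors `(4, 4, 0^22)`, `(1, -3, 1^22)`,
`(4, -4, 0^22)` are the coordinate permutations fixing the two standard points. -/

namespace Cfsg.Agent.Lib.Helper9.McLsimple1

open Cfsg Finset Cfsg.Agent.Lib.Helper4.Leech Cfsg.Agent.Lib.Helper9.LeechM1
  Cfsg.Agent.Lib.Helper9.LeechM2 Cfsg.Agent.Lib.Helper9.LeechM4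
  Cfsg.Agent.Lib.Helper9.LeechX8 Cfsg.Agent.Lib.Helper9.LeechX9 Cfsg.Agent.Lib.Helper9.LeechX10
  Cfsg.Agent.Lib.Helper9.LeechX12 Cfsg.Agent.Lib.Helper9.LeechC8
  Cfsg.Agent.Lib.Helper9.LeechE3 Cfsg.Agent.Lib.Helper9.LeechE4 Cfsg.Agent.Lib.Helper9.LeechE5
  Cfsg.Agent.Lib.Helper9.LeechP1 Cfsg.Agent.Lib.Helper9.LeechQ2

theorem rBb_val : ∀ k : GolayPt, rBb.1 k = if k = some 0 then -3 else 1 := by decide +kernel

theorem rAc_val : ∀ k : GolayPt,
    rAc.1 k = if k = none then 4 else if k = some 0 then -4 else 0 := by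
  intro k
  show r8.1 k - rA.1 k = _
  rw [r8_vals, rA_vals]
  by_cases h1 : k = none
  · subst h1; simp
  · by_cases h2 : k = some 0
    · subst h2; simp
    · simp [h1, h2]

theorem En_eq : E none = rA + rAc := by
  apply Subtype.ext
  funext k
  show (E none).1 k = rA.1 k + rAc.1 k
  rw [E_val, rA_vals, rAc_val, Pi.single_apply]
  by_cases h1 : k = none
  · subst h1; simp
  · by_cases h2 : k = some 0
    · subst h2; simp
    · simp [h1, h2]

theorem E0_eq : E (some 0) = rA - rAc := by
  apply Subtype.ext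
  funext k
  show (E (some 0)).1 k = rA.1 k - rAc.1 k
  rw [E_val, rA_vals, rAc_val, Pi.single_apply]
  by_cases h1 : k = none
  · subst h1; simp
  · by_cases h2 : k = some 0
    · subst h2; simp
    · simp [h1, h2]

/-- an automorphism fixing the three standard vectors is a coordinate permutation -/
theorem fix_triple (f : Equiv.Perm leechLattice) (hf : f ∈ Co0) (h1 : f rA = rA)
    (h2 : f rBb = rBb) (h3 : f rAc = rAc) :
    ∃ (σ : Equiv.Perm GolayPt) (hσ : σ ∈ M24), σ none = none ∧ σ (some 0) = some 0 ∧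
      f = prm σ hσ := by
  have hEn : f (E none) = E none := by
    rw [En_eq, hf.1, h1, h3]
  have hE0 : f (E (some 0)) = E (some 0) := by
    rw [E0_eq, co0_sub f hf, h1, h3]
  -- the standard cross is preserved
  have hP : P (⟨f, hf⟩ : ↥Co0) := by
    have hc : mk ((⟨f, hf⟩ : ↥Co0).1 (E none)).1 = mk ((1 : ↥Co0).1 (E none)).1 := by
      show mk (f (E none)).1 = mk (E none).1
      rw [hEn]
    have := P_of_cong ⟨f, hf⟩ 1 hc
    rwa [inv_one, one_mul] at this
  obtain ⟨σ, hσ, c, hc, hmono⟩ := mono_of_P ⟨f, hf⟩ hP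
  have hmono' : f = mono σ hσ c hc := hmono
  have hval : ∀ (v : leechLattice) (i : GolayPt),
      (f v).1 i = if i ∈ c then -v.1 (σ.symm i) else v.1 (σ.symm i) := by
    intro v i
    rw [hmono', mono_val]
    rfl
  -- no sign changes
  have hcempty : ∀ i, i ∉ c := by
    intro i hi
    have e := hval rBb i
    rw [h2, if_pos hi, rBb_val, rBb_val] at e
    split_ifs at e <;> omega
  have hval' : ∀ (v : leechLattice) (i : GolayPt), (f v).1 i = v.1 (σ.symm i) := by
    intro v i
    rw [hval v i, if_neg (hcempty i)]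
  have hfp : f = prm σ hσ := by
    apply Equiv.ext
    intro v
    apply Subtype.ext
    funext i
    rw [hval', prm_val]
  refine ⟨σ, hσ, ?_, ?_, hfp⟩
  · have e := hEn
    rw [hfp, prm_E] at e
    have e2 := congrArg Subtype.val e
    rw [E_val, E_val] at e2
    exact (single_inj (by norm_num) e2).1
  · have e := hE0
    rw [hfp, prm_E] at e
    have e2 := congrArg Subtype.val e
    rw [E_val, E_val] at e2
    exact (single_inj (by norm_num) e2).1

/-- conversely -/
theorem prm_fix (σ : Equiv.Perm GolayPt) (hσ : σ ∈ M24) (hn : σ none = none)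
    (h0 : σ (some 0) = some 0) :
    prm σ hσ rA = rA ∧ prm σ hσ rBb = rBb ∧ prm σ hσ rAc = rAc := by
  have hn' : ∀ k, σ.symm k = none ↔ k = none := by
    intro k
    rw [Equiv.symm_apply_eq, hn]
  have h0' : ∀ k, σ.symm k = some 0 ↔ k = some 0 := by
    intro k
    rw [Equiv.symm_apply_eq, h0]
  refine ⟨?_, ?_, ?_⟩
  · apply Subtype.ext
    funext k
    rw [prm_val, rA_vals, rA_vals]
    simp only [hn', h0']
  · apply Subtype.ext
    funext k
    rw [prm_val, rBb_val, rBb_val]
    simp only [h0']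
  · apply Subtype.ext
    funext k
    rw [prm_val, rAc_val, rAc_val]
    simp only [hn', h0']

end Cfsg.Agent.Lib.Helper9.McLsimple1
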