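import Mathlib

set_option autoImplicit false

/-! A group of order 2025 has a proper nontrivial characteristic subgroup. -/

namespace Cfsg.Agent.Lib.Helper9.Ord2025

theorem fact3 : (2025 : ℕ).factorization 3 = 4 := by
  have : (2025 : ℕ) = 3 ^ 4 * 5 ^ 2 := by norm_num
  rw [this, Nat.factorization_mul (by norm_num) (by norm_num), Nat.factorization_pow,
    Nat.factorization_pow]
  have h3 : Nat.factorization 3 3 = 1 := Nat.Prime.factorization_self (by norm_num)
  have h5 : Nat.factorization 5 3 = 0 := Nat.factorization_eq_zero_of_not_dvd (by norm_num)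
  simp [h3, h5]

theorem fact5 : (2025 : ℕ).factorization 5 = 2 := by
  have : (2025 : ℕ) = 3 ^ 4 * 5 ^ 2 := by norm_num
  rw [this, Nat.factorization_mul (by norm_num) (by norm_num), Nat.factorization_pow,
    Nat.factorization_pow]
  have h3 : Nat.factorization 3 5 = 0 := Nat.factorization_eq_zero_of_not_dvd (by norm_num)
  have h5 : Nat.factorization 5 5 = 1 := Nat.Prime.factorization_self (by norm_num)
  simp [h3, h5]

theorem dvd81 (n : ℕ) (h : n ∣ 81) (h5 : n % 5 = 1) : n = 1 ∨ n = 81 := by
  have hle : n ≤ 81 := Nat.le_of_dvd (by norm_num) h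
  interval_cases n <;> omega

theorem exists_char {K : Type*} [Group K] [Finite K] (hK : Nat.card K = 2025) :
    ∃ P : Subgroup K, P.Characteristic ∧ P ≠ ⊥ ∧ P ≠ ⊤ := by
  haveI : Fact (Nat.Prime 5) := ⟨by norm_num⟩
  haveI : Fact (Nat.Prime 3) := ⟨by norm_num⟩
  obtain ⟨P⟩ : Nonempty (Sylow 5 K) := Sylow.nonempty
  have hcP : Nat.card ↥(P : Subgroup K) = 25 := by
    have h0 := Sylow.card_eq_multiplicity P
    rw [hK, fact5] at h0
    exact h0
  have hidx : (P : Subgroup K).index = 81 := by
    have := Subgroup.card_mul_index (P : Subgroup K)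
    rw [hcP, hK] at this
    omega
  have key : ∀ Q : Subgroup K, Q.Characteristic → (Nat.card ↥Q = 25 ∨ Nat.card ↥Q = 81) →
      ∃ P : Subgroup K, P.Characteristic ∧ P ≠ ⊥ ∧ P ≠ ⊤ := by
    intro Q hQ hc
    refine ⟨Q, hQ, ?_, ?_⟩
    · intro h
      rw [h, Subgroup.card_bot] at hc
      omega
    · intro h
      rw [h, Subgroup.card_top, hK] at hc
      omega
  have h1 : Nat.card (Sylow 5 K) % 5 = 1 % 5 := card_sylow_modEq_one 5 K
  have h2 := P.card_dvd_index
  rw [hidx] at h2
  rcases dvd81 _ h2 (by omega) with hn5 | hn5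
  · haveI : Subsingleton (Sylow 5 K) := (Nat.card_eq_one_iff_unique.mp hn5).1
    exact key _ (Sylow.characteristic_of_subsingleton P) (Or.inl hcP)
  · -- the normaliser of `P` is `P`
    have hN : Subgroup.normalizer ((P : Subgroup K) : Set K) = (P : Subgroup K) := by
      have e1 : 81 = (Subgroup.normalizer ((P : Subgroup K) : Set K)).index := by
        rw [← hn5]; exact P.card_eq_index_normalizer
      have e2 := Subgroup.card_mul_index (Subgroup.normalizer ((P : Subgroup K) : Set K))
      rw [← e1, hK] at e2
      have e3 : Nat.card ↥(Subgroup.normalizer ((P : Subgroup K) : Set K)) = 25 := by omega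
      symm
      apply Subgroup.eq_of_le_of_card_ge Subgroup.le_normalizer
      rw [e3, hcP]
    have hcomm : ∀ a b : ↥(P : Subgroup K), a * b = b * a := by
      have hc : IsMulCommutative ↥(P : Subgroup K) :=
        IsPGroup.isMulCommutative_of_card_eq_prime_sq (p := 5) (by rw [hcP]; norm_num)
      exact hc.is_comm.comm
    have hP : Subgroup.normalizer ((P : Subgroup K) : Set K) ≤
        Subgroup.centralizer ((P : Subgroup K) : Set K) := by
      rw [hN]
      intro a ha b hb
      have := hcomm ⟨b, hb⟩ ⟨a, ha⟩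
      exact congrArg Subtype.val this
    have hcomp := MonoidHom.ker_transferSylow_isComplement' P hP
    have hcm := hcomp.card_mul_card
    rw [hcP, hK] at hcm
    have hcQ : Nat.card ↥(MonoidHom.transferSylow P hP).ker = 81 := by omega
    let Q : Sylow 3 K := Sylow.ofCard (MonoidHom.transferSylow P hP).ker (by
      rw [hcQ, hK, fact3]; norm_num)
    have hQn : (Q : Subgroup K).Normal := by
      show ((MonoidHom.transferSylow P hP).ker).Normal
      infer_instance
    have hQc := Sylow.characteristic_of_normal Q hQn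
    exact key _ hQc (Or.inr hcQ)

end Cfsg.Agent.Lib.Helper9.Ord2025
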