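import Mathlib

set_option autoImplicit false

/-! A general simplicity criterion: a transitive group with simple point stabiliser whose
suborbit sizes exclude blocks, and whose degree excludes regular normal subgroups. -/

namespace Cfsg.Agent.Lib.Helper9.PrimSimple2

open MulAction

variable {G X : Type*} [Group G] [Finite G] [MulAction G X] [Finite X]
variable {ι : Type*} [Fintype ι]

/-- the orbit of `x` under a subgroup -/
def orb (K : Subgroup G) (x : X) : Set X := {y | ∃ k ∈ K, k • x = y}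

theorem orb_eq (K : Subgroup G) (x : X) : orb K x = MulAction.orbit ↥K x := by
  ext y
  constructor
  · rintro ⟨k, hk, rfl⟩
    exact ⟨⟨k, hk⟩, rfl⟩
  · rintro ⟨k, rfl⟩
    exact ⟨k.1, k.2, rfl⟩

theorem card_orb_dvd (K : Subgroup G) (x : X) : (orb K x).ncard ∣ Nat.card G := by
  rw [orb_eq]
  have h1 := Nat.card_congr (MulAction.orbitProdStabilizerEquivGroup ↥K x)
  rw [Nat.card_prod] at h1
  have h2 : Nat.card ↥K ∣ Nat.card G := Subgroup.card_subgroup_dvd_card K
  have h3 : Nat.card ↥(MulAction.orbit ↥K x) ∣ Nat.card ↥K := ⟨_, h1.symm⟩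
  have h4 : (MulAction.orbit ↥K x).ncard = Nat.card ↥(MulAction.orbit ↥K x) := rfl
  rw [h4]
  exact h3.trans h2

theorem card_orb_dvd' (K : Subgroup G) (x : X) : (orb K x).ncard ∣ Nat.card ↥K := by
  rw [orb_eq]
  have h1 := Nat.card_congr (MulAction.orbitProdStabilizerEquivGroup ↥K x)
  rw [Nat.card_prod] at h1
  exact ⟨_, h1.symm⟩

theorem ncard_biUnion (C : ι → Set X) (n : ι → ℕ)
    (hdisj : ∀ i j, i ≠ j → Disjoint (C i) (C j)) (hn : ∀ i, (C i).ncard = n i)
    (S : Finset ι) : (⋃ i ∈ S, C i).ncard = ∑ i ∈ S, n i := by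
  classical
  induction S using Finset.induction_on with
  | empty => simp
  | insert a S ha ih =>
    rw [Finset.set_biUnion_insert, Finset.sum_insert ha,
      Set.ncard_union_eq _ (Set.toFinite _) (Set.toFinite _), hn, ih]
    rw [Set.disjoint_iUnion₂_right]
    intro i hi
    exact hdisj a i (fun h => ha (h ▸ hi))

section
variable (htrans : ∀ y z : X, ∃ g : G, g • y = z)
  (x : X) (C : ι → Set X) (n : ι → ℕ)
  (hcover : ∀ y : X, y = x ∨ ∃ i, y ∈ C i)
  (hx : ∀ i, x ∉ C i)
  (hdisj : ∀ i j, i ≠ j → Disjoint (C i) (C j))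
  (hC : ∀ i, ∀ a ∈ C i, ∀ a' ∈ C i, ∃ g : G, g • x = x ∧ g • a = a')
  (hn : ∀ i, (C i).ncard = n i)
  (N : ℕ) (hcard : Nat.card G = N)
  (hdiv : ∀ S : Finset ι, (1 + ∑ i ∈ S, n i) ∣ N → S = ∅ ∨ S = Finset.univ)

include hcover hx hdisj hC hn hcard hdiv in
/-- the orbit of `x` under a normal subgroup is trivial or everything -/
theorem orb_cases (K : Subgroup G) [K.Normal] : orb K x = {x} ∨ orb K x = Set.univ := by
  classical
  have hxO : x ∈ orb K x := ⟨1, K.one_mem, one_smul _ _⟩
  have hinv : ∀ g : G, g • x = x → ∀ y ∈ orb K x, g • y ∈ orb K x := by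
    rintro g hg y ⟨k, hk, rfl⟩
    refine ⟨g * k * g⁻¹, ‹K.Normal›.conj_mem k hk g, ?_⟩
    rw [mul_smul, mul_smul]
    congr 1
    congr 1
    rw [inv_smul_eq_iff, hg]
  have hCO : ∀ i, (∃ a ∈ C i, a ∈ orb K x) → C i ⊆ orb K x := by
    rintro i ⟨a, haC, haO⟩ a' ha'
    obtain ⟨g, hg, hga⟩ := hC i a haC a' ha'
    rw [← hga]
    exact hinv g hg a haO
  let S : Finset ι := Finset.univ.filter (fun i => ∃ a ∈ C i, a ∈ orb K x)
  have hS : ∀ i, i ∈ S ↔ ∃ a ∈ C i, a ∈ orb K x := by
    intro i
    simp [S]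
  have hO : orb K x = insert x (⋃ i ∈ S, C i) := by
    ext y
    constructor
    · intro hy
      rcases hcover y with h | ⟨i, hi⟩
      · exact Or.inl h
      · right
        rw [Set.mem_iUnion₂]
        exact ⟨i, (hS i).mpr ⟨y, hi, hy⟩, hi⟩
    · rintro (h | h)
      · rw [h]; exact hxO
      · rw [Set.mem_iUnion₂] at h
        obtain ⟨i, hi, hy⟩ := h
        exact hCO i ((hS i).mp hi) hy
  have hxU : x ∉ ⋃ i ∈ S, C i := by
    rw [Set.mem_iUnion₂]
    rintro ⟨i, -, hi⟩
    exact hx i hi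
  have hdvd := card_orb_dvd K x
  rw [hcard, hO, Set.ncard_insert_of_notMem hxU (Set.toFinite _),
    ncard_biUnion C n hdisj hn S, add_comm] at hdvd
  rcases hdiv S hdvd with h | h
  · left
    rw [hO, h]
    simp
  · right
    ext y
    simp only [Set.mem_univ, iff_true]
    rcases hcover y with h' | ⟨i, hi⟩
    · rw [h']; exact hxO
    · exact hCO i ((hS i).mp (h ▸ Finset.mem_univ i)) hi

include htrans in
/-- a normal subgroup fixing `x` fixes everything -/
theorem fix_all (K : Subgroup G) [K.Normal] (hK : orb K x = {x}) :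
    ∀ k ∈ K, ∀ y : X, k • y = y := by
  intro k hk y
  obtain ⟨g, rfl⟩ := htrans x y
  have h1 : g⁻¹ * k * g ∈ K := by
    have := ‹K.Normal›.conj_mem k hk g⁻¹
    rwa [inv_inv] at this
  have h2 : (g⁻¹ * k * g) • x ∈ orb K x := ⟨_, h1, rfl⟩
  rw [hK, Set.mem_singleton_iff, mul_smul, mul_smul, inv_smul_eq_iff] at h2
  exact h2

include htrans hC hn in
/-- a normal subgroup fixing `x` is trivial -/
theorem fix_trivial (hsimple : IsSimpleGroup ↥(MulAction.stabilizer G x))
    (hbig : ∃ i, 1 < n i)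
    (K : Subgroup G) [K.Normal] (hK : orb K x = {x}) : K = ⊥ := by
  have hfix := fix_all htrans x K hK
  have hle : K ≤ MulAction.stabilizer G x := fun k hk => hfix k hk x
  have hn' : (K.subgroupOf (MulAction.stabilizer G x)).Normal := inferInstance
  rcases hsimple.eq_bot_or_eq_top_of_normal _ hn' with h | h
  · rw [Subgroup.subgroupOf_eq_bot] at h
    rw [disjoint_iff, inf_eq_left.mpr hle] at h
    exact h
  · exfalso
    rw [Subgroup.subgroupOf_eq_top] at h
    obtain ⟨i, hi⟩ := hbig
    rw [← hn i] at hi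
    obtain ⟨a, ha, a', ha', hne⟩ := (Set.one_lt_ncard (Set.toFinite (C i))).mp hi
    obtain ⟨g, hg, hga⟩ := hC i a ha a' ha'
    have hgK : g ∈ K := h (MulAction.mem_stabilizer_iff.mpr hg)
    exact hne ((hfix g hgK a).symm.trans hga)

include htrans hcover hx hdisj hC hn hcard hdiv in
/-- nontrivial normal subgroups are transitive, and their order is divisible by the degree -/
theorem normal_trans (hsimple : IsSimpleGroup ↥(MulAction.stabilizer G x))
    (hbig : ∃ i, 1 < n i)
    (K : Subgroup G) [K.Normal] (hK : K ≠ ⊥) :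
    orb K x = Set.univ ∧ Nat.card X ∣ Nat.card ↥K := by
  rcases orb_cases x C n hcover hx hdisj hC hn N hcard hdiv K with h | h
  · exact absurd (fix_trivial htrans x C n hC hn hsimple hbig K h) hK
  · refine ⟨h, ?_⟩
    have h1 := card_orb_dvd' K x
    rw [h, Set.ncard_univ] at h1
    exact h1

include htrans hcover hx hdisj hC hn hcard hdiv in
theorem simple_of_prim (hbig : ∃ i, 1 < n i)
    (hnt : Nontrivial G)
    (hreg : ∀ K : Subgroup G, Nat.card ↥K = Nat.card X →
      ∃ P : Subgroup ↥K, P.Characteristic ∧ P ≠ ⊥ ∧ P ≠ ⊤)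
    (hsimple : IsSimpleGroup ↥(MulAction.stabilizer G x)) :
    IsSimpleGroup G := by
  refine ⟨fun K hKn => ?_⟩
  by_cases hK : K = ⊥
  · exact Or.inl hK
  right
  obtain ⟨htr, -⟩ := normal_trans htrans x C n hcover hx hdisj hC hn N hcard hdiv hsimple hbig K hK
  have hn' : (K.subgroupOf (MulAction.stabilizer G x)).Normal := inferInstance
  rcases hsimple.eq_bot_or_eq_top_of_normal _ hn' with h | h
  · exfalso
    rw [Subgroup.subgroupOf_eq_bot] at h
    have hcK : Nat.card ↥K = Nat.card X := by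
      have h1 := Nat.card_congr (MulAction.orbitProdStabilizerEquivGroup ↥K x)
      rw [Nat.card_prod] at h1
      have h2 : Nat.card ↥(MulAction.orbit ↥K x) = Nat.card X := by
        have : (MulAction.orbit ↥K x) = orb K x := (orb_eq K x).symm
        rw [this, htr]
        rw [Nat.card_congr (Equiv.Set.univ X)]
      have h3 : Nat.card ↥(MulAction.stabilizer ↥K x) = 1 := by
        rw [Nat.card_eq_one_iff_unique]
        refine ⟨⟨fun a b => ?_⟩, ⟨1⟩⟩
        have ha : (a.1.1 : G) ∈ K ⊓ MulAction.stabilizer G x :=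
          ⟨a.1.2, MulAction.mem_stabilizer_iff.mpr (MulAction.mem_stabilizer_iff.mp a.2)⟩
        have hb : (b.1.1 : G) ∈ K ⊓ MulAction.stabilizer G x :=
          ⟨b.1.2, MulAction.mem_stabilizer_iff.mpr (MulAction.mem_stabilizer_iff.mp b.2)⟩
        rw [disjoint_iff.mp h, Subgroup.mem_bot] at ha hb
        exact Subtype.ext (Subtype.ext (ha.trans hb.symm))
      rw [h2, h3, mul_one] at h1
      exact h1.symm
    obtain ⟨P, hPc, hPb, hPt⟩ := hreg K hcK
    haveI := hPc
    have hPn : (P.map K.subtype).Normal := inferInstance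
    have hPne : P.map K.subtype ≠ ⊥ := by
      intro h0
      apply hPb
      rw [eq_bot_iff]
      intro p hp
      have : K.subtype p ∈ P.map K.subtype := Subgroup.mem_map_of_mem _ hp
      rw [h0, Subgroup.mem_bot] at this
      rw [Subgroup.mem_bot]
      exact Subtype.ext this
    obtain ⟨-, hd⟩ := normal_trans htrans x C n hcover hx hdisj hC hn N hcard hdiv hsimple hbig
      (P.map K.subtype) hPne
    rw [Subgroup.card_map_of_injective K.subtype_injective, ← hcK] at hd
    have hle : Nat.card ↥K ≤ Nat.card ↥P := Nat.le_of_dvd Nat.card_pos hd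
    apply hPt
    exact Subgroup.eq_top_of_le_card P hle
  · rw [Subgroup.subgroupOf_eq_top] at h
    rw [eq_top_iff]
    intro g _
    have hgx : g • x ∈ orb K x := by rw [htr]; exact Set.mem_univ _
    obtain ⟨k, hk, hkx⟩ := hgx
    have h1 : k⁻¹ * g ∈ MulAction.stabilizer G x := by
      rw [MulAction.mem_stabilizer_iff, mul_smul, inv_smul_eq_iff, hkx]
    have h2 : k⁻¹ * g ∈ K := h h1
    have : g = k * (k⁻¹ * g) := by group
    rw [this]
    exact K.mul_mem hk h2

end

end Cfsg.Agent.Lib.Helper9.PrimSimple2
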