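import Cfsg.Agent.Lib.Helper9.McLsimple1
import Cfsg.Agent.Lib.Helper9.PrimSimple2
import Cfsg.Agent.Lib.Helper9.Ord2025
import Cfsg.Agent.S0378
import Cfsg.Agent.S0379

set_option autoImplicit false

/-! The stabiliser of the standard pair of minimal vectors with inner product −8: its action on
the 2025 vectors. -/

namespace Cfsg.Agent.Lib.Helper9.McLsimple2

open Cfsg Finset Cfsg.Agent.Lib.Helper4.Leech Cfsg.Agent.Lib.Helper9.LeechM1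
  Cfsg.Agent.Lib.Helper9.LeechM2 Cfsg.Agent.Lib.Helper9.LeechM4
  Cfsg.Agent.Lib.Helper9.LeechX8 Cfsg.Agent.Lib.Helper9.LeechX9
  Cfsg.Agent.Lib.Helper9.LeechX11
  Cfsg.Agent.Lib.Helper9.LeechE3 Cfsg.Agent.Lib.Helper9.LeechE4 Cfsg.Agent.Lib.Helper9.LeechE5
  Cfsg.Agent.Lib.Helper9.LeechE8 Cfsg.Agent.Lib.Helper9.LeechQ2
  Cfsg.Agent.Lib.Helper9.LeechF1 Cfsg.Agent.Lib.Helper9.LeechF3
  Cfsg.Agent.Lib.Helper9.McLsimple1 Cfsg.Agent.Lib.Helper9.PrimSimple2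

/-- the stabiliser of the standard pair -/
abbrev G1 : Subgroup ↥Co0 := MulAction.stabilizer ↥Co0 rA ⊓ MulAction.stabilizer ↥Co0 rBb

theorem mem_G1 (g : ↥Co0) : g ∈ G1 ↔ g.1 rA = rA ∧ g.1 rBb = rBb := by
  show (g ∈ MulAction.stabilizer ↥Co0 rA ∧ g ∈ MulAction.stabilizer ↥Co0 rBb) ↔ _
  rw [MulAction.mem_stabilizer_iff, MulAction.mem_stabilizer_iff]
  rfl

/-- the 2025 vectors -/
def mclSet : Set leechLattice :=
  {y | sqNorm y.1 = 32 ∧ dotInt rA.1 y.1 = 0 ∧ dotInt rBb.1 y.1 = 16}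

def mclSub : SubMulAction ↥G1 leechLattice where
  carrier := mclSet
  smul_mem' := by
    rintro g y ⟨h1, h2, h3⟩
    have hg := (mem_G1 g.1).mp g.2
    have hc : g.1.1 ∈ Co0 := g.1.2
    show sqNorm (g.1.1 y).1 = 32 ∧ dotInt rA.1 (g.1.1 y).1 = 0 ∧ dotInt rBb.1 (g.1.1 y).1 = 16
    refine ⟨by rw [hc.2, h1], ?_, ?_⟩
    · have := dot_pres g.1.1 hc rA y
      rw [hg.1] at this
      rw [this, h2]
    · have := dot_pres g.1.1 hc rBb y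
      rw [hg.2] at this
      rw [this, h3]

theorem smul_val (g : ↥G1) (y : ↥mclSub) : (g • y).1 = g.1.1 y.1 := rfl

theorem mem_mcl (y : ↥mclSub) :
    sqNorm y.1.1 = 32 ∧ dotInt rA.1 y.1.1 = 0 ∧ dotInt rBb.1 y.1.1 = 16 := y.2

/-- the base point -/
def x1 : ↥mclSub := ⟨rAc, rAc_norm, rA_rAc, rBb_rAc⟩

/-- building elements of the group -/
def mkG (g : Equiv.Perm leechLattice) (hg : g ∈ Co0) (h1 : g rA = rA) (h2 : g rBb = rBb) : ↥G1 :=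
  ⟨⟨g, hg⟩, (mem_G1 _).mpr ⟨h1, h2⟩⟩

theorem htrans (y z : ↥mclSub) : ∃ g : ↥G1, g • y = z := by
  obtain ⟨hy1, hy2, hy3⟩ := mem_mcl y
  obtain ⟨hz1, hz2, hz3⟩ := mem_mcl z
  obtain ⟨g, hg, g1, g2, g3⟩ := mcl_trans2025 rA rBb y.1 z.1 rA_norm rBb_norm rA_rBb hy1 hy2 hy3
    hz1 hz2 hz3
  exact ⟨mkG g hg g1 g2, Subtype.ext g3⟩

/-- the three classes -/
def cls (i : Fin 3) : Set ↥mclSub := {y | dotInt rAc.1 y.1.1 = 8 * (i.1 : ℤ)}

def cnt : Fin 3 → ℕ := ![330, 1232, 462]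

theorem hx (i : Fin 3) : x1 ∉ cls i := by
  intro h
  have h' : dotInt rAc.1 rAc.1 = 8 * (i.1 : ℤ) := h
  rw [dot_self, rAc_norm] at h'
  have := i.2
  omega

theorem hdisj (i j : Fin 3) (hij : i ≠ j) : Disjoint (cls i) (cls j) := by
  rw [Set.disjoint_left]
  intro y hi hj
  have hi' : dotInt rAc.1 y.1.1 = 8 * (i.1 : ℤ) := hi
  have hj' : dotInt rAc.1 y.1.1 = 8 * (j.1 : ℤ) := hj
  apply hij
  apply Fin.ext
  omega

theorem hC (i : Fin 3) (a : ↥mclSub) (ha : a ∈ cls i) (a' : ↥mclSub) (ha' : a' ∈ cls i) :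
    ∃ g : ↥G1, g • x1 = x1 ∧ g • a = a' := by
  obtain ⟨hy1, hy2, hy3⟩ := mem_mcl a
  obtain ⟨hz1, hz2, hz3⟩ := mem_mcl a'
  have hd8 : (8 * (i.1 : ℤ) = 0 ∨ 8 * (i.1 : ℤ) = 8 ∨ 8 * (i.1 : ℤ) = 16) := by
    have := i.2
    omega
  obtain ⟨g, hg, g1, g2, g3, g4⟩ := mcl_rank4 rA rBb rAc a.1 a'.1 rA_norm rBb_norm rA_rBb rAc_norm
    rA_rAc rBb_rAc hy1 hy2 hy3 hz1 hz2 hz3 (8 * (i.1 : ℤ)) hd8 ha ha'
  exact ⟨mkG g hg g1 g2, Subtype.ext g3, Subtype.ext g4⟩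

theorem card_sub (d : ℤ) :
    ({y : ↥mclSub | dotInt rAc.1 y.1.1 = d} : Set ↥mclSub).ncard =
      {y : GolayPt → ℤ | y ∈ leechLattice ∧ sqNorm y = 32 ∧ dotInt rA.1 y = 0 ∧
        dotInt rBb.1 y = 16 ∧ dotInt rAc.1 y = d}.ncard := by
  rw [← Set.ncard_image_of_injective _ Subtype.val_injective,
    ← Set.ncard_image_of_injective _ Subtype.val_injective]
  congr 1
  ext y
  constructor
  · rintro ⟨z, ⟨w, hw, rfl⟩, rfl⟩
    obtain ⟨h1, h2, h3⟩ := mem_mcl w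
    exact ⟨w.1.2, h1, h2, h3, hw⟩
  · rintro ⟨hm, h1, h2, h3, h4⟩
    exact ⟨⟨y, hm⟩, ⟨⟨⟨y, hm⟩, h1, h2, h3⟩, h4, rfl⟩, rfl⟩

theorem hn (i : Fin 3) : (cls i).ncard = cnt i := by
  unfold cls
  rw [card_sub]
  fin_cases i
  · exact count330_std
  · exact count1232_std
  · exact count462_std

theorem hX : Nat.card ↥mclSub = 2025 := by
  have e : Nat.card ↥mclSub = mclSet.ncard := rfl
  rw [e]
  exact mcl_count rA rBb rA_norm rBb_norm rA_rBb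

instance : Finite ↥mclSub := by
  apply Nat.finite_of_card_ne_zero
  rw [hX]
  norm_num

theorem hcover (y : ↥mclSub) : y = x1 ∨ ∃ i, y ∈ cls i := by
  have hU : (⋃ i ∈ (Finset.univ : Finset (Fin 3)), cls i).ncard = ∑ i, cnt i :=
    ncard_biUnion cls cnt hdisj hn Finset.univ
  have hsum : ∑ i, cnt i = 2024 := by decide
  have hx1 : x1 ∉ ⋃ i ∈ (Finset.univ : Finset (Fin 3)), cls i := by
    rw [Set.mem_iUnion₂]
    rintro ⟨i, -, hi⟩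
    exact hx i hi
  have hall : insert x1 (⋃ i ∈ (Finset.univ : Finset (Fin 3)), cls i) = Set.univ := by
    apply Set.eq_of_subset_of_ncard_le (Set.subset_univ _) _ (Set.toFinite _)
    rw [Set.ncard_insert_of_notMem hx1 (Set.toFinite _), hU, hsum, Set.ncard_univ, hX]
  have hy : y ∈ insert x1 (⋃ i ∈ (Finset.univ : Finset (Fin 3)), cls i) := by
    rw [hall]; exact Set.mem_univ _
  rcases hy with h | h
  · exact Or.inl h
  · rw [Set.mem_iUnion₂] at h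
    obtain ⟨i, -, hi⟩ := h
    exact Or.inr ⟨i, hi⟩

end Cfsg.Agent.Lib.Helper9.McLsimple2
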