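import Cfsg.Agent.Lib.Helper9.IdxB3
import Cfsg.Agent.Lib.Helper9.GolayM24b

set_option autoImplicit false

/-! Affine maps of the projective line over `ZMod 23`, the group `23:11`. -/

namespace Cfsg.Agent.Lib.Helper9.Mx

open Cfsg Finset MulAction Cfsg.Agent.Lib.Helper9.OutM

abbrev tau : Equiv.Perm GolayPt := Equiv.optionCongr (Equiv.addRight (1 : ZMod 23))

abbrev mu (u : (ZMod 23)ˣ) : Equiv.Perm GolayPt := Equiv.optionCongr (Units.mulLeft u)

/-- the affine map `t ↦ k t + c`, fixing the extra point -/
def aff (k : (ZMod 23)ˣ) (c : ZMod 23) : Equiv.Perm GolayPt :=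
  Equiv.optionCongr ((Units.mulLeft k).trans (Equiv.addRight c))

@[simp] theorem aff_none (k : (ZMod 23)ˣ) (c : ZMod 23) : aff k c none = none := rfl

@[simp] theorem aff_some (k : (ZMod 23)ˣ) (c t : ZMod 23) :
    aff k c (some t) = some ((k : ZMod 23) * t + c) := rfl

theorem aff_mul (k k' : (ZMod 23)ˣ) (c c' : ZMod 23) :
    aff k c * aff k' c' = aff (k * k') ((k : ZMod 23) * c' + c) := by
  ext p : 1
  cases p with
  | none => rfl
  | some t =>
    rw [Equiv.Perm.mul_apply, aff_some, aff_some, aff_some, Units.val_mul]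
    congr 1
    ring

theorem aff_one : aff 1 0 = 1 := by
  ext p : 1
  cases p with
  | none => rfl
  | some t => simp

theorem tau_eq : tau = aff 1 1 := by
  ext p : 1
  cases p with
  | none => rfl
  | some t => simp

theorem mu_eq (u : (ZMod 23)ˣ) : mu u = aff u 0 := by
  ext p : 1
  cases p with
  | none => rfl
  | some t => simp

theorem tau_pow (n : ℕ) : tau ^ n = aff 1 (n : ZMod 23) := by
  induction n with
  | zero => rw [pow_zero, Nat.cast_zero, aff_one]
  | succ n ih =>
    rw [pow_succ, ih, tau_eq, aff_mul, mul_one, Units.val_one, one_mul, Nat.cast_succ, add_comm]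

theorem aff_one_mem (c : ZMod 23) : aff 1 c ∈ M24 := by
  have h := tau_pow c.val
  rw [ZMod.natCast_zmod_val] at h
  rw [← h]
  exact M24.pow_mem Cfsg.Agent.Lib.Helper9.GolayM24b.shift_mem _

theorem aff_eq (k : (ZMod 23)ˣ) (c : ZMod 23) : aff k c = tau ^ c.val * mu k := by
  rw [tau_pow, mu_eq, aff_mul, one_mul, Units.val_one, one_mul, zero_add, ZMod.natCast_zmod_val]

theorem aff_inj (k k' : (ZMod 23)ˣ) (c c' : ZMod 23) (h : aff k c = aff k' c') : k = k' ∧ c = c' := by
  have h0 := congrArg (fun g : Equiv.Perm GolayPt => g (some 0)) h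
  have h1 := congrArg (fun g : Equiv.Perm GolayPt => g (some 1)) h
  simp only [aff_some, mul_zero, zero_add, mul_one, Option.some.injEq] at h0 h1
  subst h0
  exact ⟨Units.ext (add_right_cancel h1), rfl⟩

theorem tau_ne_one : tau ≠ 1 := by
  intro h
  have := congrArg (fun g : Equiv.Perm GolayPt => g (some 0)) h
  revert this
  decide

theorem orderOf_tau : orderOf tau = 23 := by
  haveI : Fact (Nat.Prime 23) := ⟨by norm_num⟩
  apply orderOf_eq_prime
  · rw [tau_pow, ZMod.natCast_self, aff_one]
  · exact tau_ne_one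

/-- a permutation fixing the extra point and normalizing the translations is affine -/
theorem eq_aff_of_normalizes (g : Equiv.Perm GolayPt) (hg : g none = none)
    (hn : g * tau * g⁻¹ ∈ Subgroup.zpowers tau) : ∃ k c, g = aff k c := by
  obtain ⟨n, hn⟩ := mem_powers_iff_mem_zpowers.mpr hn
  have hn' : tau ^ n = g * tau * g⁻¹ := hn
  have key : ∀ p, g (tau p) = (tau ^ n) (g p) := by
    intro p
    rw [hn']
    simp [Equiv.Perm.mul_apply]
  have hne : ∀ t : ZMod 23, g (some t) ≠ none := by
    intro t h
    rw [← hg] at h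
    exact absurd (g.injective h) (by simp)
  obtain ⟨f, hf⟩ : ∃ f : ZMod 23 → ZMod 23, ∀ t, g (some t) = some (f t) := by
    refine ⟨fun t => (g (some t)).getD 0, fun t => ?_⟩
    obtain ⟨y, hy⟩ := Option.ne_none_iff_exists'.mp (hne t)
    show g (some t) = some (Option.getD (g (some t)) 0)
    rw [hy]
    rfl
  have hstep : ∀ t, f (t + 1) = f t + (n : ZMod 23) := by
    intro t
    have h1 := key (some t)
    rw [tau_pow, hf t, aff_some, Units.val_one, one_mul] at h1
    have h2 : tau (some t) = some (t + 1) := rfl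
    rw [h2, hf] at h1
    exact Option.some.inj h1
  have hlin : ∀ m : ℕ, f (m : ZMod 23) = f 0 + (n : ZMod 23) * m := by
    intro m
    induction m with
    | zero => simp
    | succ m ih =>
      rw [Nat.cast_succ, hstep, ih]
      ring
  have hlin' : ∀ t : ZMod 23, f t = (n : ZMod 23) * t + f 0 := by
    intro t
    have := hlin t.val
    rw [ZMod.natCast_zmod_val] at this
    rw [this, add_comm]
  have hk : (n : ZMod 23) ≠ 0 := by
    intro h0
    have e : f 1 = f 0 := by
      rw [hlin' 1, hlin' 0, h0]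
      ring
    have : g (some 1) = g (some 0) := by rw [hf, hf, e]
    have := g.injective this
    revert this
    decide
  haveI : Fact (Nat.Prime 23) := ⟨by norm_num⟩
  refine ⟨Units.mk0 (n : ZMod 23) hk, f 0, ?_⟩
  ext p : 1
  cases p with
  | none => rw [hg, aff_none]
  | some t => rw [hf, aff_some, Units.val_mk0, hlin']

end Cfsg.Agent.Lib.Helper9.Mx
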