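import Cfsg.Agent.Lib.Helper9.MxA1

set_option autoImplicit false

/-! The group `23:11` inside `M23` is the normalizer of the translations. -/

namespace Cfsg.Agent.Lib.Helper9.Mx

open Cfsg Finset MulAction Cfsg.Agent.Lib.Helper9.OutM

theorem nu_sq : (aff (-1) 0) ^ 2 = 1 := by
  rw [pow_two, aff_mul, mul_zero, zero_add, neg_mul_neg, one_mul, aff_one]

theorem nu_ne_one : aff (-1) 0 ≠ 1 := by
  intro e
  have := congrArg (fun g : Equiv.Perm GolayPt => g (some 1)) e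
  revert this
  decide

theorem card_fixF_nu : (fixF (aff (-1) 0)).card = 2 := by decide

theorem nu_not_mem : aff (-1) 0 ∉ M24 := by
  intro h
  have hc := card_fixF_nu
  rcases card_fixF_involution _ h nu_sq nu_ne_one with h0 | h8 <;> omega

theorem isSquare_neg_inv : ∀ k : (ZMod 23)ˣ, ¬ IsSquare k → IsSquare (-k⁻¹) := by decide

theorem isSquare_of_mem (k : (ZMod 23)ˣ) (c : ZMod 23) (h : aff k c ∈ M24) : IsSquare k := by
  by_contra hk
  have h1 := isSquare_neg_inv k hk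
  have h2 : mu (-k⁻¹) ∈ M24 := Cfsg.Agent.Lib.Helper9.GolayM24b.mul_square_mem _ h1
  have h3 := aff_one_mem (-(((-k⁻¹ : (ZMod 23)ˣ) : ZMod 23) * c))
  have h4 := M24.mul_mem h3 (M24.mul_mem h2 h)
  rw [mu_eq, aff_mul, aff_mul, add_zero, Units.val_one, one_mul, one_mul, neg_mul, inv_mul_cancel,
    add_neg_cancel] at h4
  exact nu_not_mem h4

def sqGens : Set (Equiv.Perm GolayPt) :=
  {g : Equiv.Perm Cfsg.GolayPt | ∃ u : (ZMod 23)ˣ, IsSquare u ∧ g = Equiv.optionCongr (Units.mulLeft u)}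

/-- the group `23:11` -/
def Bgrp : Subgroup (Equiv.Perm GolayPt) :=
  Subgroup.closure ({Equiv.optionCongr (Equiv.addRight (1 : ZMod 23))} ∪ sqGens)

theorem tau_mem_B : tau ∈ Bgrp := Subgroup.subset_closure (Or.inl rfl)

theorem mu_mem_B (u : (ZMod 23)ˣ) (hu : IsSquare u) : mu u ∈ Bgrp :=
  Subgroup.subset_closure (Or.inr ⟨u, hu, rfl⟩)

theorem aff_mem_B (k : (ZMod 23)ˣ) (c : ZMod 23) (hk : IsSquare k) : aff k c ∈ Bgrp := by
  rw [aff_eq]
  exact Bgrp.mul_mem (Bgrp.pow_mem tau_mem_B _) (mu_mem_B k hk)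

theorem aff_inv (k : (ZMod 23)ˣ) (c : ZMod 23) :
    (aff k c)⁻¹ = aff k⁻¹ (-(((k⁻¹ : (ZMod 23)ˣ) : ZMod 23) * c)) := by
  apply inv_eq_of_mul_eq_one_right
  rw [aff_mul, mul_inv_cancel, mul_neg, ← mul_assoc, Units.mul_inv, one_mul, neg_add_cancel, aff_one]

/-- the affine maps with square multiplier -/
def affGrp : Subgroup (Equiv.Perm GolayPt) where
  carrier := {g | ∃ k c, IsSquare k ∧ g = aff k c}
  mul_mem' := by
    rintro _ _ ⟨k, c, hk, rfl⟩ ⟨k', c', hk', rfl⟩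
    exact ⟨k * k', _, hk.mul hk', aff_mul _ _ _ _⟩
  one_mem' := ⟨1, 0, IsSquare.one, aff_one.symm⟩
  inv_mem' := by
    rintro _ ⟨k, c, hk, rfl⟩
    exact ⟨k⁻¹, _, hk.inv, aff_inv k c⟩

theorem B_eq_affGrp : Bgrp = affGrp := by
  apply le_antisymm
  · apply (Subgroup.closure_le _).mpr
    rintro g (hg | ⟨u, hu, rfl⟩)
    · rw [Set.mem_singleton_iff] at hg
      rw [hg]
      exact ⟨1, 1, IsSquare.one, tau_eq⟩
    · exact ⟨u, 0, hu, mu_eq u⟩
  · rintro _ ⟨k, c, hk, rfl⟩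
    exact aff_mem_B k c hk

theorem card_sq : (univ.filter (fun k : (ZMod 23)ˣ => IsSquare k)).card = 11 := by decide

theorem card_B : Nat.card Bgrp = 253 := by
  rw [B_eq_affGrp]
  have h1 : (affGrp : Set (Equiv.Perm GolayPt)) =
      (fun p : (ZMod 23)ˣ × ZMod 23 => aff p.1 p.2) ''
        (((univ.filter (fun k : (ZMod 23)ˣ => IsSquare k)) ×ˢ (univ : Finset (ZMod 23)) :
          Finset ((ZMod 23)ˣ × ZMod 23)) : Set ((ZMod 23)ˣ × ZMod 23)) := by
    ext g
    constructor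
    · rintro ⟨k, c, hk, rfl⟩
      exact ⟨(k, c), by simp [hk], rfl⟩
    · rintro ⟨⟨k, c⟩, hp, rfl⟩
      simp only [coe_product, coe_filter, mem_univ, true_and, coe_univ, Set.mem_prod, Set.mem_setOf_eq,
        Set.mem_univ, and_true] at hp
      exact ⟨k, c, hp, rfl⟩
  have hinj : Function.Injective (fun p : (ZMod 23)ˣ × ZMod 23 => aff p.1 p.2) := by
    rintro ⟨k, c⟩ ⟨k', c'⟩ h
    obtain ⟨e1, e2⟩ := aff_inj k k' c c' h
    rw [e1, e2]
  rw [← SetLike.coe_sort_coe, Nat.card_coe_set_eq, h1, Set.ncard_image_of_injective _ hinj,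
    Set.ncard_coe_finset, card_product, card_sq, card_univ, ZMod.card]

theorem B_le_M24 : Bgrp ≤ M24 := by
  apply (Subgroup.closure_le _).mpr
  rintro g (hg | ⟨u, hu, rfl⟩)
  · rw [Set.mem_singleton_iff] at hg
    rw [hg]
    exact Cfsg.Agent.Lib.Helper9.GolayM24b.shift_mem
  · exact Cfsg.Agent.Lib.Helper9.GolayM24b.mul_square_mem u hu

theorem B_fix_none (g : Equiv.Perm GolayPt) (hg : g ∈ Bgrp) : g none = none := by
  rw [B_eq_affGrp] at hg
  obtain ⟨k, c, _, rfl⟩ := hg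
  rfl

theorem aff_conj_tau (k : (ZMod 23)ˣ) (c : ZMod 23) :
    aff k c * tau * (aff k c)⁻¹ = tau ^ (k : ZMod 23).val := by
  rw [mul_inv_eq_iff_eq_mul, tau_pow, tau_eq, aff_mul, aff_mul, ZMod.natCast_zmod_val, mul_one, one_mul,
    Units.val_one, one_mul, mul_one, add_comm]

theorem aff_normalizes (k : (ZMod 23)ˣ) (c : ZMod 23) :
    aff k c ∈ Subgroup.normalizer (Subgroup.zpowers tau : Set (Equiv.Perm GolayPt)) := by
  apply Subgroup.mem_normalizer_fintype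
  rintro _ ⟨j, rfl⟩
  show aff k c * tau ^ j * (aff k c)⁻¹ ∈ Subgroup.zpowers tau
  rw [← conj_zpow, aff_conj_tau]
  exact Subgroup.zpow_mem _ (Subgroup.pow_mem _ (Subgroup.mem_zpowers tau) _) _

theorem B_le_normalizer :
    Bgrp ≤ Subgroup.normalizer (Subgroup.zpowers tau : Set (Equiv.Perm GolayPt)) := by
  intro g hg
  rw [B_eq_affGrp] at hg
  obtain ⟨k, c, _, rfl⟩ := hg
  exact aff_normalizes k c

/-- the normalizer of the translations in `M23` is `23:11` -/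
theorem mem_B_of_normalizes (g : Equiv.Perm GolayPt) (hg : g ∈ M24) (h0 : g none = none)
    (hn : g ∈ Subgroup.normalizer (Subgroup.zpowers tau : Set (Equiv.Perm GolayPt))) : g ∈ Bgrp := by
  have h1 : g * tau * g⁻¹ ∈ Subgroup.zpowers tau :=
    (Subgroup.mem_normalizer_iff.mp hn tau).mp (Subgroup.mem_zpowers tau)
  obtain ⟨k, c, rfl⟩ := eq_aff_of_normalizes g h0 h1
  exact aff_mem_B k c (isSquare_of_mem k c hg)

end Cfsg.Agent.Lib.Helper9.Mx
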