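import Cfsg.Agent.Lib.Helper9.MxA2

set_option autoImplicit false

/-! Sylow counting for a subgroup of prime order, and normalizers of elements of order 11
in two-point stabilizers of `M24`. -/

namespace Cfsg.Agent.Lib.Helper9.Mx

open Cfsg Finset MulAction Cfsg.Agent.Lib.Helper9.OutM Cfsg.Agent.Lib.Helper9.Idx
  Cfsg.Agent.Lib.Helper9.M24T3

theorem sylow_count {A : Type*} [Group A] [Finite A] (p : ℕ) [hp : Fact p.Prime] (x : A)
    (hx : orderOf x = p) (hp2 : ¬ p ^ 2 ∣ Nat.card A) :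
    ∃ m, Nat.card A = Nat.card (Subgroup.normalizer (Subgroup.zpowers x : Set A)) * m ∧
      m % p = 1 := by
  have hA0 : Nat.card A ≠ 0 := Nat.card_pos.ne'
  have hdvd : p ∣ Nat.card A := hx ▸ orderOf_dvd_natCard x
  have hk : (Nat.card A).factorization p = 1 := by
    have h1 : 1 ≤ (Nat.card A).factorization p :=
      (hp.out.dvd_iff_one_le_factorization hA0).mp hdvd
    have h2 : ¬ 2 ≤ (Nat.card A).factorization p :=
      fun h => hp2 ((hp.out.pow_dvd_iff_le_factorization hA0).mpr h)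
    omega
  have hc : Nat.card (Subgroup.zpowers x) = p ^ (Nat.card A).factorization p := by
    rw [Nat.card_zpowers, hx, hk, pow_one]
  have h1 := card_sylow_modEq_one p A
  have h3 := Sylow.card_eq_index_normalizer (Sylow.ofCard (Subgroup.zpowers x) hc)
  refine ⟨Nat.card (Sylow p A), ?_, ?_⟩
  · rw [h3]
    exact (Subgroup.card_mul_index _).symm
  · unfold Nat.ModEq at h1
    rw [h1]
    exact Nat.mod_eq_of_lt hp.out.one_lt

theorem conj_pow_eq {A : Type*} [Group A] (g h : A) (k : ℕ) (hk : g * h * g⁻¹ = h ^ k) (i : ℕ) :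
    g ^ i * h * (g ^ i)⁻¹ = h ^ (k ^ i) := by
  induction i with
  | zero => simp
  | succ i ih =>
    have : g ^ (i + 1) * h * (g ^ (i + 1))⁻¹ = g * (g ^ i * h * (g ^ i)⁻¹) * g⁻¹ := by
      rw [pow_succ']
      group
    rw [this, ih, ← conj_pow, hk, ← pow_mul, pow_succ']

theorem conj_exponent {A : Type*} [Group A] (g h : A) (ho : orderOf h = 11)
    (hn : g * h * g⁻¹ ∈ Subgroup.zpowers h) (r : ℕ) (hg : g ^ r = 1) :
    ∃ j < 11, j ^ r % 11 = 1 ∧ g * h * g⁻¹ = h ^ j := by
  have hfin : IsOfFinOrder h := by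
    rw [← orderOf_pos_iff, ho]
    norm_num
  obtain ⟨k, hk⟩ := (hfin.mem_powers_iff_mem_zpowers).mpr hn
  have hk' : g * h * g⁻¹ = h ^ k := hk.symm
  have h1 := conj_pow_eq g h k hk' r
  rw [hg, one_mul, inv_one, mul_one] at h1
  have h2 : h ^ (k ^ r) = h ^ 1 := by rw [← h1, pow_one]
  rw [pow_eq_pow_iff_modEq, ho] at h2
  unfold Nat.ModEq at h2
  refine ⟨k % 11, Nat.mod_lt _ (by norm_num), ?_, ?_⟩
  · rw [← Nat.pow_mod, h2]
  · rw [hk', ← ho, pow_mod_orderOf]

theorem three_pow : ∀ j < 11, j ^ 3 % 11 = 1 → j = 1 := by decide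

theorem seven_pow : ∀ j < 11, j ^ 7 % 11 = 1 → j = 1 := by decide

theorem two_pow : ∀ j < 11, j ^ 2 % 11 = 1 → j = 1 ∨ j = 10 := by decide

theorem fix_mod_of_commute (g h : Equiv.Perm GolayPt) (hcomm : g * h = h * g) (hh : h ^ 11 = 1)
    (p q : GolayPt) (hpq : p ≠ q) (hfh : fixF h = {p, q}) (hg : {p, q} ⊆ fixF g) :
    (fixF g).card % 11 = 2 := by
  haveI : Fact (Nat.Prime 11) := ⟨by norm_num⟩
  have h1 := card_modEq_fix h 11 hh (fixF g) (by
    intro b hb
    rw [mem_fixF] at hb ⊢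
    have := congrArg (fun f : Equiv.Perm GolayPt => f b) hcomm
    simp only [Equiv.Perm.mul_apply] at this
    rw [this, hb])
  rw [hfh, inter_eq_right.mpr hg, card_pair hpq] at h1
  exact h1

theorem fixF_eleven (h : Equiv.Perm GolayPt) (hM : h ∈ M24) (hh1 : h ≠ 1) (hh11 : h ^ 11 = 1)
    (p q : GolayPt) (hpq : p ≠ q) (hp : h p = p) (hq : h q = q) : fixF h = {p, q} := by
  have hc := card_fixF_prime h hM hh1 11 (by norm_num) hh11
  symm
  apply eq_of_subset_of_card_le
  · intro a ha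
    rw [mem_insert, mem_singleton] at ha
    rcases ha with rfl | rfl
    · exact (mem_fixF h _).mpr hp
    · exact (mem_fixF h _).mpr hq
  · rw [hc, card_pair hpq]

theorem pow_fix_imp (h : Equiv.Perm GolayPt) (hM : h ∈ M24) (hh11 : h ^ 11 = 1)
    (p q : GolayPt) (hpq : p ≠ q) (hp : h p = p) (hq : h q = q) (x : GolayPt) (hxp : x ≠ p)
    (hxq : x ≠ q) (i : ℕ) (hi : (h ^ i) x = x) : h ^ i = 1 := by
  by_contra hne
  have hp' : (h ^ i) p = p := by
    have : h ^ i ∈ stabilizer (Equiv.Perm GolayPt) p := Subgroup.pow_mem _ (mem_stabilizer_iff.mpr hp) _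
    exact mem_stabilizer_iff.mp this
  have hq' : (h ^ i) q = q := by
    have : h ^ i ∈ stabilizer (Equiv.Perm GolayPt) q := Subgroup.pow_mem _ (mem_stabilizer_iff.mpr hq) _
    exact mem_stabilizer_iff.mp this
  have h11 : (h ^ i) ^ 11 = 1 := by rw [← pow_mul, mul_comm, pow_mul, hh11, one_pow]
  have hf := fixF_eleven (h ^ i) (M24.pow_mem hM _) hne h11 p q hpq hp' hq'
  have : x ∈ fixF (h ^ i) := (mem_fixF _ _).mpr hi
  rw [hf, mem_insert, mem_singleton] at this
  rcases this with e | e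
  · exact hxp e
  · exact hxq e

/-- no involution fixing two points inverts an element of order 11 fixing them -/
theorem no_invert (g h : Equiv.Perm GolayPt) (hgM : g ∈ M24) (hhM : h ∈ M24) (hg2 : g ^ 2 = 1)
    (hg1 : g ≠ 1) (hh1 : h ≠ 1) (hh11 : h ^ 11 = 1) (hinv : g * h * g⁻¹ = h ^ 10)
    (p q : GolayPt) (hpq : p ≠ q) (hgp : g p = p) (hgq : g q = q) (hp : h p = p) (hq : h q = q) :
    False := by
  haveI : Fact (Nat.Prime 11) := ⟨by norm_num⟩
  have hfh := fixF_eleven h hhM hh1 hh11 p q hpq hp hq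
  have hpg : p ∈ fixF g := (mem_fixF g p).mpr hgp
  have hqg : q ∈ fixF g := (mem_fixF g q).mpr hgq
  have hc8 : (fixF g).card = 8 := by
    rcases card_fixF_involution g hgM hg2 hg1 with h0 | h8
    · rw [card_eq_zero] at h0
      rw [h0] at hpg
      exact absurd hpg (notMem_empty _)
    · exact h8
  have hsub : ({p, q} : Finset GolayPt) ⊆ fixF g := by
    intro a ha
    rw [mem_insert, mem_singleton] at ha
    rcases ha with rfl | rfl
    · exact hpg
    · exact hqg
  have hc6 : (fixF g \ {p, q}).card = 6 := by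
    rw [card_sdiff_of_subset hsub, hc8, card_pair hpq]
  obtain ⟨x, y, z, hx, hy, hz, hxy, hxz, hyz⟩ := Finset.two_lt_card_iff.mp (by rw [hc6]; norm_num)
  have hL : Lvl (Subgroup.zpowers h) {p, q} := by
    constructor
    · exact (Subgroup.zpowers_le).mpr hhM
    · intro k hk a ha
      have : a ∈ fixF h := by rw [hfh]; exact ha
      have h1 : h ∈ stabilizer (Equiv.Perm GolayPt) a := mem_stabilizer_iff.mpr ((mem_fixF h a).mp this)
      exact mem_stabilizer_iff.mp ((Subgroup.zpowers_le).mpr h1 hk)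
  have hfinh : IsOfFinOrder h := isOfFinOrder_of_finite h
  -- fixed points of `g` in the same orbit coincide
  have key : ∀ x y, x ∈ fixF g \ {p, q} → y ∈ fixF g \ {p, q} →
      y ∈ orbF (Subgroup.zpowers h) x → y = x := by
    intro x y hx hy hyx
    obtain ⟨k, hk, rfl⟩ := (mem_orbF _ _ _).mp hyx
    obtain ⟨i, rfl⟩ := (hfinh.mem_powers_iff_mem_zpowers).mpr hk
    change (h ^ i) x = x
    obtain ⟨hxg, hxn⟩ := mem_sdiff.mp hx
    obtain ⟨hyg, _⟩ := mem_sdiff.mp hy
    rw [mem_fixF] at hxg hyg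
    rw [mem_insert, mem_singleton, not_or] at hxn
    have h1 : g * h ^ i = (h ^ 10) ^ i * g := by
      rw [← hinv, conj_pow]
      group
    have h2 := congrArg (fun f : Equiv.Perm GolayPt => f x) h1
    simp only [Equiv.Perm.mul_apply] at h2
    rw [hxg] at h2
    change g ((h ^ i) x) = _ at h2
    rw [hyg] at h2
    have h3 : (h ^ (2 * i)) x = x := by
      have : h ^ (2 * i) = h ^ i * h ^ i := by rw [two_mul, pow_add]
      rw [this, Equiv.Perm.mul_apply]
      nth_rewrite 1 [h2]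
      rw [← Equiv.Perm.mul_apply, ← pow_mul, ← pow_add]
      have : i + 10 * i = 11 * i := by ring
      rw [this, pow_mul, hh11, one_pow]
      rfl
    have h4 := pow_fix_imp h hhM hh11 p q hpq hp hq x hxn.1 hxn.2 (2 * i) h3
    have h5 : h ^ i = 1 := by
      have h6 : (h ^ i) ^ 2 = 1 := by rw [← pow_mul, mul_comm]; exact h4
      have h7 : (h ^ i) ^ 11 = 1 := by rw [← pow_mul, mul_comm, pow_mul, hh11, one_pow]
      exact eq_one_of_pow_coprime (h ^ i) 2 11 h6 h7 (by norm_num)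
    rw [h5]
    rfl
  have hnot : ∀ x, x ∈ fixF g \ {p, q} → x ∉ ({p, q} : Finset GolayPt) :=
    fun x hx => (mem_sdiff.mp hx).2
  have hcard : ∀ x, x ∈ fixF g \ {p, q} → 11 ≤ (orbF (Subgroup.zpowers h) x).card := by
    intro x hx
    have h1 := hL.orb_mod_zero x (hnot x hx) h (Subgroup.mem_zpowers h) 11 hh11 hfh
    have h2 : 0 < (orbF (Subgroup.zpowers h) x).card :=
      card_pos.mpr ⟨x, self_mem_orbF _ _⟩
    omega
  have hd1 : Disjoint (orbF (Subgroup.zpowers h) x) (orbF (Subgroup.zpowers h) y) := by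
    rw [disjoint_left]
    intro w hw1 hw2
    have e1 := orbF_eq_of_mem _ _ _ hw1
    have e2 := orbF_eq_of_mem _ _ _ hw2
    have : y ∈ orbF (Subgroup.zpowers h) x := by
      rw [← e1, e2]
      exact self_mem_orbF _ _
    exact hxy (key x y hx hy this).symm
  have hd2 : Disjoint (orbF (Subgroup.zpowers h) x ∪ orbF (Subgroup.zpowers h) y)
      ({p, q} : Finset GolayPt) := by
    rw [disjoint_union_left]
    exact ⟨hL.orb_disjoint x (hnot x hx), hL.orb_disjoint y (hnot y hy)⟩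
  have hz' : z ∉ (orbF (Subgroup.zpowers h) x ∪ orbF (Subgroup.zpowers h) y) ∪ {p, q} := by
    rw [mem_union, mem_union, not_or, not_or]
    refine ⟨⟨?_, ?_⟩, hnot z hz⟩
    · intro hmem
      exact hxz (key x z hx hz hmem).symm
    · intro hmem
      exact hyz (key y z hy hz hmem).symm
  have htot := card_le_univ (insert z ((orbF (Subgroup.zpowers h) x ∪ orbF (Subgroup.zpowers h) y)
    ∪ {p, q}))
  rw [card_insert_of_notMem hz', card_union_of_disjoint hd2, card_union_of_disjoint hd1,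
    card_pair hpq, Cfsg.Agent.Lib.Helper9.GolayQR5.card_golayPt] at htot
  have := hcard x hx
  have := hcard y hy
  omega

/-- a subgroup of the two-point stabilizer normalizing an element of order 11 has order
dividing 55 -/
theorem card_dvd_55 (W : Subgroup (Equiv.Perm GolayPt)) (p q : GolayPt) (hpq : p ≠ q)
    (hL : Lvl W {p, q}) (h : Equiv.Perm GolayPt) (hhW : h ∈ W) (hh1 : h ≠ 1) (hh11 : h ^ 11 = 1)
    (hn : W ≤ Subgroup.normalizer (Subgroup.zpowers h : Set (Equiv.Perm GolayPt))) :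
    Nat.card W ∣ 55 := by
  haveI : Fact (Nat.Prime 11) := ⟨by norm_num⟩
  haveI : Fact (Nat.Prime 2) := ⟨by norm_num⟩
  haveI : Fact (Nat.Prime 3) := ⟨by norm_num⟩
  haveI : Fact (Nat.Prime 7) := ⟨by norm_num⟩
  have ho : orderOf h = 11 := orderOf_eq_prime hh11 hh1
  have hW0 : Nat.card W ≠ 0 := Nat.card_pos.ne'
  have hhM := hL.le hhW
  have hpm : p ∈ ({p, q} : Finset GolayPt) := mem_insert_self _ _
  have hqm : q ∈ ({p, q} : Finset GolayPt) := mem_insert_of_mem (mem_singleton_self _)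
  have hfh := fixF_eleven h hhM hh1 hh11 p q hpq (hL.fix h hhW p hpm) (hL.fix h hhW q hqm)
  have hnorm : ∀ g ∈ W, g * h * g⁻¹ ∈ Subgroup.zpowers h := fun g hg =>
    (Subgroup.mem_normalizer_iff.mp (hn hg) h).mp (Subgroup.mem_zpowers h)
  have hcomm_of : ∀ g ∈ W, g * h * g⁻¹ = h ^ 1 → (fixF g).card % 11 = 2 := by
    intro g hg e
    rw [pow_one] at e
    have hcomm : g * h = h * g := by
      calc g * h = g * h * g⁻¹ * g := by group
        _ = h * g := by rw [e]
    exact fix_mod_of_commute g h hcomm hh11 p q hpq hfh (hL.subset_fixF g hg)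
  have h3 : ¬ 3 ∣ Nat.card W := by
    intro hd
    obtain ⟨g, hg, hg1, hg3⟩ := exists_prime_order W 3 hd hW0
    obtain ⟨j, hj, hj1, hj2⟩ := conj_exponent g h ho (hnorm g hg) 3 hg3
    have := three_pow j hj hj1
    subst this
    have h1 := hcomm_of g hg hj2
    rcases card_fixF_three g (hL.le hg) hg1 hg3 with h0 | h6 <;> omega
  have h7 : ¬ 7 ∣ Nat.card W := by
    intro hd
    obtain ⟨g, hg, hg1, hg7⟩ := exists_prime_order W 7 hd hW0
    obtain ⟨j, hj, hj1, hj2⟩ := conj_exponent g h ho (hnorm g hg) 7 hg7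
    have := seven_pow j hj hj1
    subst this
    have h1 := hcomm_of g hg hj2
    have h2 := card_fixF_prime g (hL.le hg) hg1 7 (by norm_num) hg7
    omega
  have h2 : ¬ 2 ∣ Nat.card W := by
    intro hd
    obtain ⟨g, hg, hg1, hg2⟩ := exists_prime_order W 2 hd hW0
    obtain ⟨j, hj, hj1, hj2⟩ := conj_exponent g h ho (hnorm g hg) 2 hg2
    rcases two_pow j hj hj1 with rfl | rfl
    · have h1 := hcomm_of g hg hj2
      rcases card_fixF_involution g (hL.le hg) hg2 hg1 with h0 | h8 <;> omega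
    · exact no_invert g h (hL.le hg) hhM hg2 hg1 hh1 hh11 hj2 p q hpq (hL.fix g hg p hpm)
        (hL.fix g hg q hqm) (hL.fix h hhW p hpm) (hL.fix h hhW q hqm)
  have hdvd : Nat.card W ∣ 443520 :=
    lvl_card_dvd hL [p, q] (by
      intro x hx
      simp only [List.mem_cons, List.not_mem_nil, or_false] at hx
      rcases hx with rfl | rfl
      · exact hpm
      · exact hqm) 443520 (Cfsg.Agent.Lib.Helper9.M24T7.card_fix_two p q hpq)
  have c2 : Nat.Coprime (Nat.card W) 2 := ((Nat.Prime.coprime_iff_not_dvd Nat.prime_two).mpr h2).symm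
  have c3 : Nat.Coprime (Nat.card W) 3 :=
    ((Nat.Prime.coprime_iff_not_dvd Nat.prime_three).mpr h3).symm
  have c7 : Nat.Coprime (Nat.card W) 7 :=
    ((Nat.Prime.coprime_iff_not_dvd (by norm_num : Nat.Prime 7)).mpr h7).symm
  have c : Nat.Coprime (Nat.card W) (2 ^ 7 * 3 ^ 2 * 7) :=
    Nat.Coprime.mul_right (Nat.Coprime.mul_right (Nat.Coprime.pow_right 7 c2)
      (Nat.Coprime.pow_right 2 c3)) c7
  have e : (443520 : ℕ) = (2 ^ 7 * 3 ^ 2 * 7) * 55 := by norm_num
  rw [e] at hdvd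
  exact c.dvd_of_dvd_mul_left hdvd

end Cfsg.Agent.Lib.Helper9.Mx
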