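import Cfsg.Agent.Lib.Helper9.MxA3

set_option autoImplicit false

/-! Subgroups of `M23` containing `23:11`. -/

namespace Cfsg.Agent.Lib.Helper9.Mx

open Cfsg Finset MulAction Cfsg.Agent.Lib.Helper9.OutM Cfsg.Agent.Lib.Helper9.Idx
  Cfsg.Agent.Lib.Helper9.M24T3

theorem zpowers_subgroupOf {G : Type*} [Group G] (X : Subgroup G) (t : G) (ht : t ∈ X) :
    (Subgroup.zpowers t).subgroupOf X = Subgroup.zpowers (⟨t, ht⟩ : X) := by
  ext y
  rw [Subgroup.mem_subgroupOf, Subgroup.mem_zpowers_iff, Subgroup.mem_zpowers_iff]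
  constructor
  · rintro ⟨n, hn⟩
    exact ⟨n, Subtype.ext (by rw [Subgroup.coe_zpow]; exact hn)⟩
  · rintro ⟨n, hn⟩
    refine ⟨n, ?_⟩
    rw [← hn, Subgroup.coe_zpow]

theorem normalizer_card {G : Type*} [Group G] (X : Subgroup G) (t : G) (ht : t ∈ X) :
    Nat.card (Subgroup.normalizer (Subgroup.zpowers (⟨t, ht⟩ : X) : Set X)) =
      Nat.card ↥(Subgroup.normalizer (Subgroup.zpowers t : Set G) ⊓ X) := by
  have h1 : Subgroup.zpowers t ≤ X := (Subgroup.zpowers_le).mpr ht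
  rw [← zpowers_subgroupOf X t ht, ← Subgroup.subgroupOf_normalizer_eq h1,
    ← Subgroup.subgroupOf_map_subtype,
    Subgroup.card_map_of_injective (Subgroup.subtype_injective X)]

/-- the group `M23` as in the statement -/
abbrev M23' : Subgroup (Equiv.Perm GolayPt) := M24 ⊓ stabilizer (Equiv.Perm GolayPt) (none : GolayPt)

theorem M23'_eq : M23' = fixL M24 [none] := by
  have := fixL_snoc M24 [] none
  rw [fixL_nil] at this
  exact this.symm

theorem card_M23' : Nat.card M23' = 10200960 := by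
  rw [M23'_eq]
  exact Cfsg.Agent.Lib.Helper9.M24T7.card_fix_point none

theorem div_list : ∀ j < 1754, (23 * j + 1) ∣ 40320 →
    j = 0 ∨ j = 1 ∨ j = 3 ∨ j = 25 ∨ j = 73 ∨ j = 1753 := by decide +kernel

theorem div_cases (m : ℕ) (hm : m ∣ 40320) (h23 : m % 23 = 1) :
    m = 1 ∨ m = 24 ∨ m = 70 ∨ m = 576 ∨ m = 1680 ∨ m = 40320 := by
  have hle : m ≤ 40320 := Nat.le_of_dvd (by norm_num) hm
  have e : m = 23 * (m / 23) + 1 := by omega
  have h1 := div_list (m / 23) (by omega) (by rw [← e]; exact hm)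
  omega

/-- a square of order 11 -/
def u0 : (ZMod 23)ˣ := ⟨2, 12, by decide, by decide⟩

theorem u0_sq : IsSquare u0 := by decide

theorem u0_pow : u0 ^ 11 = 1 := by decide

theorem aff_pow (k : (ZMod 23)ˣ) (n : ℕ) : (aff k 0) ^ n = aff (k ^ n) 0 := by
  induction n with
  | zero => rw [pow_zero, pow_zero, aff_one]
  | succ n ih => rw [pow_succ, ih, aff_mul, mul_zero, zero_add, pow_succ]

theorem h0_pow : (aff u0 0) ^ 11 = 1 := by rw [aff_pow, u0_pow, aff_one]

theorem h0_ne_one : aff u0 0 ≠ 1 := by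
  intro e
  have := congrArg (fun g : Equiv.Perm GolayPt => g (some 1)) e
  revert this
  decide

theorem orbF_eq (X : Subgroup (Equiv.Perm GolayPt)) (hBX : Bgrp ≤ X) (hXM : X ≤ M23') :
    orbF X (some 0) = univ.erase none := by
  ext a
  rw [mem_orbF, mem_erase]
  constructor
  · rintro ⟨g, hg, rfl⟩
    refine ⟨?_, mem_univ _⟩
    intro e
    have h1 : g none = none := mem_stabilizer_iff.mp (hXM hg).2
    rw [← h1] at e
    exact absurd (g.injective e) (by simp)
  · rintro ⟨hne, _⟩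
    obtain ⟨t, rfl⟩ := Option.ne_none_iff_exists'.mp hne
    refine ⟨aff 1 t, hBX (aff_mem_B 1 t IsSquare.one), ?_⟩
    rw [aff_some, mul_zero, zero_add]

theorem arith (m1 m2 c : ℕ) (h1 : m1 = 1 ∨ m1 = 24 ∨ m1 = 70 ∨ m1 = 576 ∨ m1 = 1680 ∨ m1 = 40320)
    (hc : c = 11 ∨ c = 55) (h2 : m2 % 11 = 1) (e : 11 * m1 = c * m2) : m1 = 1 ∨ m1 = 40320 := by
  rcases h1 with rfl | rfl | rfl | rfl | rfl | rfl <;> rcases hc with rfl | rfl <;> omega

/-- subgroups between `23:11` and `M23` -/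
theorem dichotomy (X : Subgroup (Equiv.Perm GolayPt)) (hBX : Bgrp ≤ X) (hXM : X ≤ M23') :
    X = Bgrp ∨ X = M23' := by
  haveI : Fact (Nat.Prime 23) := ⟨by norm_num⟩
  haveI : Fact (Nat.Prime 11) := ⟨by norm_num⟩
  have hXdvd : Nat.card X ∣ 10200960 := by
    rw [← card_M23']
    exact Subgroup.card_dvd_of_le hXM
  -- Sylow 23
  have htX : tau ∈ X := hBX tau_mem_B
  have ho : orderOf (⟨tau, htX⟩ : X) = 23 := by rw [Subgroup.orderOf_mk, orderOf_tau]
  obtain ⟨m1, hm1, hm1'⟩ := sylow_count 23 (⟨tau, htX⟩ : X) ho (by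
    intro hd
    have := hd.trans hXdvd
    norm_num at this)
  have hN : Subgroup.normalizer (Subgroup.zpowers tau : Set (Equiv.Perm GolayPt)) ⊓ X = Bgrp := by
    apply le_antisymm
    · rintro g ⟨hg1, hg2⟩
      exact mem_B_of_normalizes g (hXM hg2).1 (mem_stabilizer_iff.mp (hXM hg2).2) hg1
    · exact le_inf B_le_normalizer hBX
  rw [normalizer_card X tau htX, hN, card_B] at hm1
  have hm1d : m1 ∣ 40320 := by
    rw [hm1] at hXdvd
    have e : (10200960 : ℕ) = 253 * 40320 := by norm_num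
    rw [e] at hXdvd
    exact Nat.dvd_of_mul_dvd_mul_left (by norm_num) hXdvd
  have hm1c := div_cases m1 hm1d hm1'
  -- point stabilizer
  have horb := card_orbF X (some 0)
  rw [orbF_eq X hBX hXM, card_erase_of_mem (mem_univ _), card_univ,
    Cfsg.Agent.Lib.Helper9.GolayQR5.card_golayPt, hm1] at horb
  have hX0 : Nat.card ↥(X ⊓ stabilizer (Equiv.Perm GolayPt) (some 0 : GolayPt)) = 11 * m1 := by
    omega
  -- Sylow 11
  have hhX : aff u0 0 ∈ X ⊓ stabilizer (Equiv.Perm GolayPt) (some 0 : GolayPt) := by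
    refine ⟨hBX (aff_mem_B u0 0 u0_sq), mem_stabilizer_iff.mpr ?_⟩
    show aff u0 0 (some 0) = some 0
    rw [aff_some, mul_zero, zero_add]
  have ho11 : orderOf (aff u0 0) = 11 := orderOf_eq_prime h0_pow h0_ne_one
  have ho' : orderOf (⟨aff u0 0, hhX⟩ : ↥(X ⊓ stabilizer (Equiv.Perm GolayPt) (some 0 : GolayPt))) = 11 := by
    rw [Subgroup.orderOf_mk, ho11]
  obtain ⟨m2, hm2, hm2'⟩ := sylow_count 11
    (⟨aff u0 0, hhX⟩ : ↥(X ⊓ stabilizer (Equiv.Perm GolayPt) (some 0 : GolayPt))) ho' (by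
    intro hd
    have h1 : Nat.card ↥(X ⊓ stabilizer (Equiv.Perm GolayPt) (some 0 : GolayPt)) ∣ Nat.card X :=
      Subgroup.card_dvd_of_le inf_le_left
    have := (hd.trans h1).trans hXdvd
    norm_num at this)
  rw [normalizer_card _ (aff u0 0) hhX, hX0] at hm2
  have hL : Lvl (Subgroup.normalizer (Subgroup.zpowers (aff u0 0) : Set (Equiv.Perm GolayPt)) ⊓
      (X ⊓ stabilizer (Equiv.Perm GolayPt) (some 0 : GolayPt))) {none, some 0} := by
    constructor
    · rintro g ⟨_, hg, _⟩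
      exact (hXM hg).1
    · rintro g ⟨_, hg, hg0⟩ a ha
      rw [mem_insert, mem_singleton] at ha
      rcases ha with rfl | rfl
      · exact mem_stabilizer_iff.mp (hXM hg).2
      · exact mem_stabilizer_iff.mp hg0
  have hW55 := card_dvd_55 _ none (some 0) (by simp) hL (aff u0 0)
    ⟨Subgroup.le_normalizer (Subgroup.mem_zpowers _), hhX⟩ h0_ne_one h0_pow inf_le_left
  have hW11 : 11 ∣ Nat.card ↥(Subgroup.normalizer (Subgroup.zpowers (aff u0 0) :
      Set (Equiv.Perm GolayPt)) ⊓ (X ⊓ stabilizer (Equiv.Perm GolayPt) (some 0 : GolayPt))) := by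
    have h1 : Subgroup.zpowers (aff u0 0) ≤
        Subgroup.normalizer (Subgroup.zpowers (aff u0 0) : Set (Equiv.Perm GolayPt)) ⊓
          (X ⊓ stabilizer (Equiv.Perm GolayPt) (some 0 : GolayPt)) :=
      (Subgroup.zpowers_le).mpr ⟨Subgroup.le_normalizer (Subgroup.mem_zpowers _), hhX⟩
    have h2 := Subgroup.card_dvd_of_le h1
    rw [Nat.card_zpowers, ho11] at h2
    exact h2
  have hWc : ∀ c : ℕ, c ∣ 55 → 11 ∣ c → c = 11 ∨ c = 55 := by
    intro c hc1 hc2
    have hmem : c ∈ Nat.divisors 55 := Nat.mem_divisors.mpr ⟨hc1, by norm_num⟩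
    have hdiv : Nat.divisors 55 = {1, 5, 11, 55} := by decide
    rw [hdiv] at hmem
    simp only [mem_insert, mem_singleton] at hmem
    rcases hmem with rfl | rfl | rfl | rfl
    · norm_num at hc2
    · norm_num at hc2
    · left; rfl
    · right; rfl
  have hfin := arith m1 m2 _ hm1c (hWc _ hW55 hW11) hm2' hm2
  rcases hfin with rfl | rfl
  · left
    symm
    apply Subgroup.eq_of_le_of_card_ge hBX
    rw [hm1, card_B]
  · right
    apply Subgroup.eq_of_le_of_card_ge hXM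
    rw [hm1, card_M23']

end Cfsg.Agent.Lib.Helper9.Mx
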