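import Cfsg.Agent.Lib.Helper9.MxA4

set_option autoImplicit false

/-! The group `PSL(2,23)` inside `M24`: an invariant of triples of points. -/

namespace Cfsg.Agent.Lib.Helper9.Mx

open Cfsg Finset MulAction Cfsg.Agent.Lib.Helper9.OutM Cfsg.Agent.Lib.Helper9.Idx
  Cfsg.Agent.Lib.Helper9.M24T3

def chi (x : ZMod 23) : Bool := x ^ 11 == 1

def orient : GolayPt → GolayPt → GolayPt → Bool
  | none, some b, some c => chi (c - b)
  | some a, none, some c => chi (a - c)
  | some a, some b, none => chi (b - a)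
  | some a, some b, some c => chi ((a - b) * (b - c) * (c - a))
  | _, _, _ => false

def Pres (g : Equiv.Perm GolayPt) : Prop := ∀ a b c, orient (g a) (g b) (g c) = orient a b c

theorem pres_tau : Pres tau := by
  unfold Pres
  decide +kernel

theorem pres_projInv : Pres projInv := by
  unfold Pres
  decide +kernel

theorem chi_mul : ∀ k x : ZMod 23, chi k = true → chi (k * x) = chi x := by decide +kernel

theorem chi_sq : ∀ v : (ZMod 23)ˣ, chi ((v * v : (ZMod 23)ˣ) : ZMod 23) = true := by decide +kernel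

theorem pres_mu (u : (ZMod 23)ˣ) (hu : IsSquare u) : Pres (mu u) := by
  obtain ⟨v, rfl⟩ := hu
  have hk := chi_sq v
  have hs : ∀ t, mu (v * v) (some t) = some (((v * v : (ZMod 23)ˣ) : ZMod 23) * t) := fun t => rfl
  have hn : mu (v * v) none = none := rfl
  generalize ((v * v : (ZMod 23)ˣ) : ZMod 23) = k at hk hs
  intro a b c
  cases a <;> cases b <;> cases c <;> simp only [hs, hn, orient]
  · rw [← mul_sub, chi_mul k _ hk]
  · rw [← mul_sub, chi_mul k _ hk]
  · rw [← mul_sub, chi_mul k _ hk]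
  · rename_i a b c
    have : (k * a - k * b) * (k * b - k * c) * (k * c - k * a) =
        k * (k * (k * ((a - b) * (b - c) * (c - a)))) := by ring
    rw [this, chi_mul k _ hk, chi_mul k _ hk, chi_mul k _ hk]

def presGrp : Subgroup (Equiv.Perm GolayPt) where
  carrier := {g | Pres g}
  mul_mem' := by
    intro g h hg hh a b c
    show orient (g (h a)) (g (h b)) (g (h c)) = _
    rw [hg, hh]
  one_mem' := fun _ _ _ => rfl
  inv_mem' := by
    intro g hg a b c
    have := hg (g⁻¹ a) (g⁻¹ b) (g⁻¹ c)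
    simp only [Equiv.Perm.inv_def, Equiv.apply_symm_apply] at this
    exact this.symm

/-- the group `PSL(2,23)` -/
def Lgrp : Subgroup (Equiv.Perm GolayPt) :=
  Subgroup.closure ({Equiv.optionCongr (Equiv.addRight (1 : ZMod 23)), Cfsg.projInv} ∪ sqGens)

theorem L_le_pres : Lgrp ≤ presGrp := by
  apply (Subgroup.closure_le _).mpr
  rintro g (hg | ⟨u, hu, rfl⟩)
  · rw [Set.mem_insert_iff, Set.mem_singleton_iff] at hg
    rcases hg with rfl | rfl
    · exact pres_tau
    · exact pres_projInv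
  · exact pres_mu u hu

theorem L_le_M24 : Lgrp ≤ M24 := by
  apply (Subgroup.closure_le _).mpr
  rintro g (hg | ⟨u, hu, rfl⟩)
  · rw [Set.mem_insert_iff, Set.mem_singleton_iff] at hg
    rcases hg with rfl | rfl
    · exact Cfsg.Agent.Lib.Helper9.GolayM24b.shift_mem
    · exact Cfsg.Agent.Lib.Helper9.GolayM24b.projInv_mem
  · exact Cfsg.Agent.Lib.Helper9.GolayM24b.mul_square_mem u hu

theorem B_le_L : Bgrp ≤ Lgrp := by
  apply Subgroup.closure_mono
  apply Set.union_subset_union_left
  intro g hg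
  rw [Set.mem_singleton_iff] at hg
  rw [hg]
  exact Set.mem_insert _ _

theorem projInv_mem_L : projInv ∈ Lgrp :=
  Subgroup.subset_closure (Or.inl (Set.mem_insert_of_mem _ rfl))

theorem cubeTwist_not_pres : cubeTwist ∉ presGrp := by
  intro h
  have h1 := h none (some 1) (some 2)
  have e : ∀ p, cubeTwist p = cubeTwistFun p := fun p => rfl
  rw [e, e, e] at h1
  revert h1
  decide

theorem cubeTwist_not_mem_L : cubeTwist ∉ Lgrp := fun h => cubeTwist_not_pres (L_le_pres h)

theorem cubeTwist_mem_M23' : cubeTwist ∈ M23' :=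
  ⟨Cfsg.Agent.Lib.Helper9.GolayM24b.cubeTwist_mem, mem_stabilizer_iff.mpr rfl⟩

theorem B_le_stab (Y : Subgroup (Equiv.Perm GolayPt)) (hY : Bgrp ≤ Y) :
    Bgrp ≤ Y ⊓ stabilizer (Equiv.Perm GolayPt) (none : GolayPt) :=
  fun g hg => ⟨hY hg, mem_stabilizer_iff.mpr (B_fix_none g hg)⟩

/-- orbit-stabilizer for overgroups of `PSL(2,23)` -/
theorem card_over (Y : Subgroup (Equiv.Perm GolayPt)) (hLY : Lgrp ≤ Y) :
    Nat.card Y = 24 * Nat.card ↥(Y ⊓ stabilizer (Equiv.Perm GolayPt) (none : GolayPt)) := by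
  have h1 := card_orbF Y none
  have h2 : orbF Y none = univ := by
    ext a
    rw [mem_orbF]
    refine ⟨fun _ => mem_univ _, fun _ => ?_⟩
    cases a with
    | none => exact ⟨1, Y.one_mem, rfl⟩
    | some t =>
      refine ⟨aff 1 t * projInv, Y.mul_mem (hLY (B_le_L (aff_mem_B 1 t IsSquare.one)))
        (hLY projInv_mem_L), ?_⟩
      rw [Equiv.Perm.mul_apply]
      have : projInv none = some 0 := rfl
      rw [this, aff_some, mul_zero, zero_add]
  rw [h2, card_univ, Cfsg.Agent.Lib.Helper9.GolayQR5.card_golayPt] at h1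
  exact h1

theorem L_stab : Lgrp ⊓ stabilizer (Equiv.Perm GolayPt) (none : GolayPt) = Bgrp := by
  rcases dichotomy _ (B_le_stab Lgrp B_le_L) (inf_le_inf_right _ L_le_M24) with h | h
  · exact h
  · exfalso
    have : cubeTwist ∈ Lgrp ⊓ stabilizer (Equiv.Perm GolayPt) (none : GolayPt) := by
      rw [h]
      exact cubeTwist_mem_M23'
    exact cubeTwist_not_mem_L this.1

theorem card_L : Nat.card Lgrp = 6072 := by
  rw [card_over Lgrp le_rfl, L_stab, card_B]

/-- subgroups between `PSL(2,23)` and `M24` -/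
theorem dichotomy_L (Y : Subgroup (Equiv.Perm GolayPt)) (hLY : Lgrp ≤ Y) (hYM : Y ≤ M24) :
    Y = Lgrp ∨ Y = M24 := by
  have hc := card_over Y hLY
  rcases dichotomy _ (B_le_stab Y (B_le_L.trans hLY)) (inf_le_inf_right _ hYM) with h | h
  · left
    symm
    haveI : Finite ↥Y := inferInstance
    apply Subgroup.eq_of_le_of_card_ge hLY
    rw [hc, h, card_B, card_L]
  · right
    apply Subgroup.eq_of_le_of_card_ge hYM
    rw [hc, h, card_M23', Cfsg.Agent.Lib.Helper9.M24T4.card_M24]

end Cfsg.Agent.Lib.Helper9.Mx
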