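import Cfsg.Agent.Lib.Helper9.MxA5

set_option autoImplicit false

/-! Maximality of `PSL(2,23)` in `M24` and of `23:11` in `M23`. -/

namespace Cfsg.Agent.Lib.Helper9.Mx

open Cfsg Finset MulAction Cfsg.Agent.Lib.Helper9.OutM Cfsg.Agent.Lib.Helper9.Idx
  Cfsg.Agent.Lib.Helper9.M24T3

theorem coatom_L : IsCoatom (Lgrp.subgroupOf M24) := by
  constructor
  · intro h
    rw [Subgroup.subgroupOf_eq_top] at h
    exact cubeTwist_not_mem_L (h Cfsg.Agent.Lib.Helper9.GolayM24b.cubeTwist_mem)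
  · intro Y hY
    have hLY : Lgrp ≤ Y.map M24.subtype := by
      intro g hg
      exact ⟨⟨g, L_le_M24 hg⟩, hY.le (Subgroup.mem_subgroupOf.mpr hg), rfl⟩
    have hYM : Y.map M24.subtype ≤ M24 := by
      rintro _ ⟨y, _, rfl⟩
      exact y.2
    rcases dichotomy_L _ hLY hYM with h | h
    · exfalso
      obtain ⟨y, hyY, hyL⟩ := SetLike.exists_of_lt hY
      apply hyL
      rw [Subgroup.mem_subgroupOf, ← h]
      exact ⟨y, hyY, rfl⟩
    · rw [eq_top_iff]
      intro m _
      have hm : (m : Equiv.Perm GolayPt) ∈ Y.map M24.subtype := by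
        rw [h]
        exact m.2
      obtain ⟨y, hy, e⟩ := hm
      have : y = m := Subtype.ext e
      rw [← this]
      exact hy

theorem coatom_B :
    IsCoatom ((Bgrp.subgroupOf M24).subgroupOf (stabilizer M24 (none : GolayPt))) := by
  constructor
  · intro h
    rw [Subgroup.subgroupOf_eq_top] at h
    have hc : (⟨cubeTwist, Cfsg.Agent.Lib.Helper9.GolayM24b.cubeTwist_mem⟩ : M24) ∈
        stabilizer M24 (none : GolayPt) := mem_stabilizer_iff.mpr rfl
    have := h hc
    rw [Subgroup.mem_subgroupOf] at this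
    exact cubeTwist_not_mem_L (B_le_L this)
  · intro Z hZ
    have hBZ : Bgrp ≤ (Z.map (stabilizer M24 (none : GolayPt)).subtype).map M24.subtype := by
      intro g hg
      have hgM := B_le_M24 hg
      have hgS : (⟨g, hgM⟩ : M24) ∈ stabilizer M24 (none : GolayPt) :=
        mem_stabilizer_iff.mpr (B_fix_none g hg)
      refine ⟨⟨g, hgM⟩, ⟨⟨⟨g, hgM⟩, hgS⟩, hZ.le ?_, rfl⟩, rfl⟩
      rw [Subgroup.mem_subgroupOf, Subgroup.mem_subgroupOf]
      exact hg
    have hZM : (Z.map (stabilizer M24 (none : GolayPt)).subtype).map M24.subtype ≤ M23' := by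
      rintro _ ⟨_, ⟨z, _, rfl⟩, rfl⟩
      exact ⟨z.1.2, mem_stabilizer_iff.mpr (mem_stabilizer_iff.mp z.2)⟩
    rcases dichotomy _ hBZ hZM with h | h
    · exfalso
      obtain ⟨z, hzZ, hzB⟩ := SetLike.exists_of_lt hZ
      apply hzB
      rw [Subgroup.mem_subgroupOf, Subgroup.mem_subgroupOf, ← h]
      exact ⟨z.1, ⟨z, hzZ, rfl⟩, rfl⟩
    · rw [eq_top_iff]
      intro s _
      have hs : ((s : M24) : Equiv.Perm GolayPt) ∈
          (Z.map (stabilizer M24 (none : GolayPt)).subtype).map M24.subtype := by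
        rw [h]
        exact ⟨s.1.2, mem_stabilizer_iff.mpr (mem_stabilizer_iff.mp s.2)⟩
      obtain ⟨_, ⟨z, hz, rfl⟩, e⟩ := hs
      have : z = s := Subtype.ext (Subtype.ext e)
      rw [← this]
      exact hz

theorem B_le_M23' : Bgrp ≤ M24 ⊓ stabilizer (Equiv.Perm GolayPt) (none : GolayPt) :=
  fun g hg => ⟨B_le_M24 hg, mem_stabilizer_iff.mpr (B_fix_none g hg)⟩

end Cfsg.Agent.Lib.Helper9.Mx
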