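import Mathlib
import Cfsg.Agent.Lib.Helper2.NCycBase
import Cfsg.Agent.Lib.Lead.QDSub
import Cfsg.Agent.S3116

/-!
# S3921, part (SD), steps b/c: in a `Star` group with quasi-dihedral Sylow 2-subgroup `S`,
`C_G(t) = S` for the central involution `t` of `S`.
-/

set_option autoImplicit false
set_option linter.style.haveILetI false
set_option linter.unusedSectionVars false

namespace Cfsg.Agent.Lib.Helper9.NCyc

open Cfsg.Agent.Lib.Helper2.NCyc Cfsg.Agent.Lib.Lead.QDCore Cfsg.Agent.Lib.Lead.QDArith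
open scoped Pointwise

/-- a normal `p`-subgroup lies in every Sylow `p`-subgroup -/
theorem normal_le_sylow {X : Type*} [Group X] [Finite X] {p : ℕ} [Fact p.Prime]
    (N : Subgroup X) [hN : N.Normal] (hp : IsPGroup p N) (P : Sylow p X) : N ≤ (P : Subgroup X) := by
  obtain ⟨Q, hQ⟩ := hp.exists_le_sylow
  obtain ⟨g, hg⟩ := MulAction.exists_smul_eq X Q P
  intro a ha
  have h1 : g⁻¹ * a * g⁻¹⁻¹ ∈ N := hN.conj_mem a ha g⁻¹
  have h2 : g⁻¹ * a * g⁻¹⁻¹ ∈ (Q : Subgroup X) := hQ h1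
  have h3 : (P : Subgroup X) = MulAut.conj g • (Q : Subgroup X) := by rw [← hg]; rfl
  rw [h3, Subgroup.mem_pointwise_smul_iff_inv_smul_mem, MulAut.smul_def, ← map_inv,
    MulAut.conj_apply]
  exact h2

/-- an element whose order is both odd and a power of two is trivial -/
theorem eq_one_of_odd_of_two_pow {X : Type*} [Group X] {g : X} (hodd : Odd (orderOf g)) {k : ℕ}
    (hk : orderOf g = 2 ^ k) : g = 1 := by
  rw [← orderOf_eq_one_iff]
  rcases Nat.eq_zero_or_pos k with h0 | h0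
  · rw [hk, h0, pow_zero]
  · exfalso
    rw [hk] at hodd
    exact (Nat.not_even_iff_odd.2 hodd) (Nat.even_pow.2 ⟨even_two, h0.ne'⟩)

/-- `IsQuasiDihedral` is invariant under isomorphism -/
theorem isQuasiDihedral_of_mulEquiv {A B : Type*} [Group A] [Group B] (e : A ≃* B)
    (h : Cfsg.IsQuasiDihedral A) : Cfsg.IsQuasiDihedral B := by
  obtain ⟨n, hn, hc, x, y, hx, hy, hr⟩ := h
  refine ⟨n, hn, ?_, e x, e y, ?_, ?_, ?_⟩
  · rw [← hc]; exact (Nat.card_congr e.toEquiv).symm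
  · rw [MulEquiv.orderOf_eq, hx]
  · rw [MulEquiv.orderOf_eq, hy]
  · rw [← map_inv, ← map_mul, ← map_mul, hr, map_pow]


section main

variable {G : Type*} [Group G] [Finite G]

/-- steps b/c: `C_G(t) = S`. The Baer-Suzuki step (SD-a) is taken as a hypothesis `hA`. -/
theorem centralizer_eq_sylow (h : Cfsg.Agent.Lib.Helper2.NCyc.Star G)
    (hA : ∀ (t s : G), t * t = 1 → t ≠ 1 → s * s = 1 → s ≠ 1 → s ≠ t →
      ∀ hsC : s ∈ Subgroup.centralizer ({t} : Set G),
      ∃ N : Subgroup ↥(Subgroup.centralizer ({t} : Set G)), N.Normal ∧ IsPGroup 2 N ∧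
        (⟨s, hsC⟩ : ↥(Subgroup.centralizer ({t} : Set G))) ∈ N)
    (S : Sylow 2 G) {n : ℕ} {x y : ↥(S : Subgroup G)} (hq : QD ↥(S : Subgroup G) n x y) :
    Subgroup.centralizer ({((r n x (hh n) : ↥(S : Subgroup G)) : G)} : Set G) = (S : Subgroup G) := by
  classical
  haveI : Fact (Nat.Prime 2) := ⟨Nat.prime_two⟩
  obtain ⟨t0, ht0⟩ : ∃ t0 : ↥(S : Subgroup G), t0 = r n x (hh n) := ⟨_, rfl⟩
  rw [← ht0]
  obtain ⟨t, ht⟩ : ∃ t : G, t = (t0 : G) := ⟨_, rfl⟩
  rw [← ht]
  have htt : t * t = 1 := by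
    have h1 : t0 * t0 = 1 := by rw [ht0]; exact hq.rh_sq
    have := congrArg Subtype.val h1
    rw [ht]; exact this
  have ht1 : t ≠ 1 := by
    intro h0
    apply hq.rh_ne_one
    rw [← ht0]
    apply Subtype.ext
    rw [← ht]; exact h0
  obtain ⟨C, hC⟩ : ∃ C : Subgroup G, C = Subgroup.centralizer ({t} : Set G) := ⟨_, rfl⟩
  have hSC : (S : Subgroup G) ≤ Subgroup.centralizer ({t} : Set G) := by
    intro s hs
    rw [Subgroup.mem_centralizer_singleton_iff]
    have h1 : t0 ∈ Subgroup.center ↥(S : Subgroup G) := by rw [ht0]; exact hq.rh_mem_center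
    have := Subgroup.mem_center_iff.1 h1 ⟨s, hs⟩
    have := congrArg Subtype.val this
    rw [ht]; exact this
  -- Sylow 2-subgroup of `C` and its core
  obtain ⟨SC, hSCdef⟩ : ∃ SC : Sylow 2 ↥(Subgroup.centralizer ({t} : Set G)), SC = S.subtype hSC :=
    ⟨_, rfl⟩
  have hSCmem : ∀ c : ↥(Subgroup.centralizer ({t} : Set G)),
      c ∈ (SC : Subgroup _) ↔ (c : G) ∈ (S : Subgroup G) := by
    intro c
    rw [hSCdef, Sylow.coe_subtype, Subgroup.mem_subgroupOf]
  obtain ⟨R, hR⟩ : ∃ R : Subgroup ↥(Subgroup.centralizer ({t} : Set G)),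
      R = (SC : Subgroup _).normalCore := ⟨_, rfl⟩
  haveI hRn : R.Normal := by rw [hR]; exact Subgroup.normalCore_normal _
  have hRle : R ≤ (SC : Subgroup _) := by rw [hR]; exact Subgroup.normalCore_le _
  have hR2 : IsPGroup 2 R := SC.2.to_le hRle
  -- Claim 1: the involutions of `S` lie in `R`
  have claim1 : ∀ s : G, ∀ hs : s ∈ (S : Subgroup G), s * s = 1 → s ≠ 1 →
      (⟨s, hSC hs⟩ : ↥(Subgroup.centralizer ({t} : Set G))) ∈ R := by
    intro s hs hss hs1
    by_cases hst : s = t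
    · rw [hR]
      intro c
      have hc : c * ⟨s, hSC hs⟩ * c⁻¹ = ⟨s, hSC hs⟩ := by
        apply Subtype.ext
        show (c : G) * s * (c : G)⁻¹ = s
        have := Subgroup.mem_centralizer_singleton_iff.1 c.2
        rw [hst, this, mul_inv_cancel_right]
      rw [hc, hSCmem]
      exact hs
    · obtain ⟨N, hNn, hNp, hsN⟩ := hA t s htt ht1 hss hs1 hst (hSC hs)
      haveI := hNn
      have h1 : N ≤ (SC : Subgroup _) := normal_le_sylow N hNp SC
      rw [hR]
      exact (Subgroup.normal_le_normalCore.2 h1) hsN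
  -- Claim 2: `D ≤ R`
  have claim2 : hq.D ≤ R.comap (Subgroup.inclusion hSC) := by
    rw [← hq.closure_invol_eq, Subgroup.closure_le]
    intro s0 hs0
    have hs0' : orderOf s0 = 2 := hs0
    have hs2 : s0 * s0 = 1 := by
      have := pow_orderOf_eq_one s0
      rwa [hs0', pow_two] at this
    have hs1 : s0 ≠ 1 := by
      rintro rfl
      rw [orderOf_one] at hs0'
      norm_num at hs0'
    exact claim1 s0.1 s0.2 (congrArg Subtype.val hs2) (fun h0 => hs1 (Subtype.ext h0))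
  -- Claim 3: `R ≃* RS`, `RS = D` or `⊤`
  obtain ⟨RS, hRS⟩ : ∃ RS : Subgroup ↥(S : Subgroup G), RS = R.comap (Subgroup.inclusion hSC) :=
    ⟨_, rfl⟩
  rw [← hRS] at claim2
  have hRSmem : ∀ s0 : ↥(S : Subgroup G), s0 ∈ RS ↔ Subgroup.inclusion hSC s0 ∈ R := by
    intro s0; rw [hRS]; rfl
  let e : RS ≃* R :=
    { toFun := fun a => ⟨Subgroup.inclusion hSC a.1, (hRSmem a.1).1 a.2⟩
      invFun := fun c => ⟨⟨(c.1 : G), (hSCmem c.1).1 (hRle c.2)⟩, by
        rw [hRSmem]
        have h0 : Subgroup.inclusion hSC ⟨(c.1 : G), (hSCmem c.1).1 (hRle c.2)⟩ = c.1 :=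
          Subtype.ext rfl
        rw [h0]
        exact c.2⟩
      left_inv := fun a => rfl
      right_inv := fun c => rfl
      map_mul' := fun a b => rfl }
  have hcases : RS = ⊤ ∨ RS = hq.D := (isCoatom_of_index_two hq.index_D).le_iff.1 claim2
  have hAut : IsPGroup 2 (MulAut R) := by
    apply Cfsg.Agent.S3116.result hR2
    rcases hcases with h1 | h1
    · right
      have hSq : Cfsg.IsQuasiDihedral ↥(S : Subgroup G) :=
        ⟨n, hq.hn, hq.card, x, y, hq.ox, hq.oy, hq.rel⟩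
      have e2 : ↥(S : Subgroup G) ≃* RS := by
        rw [h1]; exact Subgroup.topEquiv.symm
      exact isQuasiDihedral_of_mulEquiv (e2.trans e) hSq
    · left
      obtain ⟨e3⟩ := hq.D_iso
      refine ⟨2 ^ (n - 1), ?_, ⟨?_⟩⟩
      · have hn := hq.hn
        calc 4 = 2 ^ 2 := by norm_num
          _ ≤ 2 ^ (n - 1) := Nat.pow_le_pow_right (by norm_num) (by omega)
      · have e2 : RS ≃* hq.D := by rw [h1]
        exact (e.symm.trans e2).trans e3
  -- Claim 4: odd elements of `C` centralize `R`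
  have claim4 : ∀ c : ↥(Subgroup.centralizer ({t} : Set G)), Odd (orderOf c) → ∀ a : R,
      c * (a : ↥(Subgroup.centralizer ({t} : Set G))) * c⁻¹ = a := by
    intro c hc a
    have h1 : orderOf (MulAut.conjNormal (H := R) c) ∣ orderOf c :=
      orderOf_map_dvd (MulAut.conjNormal (H := R)) c
    obtain ⟨k, hk⟩ := (IsPGroup.iff_orderOf.1 hAut) (MulAut.conjNormal (H := R) c)
    have hf : MulAut.conjNormal (H := R) c = 1 := eq_one_of_odd_of_two_pow (hc.of_dvd_nat h1) hk
    have h2 := MulAut.conjNormal_apply (H := R) c a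
    rw [hf] at h2
    exact h2.symm
  -- Claim 5: elements of odd order of `C` are trivial
  obtain ⟨DG, hDG⟩ : ∃ DG : Subgroup G, DG = hq.D.map (S : Subgroup G).subtype := ⟨_, rfl⟩
  have hDGnc : ¬ IsCyclic DG := by
    intro hc
    obtain ⟨e3⟩ := hq.D_iso
    have e4 : hq.D ≃* DG := by
      rw [hDG]
      exact hq.D.equivMapOfInjective _ (S : Subgroup G).subtype_injective
    haveI := hc
    have h5 : IsCyclic (DihedralGroup (2 ^ (n - 1))) :=
      isCyclic_of_surjective (e4.symm.trans e3) (e4.symm.trans e3).surjective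
    have hn := hq.hn
    have h6 : 2 ^ (n - 1) ≠ 1 := by
      have : 2 ^ 1 ≤ 2 ^ (n - 1) := Nat.pow_le_pow_right (by norm_num) (by omega)
      omega
    exact DihedralGroup.not_isCyclic h6 h5
  have claim5 : ∀ c : G, c ∈ Subgroup.centralizer ({t} : Set G) → Odd (orderOf c) → c = 1 := by
    intro c hc hodd
    have hodd' : Odd (orderOf (⟨c, hc⟩ : ↥(Subgroup.centralizer ({t} : Set G)))) := by
      rw [Subgroup.orderOf_mk]; exact hodd
    have h1 : c ∈ Subgroup.centralizer (DG : Set G) := by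
      rw [Subgroup.mem_centralizer_iff]
      intro d hd
      rw [hDG] at hd
      obtain ⟨d0, hd0, rfl⟩ := Subgroup.mem_map.1 hd
      have hd0R : Subgroup.inclusion hSC d0 ∈ R := (hRSmem d0).1 (claim2 hd0)
      have h2 := claim4 ⟨c, hc⟩ hodd' ⟨Subgroup.inclusion hSC d0, hd0R⟩
      have h3 := congrArg Subtype.val h2
      have h4 : c * (d0 : G) * c⁻¹ = (d0 : G) := h3
      show (d0 : G) * c = c * (d0 : G)
      calc (d0 : G) * c = c * (d0 : G) * c⁻¹ * c := by rw [h4]
        _ = c * (d0 : G) := by group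
    have h2 : c ∈ DG := h DG hDGnc h1
    have h3 : c ∈ (S : Subgroup G) := by
      rw [hDG] at h2
      obtain ⟨d0, -, rfl⟩ := Subgroup.mem_map.1 h2
      exact d0.2
    obtain ⟨k, hk⟩ := (IsPGroup.iff_orderOf.1 S.2) ⟨c, h3⟩
    rw [Subgroup.orderOf_mk] at hk
    exact eq_one_of_odd_of_two_pow hodd hk
  -- Claim 6: `C` is a 2-group
  have hCp : IsPGroup 2 ↥(Subgroup.centralizer ({t} : Set G)) := by
    intro c
    obtain ⟨k, m, hm, hkm⟩ := Nat.exists_eq_pow_mul_and_not_dvd (orderOf_pos (c : G)).ne' 2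
      (by norm_num)
    refine ⟨k, ?_⟩
    have hmodd : Odd m := Nat.odd_iff.2 (by omega)
    have hm0 : m ≠ 0 := by rintro rfl; simp at hm
    have h2k : (2 : ℕ) ^ k ≠ 0 := by positivity
    have h1 : orderOf ((c : G) ^ 2 ^ k) = m := by
      rw [orderOf_pow_of_dvd h2k ⟨m, hkm⟩, hkm, Nat.mul_div_cancel_left _ (Nat.pos_of_ne_zero h2k)]
    have h2 := claim5 ((c : G) ^ 2 ^ k) (Subgroup.pow_mem _ c.2 _) (by rw [h1]; exact hmodd)
    apply Subtype.ext
    rw [Subgroup.coe_pow]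
    exact h2
  have hCp' : IsPGroup 2 (Subgroup.centralizer ({t} : Set G)) := hCp
  exact S.is_maximal' hCp' hSC

end main

end Cfsg.Agent.Lib.Helper9.NCyc
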