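import Mathlib
import Cfsg.Agent.Lib.Helper2.NCycBase
import Cfsg.Agent.S0199

/-!
# S3921, part (SD), step a: in a `Star` group, an involution `s ≠ t` of `C = C_G(t)` (`t` an
involution) lies in a normal 2-subgroup of `C` (Baer-Suzuki).
-/

set_option autoImplicit false
set_option linter.style.haveILetI false
set_option linter.unusedSectionVars false
set_option linter.unusedVariables false

namespace Cfsg.Agent.Lib.Helper9.NCyc

variable {G : Type*} [Group G]

/-- two involutions whose product has 2-power order generate a 2-group -/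
theorem isPGroup_two_pair {w w' : G} (hw : w * w = 1) (hw' : w' * w' = 1) {e : ℕ}
    (h4 : (w * w') ^ 2 ^ e = 1) : IsPGroup 2 ↥(Subgroup.zpowers w ⊔ Subgroup.zpowers w') := by
  have : Fact (Nat.Prime 2) := ⟨Nat.prime_two⟩
  obtain ⟨r, hr⟩ : ∃ r, r = w * w' := ⟨_, rfl⟩
  rw [← hr] at h4
  have hwinv : w⁻¹ = w := inv_eq_of_mul_eq_one_left hw
  have hw'inv : w'⁻¹ = w' := inv_eq_of_mul_eq_one_left hw'
  have hPw : IsPGroup 2 (Subgroup.zpowers w) := by
    rw [IsPGroup.iff_orderOf]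
    intro x
    have h1 : orderOf (x : G) ∣ 2 := by
      have := orderOf_dvd_of_mem_zpowers x.2
      refine this.trans (orderOf_dvd_of_pow_eq_one ?_)
      rw [pow_two]; exact hw
    rw [Subgroup.orderOf_coe] at h1
    rcases (Nat.dvd_prime Nat.prime_two).mp h1 with h | h
    · exact ⟨0, by rw [h]; rfl⟩
    · exact ⟨1, by rw [h]; rfl⟩
  have hPr : IsPGroup 2 (Subgroup.zpowers r) := by
    rw [IsPGroup.iff_orderOf]
    intro x
    have h1 : orderOf (x : G) ∣ 2 ^ e := by
      have := orderOf_dvd_of_mem_zpowers x.2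
      exact this.trans (orderOf_dvd_of_pow_eq_one h4)
    rw [Subgroup.orderOf_coe] at h1
    obtain ⟨k, -, hk⟩ := (Nat.dvd_prime_pow Nat.prime_two).mp h1
    exact ⟨k, hk⟩
  have hnorm : Subgroup.zpowers w ≤ Subgroup.normalizer (Subgroup.zpowers r : Set G) := by
    rw [Subgroup.zpowers_le]
    rw [Subgroup.mem_normalizer_iff]
    have hconj : w * r * w⁻¹ = r⁻¹ := by
      rw [hr, mul_inv_rev, hwinv, hw'inv]
      calc w * (w * w') * w = (w * w) * w' * w := by group
        _ = w' * w := by rw [hw, one_mul]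
    intro x
    constructor
    · intro hx
      obtain ⟨k, rfl⟩ := Subgroup.mem_zpowers_iff.mp hx
      rw [← conj_zpow, hconj]
      exact Subgroup.zpow_mem _ (Subgroup.inv_mem _ (Subgroup.mem_zpowers r)) k
    · intro hx
      obtain ⟨k, hk⟩ := Subgroup.mem_zpowers_iff.mp hx
      have h1 : x = w⁻¹ * (r ^ k) * w := by rw [hk]; group
      have h2 : w⁻¹ * r * w⁻¹⁻¹ = r⁻¹ := by
        rw [inv_inv, hwinv, ← hconj, hwinv]
      rw [h1]
      have h3 : w⁻¹ * r ^ k * w = (w⁻¹ * r * w⁻¹⁻¹) ^ k := by rw [conj_zpow, inv_inv]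
      rw [h3, h2]
      exact Subgroup.zpow_mem _ (Subgroup.inv_mem _ (Subgroup.mem_zpowers r)) k
  have hsup := IsPGroup.to_sup_of_normal_right' hPw hPr hnorm
  refine hsup.to_le ?_
  apply sup_le le_sup_left
  rw [Subgroup.zpowers_le]
  have h1 : w' = w⁻¹ * r := by rw [hr]; group
  rw [h1]
  exact Subgroup.mul_mem _ (Subgroup.inv_mem _ (le_sup_left (a := Subgroup.zpowers w)
    (Subgroup.mem_zpowers w))) (le_sup_right (b := Subgroup.zpowers r) (Subgroup.mem_zpowers r))

/-- elements of the "dihedral" group generated by `y` and an involution `a` inverting `y` -/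
theorem mem_closure_pair {y a : G} (ha : a * a = 1) (hay : a * y * a⁻¹ = y⁻¹) {g : G}
    (hg : g ∈ Subgroup.closure ({y, a} : Set G)) : ∃ k : ℤ, g = y ^ k ∨ g = y ^ k * a := by
  have hainv : a⁻¹ = a := inv_eq_of_mul_eq_one_left ha
  have hconj : ∀ k : ℤ, a * y ^ k = (y ^ k)⁻¹ * a := by
    intro k
    have h1 : a * y ^ k * a⁻¹ = (y ^ k)⁻¹ := by rw [← conj_zpow, hay, inv_zpow]
    calc a * y ^ k = a * y ^ k * a⁻¹ * a := by group
      _ = (y ^ k)⁻¹ * a := by rw [h1]
  induction hg using Subgroup.closure_induction with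
  | mem x hx =>
    rcases hx with rfl | hx
    · exact ⟨1, Or.inl (zpow_one _).symm⟩
    · rw [Set.mem_singleton_iff] at hx
      subst hx
      exact ⟨0, Or.inr (by rw [zpow_zero, one_mul])⟩
  | one => exact ⟨0, Or.inl (zpow_zero _).symm⟩
  | mul u v _ _ hu hv =>
    obtain ⟨k, rfl | rfl⟩ := hu <;> obtain ⟨l, rfl | rfl⟩ := hv
    · exact ⟨k + l, Or.inl (zpow_add _ _ _).symm⟩
    · exact ⟨k + l, Or.inr (by rw [zpow_add, mul_assoc])⟩
    · refine ⟨k - l, Or.inr ?_⟩
      rw [mul_assoc, hconj l, ← mul_assoc, zpow_sub]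
    · refine ⟨k - l, Or.inl ?_⟩
      calc y ^ k * a * (y ^ l * a) = y ^ k * (a * y ^ l) * a := by group
        _ = y ^ k * ((y ^ l)⁻¹ * a) * a := by rw [hconj l]
        _ = y ^ k * (y ^ l)⁻¹ * (a * a) := by group
        _ = y ^ (k - l) := by rw [ha, mul_one, zpow_sub]
  | inv u _ hu =>
    obtain ⟨k, rfl | rfl⟩ := hu
    · exact ⟨-k, Or.inl (zpow_neg _ _).symm⟩
    · refine ⟨k, Or.inr ?_⟩
      rw [mul_inv_rev, hainv, ← zpow_neg, hconj, zpow_neg, inv_inv]

open Cfsg.Agent.Lib.Helper2.NCyc in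
/-- key step: the product of two involutions of `C_G(t)`, one of them `≠ t`, has 2-power order -/
theorem exists_two_pow_of_star [Finite G] (h : Cfsg.Agent.Lib.Helper2.NCyc.Star G) {t a b : G}
    (ht : t * t = 1) (ht1 : t ≠ 1) (ha : a * a = 1) (hat : a ≠ t) (hb : b * b = 1)
    (haC : a ∈ Subgroup.centralizer ({t} : Set G)) (hbC : b ∈ Subgroup.centralizer ({t} : Set G)) :
    ∃ e : ℕ, (a * b) ^ 2 ^ e = 1 := by
  have hainv : a⁻¹ = a := inv_eq_of_mul_eq_one_left ha
  have hbinv : b⁻¹ = b := inv_eq_of_mul_eq_one_left hb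
  obtain ⟨e, m, hm, hem⟩ := Nat.exists_eq_pow_mul_and_not_dvd (orderOf_pos (a * b)).ne' 2
    (by norm_num)
  refine ⟨e, ?_⟩
  have hmodd : Odd m := Nat.odd_iff.2 (by omega)
  have h2e : (2 : ℕ) ^ e ≠ 0 := by positivity
  obtain ⟨y, hy⟩ : ∃ y, y = (a * b) ^ 2 ^ e := ⟨_, rfl⟩
  rw [← hy]
  have hyo : orderOf y = m := by
    rw [hy, orderOf_pow_of_dvd h2e ⟨m, hem⟩, hem, Nat.mul_div_cancel_left _ (Nat.pos_of_ne_zero h2e)]
  by_contra hy1
  -- `a` inverts `y`
  have hw : a * (a * b) * a⁻¹ = (a * b)⁻¹ := by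
    rw [mul_inv_rev, hainv, hbinv]
    calc a * (a * b) * a = (a * a) * b * a := by group
      _ = b * a := by rw [ha, one_mul]
  have hay : a * y * a⁻¹ = y⁻¹ := by rw [hy, ← conj_pow, hw, inv_pow]
  have hodd_one : ∀ z : G, z ^ m = 1 → z * z = 1 → z = 1 := by
    intro z hzm hzz
    have h1 : orderOf z ∣ m := orderOf_dvd_of_pow_eq_one hzm
    have h2 : orderOf z ∣ 2 := orderOf_dvd_of_pow_eq_one (by rw [pow_two]; exact hzz)
    have h3 : orderOf z = 1 := by
      rcases (Nat.dvd_prime Nat.prime_two).1 h2 with h | h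
      · exact h
      · exfalso
        rw [h] at h1
        exact (Nat.not_even_iff_odd.2 hmodd) (even_iff_two_dvd.2 h1)
    exact orderOf_eq_one_iff.1 h3
  have hym : y ^ m = 1 := by rw [← hyo]; exact pow_orderOf_eq_one y
  have hyC : y ∈ Subgroup.centralizer ({t} : Set G) := by
    rw [hy]; exact Subgroup.pow_mem _ (Subgroup.mul_mem _ haC hbC) _
  -- `L`
  have hle : Subgroup.closure ({y, a} : Set G) ≤ Subgroup.centralizer ({t} : Set G) := by
    rw [Subgroup.closure_le]
    rintro z (rfl | hz)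
    · exact hyC
    · rw [Set.mem_singleton_iff] at hz; rw [hz]; exact haC
  have hnc : ¬ IsCyclic ↥(Subgroup.closure ({y, a} : Set G)) := by
    intro hc
    haveI := hc
    have hyL : y ∈ Subgroup.closure ({y, a} : Set G) := Subgroup.subset_closure (by simp)
    have haL : a ∈ Subgroup.closure ({y, a} : Set G) := Subgroup.subset_closure (by simp)
    letI := IsCyclic.commGroup (α := ↥(Subgroup.closure ({y, a} : Set G)))
    have hcomm : (⟨a, haL⟩ : ↥(Subgroup.closure ({y, a} : Set G))) * ⟨y, hyL⟩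
        = ⟨y, hyL⟩ * ⟨a, haL⟩ := mul_comm _ _
    have hcomm' : a * y = y * a := congrArg Subtype.val hcomm
    have h1 : y⁻¹ = y := by rw [← hay, hcomm', mul_inv_cancel_right]
    apply hy1
    apply hodd_one y hym
    calc y * y = y⁻¹ * y := by rw [h1]
      _ = 1 := inv_mul_cancel y
  have htL : t ∈ Subgroup.closure ({y, a} : Set G) := h.mem_of_le_centralizer hnc hle
  obtain ⟨k, hk | hk⟩ := mem_closure_pair ha hay htL
  · -- `t = y^k` has odd order
    apply ht1
    apply hodd_one t _ ht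
    rw [hk, ← zpow_natCast, ← zpow_mul, mul_comm, zpow_mul, zpow_natCast, hym, one_zpow]
  · -- `t = y^k a`
    have hta : a * t = t * a := Subgroup.mem_centralizer_singleton_iff.1 haC
    have hyk : y ^ k = t * a := by rw [hk, mul_assoc, ha, mul_one]
    have h1 : a * y ^ k * a⁻¹ = (y ^ k)⁻¹ := by rw [← conj_zpow, hay, inv_zpow]
    have h2 : a * y ^ k * a⁻¹ = y ^ k := by
      rw [hyk, hainv]
      calc a * (t * a) * a = (a * t) * (a * a) := by group
        _ = t * a := by rw [hta, ha, mul_one]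
    have h3 : y ^ k = 1 := by
      apply hodd_one
      · rw [← zpow_natCast, ← zpow_mul, mul_comm, zpow_mul, zpow_natCast, hym, one_zpow]
      · have : (y ^ k)⁻¹ = y ^ k := by rw [← h1, h2]
        calc y ^ k * y ^ k = (y ^ k)⁻¹ * y ^ k := by rw [this]
          _ = 1 := inv_mul_cancel _
    apply hat
    rw [hk, h3, one_mul]

/-- SD-a -/
theorem exists_normal_two_of_invol [Finite G] (h : Cfsg.Agent.Lib.Helper2.NCyc.Star G)
    {t s : G} (ht : t * t = 1) (ht1 : t ≠ 1) (hs : s * s = 1) (hs1 : s ≠ 1) (hst : s ≠ t)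
    (hsC : s ∈ Subgroup.centralizer ({t} : Set G)) :
    ∃ N : Subgroup ↥(Subgroup.centralizer ({t} : Set G)), N.Normal ∧ IsPGroup 2 N ∧
      (⟨s, hsC⟩ : ↥(Subgroup.centralizer ({t} : Set G))) ∈ N := by
  haveI : Fact (Nat.Prime 2) := ⟨Nat.prime_two⟩
  obtain ⟨s', hs'⟩ : ∃ s' : ↥(Subgroup.centralizer ({t} : Set G)), s' = ⟨s, hsC⟩ := ⟨_, rfl⟩
  have hs's' : s' * s' = 1 := by rw [hs']; exact Subtype.ext hs
  have hX : IsPGroup 2 (Subgroup.zpowers s') := by
    have h0 := isPGroup_two_pair hs's' hs's' (e := 0) (by rw [hs's', one_pow])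
    exact h0.to_le le_sup_left
  have hpair : ∀ g : ↥(Subgroup.centralizer ({t} : Set G)), IsPGroup 2 ↥(Subgroup.zpowers s' ⊔
      (Subgroup.zpowers s').map (MulAut.conj g).toMonoidHom) := by
    intro g
    rw [MonoidHom.map_zpowers]
    have h1 : (MulAut.conj g).toMonoidHom s' = g * s' * g⁻¹ := rfl
    rw [h1]
    have hb : g * s' * g⁻¹ * (g * s' * g⁻¹) = 1 := by
      calc g * s' * g⁻¹ * (g * s' * g⁻¹) = g * (s' * s') * g⁻¹ := by group
        _ = 1 := by rw [hs's', mul_one, mul_inv_cancel]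
    obtain ⟨e, he⟩ := exists_two_pow_of_star h ht ht1 hs hst
      (b := ((g * s' * g⁻¹ : ↥(Subgroup.centralizer ({t} : Set G))) : G))
      (congrArg Subtype.val hb) hsC (g * s' * g⁻¹).2
    apply isPGroup_two_pair hs's' hb (e := e)
    apply Subtype.ext
    rw [Subgroup.coe_pow, Subgroup.coe_mul, Subgroup.coe_one]
    rw [hs'] at he ⊢
    exact he
  obtain ⟨N, hNn, hNp, hXN⟩ := Cfsg.Agent.S0199.result (Subgroup.zpowers s') hX hpair
  refine ⟨N, hNn, hNp, ?_⟩
  rw [← hs']
  exact hXN (Subgroup.mem_zpowers s')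

end Cfsg.Agent.Lib.Helper9.NCyc
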