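import Mathlib
import Cfsg.Agent.Lib.Lead.QDSub
import Cfsg.Agent.S3225

/-!
# S3921, part (SD), step d: transfer (S3225) gives a contradiction when `C_G(t) = S` is
quasi-dihedral.
-/

set_option autoImplicit false
set_option linter.style.haveILetI false
set_option linter.unusedSectionVars false

namespace Cfsg.Agent.Lib.Helper9.NCyc

open Cfsg.Agent.Lib.Lead.QDCore Cfsg.Agent.Lib.Lead.QDArith

theorem sd_d {G : Type*} [Group G] [Finite G] (hG : ∀ H : Subgroup G, H.index ≠ 2) (S : Sylow 2 G)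
    {n : ℕ} {x y : ↥(S : Subgroup G)} (hq : QD ↥(S : Subgroup G) n x y)
    (hC : Subgroup.centralizer ({((r n x (hh n) : ↥(S : Subgroup G)) : G)} : Set G)
      = (S : Subgroup G)) : False := by
  have hn := hq.hn
  have hn1 : 1 ≤ n := by omega
  have hodd1 : Odd (1 : ZMod (2 ^ n)) := odd_one
  -- `u`
  obtain ⟨u0, hu0⟩ : ∃ u0 : ↥(S : Subgroup G), u0 = s n x y 1 := ⟨_, rfl⟩
  have hu0o : orderOf u0 = 4 := by rw [hu0]; exact hq.orderOf_s_odd hodd1
  have hu0sq : u0 * u0 = r n x (hh n) := by rw [hu0]; exact hq.s_sq_odd hodd1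
  have huo : orderOf (u0 : G) = 2 ^ 2 := by rw [Subgroup.orderOf_coe, hu0o]; norm_num
  -- `M`
  obtain ⟨M, hMdef⟩ : ∃ M : Subgroup G, M = hq.D.map (S : Subgroup G).subtype := ⟨_, rfl⟩
  have hMS : M ≤ (S : Subgroup G) := by
    rw [hMdef]; exact Subgroup.map_subtype_le _
  have hMmem : ∀ z : ↥(S : Subgroup G), (z : G) ∈ M ↔ z ∈ hq.D := by
    intro z
    rw [hMdef]
    constructor
    · rintro ⟨d, hd, hdz⟩
      have : d = z := Subtype.ext hdz
      rw [← this]; exact hd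
    · intro hz; exact ⟨z, hz, rfl⟩
  have hM : M.relIndex (S : Subgroup G) = 2 := by
    have h1 : M.subgroupOf (S : Subgroup G) = hq.D := by
      ext z
      rw [Subgroup.mem_subgroupOf, hMmem]
    rw [Subgroup.relIndex, h1]
    exact hq.index_D
  have hev : Even (Nat.card G) := by
    have h1 : 2 ∣ Nat.card (S : Subgroup G) := by
      rw [hq.card]; exact dvd_pow_self 2 (by omega)
    exact even_iff_two_dvd.2 (h1.trans (Subgroup.card_subgroup_dvd_card _))
  have hpow8 : 2 ^ 3 ≤ 2 ^ n := Nat.pow_le_pow_right (by norm_num) hn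
  -- orders of `r i`
  have hr_odd : ∀ i : ZMod (2 ^ n), Odd i → orderOf (r n x i) = 2 ^ n := by
    intro i hi
    apply Nat.dvd_antisymm
    · apply orderOf_dvd_of_pow_eq_one
      rw [hq.r_pow]
      have : ((2 ^ n : ℕ) : ZMod (2 ^ n)) = 0 := ZMod.natCast_self _
      rw [this, zero_mul, hq.r_zero]
    · rw [← hq.ox]
      exact orderOf_dvd_of_mem_zpowers (hq.x_mem_zpowers_of_odd hi)
  have hr_even : ∀ i : ZMod (2 ^ n), Even i → orderOf (r n x i) ∣ 2 ^ (n - 1) := by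
    intro i hi
    apply orderOf_dvd_of_pow_eq_one
    rw [hq.r_pow]
    have : ((2 ^ (n - 1) : ℕ) : ZMod (2 ^ n)) = hh n := rfl
    rw [this, hh_mul_even hn1 hi, hq.r_zero]
  have hord : ∀ z ∈ (S : Subgroup G), z ∉ M → 2 ^ (2 - 1) < orderOf z := by
    intro z hz hzM
    have hzD : (⟨z, hz⟩ : ↥(S : Subgroup G)) ∉ hq.D := fun h0 => hzM ((hMmem ⟨z, hz⟩).2 h0)
    have ho : orderOf z = orderOf (⟨z, hz⟩ : ↥(S : Subgroup G)) := (Subgroup.orderOf_mk z hz).symm
    rw [ho]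
    rcases hq.exists_rep ⟨z, hz⟩ with ⟨i, hi⟩ | ⟨i, hi⟩
    · rw [hi] at hzD ⊢
      have hio : Odd i := (odd_iff_not_even hn1 i).2 (fun he => hzD ((hq.mem_D_r i).2 he))
      rw [hr_odd i hio]
      omega
    · rw [hi] at hzD ⊢
      have hio : Odd i := (odd_iff_not_even hn1 i).2 (fun he => hzD ((hq.mem_D_s i).2 he))
      rw [hq.orderOf_s_odd hio]
      norm_num
  obtain ⟨g, hg⟩ := Cfsg.Agent.S3225.result hev hG S M hMS hM 2 (by norm_num) hord (u0 : G) u0.2 huo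
  -- `g u g⁻¹ = r j`
  obtain ⟨d, hd⟩ : ∃ d : ↥(S : Subgroup G), (d : G) = g * (u0 : G) * g⁻¹ := ⟨⟨_, hMS hg⟩, rfl⟩
  have hdD : d ∈ hq.D := by rw [← hMmem, hd]; exact hg
  have hdo : orderOf d = 4 := by
    rw [← Subgroup.orderOf_coe, hd]
    have : orderOf (g * (u0 : G) * g⁻¹) = orderOf (u0 : G) :=
      (MulEquiv.orderOf_eq (MulAut.conj g) (u0 : G))
    rw [this, huo]; norm_num
  have hdr : ∃ j, d = r n x j := by
    rcases hq.order4_cases hdo with h1 | h1 | ⟨i, hi, h1⟩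
    · exact ⟨_, h1⟩
    · exact ⟨_, h1⟩
    · exfalso
      rw [h1] at hdD
      exact not_even_and_odd hn1 i ⟨(hq.mem_D_s i).1 hdD, hi⟩
  obtain ⟨j, hj⟩ := hdr
  -- `x` commutes with `d`
  have hxd : x * d = d * x := by
    rw [hj]
    have e1 : r n x 1 * r n x j = r n x j * r n x 1 := by
      rw [← hq.r_add, ← hq.r_add, add_comm]
    rw [hq.r_one] at e1
    exact e1
  have hxd' : (x : G) * (g * (u0 : G) * g⁻¹) = (g * (u0 : G) * g⁻¹) * (x : G) := by
    rw [← hd]; exact congrArg Subtype.val hxd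
  -- `x' = g⁻¹ x g` commutes with `u`
  obtain ⟨x', hx'⟩ : ∃ x' : G, x' = g⁻¹ * (x : G) * g := ⟨_, rfl⟩
  have hx'u : x' * (u0 : G) = (u0 : G) * x' := by
    rw [hx']
    calc g⁻¹ * (x : G) * g * (u0 : G) = g⁻¹ * ((x : G) * (g * (u0 : G) * g⁻¹)) * g := by group
      _ = g⁻¹ * ((g * (u0 : G) * g⁻¹) * (x : G)) * g := by rw [hxd']
      _ = (u0 : G) * (g⁻¹ * (x : G) * g) := by group
  have hx'S : x' ∈ (S : Subgroup G) := by
    rw [← hC, Subgroup.mem_centralizer_singleton_iff]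
    have ht : ((r n x (hh n) : ↥(S : Subgroup G)) : G) = (u0 : G) * (u0 : G) := by
      rw [← hu0sq]; rfl
    rw [ht]
    calc x' * ((u0 : G) * (u0 : G)) = (x' * (u0 : G)) * (u0 : G) := (mul_assoc _ _ _).symm
      _ = ((u0 : G) * x') * (u0 : G) := by rw [hx'u]
      _ = (u0 : G) * (x' * (u0 : G)) := mul_assoc _ _ _
      _ = (u0 : G) * ((u0 : G) * x') := by rw [hx'u]
      _ = (u0 : G) * (u0 : G) * x' := (mul_assoc _ _ _).symm
  have hx'o : orderOf (⟨x', hx'S⟩ : ↥(S : Subgroup G)) = 2 ^ n := by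
    rw [Subgroup.orderOf_mk, hx', ← hq.ox, ← Subgroup.orderOf_coe]
    have : g⁻¹ * (x : G) * g = g⁻¹ * (x : G) * g⁻¹⁻¹ := by rw [inv_inv]
    rw [this]
    exact (MulEquiv.orderOf_eq (MulAut.conj g⁻¹) (x : G))
  have hcomm0 : (⟨x', hx'S⟩ : ↥(S : Subgroup G)) * u0 = u0 * ⟨x', hx'S⟩ := Subtype.ext hx'u
  rcases hq.exists_rep ⟨x', hx'S⟩ with ⟨i, hi⟩ | ⟨i, hi⟩
  · rw [hi] at hx'o hcomm0
    have hio : Odd i := by
      rw [odd_iff_not_even hn1]
      intro he
      have h1 := hr_even i he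
      rw [hx'o] at h1
      have h2 : 2 ^ n ≤ 2 ^ (n - 1) := Nat.le_of_dvd (by positivity) h1
      have h3 : 2 ^ (n - 1) < 2 ^ n := Nat.pow_lt_pow_right (by norm_num) (by omega)
      omega
    rw [hu0, hq.r_mul_s, hq.s_mul_r] at hcomm0
    have h1 := hq.s_inj hcomm0
    obtain ⟨k, hk⟩ := hq.exists_inv_of_odd hio
    apply hq.mm_ne_one
    have h2 : i = mm n * i := by linear_combination h1
    calc mm n = mm n * (i * k) := by rw [hk, mul_one]
      _ = (mm n * i) * k := by ring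
      _ = i * k := by rw [← h2]
      _ = 1 := hk
  · rw [hi] at hx'o
    rcases even_or_odd i with he | ho
    · rw [hq.orderOf_s_even he] at hx'o
      omega
    · rw [hq.orderOf_s_odd ho] at hx'o
      omega

end Cfsg.Agent.Lib.Helper9.NCyc
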