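import Mathlib
import Cfsg.Agent.Lib.Helper9.NCycSD1
import Cfsg.Agent.Lib.Helper9.NCycSDa
import Cfsg.Agent.Lib.Helper9.NCycSDd

/-!
# S3921, part (SD): a simple `Star` group has no quasi-dihedral Sylow 2-subgroup.
-/

set_option autoImplicit false
set_option linter.style.haveILetI false

namespace Cfsg.Agent.Lib.Helper9.NCyc

open Cfsg.Agent.Lib.Lead.QDCore

/-- a nonabelian simple group has no subgroup of index 2 -/
theorem index_ne_two_of_simple {G : Type*} [Group G] [Finite G] [IsSimpleGroup G]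
    (hna : ¬ IsMulCommutative G) (H : Subgroup G) : H.index ≠ 2 := by
  intro hH
  haveI : H.Normal := Subgroup.normal_of_index_eq_two hH
  rcases IsSimpleGroup.eq_bot_or_eq_top_of_normal H inferInstance with h | h
  · rw [h, Subgroup.index_bot] at hH
    haveI : Fact (Nat.Prime 2) := ⟨Nat.prime_two⟩
    haveI : IsCyclic G := isCyclic_of_prime_card hH
    apply hna
    letI := IsCyclic.commGroup (α := G)
    exact ⟨⟨mul_comm⟩⟩
  · rw [h, Subgroup.index_top] at hH
    norm_num at hH

theorem not_quasiDihedral {G : Type*} [Group G] [Finite G] [IsSimpleGroup G]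
    (hna : ¬ IsMulCommutative G) (h : Cfsg.Agent.Lib.Helper2.NCyc.Star G) (S : Sylow 2 G) :
    ¬ Cfsg.IsQuasiDihedral ↥(S : Subgroup G) := by
  intro hS
  obtain ⟨n, x, y, hq⟩ := exists_QD hS
  have hC := centralizer_eq_sylow h
    (fun t s ht ht1 hs hs1 hst hsC => exists_normal_two_of_invol h ht ht1 hs hs1 hst hsC) S hq
  exact sd_d (index_ne_two_of_simple hna) S hq hC

end Cfsg.Agent.Lib.Helper9.NCyc
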