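import Cfsg.Agent.Lib.Helper8.NG5Defs
import Cfsg.Agent.Lib.Helper8.NG5Basic
import Cfsg.Agent.Lib.Helper1.SpecialCoprime2
import Cfsg.Agent.Lib.Helper1.FrattiniP
import Cfsg.Agent.Lib.Helper1.ClassTwo

set_option autoImplicit false
open scoped commutatorElement

namespace Cfsg.Agent.Lib.Helper9.NG5U14
open Cfsg.Agent.Lib.Helper8.NG5

variable {X : Type*} [Group X] [Finite X] {A : Subgroup (MulAut X)}

/-- U14. -/
theorem b1_of (h : Hyp X A)
    (hchar : ∀ H : Subgroup X, H.Characteristic → IsMulCommutative H →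
      ∀ a ∈ A, ∀ x ∈ H, a x = x) :
    B1 X A ∧ (Nat.card (Subgroup.center X) = 2 ∨ Nat.card (Subgroup.center X) = 4) := by
  haveI : Fact (Nat.Prime 2) := ⟨Nat.prime_two⟩
  have hcop : Nat.Coprime (Nat.card A) 2 := Nat.coprime_two_right.mpr h.odd
  have hGA : Subgroup.closure {x : X | ∃ g : X, ∃ a ∈ A, x = g⁻¹ * a g} = ⊤ := by
    apply h.gen
    intro φ hφ x
    exact Subgroup.subset_closure ⟨x, φ, hφ, rfl⟩
  obtain ⟨hsp, hfix⟩ :=
    Cfsg.Agent.Lib.Helper1.SpecialCoprime.special_of_coprime h.pg A hcop hGA hchar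
  obtain ⟨_, hfr, hco⟩ := hsp
  have hsq : ∀ x : X, x ^ 2 ∈ Subgroup.center X := by
    intro x
    rw [← hfr]
    exact Cfsg.Agent.Lib.Helper1.pow_prime_mem_frattini_of_isPGroup 2 h.pg x
  have hcomm : ∀ x y : X, ⁅x, y⁆ ∈ Subgroup.center X := by
    intro x y
    rw [← hco, commutator_def]
    exact Subgroup.commutator_mem_commutator (Subgroup.mem_top x) (Subgroup.mem_top y)
  have hCC : Cfsg.Agent.Lib.Helper1.CommCentral X :=
    Cfsg.Agent.Lib.Helper1.commCentral_of_commutator_le_center hco.le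
  -- exponent of the centre
  have hexp : ∀ z ∈ Subgroup.center X, z ^ 2 = 1 := by
    let S : Subgroup X :=
      { carrier := {z | z ∈ Subgroup.center X ∧ z ^ 2 = 1}
        one_mem' := ⟨Subgroup.one_mem _, one_pow 2⟩
        mul_mem' := by
          rintro a b ⟨ha, ha2⟩ ⟨hb, hb2⟩
          refine ⟨Subgroup.mul_mem _ ha hb, ?_⟩
          have hab : Commute a b := show a * b = b * a from (Subgroup.mem_center_iff.mp hb a)
          rw [hab.mul_pow, ha2, hb2, one_mul]
        inv_mem' := by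
          rintro a ⟨ha, ha2⟩
          exact ⟨Subgroup.inv_mem _ ha, by rw [inv_pow, ha2, inv_one]⟩ }
    have hle : commutator X ≤ S := by
      rw [commutator_def, Subgroup.commutator_def, Subgroup.closure_le]
      rintro c ⟨x, -, y, -, rfl⟩
      refine ⟨hcomm x y, ?_⟩
      rw [← hCC.comm_pow_left x y 2, commutatorElement_eq_one_iff_commute]
      exact (Subgroup.mem_center_iff.mp (hsq x) y).symm
    intro z hz
    rw [← hco] at hz
    exact (hle hz).2
  have hfpf : ∀ x : X, (∀ φ ∈ A, x⁻¹ * φ x ∈ Subgroup.center X) → x ∈ Subgroup.center X := by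
    intro x hx
    exact Cfsg.Agent.Lib.Helper8.NG5Basic.no_trivial_factor h (Subgroup.center X) hco.le x
      (hsq x) hx
  refine ⟨⟨⟨h.pg, hfr, hco⟩, hfix, hsq, hcomm, hexp, hfpf⟩, ?_⟩
  -- the order of the centre
  have hle4 : Nat.card (Subgroup.center X) ≤ 4 := h.ne _ inferInstance hexp
  obtain ⟨k, hk⟩ := (h.pg.to_subgroup (Subgroup.center X)).exists_card_eq
  haveI : Nontrivial X := by
    obtain ⟨x, y, hxy⟩ := h.na
    refine ⟨⟨x, y, ?_⟩⟩
    intro hxy'
    apply hxy
    rw [hxy']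
  haveI : Nontrivial (Subgroup.center X) := h.pg.center_nontrivial
  have hgt : 1 < Nat.card (Subgroup.center X) := Finite.one_lt_card
  rw [hk] at hle4 hgt ⊢
  have hk1 : k ≠ 0 := by
    intro h0; rw [h0] at hgt; norm_num at hgt
  have hk3 : k < 3 := by
    by_contra h3
    have : 2 ^ 3 ≤ 2 ^ k := Nat.pow_le_pow_right (by norm_num) (by omega)
    omega
  have hk12 : k = 1 ∨ k = 2 := by omega
  rcases hk12 with rfl | rfl
  · left; norm_num
  · right; norm_num

end Cfsg.Agent.Lib.Helper9.NG5U14
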