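import Cfsg.Agent.Lib.Helper8.NG5Defs
import Cfsg.Agent.Lib.Helper8.NG5Basic
import Cfsg.Agent.Lib.Helper1.FrattiniP
import Cfsg.Agent.Lib.Helper1.ClassTwo

set_option autoImplicit false
open scoped commutatorElement

namespace Cfsg.Agent.Lib.Helper9.NG5U17a
open Cfsg.Agent.Lib.Helper8.NG5 Cfsg.Agent.Lib.Helper1

variable {X : Type*} [Group X] [Finite X] {A : Subgroup (MulAut X)}

theorem commCentral_of_B1 (b : B1 X A) : CommCentral X := by
  intro x y z
  exact (Subgroup.mem_center_iff.mp (b.comm x y) z).symm

theorem comm_inv_left (hCC : CommCentral X) (x g : X) : ⁅x⁻¹, g⁆ = ⁅x, g⁆⁻¹ := by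
  have h := hCC.comm_mul_left x⁻¹ x g
  rw [inv_mul_cancel, CommCentral.comm_one_left] at h
  exact eq_inv_of_mul_eq_one_left h.symm

theorem mul_sq (hCC : CommCentral X) (x y : X) : (x * y) ^ 2 = x ^ 2 * y ^ 2 * ⁅y, x⁆ := by
  have h := hCC.mul_pow_eq x y 2
  simpa using h

/-- An automorphism reflects membership in the centre. -/
theorem mem_center_of_apply (φ : MulAut X) (x : X) (hx : φ x ∈ Subgroup.center X) :
    x ∈ Subgroup.center X := by
  rw [Subgroup.mem_center_iff] at hx ⊢
  intro g
  apply φ.injective
  rw [map_mul, map_mul]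
  exact hx (φ g)

/-- (NI) In Branch 1 with `|Z| = 4` there is no noncentral involution. -/
theorem no_noncentral_invol (h : Hyp X A) (b : B1 X A)
    (hc : Nat.card (Subgroup.center X) = 4) (g : X) (hg : g ^ 2 = 1) :
    g ∈ Subgroup.center X := by
  by_contra hgZ
  have hgg : g * g = 1 := by rw [← sq]; exact hg
  have hgi : g⁻¹ = g := inv_eq_of_mul_eq_one_right hgg
  have hcen : ∀ c ∈ Subgroup.center X, ∀ y : X, y * c = c * y := fun c hc' y =>
    Subgroup.mem_center_iff.mp hc' y
  let E : Subgroup X :=
    { carrier := {x | x ∈ Subgroup.center X ∨ x * g ∈ Subgroup.center X}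
      one_mem' := Or.inl (Subgroup.one_mem _)
      mul_mem' := by
        rintro x y (hx | hx) (hy | hy)
        · exact Or.inl (Subgroup.mul_mem _ hx hy)
        · right
          rw [mul_assoc]
          exact Subgroup.mul_mem _ hx hy
        · right
          have : x * y * g = (x * g) * y := by
            rw [mul_assoc, ← hcen y hy g, ← mul_assoc]
          rw [this]
          exact Subgroup.mul_mem _ hx hy
        · left
          have h1 : g * y = y * g := by
            have := hcen (y * g) hy g
            calc g * y = (g * (y * g)) * g⁻¹ := by group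
              _ = ((y * g) * g) * g⁻¹ := by rw [this]
              _ = y * g := by group
          have : x * y = (x * g) * (y * g) := by
            calc x * y = x * (g * g) * y := by rw [hgg, mul_one]
              _ = (x * g) * (g * y) := by group
              _ = (x * g) * (y * g) := by rw [h1]
          rw [this]
          exact Subgroup.mul_mem _ hx hy
      inv_mem' := by
        rintro x (hx | hx)
        · exact Or.inl (Subgroup.inv_mem _ hx)
        · right
          have h1 := hcen ((x * g)⁻¹) (Subgroup.inv_mem _ hx) g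
          have : x⁻¹ * g = (x * g)⁻¹ := by
            calc x⁻¹ * g = g * (x * g)⁻¹ * g := by group
              _ = (x * g)⁻¹ * g * g := by rw [h1]
              _ = (x * g)⁻¹ := by rw [mul_assoc, hgg, mul_one]
          rw [this]
          exact Subgroup.inv_mem _ hx }
  have hZE : Subgroup.center X ≤ E := fun x hx => Or.inl hx
  have hEn : E.Normal := by
    apply normal_of_commutator_le
    rw [b.special.2.2]
    exact hZE
  have hEexp : ∀ e ∈ E, e ^ 2 = 1 := by
    rintro e (he | he)
    · exact b.exp e he
    · have hc2 := b.exp _ he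
      have he' : e = (e * g) * g := by rw [mul_assoc, hgg, mul_one]
      have hcomm : Commute (e * g) g := (hcen (e * g) he g).symm
      rw [he', hcomm.mul_pow, hc2, hg, one_mul]
  have hE4 : Nat.card E ≤ 4 := h.ne E hEn hEexp
  have hEZ : Subgroup.center X = E := by
    apply Subgroup.eq_of_le_of_card_ge hZE
    rw [hc]; exact hE4
  have hgE : g ∈ E := by
    right
    rw [hgg]; exact Subgroup.one_mem _
  rw [← hEZ] at hgE
  exact hgZ hgE

end Cfsg.Agent.Lib.Helper9.NG5U17a
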