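import Mathlib
import Cfsg.Agent.Lib.Lead.SmallSimple2

set_option autoImplicit false

namespace Cfsg.Agent.Lib.Helper9.NMXP7

variable {G : Type*} [Group G] [Finite G]

theorem fact_1092_7 : (1092 : ℕ).factorization 7 = 1 := by
  have h : (1092 : ℕ) = 7 * 156 := by norm_num
  rw [h, Nat.factorization_mul (by norm_num) (by norm_num)]
  simp [Nat.Prime.factorization_self (by norm_num : Nat.Prime 7),
    Nat.factorization_eq_zero_of_not_dvd (by norm_num : ¬ 7 ∣ 156)]

theorem fact_1092_3 : (1092 : ℕ).factorization 3 = 1 := by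
  have h : (1092 : ℕ) = 3 * 364 := by norm_num
  rw [h, Nat.factorization_mul (by norm_num) (by norm_num)]
  simp [Nat.Prime.factorization_self (by norm_num : Nat.Prime 3),
    Nat.factorization_eq_zero_of_not_dvd (by norm_num : ¬ 3 ∣ 364)]

theorem fact_1092_2 : (1092 : ℕ).factorization 2 = 2 := by
  have h : (1092 : ℕ) = 2 ^ 2 * 273 := by norm_num
  rw [h, Nat.factorization_mul (by norm_num) (by norm_num), Nat.factorization_pow]
  simp [Nat.Prime.factorization_self Nat.prime_two,
    Nat.factorization_eq_zero_of_not_dvd (by norm_num : ¬ 2 ∣ 273)]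

/-- Burnside: in a simple group of order 1092 a nontrivial proper Sylow subgroup is not central in
its normalizer. -/
theorem false_of_normalizer_le_centralizer [IsSimpleGroup G] (hcard : Nat.card G = 1092)
    {p : ℕ} [Fact p.Prime] (H : Subgroup G)
    (hHp : Nat.card H = p ^ (1092 : ℕ).factorization p) (hH1 : Nat.card H ≠ 1)
    (hH2 : Nat.card H ≠ 1092)
    (hNC : Subgroup.normalizer (H : Set G) ≤ Subgroup.centralizer (H : Set G)) : False := by
  let P : Sylow p G := Sylow.ofCard H (by rw [hcard]; exact hHp)
  have hPH : (P : Subgroup G) = H := Sylow.coe_ofCard H _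
  have h := Cfsg.Agent.Lib.Lead.SmallSimple2.burnside_simple P (by rw [hPH]; exact hNC)
  have hcP : Nat.card (P : Subgroup G) = Nat.card H := by rw [hPH]
  rcases h with h | h
  · apply hH2
    rw [← hcP]
    rw [hcard] at h
    exact h.symm
  · apply hH1
    rw [← hcP]
    exact h

/-- The normalizer of a nontrivial proper subgroup of a simple group is proper. -/
theorem normalizer_ne_top' [IsSimpleGroup G] (H : Subgroup G) (hbot : H ≠ ⊥) (htop : H ≠ ⊤) :
    Subgroup.normalizer (H : Set G) ≠ ⊤ := by
  intro h
  have hn : H.Normal := Subgroup.normalizer_eq_top_iff.mp h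
  rcases hn.eq_bot_or_eq_top with h1 | h1
  · exact hbot h1
  · exact htop h1

/-- For a subgroup of prime order `p`, `|N(H) : C(H)|` divides `p - 1`. -/
theorem relIndex_dvd_pred (p : ℕ) [Fact p.Prime] (H : Subgroup G) (hH : Nat.card H = p) :
    (Subgroup.centralizer (H : Set G)).relIndex (Subgroup.normalizer (H : Set G)) ∣ p - 1 := by
  have hcyc : IsCyclic H := isCyclic_of_prime_card hH
  have key := Subgroup.card_dvd_of_injective _
    (QuotientGroup.kerLift_injective H.normalizerMonoidHom)
  rw [Subgroup.normalizerMonoidHom_ker, ← Subgroup.index, ← Subgroup.relIndex] at key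
  rw [IsCyclic.card_mulAut, hH, Nat.totient_prime Fact.out] at key
  exact key

theorem card_normalizer_of_card_7 [IsSimpleGroup G] (hcard : Nat.card G = 1092)
    (hdvd : ∀ H : Subgroup G, H ≠ ⊤ → Nat.card H ∣ 78 ∨ Nat.card H ∣ 14 ∨ Nat.card H ∣ 12)
    (H : Subgroup G) (hH : Nat.card H = 7) :
    Nat.card (Subgroup.normalizer (H : Set G)) = 14 := by
  have : Fact (Nat.Prime 7) := ⟨by norm_num⟩
  have hbot : H ≠ ⊥ := by
    intro h; rw [h, Subgroup.card_bot] at hH; omega
  have htop : H ≠ ⊤ := by
    intro h; rw [h, Subgroup.card_top, hcard] at hH; omega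
  have hNtop := normalizer_ne_top' H hbot htop
  have h7 : 7 ∣ Nat.card (Subgroup.normalizer (H : Set G)) := by
    rw [← hH]; exact Subgroup.card_dvd_of_le Subgroup.le_normalizer
  have hpos : 0 < Nat.card (Subgroup.normalizer (H : Set G)) := Nat.card_pos
  have hcases : Nat.card (Subgroup.normalizer (H : Set G)) = 7 ∨
      Nat.card (Subgroup.normalizer (H : Set G)) = 14 := by
    rcases hdvd _ hNtop with h | h | h
    · exfalso
      have : 7 ∣ 78 := dvd_trans h7 h
      omega
    · have hle := Nat.le_of_dvd (by norm_num) h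
      obtain ⟨k, hk⟩ := h7
      omega
    · exfalso
      have : 7 ∣ 12 := dvd_trans h7 h
      omega
  rcases hcases with h | h
  · exfalso
    have hrel := relIndex_dvd_pred 7 H hH
    have hrel2 : (Subgroup.centralizer (H : Set G)).relIndex (Subgroup.normalizer (H : Set G)) ∣
        Nat.card (Subgroup.normalizer (H : Set G)) := Subgroup.relIndex_dvd_card _ _
    rw [h] at hrel2
    have hone : (Subgroup.centralizer (H : Set G)).relIndex (Subgroup.normalizer (H : Set G)) = 1 := by
      have h6 : (Subgroup.centralizer (H : Set G)).relIndex (Subgroup.normalizer (H : Set G)) ∣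
          Nat.gcd 6 7 := Nat.dvd_gcd hrel hrel2
      simpa using h6
    have hNC := Subgroup.relIndex_eq_one.mp hone
    apply false_of_normalizer_le_centralizer hcard (p := 7) H _ _ _ hNC
    · rw [fact_1092_7, hH]; norm_num
    · omega
    · omega
  · exact h

end Cfsg.Agent.Lib.Helper9.NMXP7
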