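import Mathlib
import Cfsg.Agent.Lib.Helper9.NMXP7

set_option autoImplicit false

namespace Cfsg.Agent.Lib.Helper9.NMXP3

open Cfsg.Agent.Lib.Helper9.NMXP7

variable {G : Type*} [Group G] [Finite G]

theorem card_normalizer_of_card_3 [IsSimpleGroup G] (hcard : Nat.card G = 1092)
    (hdvd : ∀ H : Subgroup G, H ≠ ⊤ → Nat.card H ∣ 78 ∨ Nat.card H ∣ 14 ∨ Nat.card H ∣ 12)
    (hord : ∀ g : G, orderOf g ∣ 13 ∨ orderOf g ∣ 6 ∨ orderOf g ∣ 7)
    (H : Subgroup G) (hH : Nat.card H = 3) :
    Nat.card (Subgroup.normalizer (H : Set G)) = 12 := by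
  have : Fact (Nat.Prime 3) := ⟨by norm_num⟩
  have hbot : H ≠ ⊥ := by
    intro h; rw [h, Subgroup.card_bot] at hH; omega
  have htop : H ≠ ⊤ := by
    intro h; rw [h, Subgroup.card_top, hcard] at hH; omega
  have hNtop := normalizer_ne_top' H hbot htop
  have h3 : 3 ∣ Nat.card (Subgroup.normalizer (H : Set G)) := by
    rw [← hH]; exact Subgroup.card_dvd_of_le Subgroup.le_normalizer
  have hpos : 0 < Nat.card (Subgroup.normalizer (H : Set G)) := Nat.card_pos
  -- Sylow counting
  let P : Sylow 3 G := Sylow.ofCard H (by rw [hcard, fact_1092_3, hH]; norm_num)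
  have hPH : (P : Subgroup G) = H := Sylow.coe_ofCard H _
  have hmod : Nat.card (Sylow 3 G) ≡ 1 [MOD 3] := card_sylow_modEq_one 3 G
  have hidx : Nat.card (Sylow 3 G) = (Subgroup.normalizer ((P : Subgroup G) : Set G)).index :=
    Sylow.card_eq_index_normalizer P
  rw [hPH] at hidx
  have hmul : Nat.card (Subgroup.normalizer (H : Set G)) *
      (Subgroup.normalizer (H : Set G)).index = 1092 := by
    rw [Subgroup.card_mul_index, hcard]
  rw [← hidx] at hmul
  have hmod' : Nat.card (Sylow 3 G) % 3 = 1 := by
    have := hmod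
    unfold Nat.ModEq at this
    omega
  have hcases : Nat.card (Subgroup.normalizer (H : Set G)) = 3 ∨
      Nat.card (Subgroup.normalizer (H : Set G)) = 39 ∨
      Nat.card (Subgroup.normalizer (H : Set G)) = 12 := by
    rcases hdvd _ hNtop with h | h | h
    · have hle := Nat.le_of_dvd (by norm_num) h
      obtain ⟨k, hk⟩ := h3
      obtain ⟨m, hm⟩ := h
      have hk26 : k ≤ 26 := by omega
      rw [hk] at hm hmul ⊢
      interval_cases k <;> first | omega | (exfalso; omega)
    · exfalso
      obtain ⟨k, hk⟩ := h3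
      obtain ⟨m, hm⟩ := h
      have hle : k ≤ 4 := by
        have := Nat.le_of_dvd (by norm_num) (Dvd.intro _ hm.symm)
        omega
      rw [hk] at hm
      interval_cases k <;> omega
    · have hle := Nat.le_of_dvd (by norm_num) h
      obtain ⟨k, hk⟩ := h3
      obtain ⟨m, hm⟩ := h
      have hk4 : k ≤ 4 := by omega
      rw [hk] at hm hmul ⊢
      interval_cases k <;> first | omega | (exfalso; omega)
  have hrel := relIndex_dvd_pred 3 H hH
  have hrel2 : (Subgroup.centralizer (H : Set G)).relIndex (Subgroup.normalizer (H : Set G)) ∣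
      Nat.card (Subgroup.normalizer (H : Set G)) := Subgroup.relIndex_dvd_card _ _
  have finish : Nat.Coprime 2 (Nat.card (Subgroup.normalizer (H : Set G))) → False := by
    intro hco
    have hone : (Subgroup.centralizer (H : Set G)).relIndex (Subgroup.normalizer (H : Set G)) = 1 := by
      have h6 := Nat.dvd_gcd hrel hrel2
      have hco' : Nat.gcd (3 - 1) (Nat.card (Subgroup.normalizer (H : Set G))) = 1 := hco
      rw [hco'] at h6
      exact Nat.dvd_one.mp h6
    have hNC := Subgroup.relIndex_eq_one.mp hone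
    apply false_of_normalizer_le_centralizer hcard (p := 3) H _ _ _ hNC
    · rw [fact_1092_3, hH]; norm_num
    · omega
    · omega
  rcases hcases with h | h | h
  · exfalso
    apply finish
    rw [h]; norm_num
  · exfalso
    apply finish
    rw [h]; norm_num
  · exact h

end Cfsg.Agent.Lib.Helper9.NMXP3
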