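import Mathlib
import Cfsg.Agent.Lib.Helper9.NMXP7

set_option autoImplicit false

namespace Cfsg.Agent.Lib.Helper9.NMXP4

open Cfsg.Agent.Lib.Helper9.NMXP7

variable {G : Type*} [Group G] [Finite G]

theorem card_normalizer_of_card_4 [IsSimpleGroup G] (hcard : Nat.card G = 1092)
    (hdvd : ∀ H : Subgroup G, H ≠ ⊤ → Nat.card H ∣ 78 ∨ Nat.card H ∣ 14 ∨ Nat.card H ∣ 12)
    (H : Subgroup G) (hH : Nat.card H = 4) :
    Nat.card (Subgroup.normalizer (H : Set G)) = 12 := by
  have : Fact (Nat.Prime 2) := ⟨Nat.prime_two⟩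
  have hbot : H ≠ ⊥ := by
    intro h; rw [h, Subgroup.card_bot] at hH; omega
  have htop : H ≠ ⊤ := by
    intro h; rw [h, Subgroup.card_top, hcard] at hH; omega
  have hNtop := normalizer_ne_top' H hbot htop
  have h4 : 4 ∣ Nat.card (Subgroup.normalizer (H : Set G)) := by
    rw [← hH]; exact Subgroup.card_dvd_of_le Subgroup.le_normalizer
  have hpos : 0 < Nat.card (Subgroup.normalizer (H : Set G)) := Nat.card_pos
  have hcases : Nat.card (Subgroup.normalizer (H : Set G)) = 4 ∨
      Nat.card (Subgroup.normalizer (H : Set G)) = 12 := by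
    rcases hdvd _ hNtop with h | h | h
    · exfalso
      have : 4 ∣ 78 := dvd_trans h4 h
      omega
    · exfalso
      have : 4 ∣ 14 := dvd_trans h4 h
      omega
    · have hle := Nat.le_of_dvd (by norm_num) h
      obtain ⟨k, hk⟩ := h4
      obtain ⟨m, hm⟩ := h
      have hk3 : k ≤ 3 := by omega
      rw [hk] at hm ⊢
      interval_cases k <;> omega
  rcases hcases with h | h
  · exfalso
    have hNH : H = Subgroup.normalizer (H : Set G) :=
      Subgroup.eq_of_le_of_card_ge Subgroup.le_normalizer (by rw [h, hH])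
    have hcomm : ∀ a b : H, a * b = b * a :=
      IsPGroup.commutative_of_card_eq_prime_sq (p := 2) (by rw [hH]; norm_num)
    have hHC : H ≤ Subgroup.centralizer (H : Set G) := by
      intro x hx
      rw [Subgroup.mem_centralizer_iff]
      intro y hy
      have := hcomm ⟨y, hy⟩ ⟨x, hx⟩
      exact congrArg Subtype.val this
    have hNC : Subgroup.normalizer (H : Set G) ≤ Subgroup.centralizer (H : Set G) := by
      rw [← hNH]; exact hHC
    apply false_of_normalizer_le_centralizer hcard (p := 2) H _ _ _ hNC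
    · rw [fact_1092_2, hH]; norm_num
    · omega
    · omega
  · exact h

end Cfsg.Agent.Lib.Helper9.NMXP4
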