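import Mathlib

set_option autoImplicit false

namespace Cfsg.Agent.Lib.Helper9.Norton1

variable {H : Type*} [Group H] {U : Type*} [AddCommGroup U] [Module ℝ U]

theorem rho_inv_apply (ρ : Representation ℝ H U) (g : H) (v : U) : ρ g (ρ g⁻¹ v) = v := by
  rw [← Module.End.mul_apply, ← map_mul, mul_inv_cancel, map_one, Module.End.one_apply]

/-- swap the last two arguments of a trilinear form -/
def swap23 (t : U →ₗ[ℝ] U →ₗ[ℝ] U →ₗ[ℝ] ℝ) : U →ₗ[ℝ] U →ₗ[ℝ] U →ₗ[ℝ] ℝ :=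
  (LinearMap.lflip (R₀ := ℝ) :
    (U →ₗ[ℝ] U →ₗ[ℝ] ℝ) ≃ₗ[ℝ] (U →ₗ[ℝ] U →ₗ[ℝ] ℝ)).toLinearMap.comp t

theorem swap23_apply (t : U →ₗ[ℝ] U →ₗ[ℝ] U →ₗ[ℝ] ℝ) (u v w : U) :
    swap23 t u v w = t u w v := rfl

/-- the trilinear form attached to a product -/
def tri (B : LinearMap.BilinForm ℝ U) (m : U →ₗ[ℝ] U →ₗ[ℝ] U) : U →ₗ[ℝ] U →ₗ[ℝ] U →ₗ[ℝ] ℝ :=
  m.compr₂ B

theorem tri_apply (B : LinearMap.BilinForm ℝ U) (m : U →ₗ[ℝ] U →ₗ[ℝ] U) (u v w : U) :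
    tri B m u v w = B (m u v) w := rfl

theorem tri_smul (B : LinearMap.BilinForm ℝ U) (m : U →ₗ[ℝ] U →ₗ[ℝ] U) (c : ℝ) :
    tri B (c • m) = c • tri B m := by
  ext u v w
  simp [tri_apply]

theorem tri_injective (B : LinearMap.BilinForm ℝ U) (hrad : ∀ u, (∀ v, B u v = 0) → u = 0)
    (m m' : U →ₗ[ℝ] U →ₗ[ℝ] U) (h : tri B m = tri B m') : m = m' := by
  ext u v
  have : m u v - m' u v = 0 := by
    apply hrad
    intro w
    have := congrArg (fun t : U →ₗ[ℝ] U →ₗ[ℝ] U →ₗ[ℝ] ℝ => t u v w) h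
    simp only [tri_apply] at this
    rw [map_sub, LinearMap.sub_apply, this, sub_self]
  exact sub_eq_zero.mp this

theorem nondeg_of_irr [FiniteDimensional ℝ U] (ρ : Representation ℝ H U)
    (hirr : ∀ W : Submodule ℝ U, (∀ g : H, W.map (ρ g) ≤ W) → W = ⊥ ∨ W = ⊤)
    (B : LinearMap.BilinForm ℝ U) (hB0 : B ≠ 0)
    (hBi : ∀ (g : H) (u v : U), B (ρ g u) (ρ g v) = B u v) :
    ∀ u, (∀ v, B u v = 0) → u = 0 := by
  have hWinv : ∀ g : H, (LinearMap.ker B).map (ρ g) ≤ LinearMap.ker B := by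
    rintro g _ ⟨u, hu, rfl⟩
    rw [SetLike.mem_coe, LinearMap.mem_ker] at hu
    rw [LinearMap.mem_ker]
    ext v
    have : B (ρ g u) v = B u (ρ g⁻¹ v) := by
      rw [← hBi g u (ρ g⁻¹ v), rho_inv_apply]
    rw [this, hu]
    rfl
  rcases hirr _ hWinv with h | h
  · intro u hu
    have : u ∈ LinearMap.ker B := by
      rw [LinearMap.mem_ker]
      ext v
      exact hu v
    rw [h] at this
    exact (Submodule.mem_bot ℝ).mp this
  · exfalso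
    apply hB0
    ext u v
    have : u ∈ LinearMap.ker B := by rw [h]; trivial
    rw [LinearMap.mem_ker] at this
    rw [this]
    rfl

end Cfsg.Agent.Lib.Helper9.Norton1
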