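import Cfsg.Agent.Lib.Helper9.Norton1

set_option autoImplicit false
set_option linter.unusedSectionVars false

namespace Cfsg.Agent.Lib.Helper9.Norton2

open Cfsg.Agent.Lib.Helper9.Norton1

variable {H : Type*} [Group H] {U : Type*} [AddCommGroup U] [Module ℝ U] [FiniteDimensional ℝ U]

/-- the product attached to a trilinear form -/
noncomputable def untri (B : LinearMap.BilinForm ℝ U) (hnd : B.Nondegenerate)
    (t : U →ₗ[ℝ] U →ₗ[ℝ] U →ₗ[ℝ] ℝ) : U →ₗ[ℝ] U →ₗ[ℝ] U :=
  t.compr₂ (B.toDual hnd).symm.toLinearMap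

theorem tri_untri (B : LinearMap.BilinForm ℝ U) (hnd : B.Nondegenerate)
    (t : U →ₗ[ℝ] U →ₗ[ℝ] U →ₗ[ℝ] ℝ) : tri B (untri B hnd t) = t := by
  ext u v w
  rw [tri_apply]
  exact LinearMap.BilinForm.apply_toDual_symm_apply (hB := hnd) (t u v) w

theorem inv_of_equiv (ρ : Representation ℝ H U) (B : LinearMap.BilinForm ℝ U)
    (hBi : ∀ (g : H) (u v : U), B (ρ g u) (ρ g v) = B u v) (m : U →ₗ[ℝ] U →ₗ[ℝ] U)
    (hm : ∀ (g : H) (u v : U), m (ρ g u) (ρ g v) = ρ g (m u v)) (g : H) (u v w : U) :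
    tri B m (ρ g u) (ρ g v) (ρ g w) = tri B m u v w := by
  rw [tri_apply, tri_apply, hm, hBi]

theorem equiv_of_inv (ρ : Representation ℝ H U) (B : LinearMap.BilinForm ℝ U)
    (hrad : ∀ u, (∀ v, B u v = 0) → u = 0)
    (hBi : ∀ (g : H) (u v : U), B (ρ g u) (ρ g v) = B u v) (m : U →ₗ[ℝ] U →ₗ[ℝ] U)
    (hm : ∀ (g : H) (u v w : U), tri B m (ρ g u) (ρ g v) (ρ g w) = tri B m u v w)
    (g : H) (u v : U) : m (ρ g u) (ρ g v) = ρ g (m u v) := by
  have : m (ρ g u) (ρ g v) - ρ g (m u v) = 0 := by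
    apply hrad
    intro w'
    have h1 := hm g u v (ρ g⁻¹ w')
    rw [tri_apply, tri_apply, rho_inv_apply] at h1
    have h2 := hBi g (m u v) (ρ g⁻¹ w')
    rw [rho_inv_apply] at h2
    rw [map_sub, LinearMap.sub_apply, h1, h2, sub_self]
  exact sub_eq_zero.mp this

theorem norton_criterion (ρ : Representation ℝ H U)
    (hirr : ∀ W : Submodule ℝ U, (∀ g : H, W.map (ρ g) ≤ W) → W = ⊥ ∨ W = ⊤)
    (B : LinearMap.BilinForm ℝ U) (hB0 : B ≠ 0) (hBs : ∀ u v, B u v = B v u)
    (hBi : ∀ (g : H) (u v : U), B (ρ g u) (ρ g v) = B u v) :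
    (∃ m : U →ₗ[ℝ] U →ₗ[ℝ] U, m ≠ 0 ∧ (∀ u v, m u v = m v u) ∧
      (∀ (g : H) (u v : U), m (ρ g u) (ρ g v) = ρ g (m u v)) ∧
      ∀ m' : U →ₗ[ℝ] U →ₗ[ℝ] U, (∀ (g : H) (u v : U), m' (ρ g u) (ρ g v) = ρ g (m' u v)) →
        ∃ c : ℝ, m' = c • m) ↔
    (∃ t : U →ₗ[ℝ] U →ₗ[ℝ] U →ₗ[ℝ] ℝ, t ≠ 0 ∧
      (∀ u v w, t u v w = t v u w ∧ t u v w = t u w v) ∧
      (∀ (g : H) (u v w : U), t (ρ g u) (ρ g v) (ρ g w) = t u v w) ∧
      ∀ t' : U →ₗ[ℝ] U →ₗ[ℝ] U →ₗ[ℝ] ℝ,
        (∀ (g : H) (u v w : U), t' (ρ g u) (ρ g v) (ρ g w) = t' u v w) →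
        ∃ c : ℝ, t' = c • t) := by
  have hrad := nondeg_of_irr ρ hirr B hB0 hBi
  have hnd : B.Nondegenerate :=
    ⟨hrad, fun v hv => hrad v (fun u => by rw [hBs]; exact hv u)⟩
  have htri0 : tri B (0 : U →ₗ[ℝ] U →ₗ[ℝ] U) = 0 := by
    ext u v w
    simp [tri_apply]
  constructor
  · rintro ⟨m, hm0, hmc, hme, hmu⟩
    have hspan : ∀ t' : U →ₗ[ℝ] U →ₗ[ℝ] U →ₗ[ℝ] ℝ,
        (∀ (g : H) (u v w : U), t' (ρ g u) (ρ g v) (ρ g w) = t' u v w) →
        ∃ c : ℝ, t' = c • tri B m := by
      intro t' ht'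
      have h1 : ∀ (g : H) (u v : U),
          untri B hnd t' (ρ g u) (ρ g v) = ρ g (untri B hnd t' u v) := by
        apply equiv_of_inv ρ B hrad hBi
        rw [tri_untri]
        exact ht'
      obtain ⟨c, hc⟩ := hmu _ h1
      refine ⟨c, ?_⟩
      rw [← tri_smul, ← hc, tri_untri]
    have hinv := inv_of_equiv ρ B hBi m hme
    have hsym12 : ∀ u v w, tri B m u v w = tri B m v u w := by
      intro u v w
      rw [tri_apply, tri_apply, hmc]
    refine ⟨tri B m, ?_, ?_, hinv, hspan⟩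
    · intro h
      apply hm0
      apply tri_injective B hrad
      rw [h, htri0]
    · intro u v w
      refine ⟨hsym12 u v w, ?_⟩
      obtain ⟨c, hc⟩ := hspan (swap23 (tri B m)) (by
        intro g u v w
        rw [swap23_apply, swap23_apply]
        exact hinv g u w v)
      have hc' : ∀ u v w, tri B m u w v = c * tri B m u v w := by
        intro u v w
        have := congrArg (fun t : U →ₗ[ℝ] U →ₗ[ℝ] U →ₗ[ℝ] ℝ => t u v w) hc
        simpa [swap23_apply] using this
      by_cases hz : tri B m u v w = 0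
      · rw [hz, hc', hz, mul_zero]
      · have h2 : tri B m u v w = c * (c * tri B m u v w) := by
          rw [← hc' u v w, ← hc' u w v]
        have hcc : c * c = 1 := by
          have : (c * c - 1) * tri B m u v w = 0 := by linarith
          rcases mul_eq_zero.mp this with h | h
          · linarith
          · exact absurd h hz
        rcases mul_self_eq_one_iff.mp hcc with h1 | h1
        · rw [hc', h1, one_mul]
        · exfalso
          apply hz
          have e1 : tri B m u v w = -tri B m u w v := by rw [hc', h1]; ring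
          have e2 : tri B m u w v = tri B m w u v := hsym12 u w v
          have e3 : tri B m w u v = -tri B m w v u := by rw [hc' w u v, h1]; ring
          have e4 : tri B m w v u = tri B m v w u := hsym12 w v u
          have e5 : tri B m v w u = -tri B m v u w := by rw [hc' v w u, h1]; ring
          have e6 : tri B m v u w = tri B m u v w := hsym12 v u w
          linarith
  · rintro ⟨t, ht0, hts, hti, htu⟩
    have hme : ∀ (g : H) (u v : U),
        untri B hnd t (ρ g u) (ρ g v) = ρ g (untri B hnd t u v) := by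
      apply equiv_of_inv ρ B hrad hBi
      rw [tri_untri]
      exact hti
    refine ⟨untri B hnd t, ?_, ?_, hme, ?_⟩
    · intro h
      apply ht0
      rw [← tri_untri B hnd t, h, htri0]
    · intro u v
      have : untri B hnd t u v - untri B hnd t v u = 0 := by
        apply hrad
        intro w
        have h1 : B (untri B hnd t u v) w = t u v w := by
          rw [← tri_apply, tri_untri]
        have h2 : B (untri B hnd t v u) w = t v u w := by
          rw [← tri_apply, tri_untri]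
        rw [map_sub, LinearMap.sub_apply, h1, h2, (hts u v w).1, sub_self]
      exact sub_eq_zero.mp this
    · intro m' hm'
      obtain ⟨c, hc⟩ := htu (tri B m') (inv_of_equiv ρ B hBi m' hm')
      refine ⟨c, ?_⟩
      apply tri_injective B hrad
      rw [tri_smul, tri_untri, hc]

end Cfsg.Agent.Lib.Helper9.Norton2
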