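import Mathlib
import Cfsg.Prelude
import Cfsg.Agent.Lib.Helper9.OE8c
import Cfsg.Agent.Lib.Helper5.AschE.GenMain

set_option autoImplicit false
set_option linter.unusedSectionVars false
set_option linter.unusedVariables false
set_option linter.style.longLine false
set_option linter.unusedSimpArgs false
open Cfsg

namespace Cfsg.Agent.Lib.Helper9.OE8

open Module Matrix QuadraticMap
open scoped commutatorElement
open Cfsg.Geo Cfsg.Agent.Lib.Helper8.Asch Cfsg.Agent.Lib.Helper5.AschO Cfsg.Agent.Lib.Helper5.AschE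

variable {ι : Type} [Fintype ι] [DecidableEq ι] {F : Type*} [Field F]

/-- the structure theorem for the orthogonal groups of dimension `8` and minus type, `q` odd:
the classes `6` and `7` do not occur -/
theorem even_main8_isom [Fintype F] [Nonempty ι] (Q : QuadraticForm F (ι → F))
    (hGdet : (gramQ Q).det ≠ 0) (hcard : Fintype.card ι = 8) (hodd : Odd (Fintype.card F))
    (hminus : ¬ IsPlusTypeOn (⇑Q) ⊤)
    (H : Subgroup (GL ι F)) (hI : H ≤ isometryGroup F ⇑Q)
    (hdet : ∀ h ∈ H, (h : Matrix ι ι F).det = 1) :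
    (∃ M, InOEClass (⇑Q) M ∧ H ≤ M) ∨ InOrthogonalResidualClass H := by
  have h2 : (2 : F) ≠ 0 := two_ne_zero_of_odd hodd
  have hsq : ∀ k : ℕ, Fintype.card ι ≠ k ^ 2 := by
    intro k hk
    rw [hcard] at hk
    have h3 : k < 3 := by
      by_contra hc
      push Not at hc
      have : 3 ^ 2 ≤ k ^ 2 := Nat.pow_le_pow_left hc 2
      omega
    interval_cases k <;> omega
  rcases even_main_gen Q hGdet (by omega) hsq H hI hdet with h | h | ⟨N, hN, hspan, hirr, hA | hW⟩
  · exact Or.inl h
  · exact Or.inr h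
  · exfalso
    apply hminus
    have hH : OHyp (gramQ Q) H := ohyp_of_isom Q hI hdet
    exact caseA_plus Q h2 hodd hGdet (k := 2) (by omega) (by omega)
      (fun x hx => hH.isom x (hN.le hx)) hspan hA.comm
  · exfalso
    apply hminus
    obtain ⟨-, k, P, hk, hPinj, hPN, -, hcomm, hgen, hperm, htrans⟩ := hW
    exact wreath_plus8 Q h2 hodd hGdet hcard H N (fun h hh u => Q_inv hI hh u) hN.le hspan k P hk
      hPinj hPN hcomm hgen hperm htrans

/-- the same for subgroups of `Ω` -/
theorem even_main8 [Fintype F] [Nonempty ι] (Q : QuadraticForm F (ι → F))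
    (hGdet : (gramQ Q).det ≠ 0) (hcard : Fintype.card ι = 8) (hodd : Odd (Fintype.card F))
    (hminus : ¬ IsPlusTypeOn (⇑Q) ⊤)
    (H : Subgroup (GL ι F)) (hHΩ : H ≤ omegaGL ⇑Q) :
    (∃ M, InOEClass (⇑Q) M ∧ H ≤ M) ∨ InOrthogonalResidualClass H :=
  even_main8_isom Q hGdet hcard hodd hminus H (hHΩ.trans (omegaGL_le_isom _))
    (fun _ hh => det_of_mem_omegaGL _ (hHΩ hh))

end Cfsg.Agent.Lib.Helper9.OE8
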