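import Mathlib
import Cfsg.Prelude
import Cfsg.Agent.Lib.Helper9.OE8d
import Cfsg.Agent.Lib.Helper8.OeZ1

set_option autoImplicit false
set_option linter.unusedSectionVars false
set_option linter.unusedVariables false
set_option linter.style.longLine false
set_option linter.unusedSimpArgs false
open Cfsg

namespace Cfsg.Agent.Lib.Helper9.OE8

open Module Matrix QuadraticMap
open scoped commutatorElement
open Cfsg.Geo Cfsg.Agent.Lib.Helper8.Asch Cfsg.Agent.Lib.Helper5.AschO Cfsg.Agent.Lib.Helper5.AschE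

variable {ι : Type} [Fintype ι] [DecidableEq ι] {F : Type*} [Field F]

/-- a quadratic form vanishes on a linear combination of pairwise orthogonal singular vectors -/
theorem Q_sum_zero {V : Type*} [AddCommGroup V] [Module F V] (Q : QuadraticForm F V) {α : Type*}
    (s : Finset α) (u : α → V) (hQ : ∀ a, Q (u a) = 0) (hp : ∀ a b, polar Q (u a) (u b) = 0)
    (c : α → F) : Q (∑ a ∈ s, c a • u a) = 0 := by
  classical
  induction s using Finset.induction_on with
  | empty => rw [Finset.sum_empty, map_zero]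
  | insert a s ha ih =>
    rw [Finset.sum_insert ha]
    have h1 : Q (c a • u a + ∑ b ∈ s, c b • u b) =
        Q (c a • u a) + Q (∑ b ∈ s, c b • u b) + polar Q (c a • u a) (∑ b ∈ s, c b • u b) := by
      unfold polar
      ring
    have key : ∀ x y : V, polar Q x y = polarBilin Q x y := fun x y => rfl
    rw [h1, ih, QuadraticMap.map_smul, hQ, smul_zero, key, map_sum]
    simp only [map_smul, LinearMap.smul_apply, ← key, hp, smul_zero, Finset.sum_const_zero,
      add_zero]

theorem card_cubeS : Fintype.card {a : Fin 3 → Fin 2 // a 0 = 0} = 4 := by decide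

/-- the singular half of a threefold tensor power of an alternating form on a plane -/
theorem oecls7_plus8 (Q : QuadraticForm F (ι → F)) {k t : ℕ} (ht : 2 ≤ t)
    (hcard : Fintype.card ι = 8) (e : ι ≃ (Fin t → Fin k)) (P : GL ι F)
    (f₁ : (Fin k → F) → (Fin k → F) → F) (hf₁ : IsSymplecticForm f₁)
    (hT : IsTensorPowerFormStructure id (polar ⇑Q) f₁ e P)
    (hQ0 : ∀ ws : Fin t → Fin k → F,
      Q ((P : Matrix ι ι F) *ᵥ ((fun a : Fin t → Fin k => ∏ i, ws i (a i)) ∘ e)) = 0) :
    IsPlusTypeOn (⇑Q) ⊤ := by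
  classical
  have hc8 : k ^ t = 8 := by
    rw [← hcard, Fintype.card_congr e, Fintype.card_fun, Fintype.card_fin, Fintype.card_fin]
  obtain ⟨rfl, rfl⟩ := pow_eq_eight ht hc8
  obtain ⟨c, hc0, hc⟩ := hT
  set u : (Fin 3 → Fin 2) → (ι → F) :=
    fun a => (P : Matrix ι ι F) *ᵥ ((Pi.single a (1 : F) : (Fin 3 → Fin 2) → F) ∘ e) with hu
  have hQu : ∀ a, Q (u a) = 0 := by
    intro a
    have := hQ0 (fun i => Pi.single (a i) 1)
    have h3 : (fun b : Fin 3 → Fin 2 => ∏ i, (Pi.single (a i) (1 : F) : Fin 2 → F) (b i)) =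
        Pi.single a 1 := ptV_single a
    rw [h3] at this
    exact this
  have hpu : ∀ a b, polar Q (u a) (u b) = c * ∏ i, gramMatrix f₁ (a i) (b i) := by
    intro a b
    rw [hu, hc]
    simp only [id, Pi.single_apply, ite_mul, one_mul, zero_mul, mul_ite, mul_one, mul_zero,
      Finset.sum_ite_eq', Finset.sum_ite_eq, Finset.mem_univ, if_true]
  set S := {a : Fin 3 → Fin 2 // a 0 = 0} with hS
  have hpS : ∀ a b : S, polar Q (u a.1) (u b.1) = 0 := by
    intro a b
    rw [hpu, Finset.prod_eq_zero (Finset.mem_univ 0), mul_zero]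
    rw [a.2, b.2]
    exact hf₁.alternating _
  set Φ : (S → F) →ₗ[F] (ι → F) := Fintype.linearCombination F (fun a : S => u a.1) with hΦ
  have hinj : Function.Injective Φ := by
    rw [← LinearMap.ker_eq_bot, LinearMap.ker_eq_bot']
    intro y hy
    rw [hΦ, Fintype.linearCombination_apply] at hy
    have h1 : ∑ a : S, y a • u a.1 = (P : Matrix ι ι F) *ᵥ
        ((∑ a : S, y a • (Pi.single a.1 (1 : F) : (Fin 3 → Fin 2) → F)) ∘ e) := by
      have : ((∑ a : S, y a • (Pi.single a.1 (1 : F) : (Fin 3 → Fin 2) → F)) ∘ e) =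
          ∑ a : S, y a • ((Pi.single a.1 (1 : F) : (Fin 3 → Fin 2) → F) ∘ e) := by
        funext i
        simp only [Function.comp_apply, Finset.sum_apply, Pi.smul_apply]
      rw [this, Matrix.mulVec_sum]
      apply Finset.sum_congr rfl
      intro a _
      rw [Matrix.mulVec_smul]
    rw [h1] at hy
    have h3 : ((∑ a : S, y a • (Pi.single a.1 (1 : F) : (Fin 3 → Fin 2) → F)) ∘ e) = 0 := by
      have := congrArg (fun w => ((P⁻¹ : GL ι F) : Matrix ι ι F) *ᵥ w) hy
      simp only [Matrix.mulVec_mulVec, Matrix.mulVec_zero] at this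
      rw [← Units.val_mul, inv_mul_cancel, Units.val_one, Matrix.one_mulVec] at this
      exact this
    funext b
    have h4 := congrFun h3 (e.symm b.1)
    simp only [Function.comp_apply, Equiv.apply_symm_apply, Finset.sum_apply, Pi.smul_apply,
      Pi.single_apply, smul_eq_mul, mul_ite, mul_one, mul_zero, Pi.zero_apply] at h4
    rw [Finset.sum_eq_single b] at h4
    · simpa using h4
    · intro a _ hab
      rw [if_neg]
      intro h
      exact hab (Subtype.ext h.symm)
    · intro h
      exact absurd (Finset.mem_univ _) h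
  refine ⟨LinearMap.range Φ, le_top, ?_, ?_⟩
  · rintro _ ⟨y, rfl⟩
    rw [hΦ, Fintype.linearCombination_apply]
    exact Q_sum_zero Q Finset.univ (fun a : S => u a.1) (fun a => hQu a.1) hpS y
  · rw [LinearMap.finrank_range_of_inj hinj, finrank_top, Module.finrank_fintype_fun_eq_card,
      Module.finrank_fintype_fun_eq_card, hcard]
    have : Fintype.card S = 4 := by
      have h := card_cubeS
      convert h
    rw [this]

theorem isNondegenerateQuadraticForm_of_det (Q : QuadraticForm F (ι → F))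
    (hGdet : (gramQ Q).det ≠ 0) : IsNondegenerateQuadraticForm (⇑Q) where
  smul := fun c v => by rw [QuadraticMap.map_smul, smul_eq_mul, pow_two]
  polar_bilinear := isBilinearForm_polar' Q
  nondegenerate := nondegForm_polar Q hGdet

/-- the structure theorem for the orthogonal groups of dimension `8` and minus type, all `q` -/
theorem even_main8_all_isom [Fintype F] [Nonempty ι] (Q : QuadraticForm F (ι → F))
    (hGdet : (gramQ Q).det ≠ 0) (hcard : Fintype.card ι = 8)
    (hminus : ¬ IsPlusTypeOn (⇑Q) ⊤)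
    (H : Subgroup (GL ι F)) (hI : H ≤ isometryGroup F ⇑Q)
    (hdet : ∀ h ∈ H, (h : Matrix ι ι F).det = 1) :
    (∃ M, InOEClass (⇑Q) M ∧ H ≤ M) ∨ InOrthogonalResidualClass H := by
  by_cases hodd : Odd (Fintype.card F)
  · exact even_main8_isom Q hGdet hcard hodd hminus H hI hdet
  · have h2 : (2 : F) = 0 := two_eq_zero_of_not_odd hodd
    rcases oe_main_even (⇑Q) (isNondegenerateQuadraticForm_of_det Q hGdet) h2 (by omega) H hI with
      ⟨M, hM | hM, hle⟩ | hres
    · exact Or.inl ⟨M, hM, hle⟩
    · exfalso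
      obtain ⟨k, t, e, P, f₁, ht, hf₁, hT, hQ0, -⟩ := hM
      exact hminus (oecls7_plus8 Q ht hcard e P f₁ hf₁ hT hQ0)
    · exact Or.inr hres

/-- the same for subgroups of `Ω` -/
theorem even_main8_all [Fintype F] [Nonempty ι] (Q : QuadraticForm F (ι → F))
    (hGdet : (gramQ Q).det ≠ 0) (hcard : Fintype.card ι = 8)
    (hminus : ¬ IsPlusTypeOn (⇑Q) ⊤)
    (H : Subgroup (GL ι F)) (hHΩ : H ≤ omegaGL ⇑Q) :
    (∃ M, InOEClass (⇑Q) M ∧ H ≤ M) ∨ InOrthogonalResidualClass H :=
  even_main8_all_isom Q hGdet hcard hminus H (hHΩ.trans (omegaGL_le_isom _))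
    (fun _ hh => det_of_mem_omegaGL _ (hHΩ hh))

end Cfsg.Agent.Lib.Helper9.OE8
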