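import Mathlib
import Cfsg.Prelude
import Cfsg.Agent.Lib.Helper9.OE8e
import Cfsg.Agent.Lib.Helper2.OevP

set_option autoImplicit false
set_option linter.unusedSectionVars false
set_option linter.unusedVariables false
set_option linter.style.longLine false
set_option linter.unusedSimpArgs false
open Cfsg

set_option maxHeartbeats 1600000
namespace Cfsg.Agent.Lib.Helper9.OE8

open Matrix QuadraticMap Module Cfsg.Agent.Lib.Helper5.CartanDieudonne Cfsg.Agent.Lib.Helper5.Refl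
  Cfsg.Agent.Lib.Helper5.Siegel Cfsg.Agent.Lib.Helper5.QuadIsom
  Cfsg.Agent.Lib.Helper5.ReflGen Cfsg.Agent.Lib.Helper5.Eichler Cfsg.Agent.Lib.Helper5.SingGeom
  Cfsg.Agent.Lib.Helper5.OmegaGen Cfsg.Agent.Lib.Helper5.OmegaSimple
  Cfsg.Agent.Lib.Helper5.SpSingularMax Cfsg.Agent.Lib.Helper5.OrthSingularMax
  Cfsg.Agent.Lib.Helper5.OrthDecompSiegel Cfsg.Agent.Lib.Helper2.Omx Cfsg.Agent.Lib.Helper2.Oev

/-- The maximal subgroups of `Ω₈⁻(q)`: from the geometric classes to the listed types. -/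
theorem main8minus {F : Type*} [Field F] [Fintype F] (Q : QuadraticForm F (Fin 8 → F))
    (Hy : Hyp Q) (hminus : ¬ Cfsg.Geo.IsPlusTypeOn ⇑Q ⊤)
    (H : Subgroup (Matrix.GeneralLinearGroup (Fin 8) F))
    (hH : Cfsg.Geo.IsMaximalIn (Cfsg.Geo.omegaGL ⇑Q) H) :
    (∃ W : Submodule F (Fin 8 → F), W ≠ ⊥ ∧ Cfsg.Geo.IsTotallySingularQuad ⇑Q W ∧ H = Cfsg.Geo.subspaceStabilizer W ⊓ Cfsg.Geo.omegaGL ⇑Q) ∨
    (Odd (Fintype.card F) ∧ ∃ W : Submodule F (Fin 8 → F), W ≠ ⊥ ∧ W ≠ ⊤ ∧ Odd (Module.finrank F W) ∧ Cfsg.Geo.IsNondegenerateOn (QuadraticMap.polar ⇑Q) W ∧ H = Cfsg.Geo.subspaceStabilizer W ⊓ Cfsg.Geo.omegaGL ⇑Q) ∨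
    (∃ W : Submodule F (Fin 8 → F), Module.finrank F W = 2 ∧ Cfsg.Geo.IsNondegenerateOn (QuadraticMap.polar ⇑Q) W ∧ ¬ Cfsg.Geo.IsPlusTypeOn ⇑Q W ∧ H = Cfsg.Geo.subspaceStabilizer W ⊓ Cfsg.Geo.omegaGL ⇑Q) ∨
    (4 ≤ Fintype.card F ∧ ∃ W : Submodule F (Fin 8 → F), Module.finrank F W = 2 ∧ Cfsg.Geo.IsNondegenerateOn (QuadraticMap.polar ⇑Q) W ∧ Cfsg.Geo.IsPlusTypeOn ⇑Q W ∧ H = Cfsg.Geo.subspaceStabilizer W ⊓ Cfsg.Geo.omegaGL ⇑Q) ∨
    (∃ W : Submodule F (Fin 8 → F), Module.finrank F W = 4 ∧ Cfsg.Geo.IsNondegenerateOn (QuadraticMap.polar ⇑Q) W ∧ H = Cfsg.Geo.subspaceStabilizer W ⊓ Cfsg.Geo.omegaGL ⇑Q) ∨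
    (¬ Odd (Fintype.card F) ∧ ∃ v : (Fin 8 → F), ⇑Q v ≠ 0 ∧ H = Cfsg.Geo.subspaceStabilizer (Submodule.span F {v}) ⊓ Cfsg.Geo.omegaGL ⇑Q) ∨
    (∃ K : Subalgebra F (Matrix (Fin 8) (Fin 8) F), Cfsg.Geo.IsFieldSubalgebra 2 K ∧ H = Cfsg.Geo.subalgebraNormalizer K ⊓ Cfsg.Geo.omegaGL ⇑Q) ∨
    (∃ (F₀ : Subfield F) (r : ℕ) (P : Matrix.GeneralLinearGroup (Fin 8) F) (ζ : F), r.Prime ∧ Odd r ∧ Fintype.card F = Nat.card F₀ ^ r ∧ ζ ≠ 0 ∧ Cfsg.Geo.IsQuadFormRationalStructure (fun v : Fin 8 → F => ζ * ⇑Q v) F₀ P ∧ H = Cfsg.Geo.subfieldSubgroup F₀ P ⊓ Cfsg.Geo.omegaGL ⇑Q) ∨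
    Cfsg.Geo.InOrthogonalResidualClass H := by
  have hHΩ : H ≤ Cfsg.Geo.omegaGL ⇑Q := hH.1.le
  have hn : Fintype.card (Fin 8) = 8 := Fintype.card_fin 8
  have hstabI : ∀ g ∈ H, ∀ x, Q ((g : Matrix (Fin 8) (Fin 8) F) *ᵥ x) = Q x := by
    intro g hg x
    obtain ⟨a, -, rfl⟩ := (mem_omegaGL_iff Q g).mp (hHΩ hg)
    exact quad_act Q a x
  rcases even_main8_all Q (Cfsg.Agent.Lib.Helper5.AschO.gramQ_det Q Hy.nondeg) hn hminus H hHΩ
    with ⟨M, hM, hHM⟩ | hres
  swap
  · iterate 8 right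
    exact hres
  rcases hM with ⟨W, hW0, hWts, rfl⟩ | ⟨W, hW0, hW1, hWnd, rfl⟩ | ⟨h2, v, hv, rfl⟩ |
    ⟨t, k, D, hk, hD, rfl⟩ | ⟨t, D, hp, h2, hD, rfl⟩ | ⟨k, D, hD, hts, rfl⟩ |
    ⟨r, K, hr, hK, hsa, rfl⟩ | ⟨K, hK, hac, hnsa, hsim, rfl⟩ |
    ⟨n₁, n₂, e, P, f₁, f₂, h1, h12, h2, hf₁, hf₂, hT, rfl⟩ |
    ⟨n₁, n₂, e, P, f₁, f₂, h1, h12, hf₁, hf₂, hT, hQ0, rfl⟩ |
    ⟨F₀, r, P, ζ, hr, hcardF, hζ, hrat, rfl⟩
  · -- 1a totally singular
    left
    have hW1 : W ≠ ⊤ := by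
      rintro rfl
      obtain ⟨z, hz, -, -⟩ := exists_aniso_perp2 Q Hy.nondeg Hy.finrank5 0 0
      exact hz (hWts z Submodule.mem_top)
    exact ⟨W, hW0, hWts, eq_inf_of_le hH (hHM.trans inf_le_left) (not_le_stab Hy W hW0 hW1)⟩
  · -- 1b non-degenerate
    obtain ⟨W', hW'0, hW'1, hnd', hdim', hle⟩ := exists_small_nondeg Hy hW0 hW1 hWnd
    have hHW' : H ≤ Cfsg.Geo.subspaceStabilizer W' :=
      ((le_inf (hHM.trans inf_le_left) hHΩ).trans hle).trans inf_le_left
    have hEq := eq_inf_of_le hH hHW' (not_le_stab Hy W' hW'0 hW'1)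
    rw [hn] at hdim'
    have hpos : 0 < finrank F W' := by
      rw [Module.finrank_pos_iff_exists_ne_zero]
      obtain ⟨w, hw, hw0⟩ := (Submodule.ne_bot_iff W').1 hW'0
      exact ⟨⟨w, hw⟩, fun h => hw0 (congrArg Subtype.val h)⟩
    by_cases hoddd : Odd (finrank F W')
    · -- odd dimension
      by_cases hoddq : Odd (Fintype.card F)
      · right; left
        exact ⟨hoddq, W', hW'0, hW'1, hoddd, hnd', hEq⟩
      · exact absurd (even_finrank_of_nd (two_eq_zero_of_not_odd hoddq) (nd_of_nondegOn hnd'))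
          (Nat.not_even_iff_odd.2 hoddd)
    · have heven : Even (finrank F W') := Nat.not_odd_iff_even.1 hoddd
      obtain ⟨c, hc⟩ := heven
      have hcases : finrank F W' = 2 ∨ finrank F W' = 4 := by omega
      rcases hcases with h2d | h4d
      · rcases plane_cases Hy h2d hnd' with hmin | ⟨hq4, hpl⟩ | ⟨v, hv, hlev⟩
        · right; right; left
          exact ⟨W', h2d, hnd', hmin, hEq⟩
        · right; right; right; left
          exact ⟨hq4, W', h2d, hnd', hpl, hEq⟩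
        · have hHv : H ≤ Cfsg.Geo.subspaceStabilizer (Submodule.span F ({v} : Set (Fin 8 → F))) :=
            ((le_inf hHW' hHΩ).trans hlev).trans inf_le_left
          have hv0 : v ≠ 0 := by
            rintro rfl
            exact hv (map_zero _)
          have hEqv := eq_inf_of_le hH hHv (not_le_stab Hy _ (span_singleton_ne_bot hv)
            (span_singleton_ne_top (by rw [hn]; norm_num) v))
          by_cases hoddq : Odd (Fintype.card F)
          · right; left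
            refine ⟨hoddq, _, span_singleton_ne_bot hv,
              span_singleton_ne_top (by rw [hn]; norm_num) v, ?_,
              line_nondeg (two_ne_zero_of_odd' hoddq) v hv, hEqv⟩
            rw [finrank_span_singleton hv0]
            exact odd_one
          · iterate 5 right
            left
            exact ⟨hoddq, v, hv, hEqv⟩
      · iterate 4 right
        left
        exact ⟨W', h4d, hnd', hEq⟩
  · -- 1c non-singular point
    iterate 5 right
    left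
    exact ⟨not_odd_of_two_eq_zero h2, v, hv, eq_inf_of_le hH (hHM.trans inf_le_left)
      (not_le_stab Hy _ (span_singleton_ne_bot hv)
        (span_singleton_ne_top (by rw [hn]; norm_num) v))⟩
  · -- 2a decompositions
    have hcard := card_blocks hD
    rw [hn] at hcard
    have ht2 := hD.decomp.decomp.two_le
    have hk4 : k ≤ 4 := by nlinarith
    have hk2 : 2 ≤ k := hk
    interval_cases k
    · -- k = 2, t = 4
      exact absurd (plus_of_four_blocks hD ⟨1, by omega⟩) hminus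
    · -- k = 3
      omega
    · -- k = 4, t = 2
      exact absurd (plus_of_even_blocks hD ⟨2, rfl⟩ ⟨1, by omega⟩) hminus
  · -- 2f frames
    have hcard := card_blocks hD
    rw [hn] at hcard
    exact absurd (plus_of_four_blocks hD ⟨2, by omega⟩) hminus
  · -- 2b pairs of totally singular subspaces
    exact absurd (plus_of_ts_pair hD hts) hminus
  · -- 3a fields
    have hdvd := dvd_of_fieldSubalgebra' hr.pos hK
    rw [hn] at hdvd
    have hr8 : r ≤ 8 := Nat.le_of_dvd (by norm_num) hdvd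
    have hr2 := hr.two_le
    have hcases : r = 2 := by
      interval_cases r <;> first | rfl | omega | (exfalso; revert hr; decide) | (exfalso; revert hdvd; decide)
    subst hcases
    iterate 6 right
    left
    exact ⟨K, hK, eq_inf_of_le hH (hHM.trans inf_le_left)
      (not_le_fieldNormalizer' Hy (by norm_num) hK)⟩
  · -- 3b unitary type
    iterate 6 right
    left
    exact ⟨K, hK, eq_inf_of_le hH (hHM.trans inf_le_left)
      (not_le_fieldNormalizer' Hy (by norm_num) hK)⟩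
  · -- 4a tensor products of symmetric forms
    have hcard := card_of_tensor_equiv e
    rw [hn] at hcard
    have hn1 : n₁ ≤ 2 := by nlinarith
    have hpolI : ∀ g ∈ H, ∀ u w : Fin 8 → F,
        polar ⇑Q ((g : Matrix (Fin 8) (Fin 8) F) *ᵥ u) ((g : Matrix (Fin 8) (Fin 8) F) *ᵥ w) =
          polar ⇑Q u w := by
      intro g hg u w
      unfold polar
      rw [← Matrix.mulVec_add, hstabI g hg, hstabI g hg, hstabI g hg]
    obtain rfl : n₁ = 2 := by omega
    obtain rfl : n₂ = 4 := by omega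
    by_cases haniso : ∀ x : Fin 2 → F, x ≠ 0 → f₁ x x ≠ 0
    · obtain ⟨L, hL, hnorm⟩ := tensor2_field e P hf₁.bilinear hf₁.symm haniso hf₂.bilinear
        (exists_ne_of_nondeg (by norm_num) hf₂.nondegenerate) hT
      iterate 6 right
      left
      exact ⟨L, hL, eq_inf_of_le hH (fun g hg => hnorm g (hHM hg).1 (hpolI g hg))
        (not_le_fieldNormalizer' Hy (by norm_num) hL)⟩
    · push Not at haniso
      obtain ⟨x, hx, hxx⟩ := haniso
      exact absurd (plus_top_of_hasTS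
        (hasTS_of_isotropic_left e P h2 hf₁.bilinear hf₂.bilinear hT hx hxx) (by rw [hn])) hminus
  · -- 4b tensor products of symplectic forms
    have hcard := card_of_tensor_equiv e
    rw [hn] at hcard
    have hn1 : n₁ ≤ 2 := by nlinarith
    obtain rfl : n₁ = 2 := by omega
    obtain rfl : n₂ = 4 := by omega
    have h3 := hasTS_of_pure_left (Q := Q) e P (single_ne_zero (F := F) (n := 2) (by norm_num))
      (fun y => hQ0 _ y)
    exact absurd (plus_top_of_hasTS h3 (by rw [hn])) hminus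
  · -- 5 subfields
    by_cases hoddr : Odd r
    · iterate 7 right
      left
      exact ⟨F₀, r, P, ζ, hr, hoddr, hcardF, hζ, hrat, eq_inf_of_le hH (hHM.trans inf_le_left)
        (not_le_subfield Hy F₀ (subfield_ne_top' F₀ hr hcardF) P)⟩
    · have hr2 : r = 2 := by
        rcases hr.eq_two_or_odd' with h | h
        · exact h
        · exact absurd h hoddr
      subst hr2
      exact absurd (plus_of_subfield_two Hy.nondeg hζ hcardF hrat (m := 4) (by rw [hn])
        (by norm_num)) hminus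

end Cfsg.Agent.Lib.Helper9.OE8
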