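import Mathlib
import Cfsg.Prelude
import Cfsg.Agent.Lib.Lead.Tw
import Cfsg.Agent.Lib.Helper1.FittingCentralizer
import Cfsg.Agent.Lib.Helper1.PLengthOne

set_option maxHeartbeats 1600000
set_option autoImplicit false
set_option linter.unusedVariables false
set_option linter.unusedSimpArgs false
set_option linter.unusedSectionVars false
set_option linter.style.longLine false

/-! S1615 piece (P-L1): a non-central odd core of `<D_x>` yields a pair of twins. -/

namespace Cfsg.Agent.Lib.Helper9.Odd5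

open Cfsg Cfsg.Agent.Lib.Lead.Tw

variable {G : Type*} [Group G] {D : Set G}

theorem sq_of_mem (hD : Cfsg.IsThreeTranspositionSet D) {d : G} (hd : d ∈ D) : d * d = 1 := by
  have h2 := hD.1 d hd
  rw [← pow_two, ← h2, pow_orderOf_eq_one]

theorem inv_of_mem (hD : Cfsg.IsThreeTranspositionSet D) {d : G} (hd : d ∈ D) : d⁻¹ = d :=
  inv_eq_of_mul_eq_one_left (sq_of_mem hD hd)

theorem commute_of_mul_mem (hD : Cfsg.IsThreeTranspositionSet D) (H Q' : Subgroup G)
    (hnorm : ∀ g ∈ H, ∀ q ∈ Q', g * q * g⁻¹ ∈ Q') (hodd : ∀ q ∈ Q', q * q = 1 → q = 1)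
    {a b e : G} (ha : a ∈ D) (hb : b ∈ D) (he : e ∈ D) (haH : a ∈ H) (heH : e ∈ H)
    (hab : a * b ∈ Q') (hea : e ≠ a) (hc : Commute e a) : Commute e b := by
  by_contra hnc
  have a2 : a * a = 1 := sq_of_mem hD ha
  have b2 : b * b = 1 := sq_of_mem hD hb
  have e2 : e * e = 1 := sq_of_mem hD he
  have ai : a⁻¹ = a := inv_of_mem hD ha
  have bi : b⁻¹ = b := inv_of_mem hD hb
  have ei : e⁻¹ = e := inv_of_mem hD he
  have z3 : (e * b) ^ 3 = 1 := by
    rcases hD.2 e he b hb with h2 | h3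
    · exfalso
      apply hnc
      show e * b = b * e
      have h4 : (e * b) * (e * b) = 1 := by rw [← pow_two]; exact h2
      have h5 : e * b = (e * b)⁻¹ := eq_inv_of_mul_eq_one_left h4
      rw [h5, mul_inv_rev, bi, ei]
    · exact h3
  have hw : e * a ∈ H := H.mul_mem heH haH
  have hae : a * e = e * a := hc.eq.symm
  have hzz : (e * b) * (e * b) = ((e * a) * (a * b) * (e * a)⁻¹) * (a * b) := by
    rw [mul_inv_rev, ai, ei]
    calc (e * b) * (e * b) = e * b * (e * (a * a)) * b := by rw [a2, mul_one]; group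
      _ = e * b * ((e * a) * a) * b := by group
      _ = e * b * ((a * e) * a) * b := by rw [hae]
      _ = e * (a * a) * b * ((a * e) * a) * b := by rw [a2, mul_one]
      _ = e * a * (a * b) * (a * e) * (a * b) := by group
  have hzzQ : (e * b) * (e * b) ∈ Q' := by
    rw [hzz]; exact Q'.mul_mem (hnorm _ hw _ hab) hab
  have hz : e * b = ((e * b) * (e * b)) * ((e * b) * (e * b)) := by
    calc e * b = (e * b) * (e * b) ^ 3 := by rw [z3, mul_one]
      _ = ((e * b) * (e * b)) * ((e * b) * (e * b)) := by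
        rw [pow_succ, pow_succ, pow_one]; simp only [mul_assoc]
  have hzQ : e * b ∈ Q' := by
    rw [hz]; exact Q'.mul_mem hzzQ hzzQ
  have hba : b * a ∈ Q' := by
    have := Q'.inv_mem hab
    rwa [mul_inv_rev, bi, ai] at this
  have hwQ : e * a ∈ Q' := by
    have h1 := Q'.mul_mem hzQ hba
    have e1 : (e * b) * (b * a) = e * a := by
      calc (e * b) * (b * a) = e * (b * b) * a := by group
        _ = e * a := by rw [b2, mul_one]
    rwa [e1] at h1
  have hww : (e * a) * (e * a) = 1 := by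
    calc (e * a) * (e * a) = e * (a * e) * a := by group
      _ = e * (e * a) * a := by rw [hae]
      _ = (e * e) * (a * a) := by group
      _ = 1 := by rw [e2, a2, one_mul]
  have h1 := hodd _ hwQ hww
  apply hea
  calc e = e * (a * a) := by rw [a2, mul_one]
    _ = (e * a) * a := by group
    _ = a := by rw [h1, one_mul]

theorem twin_of_oddCore [Finite G] (hD : Cfsg.IsThreeTranspositionSet D)
    (hconj : ∀ g : G, ∀ d ∈ D, g * d * g⁻¹ ∈ D) (x : G) (hx : x ∈ D)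
    (h : ¬ Cfsg.oddCore ↥(Subgroup.closure {y : G | y ∈ D ∧ y ≠ x ∧ Commute x y}) ≤
      Subgroup.center ↥(Subgroup.closure {y : G | y ∈ D ∧ y ≠ x ∧ Commute x y})) :
    ∃ y ∈ Dn D x, ∃ y' ∈ Tb D x y, y' ≠ y := by
  set H := Subgroup.closure {y : G | y ∈ D ∧ y ≠ x ∧ Commute x y} with hH
  have hQn : (Cfsg.oddCore ↥H).Normal := Cfsg.Agent.Lib.Helper1.pPrimeCore_normal 2
  have hQc : (Nat.card (Cfsg.oddCore ↥H)).Coprime 2 :=
    Cfsg.Agent.Lib.Helper1.pPrimeCore_card_coprime 2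
  have hHx : ∀ g ∈ H, Commute x g := by
    intro g hg
    induction hg using Subgroup.closure_induction with
    | mem y hy => exact hy.2.2
    | one => exact Commute.one_right x
    | mul a b _ _ ha hb => exact ha.mul_right hb
    | inv a _ ha => exact ha.inv_right
  obtain ⟨n, hnQ, hnc⟩ := SetLike.not_le_iff_exists.mp h
  have hgen : ∃ y ∈ Dn D x, ¬ Commute (n : G) y := by
    by_contra hcon
    push Not at hcon
    apply hnc
    rw [Subgroup.mem_center_iff]
    intro g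
    have hall : ∀ g' ∈ H, Commute (n : G) g' := by
      intro g' hg'
      induction hg' using Subgroup.closure_induction with
      | mem y hy => exact hcon y hy
      | one => exact Commute.one_right _
      | mul a b _ _ ha hb => exact ha.mul_right hb
      | inv a _ ha => exact ha.inv_right
    have h1 := hall g g.2
    exact Subtype.ext h1.symm.eq
  have hodd : ∀ q : ↥H, q ∈ Cfsg.oddCore ↥H → q * q = 1 → q = 1 := by
    intro q hq hqq
    have h1 : orderOf (⟨q, hq⟩ : ↥(Cfsg.oddCore ↥H)) ∣ Nat.card (Cfsg.oddCore ↥H) :=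
      orderOf_dvd_natCard _
    have h2 : orderOf (⟨q, hq⟩ : ↥(Cfsg.oddCore ↥H)) ∣ 2 := by
      apply orderOf_dvd_of_pow_eq_one
      apply Subtype.ext
      rw [pow_two]
      exact hqq
    have h3 : orderOf (⟨q, hq⟩ : ↥(Cfsg.oddCore ↥H)) = 1 :=
      Nat.eq_one_of_dvd_coprimes hQc h1 h2
    have h4 := orderOf_eq_one_iff.mp h3
    exact congrArg Subtype.val h4
  obtain ⟨y, hyS, hny⟩ := hgen
  have hyD : y ∈ D := hyS.1
  have hyH : y ∈ H := Subgroup.subset_closure hyS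
  obtain ⟨nG, hnG⟩ : ∃ nG : G, nG = (n : G) := ⟨_, rfl⟩
  rw [← hnG] at hny
  have hnH : nG ∈ H := by rw [hnG]; exact n.2
  have yi : y⁻¹ = y := inv_of_mem hD hyD
  have y2 : y * y = 1 := sq_of_mem hD hyD
  have hy'D : nG⁻¹ * y * nG ∈ D := by
    have := hconj nG⁻¹ y hyD
    rwa [inv_inv] at this
  have hxn : Commute x nG := hHx nG hnH
  have hxy' : Commute x (nG⁻¹ * y * nG) := (hxn.inv_right.mul_right hyS.2.2).mul_right hxn
  have hy'x : nG⁻¹ * y * nG ≠ x := by
    intro e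
    apply hyS.2.1
    calc y = nG * (nG⁻¹ * y * nG) * nG⁻¹ := by group
      _ = nG * x * nG⁻¹ := by rw [e]
      _ = x := by rw [← hxn.eq, mul_assoc, mul_inv_cancel, mul_one]
  have hy'S : nG⁻¹ * y * nG ∈ Dn D x := ⟨hy'D, hy'x, hxy'⟩
  have hy'H : nG⁻¹ * y * nG ∈ H := Subgroup.subset_closure hy'S
  have hy'y : nG⁻¹ * y * nG ≠ y := by
    intro e
    apply hny
    show nG * y = y * nG
    calc nG * y = nG * (nG⁻¹ * y * nG) := by rw [e]
      _ = y * nG := by group
  have y'i : (nG⁻¹ * y * nG)⁻¹ = nG⁻¹ * y * nG := inv_of_mem hD hy'D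
  have y'2 : (nG⁻¹ * y * nG) * (nG⁻¹ * y * nG) = 1 := sq_of_mem hD hy'D
  have hnQ' : nG ∈ (Cfsg.oddCore ↥H).map H.subtype := ⟨n, hnQ, hnG.symm⟩
  have hnorm : ∀ g ∈ H, ∀ q ∈ (Cfsg.oddCore ↥H).map H.subtype,
      g * q * g⁻¹ ∈ (Cfsg.oddCore ↥H).map H.subtype := by
    rintro g hg q ⟨q0, hq0, rfl⟩
    exact ⟨⟨g, hg⟩ * q0 * ⟨g, hg⟩⁻¹, hQn.conj_mem q0 hq0 ⟨g, hg⟩, rfl⟩
  have hodd' : ∀ q ∈ (Cfsg.oddCore ↥H).map H.subtype, q * q = 1 → q = 1 := by
    rintro q ⟨q0, hq0, rfl⟩ hqq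
    have h1 : q0 * q0 = 1 := Subtype.ext hqq
    rw [hodd q0 hq0 h1]; rfl
  have hyy'Q : y * (nG⁻¹ * y * nG) ∈ (Cfsg.oddCore ↥H).map H.subtype := by
    have e : y * (nG⁻¹ * y * nG) = (y * nG⁻¹ * y⁻¹) * nG := by rw [yi]; group
    rw [e]
    exact Subgroup.mul_mem _ (hnorm y hyH _ (Subgroup.inv_mem _ hnQ')) hnQ'
  have hy'yQ : (nG⁻¹ * y * nG) * y ∈ (Cfsg.oddCore ↥H).map H.subtype := by
    have := Subgroup.inv_mem _ hyy'Q
    rwa [mul_inv_rev, y'i, yi] at this
  have hncomm : ¬ Commute (nG⁻¹ * y * nG) y := by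
    intro hc
    have h1 : (y * (nG⁻¹ * y * nG)) * (y * (nG⁻¹ * y * nG)) = 1 := by
      calc (y * (nG⁻¹ * y * nG)) * (y * (nG⁻¹ * y * nG))
          = y * ((nG⁻¹ * y * nG) * y) * (nG⁻¹ * y * nG) := by group
        _ = y * (y * (nG⁻¹ * y * nG)) * (nG⁻¹ * y * nG) := by rw [hc.eq]
        _ = (y * y) * ((nG⁻¹ * y * nG) * (nG⁻¹ * y * nG)) := by group
        _ = 1 := by rw [y2, y'2, one_mul]
    have h2 := hodd' _ hyy'Q h1
    apply hy'y
    calc nG⁻¹ * y * nG = (y * y) * (nG⁻¹ * y * nG) := by rw [y2, one_mul]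
      _ = y * (y * (nG⁻¹ * y * nG)) := by group
      _ = y := by rw [h2, mul_one]
  refine ⟨y, hyS, nG⁻¹ * y * nG, ⟨hy'S, Or.inr ⟨hncomm, ?_⟩⟩, hy'y⟩
  ext e
  constructor
  · rintro ⟨hex, hey'⟩
    have heH : e ∈ H := Subgroup.subset_closure hex
    have hc := commute_of_mul_mem hD H _ hnorm hodd' hy'D hyD hex.1 hy'H heH hy'yQ
      hey'.2.1 hey'.2.2.symm
    refine ⟨hex, hex.1, ?_, hc.symm⟩
    intro e1
    rw [e1] at hey'
    exact hncomm hey'.2.2
  · rintro ⟨hex, hey⟩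
    have heH : e ∈ H := Subgroup.subset_closure hex
    have hc := commute_of_mul_mem hD H _ hnorm hodd' hyD hy'D hex.1 hyH heH hyy'Q
      hey.2.1 hey.2.2.symm
    refine ⟨hex, hex.1, ?_, hc.symm⟩
    intro e1
    rw [e1] at hey
    exact hncomm hey.2.2.symm

end Cfsg.Agent.Lib.Helper9.Odd5
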