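import Mathlib

set_option autoImplicit false

namespace Cfsg.Agent.Lib.Helper9

variable {G : Type*} [Group G]

theorem sq_eq_one_of_orderOf_two {g : G} (h : orderOf g = 2) : g * g = 1 := by
  have := pow_orderOf_eq_one g
  rwa [h, pow_two] at this

theorem sq_eq_one_of_mem_conjugatesOf {d g : G} (hd : orderOf d = 2) (h : g ∈ conjugatesOf d) :
    g * g = 1 := by
  have h' : IsConj d g := h
  rw [isConj_iff] at h'
  obtain ⟨c, rfl⟩ := h'
  have hd2 := sq_eq_one_of_orderOf_two hd
  calc c * d * c⁻¹ * (c * d * c⁻¹) = c * (d * d) * c⁻¹ := by group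
    _ = 1 := by rw [hd2]; group

theorem conj_mem_conjugatesOf {d g : G} (c : G) (h : g ∈ conjugatesOf d) :
    c * g * c⁻¹ ∈ conjugatesOf d := by
  have h' : IsConj d g := h
  exact h'.trans (isConj_iff.mpr ⟨c, rfl⟩)

/-- S5562 -/
theorem exists_unique_commuting [Finite G] (d : G) (hd : orderOf d = 2)
    (hodd : ∀ a ∈ conjugatesOf d, ∀ b ∈ conjugatesOf d, Odd (orderOf (a * b)))
    (x : G) (hx : orderOf x = 2) :
    ∀ e ∈ conjugatesOf d,
      ∃! a : G, a ∈ conjugatesOf d ∧ Commute a x ∧ Commute e (a * x) := by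
  intro u hu
  have hxx : x * x = 1 := sq_eq_one_of_orderOf_two hx
  have hxi : x⁻¹ = x := inv_eq_of_mul_eq_one_right hxx
  have huu : u * u = 1 := sq_eq_one_of_mem_conjugatesOf hd hu
  have hui : u⁻¹ = u := inv_eq_of_mul_eq_one_right huu
  set v := x * u * x⁻¹ with hv
  have hvD : v ∈ conjugatesOf d := conj_mem_conjugatesOf x hu
  have hvv : v * v = 1 := sq_eq_one_of_mem_conjugatesOf hd hvD
  have hvi : v⁻¹ = v := inv_eq_of_mul_eq_one_right hvv
  set t := u * v with ht
  have hxvx : x * v * x⁻¹ = u := by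
    rw [hv, hxi]
    calc x * (x * u * x) * x = (x * x) * u * (x * x) := by group
      _ = u := by rw [hxx]; group
  have htu : u * t * u⁻¹ = t⁻¹ := by
    rw [ht, mul_inv_rev, hui, hvi]
    calc u * (u * v) * u = (u * u) * v * u := by group
      _ = v * u := by rw [huu, one_mul]
  have htx : x * t * x⁻¹ = t⁻¹ := by
    rw [ht, mul_inv_rev, hui, hvi]
    calc x * (u * v) * x⁻¹ = (x * u * x⁻¹) * (x * v * x⁻¹) := by group
      _ = v * u := by rw [hxvx]
  have hpu : ∀ j : ℕ, u * t ^ j * u⁻¹ = (t ^ j)⁻¹ := by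
    intro j
    rw [← conj_pow, htu, inv_pow]
  have hpx : ∀ j : ℕ, x * t ^ j * x⁻¹ = (t ^ j)⁻¹ := by
    intro j
    rw [← conj_pow, htx, inv_pow]
  obtain ⟨k, hk⟩ := hodd u hu v hvD
  have htn : t ^ (2 * k + 1) = 1 := by
    rw [← hk]
    exact pow_orderOf_eq_one t
  have htk : t ^ k * t ^ k * t = 1 := by
    rw [← pow_add, ← pow_succ]
    have : k + k + 1 = 2 * k + 1 := by ring
    rw [this]
    exact htn
  have hvt : v = t⁻¹ * u := by
    rw [ht, mul_inv_rev, hui, hvi, mul_assoc, huu, mul_one]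
  set a := t ^ k * u with ha
  have haa : a * a = 1 := by
    rw [ha]
    calc t ^ k * u * (t ^ k * u) = t ^ k * (u * t ^ k * u⁻¹) * (u * u) := by group
      _ = 1 := by rw [hpu, huu]; group
  have hai : a⁻¹ = a := inv_eq_of_mul_eq_one_right haa
  have haua : a * u * a⁻¹ = v := by
    rw [hai, hvt, ha]
    calc t ^ k * u * u * (t ^ k * u) = t ^ k * (u * u) * t ^ k * u := by group
      _ = (t ^ k * t ^ k * t) * t⁻¹ * u := by rw [huu]; group
      _ = t⁻¹ * u := by rw [htk, one_mul]
  have hava : a * v * a⁻¹ = u := by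
    rw [← haua, hai]
    calc a * (a * u * a) * a = (a * a) * u * (a * a) := by group
      _ = u := by rw [haa]; group
  have hax : Commute a x := by
    show a * x = x * a
    have h1 : x * a * x⁻¹ = a := by
      rw [ha]
      calc x * (t ^ k * u) * x⁻¹ = (x * t ^ k * x⁻¹) * (x * u * x⁻¹) := by group
        _ = (t ^ k)⁻¹ * (t⁻¹ * u) := by rw [hpx, ← hv, hvt]
        _ = (t ^ k * t ^ k * t)⁻¹ * t ^ k * u := by group
        _ = t ^ k * u := by rw [htk]; group
    calc a * x = (x * a * x⁻¹) * x := by rw [h1]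
      _ = x * a := by group
  have haD : a ∈ conjugatesOf d := by
    have h1 : a = t ^ (k * (k + 1)) * u * (t ^ (k * (k + 1)))⁻¹ := by
      have h2 : t ^ (k * (k + 1)) * u * (t ^ (k * (k + 1)))⁻¹ =
          t ^ (k * (k + 1)) * (u * (t ^ (k * (k + 1)))⁻¹ * u⁻¹) * u := by group
      have h3 : u * (t ^ (k * (k + 1)))⁻¹ * u⁻¹ = t ^ (k * (k + 1)) := by
        have := hpu (k * (k + 1))
        have h4 : u * (t ^ (k * (k + 1)))⁻¹ * u⁻¹ = (u * t ^ (k * (k + 1)) * u⁻¹)⁻¹ := by group
        rw [h4, this, inv_inv]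
      rw [h2, h3, ← pow_add, ha]
      congr 1
      have h5 : k * (k + 1) + k * (k + 1) = (2 * k + 1) * k + k := by ring
      rw [h5, pow_add, pow_mul, htn, one_pow, one_mul]
    rw [h1]
    exact conj_mem_conjugatesOf _ hu
  have hcomm : Commute u (a * x) := by
    show u * (a * x) = a * x * u
    have h1 : (a * x) * u * (a * x)⁻¹ = u := by
      calc (a * x) * u * (a * x)⁻¹ = a * (x * u * x⁻¹) * a⁻¹ := by group
        _ = u := by rw [← hv, hava]
    calc u * (a * x) = ((a * x) * u * (a * x)⁻¹) * (a * x) := by rw [h1]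
      _ = a * x * u := by group
  refine ⟨a, ⟨haD, hax, hcomm⟩, ?_⟩
  rintro a' ⟨ha'D, ha'x, ha'c⟩
  have ha'a' : a' * a' = 1 := sq_eq_one_of_mem_conjugatesOf hd ha'D
  have ha'i : a'⁻¹ = a' := inv_eq_of_mul_eq_one_right ha'a'
  -- `a' v a' = u`
  have h1 : a' * v * a'⁻¹ = u := by
    have h2 : u * (a' * x) = a' * x * u := ha'c
    calc a' * v * a'⁻¹ = (a' * x * u) * (a' * x)⁻¹ := by rw [hv]; group
      _ = u := by rw [← h2]; group
  have h1' : a' * u * a'⁻¹ = v := by
    rw [← h1, ha'i]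
    calc a' * (a' * v * a') * a' = (a' * a') * v * (a' * a') := by group
      _ = v := by rw [ha'a']; group
  -- `a * a'` commutes with `u` and `v`
  have h3 : (a * a') * u * (a * a')⁻¹ = u := by
    calc (a * a') * u * (a * a')⁻¹ = a * (a' * u * a'⁻¹) * a⁻¹ := by group
      _ = u := by rw [h1', hava]
  have h4 : (a * a') * v * (a * a')⁻¹ = v := by
    calc (a * a') * v * (a * a')⁻¹ = a * (a' * v * a'⁻¹) * a⁻¹ := by group
      _ = v := by rw [h1, haua]
  have h5 : (a * a') * t * (a * a')⁻¹ = t := by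
    calc (a * a') * t * (a * a')⁻¹ = ((a * a') * u * (a * a')⁻¹) * ((a * a') * v * (a * a')⁻¹) := by
          rw [ht]; group
      _ = t := by rw [h3, h4]
  have h6 : (a * a') * a * (a * a')⁻¹ = a := by
    calc (a * a') * a * (a * a')⁻¹
        = ((a * a') * t * (a * a')⁻¹) ^ k * ((a * a') * u * (a * a')⁻¹) := by
          rw [conj_pow, ha]; group
      _ = a := by rw [h5, h3]
  -- so `a` and `a'` commute
  have h7 : a * a' = a' * a := by
    have h8 : a * a' * a = a * (a * a') := by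
      calc a * a' * a = ((a * a') * a * (a * a')⁻¹) * (a * a') := by group
        _ = a * (a * a') := by rw [h6]
    rw [mul_assoc] at h8
    exact (mul_left_cancel h8).symm
  have h9 : (a * a') ^ 2 = 1 := by
    rw [pow_two]
    calc a * a' * (a * a') = a * (a' * a) * a' := by group
      _ = a * (a * a') * a' := by rw [h7]
      _ = (a * a) * (a' * a') := by group
      _ = 1 := by rw [haa, ha'a', one_mul]
  have h10 : orderOf (a * a') ∣ 2 := orderOf_dvd_of_pow_eq_one h9
  have h11 : Odd (orderOf (a * a')) := hodd a haD a' ha'D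
  have h12 : orderOf (a * a') = 1 := by
    rcases (Nat.dvd_prime Nat.prime_two).mp h10 with h | h
    · exact h
    · rw [h] at h11
      exact absurd h11 (by decide)
  have h13 : a * a' = 1 := orderOf_eq_one_iff.mp h12
  calc a' = a⁻¹ * (a * a') := by group
    _ = a := by rw [h13, hai, mul_one]

end Cfsg.Agent.Lib.Helper9
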