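import Mathlib

set_option autoImplicit false

namespace Cfsg.Agent.Lib.Helper9

variable {G : Type*} [Group G]

/-- S5363, forward direction, one half -/
theorem commute_of_commute_mul [Finite G] {D : Set G} (hinv : ∀ d ∈ D, d * d = 1)
    (h : ∀ a ∈ D, ∀ b ∈ D, Odd (orderOf (a * b)) ∨ orderOf (a * b) = 2)
    {a b y : G} (ha : a ∈ D) (hb : b ∈ D) (hy : y ∈ D) (hab : b ≠ a) (hc : a * b = b * a)
    (hyc : (a * b) * y = y * (a * b)) : a * y = y * a := by
  have haa := hinv a ha
  have hbb := hinv b hb
  have hyy := hinv y hy
  have hai : a⁻¹ = a := inv_eq_of_mul_eq_one_right haa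
  have hbi : b⁻¹ = b := inv_eq_of_mul_eq_one_right hbb
  have hyi : y⁻¹ = y := inv_eq_of_mul_eq_one_right hyy
  obtain ⟨z, hz⟩ : ∃ z, z = a * b := ⟨_, rfl⟩
  rw [← hz] at hyc
  have hzz : z * z = 1 := by
    rw [hz]
    calc a * b * (a * b) = a * (b * a) * b := by group
      _ = a * (a * b) * b := by rw [hc]
      _ = (a * a) * (b * b) := by group
      _ = 1 := by rw [haa, hbb, one_mul]
  have hz1 : z ≠ 1 := by
    intro h1
    apply hab
    rw [hz] at h1
    have : a = b⁻¹ := eq_inv_of_mul_eq_one_left h1
    rw [hbi] at this
    exact this.symm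
  have haz : a * z = z * a := by
    rw [hz]
    calc a * (a * b) = a * (b * a) := by rw [hc]
      _ = a * b * a := by group
  -- `y * b = (y * a) * z`
  have hyb : y * b = (y * a) * z := by
    rw [hz]
    calc y * b = y * (a * a) * b := by rw [haa, mul_one]
      _ = y * a * (a * b) := by group
  have hwz : (y * a) * z = z * (y * a) := by
    calc y * a * z = y * (a * z) := by group
      _ = y * (z * a) := by rw [haz]
      _ = (y * z) * a := by group
      _ = (z * y) * a := by rw [hyc]
      _ = z * (y * a) := by group
  rcases h y hy a ha with hodd | h2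
  · -- `y a` has odd order: then `y b` has order `2 n`
    by_cases hn1 : orderOf (y * a) = 1
    · have : y * a = 1 := orderOf_eq_one_iff.mp hn1
      have : y = a⁻¹ := eq_inv_of_mul_eq_one_left this
      rw [this, hai]
    · exfalso
      set n := orderOf (y * a) with hn
      have hnpos : 0 < n := orderOf_pos _
      have hcomm : Commute (y * a) z := hwz
      -- the order of `y b`
      have hpow : ∀ k : ℕ, (y * b) ^ k = (y * a) ^ k * z ^ k := by
        intro k
        rw [hyb, hcomm.mul_pow]
      have hzpow_even : ∀ k : ℕ, Even k → z ^ k = 1 := by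
        rintro k ⟨j, rfl⟩
        rw [← two_mul, pow_mul, pow_two, hzz, one_pow]
      have hzpow_odd : ∀ k : ℕ, Odd k → z ^ k = z := by
        rintro k ⟨j, rfl⟩
        rw [pow_succ, pow_mul, pow_two, hzz, one_pow, one_mul]
      rcases h y hy b hb with hodd' | h2'
      · -- odd order `m`: `(y b)^m = 1` gives `(y a)^m = z`, so `z` has odd order
        set m := orderOf (y * b) with hm
        have h1 : (y * a) ^ m * z = 1 := by
          have := hpow m
          rw [pow_orderOf_eq_one, hzpow_odd m hodd'] at this
          exact this.symm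
        have h3 : z = ((y * a) ^ m)⁻¹ := eq_inv_of_mul_eq_one_right h1
        have h4 : z ^ n = 1 := by
          rw [h3, inv_pow, ← pow_mul, mul_comm, pow_mul, pow_orderOf_eq_one, one_pow, inv_one]
        rw [hzpow_odd n hodd] at h4
        exact hz1 h4
      · -- order two: `(y a)^2 = 1` with odd order, so `y a = 1`
        have h1 : (y * a) ^ 2 = 1 := by
          have := hpow 2
          rw [← h2', pow_orderOf_eq_one, h2', hzpow_even 2 (by decide), mul_one] at this
          exact this.symm
        have h3 : n ∣ 2 := orderOf_dvd_of_pow_eq_one h1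
        rcases (Nat.dvd_prime Nat.prime_two).mp h3 with h5 | h5
        · exact hn1 h5
        · rw [h5] at hodd
          exact absurd hodd (by decide)
  · have h1 : (y * a) ^ 2 = 1 := by rw [← h2]; exact pow_orderOf_eq_one _
    have h3 : y * a * (y * a) = 1 := by rw [← pow_two]; exact h1
    have h4 := eq_inv_of_mul_eq_one_left h3
    rw [mul_inv_rev, hai, hyi] at h4
    exact h4.symm

/-- S5363 -/
theorem odd_trans_iff [Finite G] {D : Set G} (hinv : ∀ d ∈ D, orderOf d = 2)
    (hconj : ∀ g : G, ∀ d ∈ D, g * d * g⁻¹ ∈ D) :
    (∀ a ∈ D, ∀ b ∈ D, Odd (orderOf (a * b)) ∨ orderOf (a * b) = 2) ↔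
      ∀ a ∈ D, ∀ b ∈ D, b ≠ a → Commute a b →
        {y : G | y ∈ D ∧ Commute (a * b) y} =
          {y : G | y ∈ D ∧ Commute a y} ∩ {y : G | y ∈ D ∧ Commute b y} := by
  have hinv' : ∀ d ∈ D, d * d = 1 := by
    intro d hd
    have := pow_orderOf_eq_one d
    rwa [hinv d hd, pow_two] at this
  constructor
  · intro h a ha b hb hab hc
    ext y
    constructor
    · rintro ⟨hy, hyc⟩
      refine ⟨⟨hy, commute_of_commute_mul hinv' h ha hb hy hab hc hyc⟩, hy, ?_⟩
      have hc' : b * a = a * b := hc.symm
      have hyc' : (b * a) * y = y * (b * a) := by rw [hc']; exact hyc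
      exact commute_of_commute_mul hinv' h hb ha hy hab.symm hc' hyc'
    · rintro ⟨⟨hy, h1⟩, -, h2⟩
      exact ⟨hy, h1.mul_left h2⟩
  · intro h a ha b hb
    rcases Nat.even_or_odd (orderOf (a * b)) with heven | hodd
    · right
      obtain ⟨m, hm⟩ := heven
      have haa := hinv' a ha
      have hbb := hinv' b hb
      have hai : a⁻¹ = a := inv_eq_of_mul_eq_one_right haa
      have hbi : b⁻¹ = b := inv_eq_of_mul_eq_one_right hbb
      set r := a * b with hr
      have hnpos : 0 < orderOf r := orderOf_pos r
      have hmpos : 0 < m := by omega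
      set u := r ^ m with hu
      have huu : u * u = 1 := by
        rw [hu, ← pow_add, ← hm]
        exact pow_orderOf_eq_one r
      have hu1 : u ≠ 1 := by
        intro h1
        have := orderOf_dvd_of_pow_eq_one h1
        have := Nat.le_of_dvd hmpos this
        omega
      have hui : u⁻¹ = u := inv_eq_of_mul_eq_one_right huu
      have hara : a * r * a⁻¹ = r⁻¹ := by
        rw [hr, mul_inv_rev, hai, hbi]
        calc a * (a * b) * a = (a * a) * b * a := by group
          _ = b * a := by rw [haa, one_mul]
      have hbrb : b * r * b⁻¹ = r⁻¹ := by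
        rw [hr, mul_inv_rev, hai, hbi]
        calc b * (a * b) * b = b * a * (b * b) := by group
          _ = b * a := by rw [hbb, mul_one]
      have haua : a * u * a⁻¹ = u := by
        rw [hu, ← conj_pow, hara, inv_pow, ← hu, hui]
      have hbub : b * u * b⁻¹ = u := by
        rw [hu, ← conj_pow, hbrb, inv_pow, ← hu, hui]
      have hau : a * u = u * a := by
        calc a * u = (a * u * a⁻¹) * a := by group
          _ = u * a := by rw [haua]
      have hbu : b * u = u * b := by
        calc b * u = (b * u * b⁻¹) * b := by group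
          _ = u * b := by rw [hbub]
      -- `a' = a u ∈ D`
      have hrpow : ∀ j : ℕ, a * r ^ j * a⁻¹ = (r ^ j)⁻¹ := by
        intro j
        rw [← conj_pow, hara, inv_pow]
      have ha'D : a * u ∈ D := by
        rcases Nat.even_or_odd' m with ⟨j, hj | hj⟩
        · -- `a r^{2j} = r^{-j} a r^{j}`
          have h1 : a * u = (r ^ j)⁻¹ * a * ((r ^ j)⁻¹)⁻¹ := by
            rw [hu, hj, inv_inv]
            have h2 : a * r ^ j = (r ^ j)⁻¹ * a := by
              calc a * r ^ j = (a * r ^ j * a⁻¹) * a := by group
                _ = (r ^ j)⁻¹ * a := by rw [hrpow]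
            calc a * r ^ (2 * j) = (a * r ^ j) * r ^ j := by rw [two_mul, pow_add]; group
              _ = (r ^ j)⁻¹ * a * r ^ j := by rw [h2]
          rw [h1]
          exact hconj _ a ha
        · have h1 : a * u = (r ^ j)⁻¹ * b * ((r ^ j)⁻¹)⁻¹ := by
            rw [hu, hj, inv_inv]
            have h2 : a * r ^ j = (r ^ j)⁻¹ * a := by
              calc a * r ^ j = (a * r ^ j * a⁻¹) * a := by group
                _ = (r ^ j)⁻¹ * a := by rw [hrpow]
            have h3 : a * r = b := by
              rw [hr, ← mul_assoc, haa, one_mul]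
            calc a * r ^ (2 * j + 1) = (a * r ^ j) * r * r ^ j := by
                  have e : 2 * j + 1 = j + 1 + j := by ring
                  rw [e, pow_add, pow_add, pow_one]
                  group
              _ = (r ^ j)⁻¹ * (a * r) * r ^ j := by rw [h2]; group
              _ = (r ^ j)⁻¹ * b * r ^ j := by rw [h3]
          rw [h1]
          exact hconj _ b hb
      have hne : a * u ≠ a := by
        intro h1
        apply hu1
        calc u = a⁻¹ * (a * u) := by group
          _ = 1 := by rw [h1]; group
      have hcomm : Commute a (a * u) := by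
        show a * (a * u) = a * u * a
        rw [mul_assoc, ← hau]
      have h1 := h a ha (a * u) ha'D hne hcomm
      have h2 : b ∈ {y : G | y ∈ D ∧ Commute (a * (a * u)) y} := by
        refine ⟨hb, ?_⟩
        show a * (a * u) * b = b * (a * (a * u))
        rw [← mul_assoc, haa, one_mul]
        exact hbu.symm
      rw [h1] at h2
      have h3 : a * b = b * a := h2.1.2
      have h4 : r ^ 2 = 1 := by
        rw [pow_two, hr]
        calc a * b * (a * b) = a * (b * a) * b := by group
          _ = a * (a * b) * b := by rw [h3]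
          _ = (a * a) * (b * b) := by group
          _ = 1 := by rw [haa, hbb, one_mul]
      have h5 : orderOf r ∣ 2 := orderOf_dvd_of_pow_eq_one h4
      rcases (Nat.dvd_prime Nat.prime_two).mp h5 with h6 | h6
      · omega
      · exact h6
    · exact Or.inl hodd

end Cfsg.Agent.Lib.Helper9
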