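import Mathlib

set_option autoImplicit false

/-! Search trees with natural number keys, for orbit certificates. -/

namespace Cfsg.Agent.Lib.Helper9.OrbCert0

/-- search trees -/
inductive BT : Type
  | leaf : BT
  | node : ℕ → ℕ → BT → BT → BT

/-- the index attached to a key -/
def BT.look : BT → ℕ → ℕ
  | BT.leaf, _ => 0
  | BT.node k i l r, c => bif Nat.blt c k then l.look c else bif Nat.beq c k then i else r.look c

end Cfsg.Agent.Lib.Helper9.OrbCert0
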