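import Cfsg.Agent.Lib.Helper9.LeechX4
import Cfsg.Agent.Lib.Helper9.OrbCert0

set_option autoImplicit false

/-! Orbit certificates: a list of vectors (coded as natural numbers) in breadth-first order, each
obtained from an earlier one by a generator, checked by computation; and a search tree certifying
that the vectors are pairwise distinct. -/

namespace Cfsg.Agent.Lib.Helper9.OrbCert1

open Cfsg Cfsg.Agent.Lib.Helper9.GolayQR1 Cfsg.Agent.Lib.Helper9.OrbCert0

/-- the `k`-th hexadecimal digit -/
def dg (c k : ℕ) : ℕ := Nat.land (Nat.shiftRight c (Nat.mul 4 k)) 15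

/-- the vector coded by a natural number, on indices: hexadecimal digits, shifted by `8` -/
def vecI (c : ℕ) : ℕ → ℤ := fun k => (dg c k : ℤ) - 8

/-- the vector coded by a natural number -/
def vecN (c : ℕ) : GolayPt → ℤ := fun i => vecI c (idx i)

theorem vecN_unidx (c k : ℕ) (hk : k < 24) : vecN c (unidx k) = vecI c k := by
  unfold vecN
  rw [idx_unidx k hk]

abbrev Fn : Type := (GolayPt → ℤ) → GolayPt → ℤ

abbrev FnI : Type := (ℕ → ℤ) → ℕ → ℤ

/-- the map `F` of vectors is computed by `G` on indices -/
def Compat (F : Fn) (G : FnI) : Prop :=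
  ∀ (y : ℕ → ℤ) (i : GolayPt), F (fun j => y (idx j)) i = G y (idx i)

theorem Compat.comp {F1 F2 : Fn} {G1 G2 : FnI} (h1 : Compat F1 G1) (h2 : Compat F2 G2) :
    Compat (fun x => F1 (F2 x)) (fun y => G1 (G2 y)) := by
  intro y i
  have : F2 (fun j => y (idx j)) = fun j => G2 y (idx j) := funext (fun j => h2 y j)
  show F1 (F2 fun j => y (idx j)) i = G1 (G2 y) (idx i)
  rw [this]
  exact h1 (G2 y) i

/-- coordinate permutation on indices, given by a table -/
def permI (l' : List ℕ) : FnI := fun y k => y (l'.getD k 0)

theorem compat_perm (l' : List ℕ) (hl' : ∀ p : GolayPt, l'.getD (idx p) 0 < 24) :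
    Compat (fun x i => x (unidx (l'.getD (idx i) 0))) (permI l') := by
  intro y i
  show y (idx (unidx (l'.getD (idx i) 0))) = y (l'.getD (idx i) 0)
  rw [idx_unidx _ (hl' i)]

theorem compat_apply {F : Fn} {G : FnI} (h : Compat F G) (p c : ℕ)
    (he : ∀ k < 24, G (vecI p) k = vecI c k) : F (vecN p) = vecN c := by
  funext i
  have := h (vecI p) i
  show F (fun j => vecI p (idx j)) i = vecI c (idx i)
  rw [this]
  exact he _ (idx_lt i)

/-- equality of two vectors on the 24 indices, by computation -/
def eqI (f g : ℕ → ℤ) : Bool := (List.range 24).all (fun k => decide (f k = g k))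

theorem eqI_sound (f g : ℕ → ℤ) (h : eqI f g = true) : ∀ k < 24, f k = g k := by
  intro k hk
  unfold eqI at h
  rw [List.all_eq_true] at h
  exact of_decide_eq_true (h k (List.mem_range.mpr hk))

/-! ### fast check for coordinate permutations -/

/-- the `k`-th entry of a table coded with five bits per entry -/
def te (tab k : ℕ) : ℕ := Nat.land (Nat.shiftRight tab (Nat.mul 5 k)) 31

/-- coordinate permutation on indices, given by a coded table -/
def permT (tab : ℕ) : FnI := fun y k => y (te tab k)

/-- the digits of `c` below `n` are those of `p` permuted by the table -/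
def permChk (tab p c : ℕ) : ℕ → Bool
  | 0 => true
  | k + 1 => Nat.beq (dg c k) (dg p (te tab k)) && permChk tab p c k

theorem permChk_sound (tab p c : ℕ) : ∀ n, permChk tab p c n = true →
    ∀ k < n, permT tab (vecI p) k = vecI c k := by
  intro n
  induction n with
  | zero => intro _ k hk; omega
  | succ n ih =>
    intro h k hk
    unfold permChk at h
    rw [Bool.and_eq_true] at h
    rcases Nat.lt_succ_iff_lt_or_eq.mp hk with hk' | rfl
    · exact ih h.2 k hk'
    · have := Nat.eq_of_beq_eq_true h.1
      show ((dg p (te tab k) : ℕ) : ℤ) - 8 = ((dg c k : ℕ) : ℤ) - 8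
      rw [this]

theorem compat_permT (tab : ℕ) (s : GolayPt → GolayPt)
    (hs : ∀ i : GolayPt, s i = unidx (te tab (idx i)) ∧ te tab (idx i) < 24) :
    Compat (fun x i => x (s i)) (permT tab) := by
  intro y i
  show y (idx (s i)) = y (te tab (idx i))
  rw [(hs i).1, idx_unidx _ (hs i).2]

/-! ### the breadth-first check -/

/-- the check of a breadth-first certificate: entries are `code * 2^24 + advance * 16 + gen` -/
def chk (stepOK : ℕ → ℕ → ℕ → Bool) : List ℕ → ℕ → List ℕ → Bool
  | _, _, [] => true
  | par, gap, e :: rest =>
    match par.drop (Nat.shiftRight (Nat.land e 16777215) 4) with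
    | p :: t =>
        Nat.blt (Nat.shiftRight (Nat.land e 16777215) 4) gap &&
          stepOK (Nat.land e 15) p (Nat.shiftRight e 24) &&
          chk stepOK (p :: t) (gap - Nat.shiftRight (Nat.land e 16777215) 4 + 1) rest
    | [] => false

theorem chk_sound (stepOK : ℕ → ℕ → ℕ → Bool) (R : ℕ → Prop)
    (hstep : ∀ g p c, stepOK g p c = true → R p → R c) :
    ∀ (rest : List ℕ) (v : List ℕ) (gap : ℕ), v.length = gap → (∀ x ∈ v, R x) →
      chk stepOK (v ++ rest.map (Nat.shiftRight · 24)) gap rest = true →
      ∀ e ∈ rest, R (Nat.shiftRight e 24) := by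
  intro rest
  induction rest with
  | nil => intro v gap _ _ _ e he; simp at he
  | cons e rest ih =>
    intro v gap hlen hv hc
    unfold chk at hc
    split at hc
    · rename_i p t hp
      simp only [Bool.and_eq_true] at hc
      obtain ⟨⟨hadv, heq⟩, hrec⟩ := hc
      have hadv0 : Nat.shiftRight (Nat.land e 16777215) 4 < gap := by
        have := Nat.ble_eq_true_of_le (n := 0) (Nat.zero_le 0)
        unfold Nat.blt at hadv
        exact Nat.le_of_ble_eq_true hadv
      generalize hA : Nat.shiftRight (Nat.land e 16777215) 4 = adv at *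
      have hadv' : adv < v.length := by rw [hlen]; exact hadv0
      have hdrop : (v ++ (e :: rest).map (Nat.shiftRight · 24)).drop adv
          = v.drop adv ++ (e :: rest).map (Nat.shiftRight · 24) :=
        List.drop_append_of_le_length (le_of_lt hadv')
      rw [hdrop] at hp
      have hne : v.drop adv ≠ [] := by
        intro h0
        have := congrArg List.length h0
        rw [List.length_drop, List.length_nil] at this
        omega
      obtain ⟨p', t', hpt⟩ := List.exists_cons_of_ne_nil hne
      rw [hpt, List.cons_append] at hp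
      have hpp : p' = p := (List.cons.inj hp).1
      have htt : t' ++ (e :: rest).map (Nat.shiftRight · 24) = t := (List.cons.inj hp).2
      have hpv : p ∈ v := by
        have : p' ∈ v.drop adv := by rw [hpt]; exact List.mem_cons_self
        rw [← hpp]
        exact List.mem_of_mem_drop this
      have hRe : R (Nat.shiftRight e 24) := hstep _ p _ heq (hv p hpv)
      -- the new verified list
      have hnew : p :: t = (v.drop adv ++ [Nat.shiftRight e 24])
          ++ rest.map (Nat.shiftRight · 24) := by
        rw [hpt, ← htt, ← hpp]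
        simp
      rw [hnew] at hrec
      have hlen' : (v.drop adv ++ [Nat.shiftRight e 24]).length = gap - adv + 1 := by
        rw [List.length_append, List.length_drop, hlen]
        rfl
      have hv' : ∀ x ∈ v.drop adv ++ [Nat.shiftRight e 24], R x := by
        intro x hx
        rw [List.mem_append] at hx
        rcases hx with hx | hx
        · exact hv x (List.mem_of_mem_drop hx)
        · rw [List.mem_singleton] at hx
          rw [hx]; exact hRe
      have := ih _ _ hlen' hv' hrec
      intro e' he'
      rw [List.mem_cons] at he'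
      rcases he' with h | h
      · rw [h]; exact hRe
      · exact this e' h
    · exact absurd hc (by simp)

/-! ### distinctness -/

/-- the codes are below `16^24` and have the expected indices in the tree -/
def idxChk (T : BT) : List ℕ → ℕ → Bool
  | [], _ => true
  | c :: cs, i => Nat.blt c 79228162514264337593543950336 && Nat.beq (T.look c) i &&
      idxChk T cs (i + 1)

theorem idxChk_get (T : BT) : ∀ (l : List ℕ) (i : ℕ), idxChk T l i = true →
    ∀ (j : ℕ) (hj : j < l.length), l[j] < 79228162514264337593543950336 ∧ T.look l[j] = i + j := by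
  intro l
  induction l with
  | nil => intro i _ j hj; simp at hj
  | cons c cs ih =>
    intro i h j hj
    unfold idxChk at h
    simp only [Bool.and_eq_true] at h
    cases j with
    | zero =>
      refine ⟨?_, by simpa using Nat.eq_of_beq_eq_true h.1.2⟩
      have := h.1.1
      unfold Nat.blt at this
      simpa using Nat.le_of_ble_eq_true this
    | succ j =>
      have := ih (i + 1) h.2 j (by simpa using hj)
      simp only [List.getElem_cons_succ]
      refine ⟨this.1, ?_⟩
      rw [this.2]; ring

theorem dg_testBit (c k m : ℕ) : (dg c k).testBit m = (decide (m < 4) && c.testBit (4 * k + m)) := by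
  unfold dg
  show ((c >>> (4 * k)) &&& 15).testBit m = _
  rw [Nat.testBit_and, Nat.testBit_shiftRight, show (15 : ℕ) = 2 ^ 4 - 1 by norm_num,
    Nat.testBit_two_pow_sub_one, Bool.and_comm]

/-- a code below `16^24` is determined by the vector -/
theorem code_inj (c c' : ℕ) (hc : c < 79228162514264337593543950336)
    (hc' : c' < 79228162514264337593543950336) (h : ∀ k < 24, vecI c k = vecI c' k) : c = c' := by
  apply Nat.eq_of_testBit_eq
  intro i
  by_cases hi : i < 96
  · have hk : i / 4 < 24 := by omega
    have h1 := h (i / 4) hk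
    unfold vecI at h1
    have h2 : dg c (i / 4) = dg c' (i / 4) := by
      have : ((dg c (i / 4) : ℕ) : ℤ) = (dg c' (i / 4) : ℕ) := by linarith
      exact_mod_cast this
    have h3 := congrArg (fun n => n.testBit (i % 4)) h2
    simp only [dg_testBit] at h3
    have h4 : i % 4 < 4 := Nat.mod_lt _ (by norm_num)
    have h5 : 4 * (i / 4) + i % 4 = i := Nat.div_add_mod i 4
    rw [h5] at h3
    simpa [h4] using h3
  · have hb : (79228162514264337593543950336 : ℕ) = 2 ^ 96 := by norm_num
    have hle : 2 ^ 96 ≤ 2 ^ i := Nat.pow_le_pow_right (by norm_num) (by omega)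
    rw [Nat.testBit_lt_two_pow (lt_of_lt_of_le (hb ▸ hc) hle),
      Nat.testBit_lt_two_pow (lt_of_lt_of_le (hb ▸ hc') hle)]

/-- distinctness of the coded vectors -/
theorem inj_of_idxChk (T : BT) (l : List ℕ) (h : idxChk T l 0 = true)
    (j j' : ℕ) (hj : j < l.length) (hj' : j' < l.length) (he : vecN l[j] = vecN l[j']) : j = j' := by
  obtain ⟨b1, h1⟩ := idxChk_get T l 0 h j hj
  obtain ⟨b2, h2⟩ := idxChk_get T l 0 h j' hj'
  have hk : ∀ k < 24, vecI l[j] k = vecI l[j'] k := by
    intro k hk
    rw [← vecN_unidx _ k hk, ← vecN_unidx _ k hk, he]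
  rw [code_inj _ _ b1 b2 hk] at h1
  omega

theorem nodup_of_idxChk (T : BT) (l : List ℕ) (h : idxChk T l 0 = true) :
    (l.map vecN).Nodup := by
  rw [List.nodup_iff_injective_get]
  intro a b hab
  have ha : a.1 < l.length := by simpa using a.2
  have hb : b.1 < l.length := by simpa using b.2
  have e : vecN l[a.1] = vecN l[b.1] := by
    simpa [List.get_eq_getElem, List.getElem_map] using hab
  exact Fin.ext (inj_of_idxChk T l h a.1 b.1 ha hb e)

end Cfsg.Agent.Lib.Helper9.OrbCert1
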