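import Cfsg.Agent.Lib.Helper9.OrbCert1

set_option autoImplicit false

/-! Orbit certificates: from checked certificates to statements on orbits of a subgroup of the
automorphism group of the lattice on a finite set of lattice vectors of known size. -/

namespace Cfsg.Agent.Lib.Helper9.OrbCert2

open Cfsg Cfsg.Agent.Lib.Helper9.OrbCert1

variable (Good : Equiv.Perm leechLattice → Prop)

/-- the vector coded by `c` is the image of `r` under a good element -/
def InOrb (r : leechLattice) (c : ℕ) : Prop := ∃ n, Good n ∧ (n r).1 = vecN c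

variable {Good}

theorem hstep (stepOK : ℕ → ℕ → ℕ → Bool) (good_mul : ∀ a b, Good a → Good b → Good (a * b))
    (hok : ∀ g p c, stepOK g p c = true → ∃ n, Good n ∧ ∃ F : Fn,
      (∀ v : leechLattice, (n v).1 = F v.1) ∧ F (vecN p) = vecN c)
    (r : leechLattice) :
    ∀ g p c, stepOK g p c = true → InOrb Good r p → InOrb Good r c := by
  rintro g p c hs ⟨n, hn, hp⟩
  obtain ⟨m, hm, F, hmv, hF⟩ := hok g p c hs
  exact ⟨m * n, good_mul m n hm hn, by rw [Equiv.Perm.mul_apply, hmv, hp, hF]⟩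

theorem all_inorb (stepOK : ℕ → ℕ → ℕ → Bool) (good_one : Good 1)
    (good_mul : ∀ a b, Good a → Good b → Good (a * b))
    (hok : ∀ g p c, stepOK g p c = true → ∃ n, Good n ∧ ∃ F : Fn,
      (∀ v : leechLattice, (n v).1 = F v.1) ∧ F (vecN p) = vecN c)
    (r : leechLattice) (c : ℕ) (E : List ℕ) (hr : r.1 = vecN c)
    (hc : chk stepOK (c :: E.map (Nat.shiftRight · 24)) 1 E = true) :
    ∀ x ∈ c :: E.map (Nat.shiftRight · 24), InOrb Good r x := by
  have hroot : InOrb Good r c := ⟨1, good_one, hr⟩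
  intro x hx
  rw [List.mem_cons] at hx
  rcases hx with rfl | hx
  · exact hroot
  · rw [List.mem_map] at hx
    obtain ⟨e, he, rfl⟩ := hx
    exact chk_sound stepOK (InOrb Good r) (hstep stepOK good_mul hok r) E [c] 1 rfl
      (fun y hy => by rw [List.mem_singleton] at hy; rw [hy]; exact hroot) hc e he

/-- the codes of all blocks -/
def allCodes (blocks : List (leechLattice × List ℕ)) : List ℕ := (blocks.map Prod.snd).flatten

theorem mem_allCodes (blocks : List (leechLattice × List ℕ)) (c : ℕ) :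
    c ∈ allCodes blocks ↔ ∃ b ∈ blocks, c ∈ b.2 := by
  unfold allCodes
  rw [List.mem_flatten]
  constructor
  · rintro ⟨l, hl, hc⟩
    rw [List.mem_map] at hl
    obtain ⟨b, hb, rfl⟩ := hl
    exact ⟨b, hb, hc⟩
  · rintro ⟨b, hb, hc⟩
    exact ⟨b.2, List.mem_map.mpr ⟨b, hb, rfl⟩, hc⟩

/-- if the blocks consist of distinct vectors of a set whose size is the number of codes, they
cover the set -/
theorem cover (SF : Set (GolayPt → ℤ)) (N : ℕ) (hN : SF.ncard = N) (hN0 : N ≠ 0)
    (blocks : List (leechLattice × List ℕ))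
    (hsub : ∀ b ∈ blocks, ∀ c ∈ b.2, vecN c ∈ SF)
    (hnd : ((allCodes blocks).map vecN).Nodup) (hlen : (allCodes blocks).length = N) :
    ∀ w ∈ SF, ∃ b ∈ blocks, ∃ c ∈ b.2, w = vecN c := by
  classical
  have hfin : SF.Finite := Set.finite_of_ncard_ne_zero (by rw [hN]; exact hN0)
  let A : Finset (GolayPt → ℤ) := ((allCodes blocks).map vecN).toFinset
  have hA : A.card = N := by
    rw [List.toFinset_card_of_nodup hnd, List.length_map, hlen]
  have hAS : (A : Set (GolayPt → ℤ)) ⊆ SF := by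
    intro w hw
    rw [Finset.mem_coe, List.mem_toFinset, List.mem_map] at hw
    obtain ⟨c, hc, rfl⟩ := hw
    obtain ⟨b, hb, hcb⟩ := (mem_allCodes blocks c).mp hc
    exact hsub b hb c hcb
  have heq : (A : Set (GolayPt → ℤ)) = SF :=
    Set.eq_of_subset_of_ncard_le hAS (by rw [Set.ncard_coe_finset, hA, hN]) hfin
  intro w hw
  rw [← heq, Finset.mem_coe, List.mem_toFinset, List.mem_map] at hw
  obtain ⟨c, hc, rfl⟩ := hw
  obtain ⟨b, hb, hcb⟩ := (mem_allCodes blocks c).mp hc
  exact ⟨b, hb, c, hcb, rfl⟩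

/-- the number of vectors coded by a block -/
theorem block_card (blocks : List (leechLattice × List ℕ))
    (hnd : ((allCodes blocks).map vecN).Nodup) (b : leechLattice × List ℕ) (hb : b ∈ blocks) :
    {w : GolayPt → ℤ | ∃ c ∈ b.2, w = vecN c}.ncard = b.2.length := by
  classical
  have hsub : List.Sublist (b.2.map vecN) ((allCodes blocks).map vecN) := by
    apply List.Sublist.map
    unfold allCodes
    exact List.sublist_flatten_of_mem (List.mem_map.mpr ⟨b, hb, rfl⟩)
  have hnd' : (b.2.map vecN).Nodup := hnd.sublist hsub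
  have : {w : GolayPt → ℤ | ∃ c ∈ b.2, w = vecN c} = ((b.2.map vecN).toFinset : Set _) := by
    ext w
    simp only [Set.mem_setOf_eq, Finset.mem_coe, List.mem_toFinset, List.mem_map]
    constructor
    · rintro ⟨c, hc, rfl⟩; exact ⟨c, hc, rfl⟩
    · rintro ⟨c, hc, rfl⟩; exact ⟨c, hc, rfl⟩
  rw [this, Set.ncard_coe_finset, List.toFinset_card_of_nodup hnd', List.length_map]

/-- the orbit of a vector under the good elements -/
def Orb (Good : Equiv.Perm leechLattice → Prop) (r : leechLattice) : Set leechLattice :=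
  {y | ∃ n, Good n ∧ n r = y}

/-- the orbits of the roots of the blocks are the level sets of a separating invariant, with
the sizes of the blocks -/
theorem orbit_eq_card (SF : Set (GolayPt → ℤ)) (blocks : List (leechLattice × List ℕ))
    (φ : leechLattice → ℤ) (hφ : ∀ n, Good n → ∀ y, φ (n y) = φ y)
    (hin : ∀ b ∈ blocks, ∀ c ∈ b.2, InOrb Good b.1 c)
    (hcov : ∀ w ∈ SF, ∃ b ∈ blocks, ∃ c ∈ b.2, w = vecN c)
    (hSF : ∀ n, Good n → ∀ y : leechLattice, y.1 ∈ SF → (n y).1 ∈ SF)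
    (hroot : ∀ b ∈ blocks, b.1.1 ∈ SF)
    (hsep : ∀ b ∈ blocks, ∀ b' ∈ blocks, φ b.1 = φ b'.1 → b = b')
    (hnd : ((allCodes blocks).map vecN).Nodup)
    (b : leechLattice × List ℕ) (hb : b ∈ blocks) :
    Orb Good b.1 = {y : leechLattice | y.1 ∈ SF ∧ φ y = φ b.1} ∧
      (Orb Good b.1).ncard = b.2.length := by
  have key : ∀ y : leechLattice, y.1 ∈ SF → φ y = φ b.1 → ∃ c ∈ b.2, y.1 = vecN c := by
    intro y hy hyφ
    obtain ⟨b', hb', c, hc, hyc⟩ := hcov y.1 hy
    obtain ⟨n, hn, hnc⟩ := hin b' hb' c hc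
    have hy' : n b'.1 = y := Subtype.ext (by rw [hnc, hyc])
    have : φ b.1 = φ b'.1 := by rw [← hyφ, ← hy', hφ n hn]
    have hbb := hsep b hb b' hb' this
    exact ⟨c, by rw [hbb]; exact hc, hyc⟩
  have heq : Orb Good b.1 = {y : leechLattice | y.1 ∈ SF ∧ φ y = φ b.1} := by
    ext y
    constructor
    · rintro ⟨n, hn, rfl⟩
      exact ⟨hSF n hn b.1 (hroot b hb), hφ n hn b.1⟩
    · rintro ⟨hy, hyφ⟩
      obtain ⟨c, hc, hyc⟩ := key y hy hyφ
      obtain ⟨n, hn, hnc⟩ := hin b hb c hc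
      exact ⟨n, hn, Subtype.ext (by rw [hnc, hyc])⟩
  refine ⟨heq, ?_⟩
  rw [← block_card blocks hnd b hb, ← Set.ncard_image_of_injective _ Subtype.val_injective]
  congr 1
  ext w
  constructor
  · rintro ⟨y, hy, rfl⟩
    rw [heq] at hy
    exact key y hy.1 hy.2
  · rintro ⟨c, hc, rfl⟩
    obtain ⟨n, hn, hnc⟩ := hin b hb c hc
    exact ⟨n b.1, ⟨n, hn, rfl⟩, hnc⟩

end Cfsg.Agent.Lib.Helper9.OrbCert2
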