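import Cfsg.Agent.Lib.Helper9.OrbCert2

set_option autoImplicit false

/-! Orbit certificates: transport of orbits of the stabiliser of a pair of lattice vectors. -/

namespace Cfsg.Agent.Lib.Helper9.OrbCert4

open Cfsg Cfsg.Agent.Lib.Helper9.OrbCert2

/-- the automorphisms fixing two given vectors -/
def GoodAB (a b : leechLattice) (n : Equiv.Perm leechLattice) : Prop :=
  n ∈ Co0 ∧ n a = a ∧ n b = b

theorem smul_def (g : ↥Co0) (v : leechLattice) : g • v = g.1 v := rfl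

/-- orbits of the stabiliser of a translated pair -/
theorem orbit_eq_image (γ : ↥Co0) (a b r : leechLattice) :
    MulAction.orbit ↥(MulAction.stabilizer ↥Co0 (γ • a) ⊓ MulAction.stabilizer ↥Co0 (γ • b))
      (γ • r) = (fun y => γ • y) '' Orb (GoodAB a b) r := by
  ext y
  constructor
  · rintro ⟨⟨h, hh⟩, rfl⟩
    have h1 : h • γ • a = γ • a := MulAction.mem_stabilizer_iff.mp hh.1
    have h2 : h • γ • b = γ • b := MulAction.mem_stabilizer_iff.mp hh.2
    refine ⟨(γ⁻¹ * h * γ).1 r, ⟨(γ⁻¹ * h * γ).1, ⟨(γ⁻¹ * h * γ).2, ?_, ?_⟩, rfl⟩, ?_⟩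
    · show (γ⁻¹ * h * γ) • a = a
      rw [mul_smul, mul_smul, h1, inv_smul_smul]
    · show (γ⁻¹ * h * γ) • b = b
      rw [mul_smul, mul_smul, h2, inv_smul_smul]
    · show γ • ((γ⁻¹ * h * γ) • r) = h • γ • r
      rw [mul_smul, mul_smul, smul_inv_smul]
  · rintro ⟨y0, ⟨n, hn, rfl⟩, rfl⟩
    have hs : γ * ⟨n, hn.1⟩ * γ⁻¹ ∈ MulAction.stabilizer ↥Co0 (γ • a) ⊓
        MulAction.stabilizer ↥Co0 (γ • b) := by
      refine ⟨MulAction.mem_stabilizer_iff.mpr ?_, MulAction.mem_stabilizer_iff.mpr ?_⟩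
      · rw [mul_smul, mul_smul, inv_smul_smul]
        congr 1
        exact hn.2.1
      · rw [mul_smul, mul_smul, inv_smul_smul]
        congr 1
        exact hn.2.2
    refine ⟨⟨γ * ⟨n, hn.1⟩ * γ⁻¹, hs⟩, ?_⟩
    show (γ * ⟨n, hn.1⟩ * γ⁻¹) • γ • r = γ • n r
    rw [mul_smul, mul_smul, inv_smul_smul]
    rfl

theorem orbit_ncard (γ : ↥Co0) (a b r : leechLattice) :
    (MulAction.orbit ↥(MulAction.stabilizer ↥Co0 (γ • a) ⊓ MulAction.stabilizer ↥Co0 (γ • b))
      (γ • r)).ncard = (Orb (GoodAB a b) r).ncard := by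
  rw [orbit_eq_image, Set.ncard_image_of_injective _ (MulAction.injective γ)]

end Cfsg.Agent.Lib.Helper9.OrbCert4
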