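import Mathlib

set_option autoImplicit false

/-! Automorphisms of a split extension `N = E ⋊ M` preserving `E` are inner, if `M` is complete,
`E` is rigid, and the first cohomology vanishes in a concrete form. -/

namespace Cfsg.Agent.Lib.Helper9.OutCo1B

open scoped Pointwise

theorem autn {N : Type*} [Group N] [Finite N] (E M : Subgroup N) (hEn : E.Normal)
    (hdisj : E ⊓ M = ⊥) (hsup : E ⊔ M = ⊤)
    (hEab : ∀ a ∈ E, ∀ b ∈ E, a * b = b * a)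
    (hM : ∀ α : ↥M ≃* ↥M, ∃ m : ↥M, ∀ x : ↥M, α x = m * x * m⁻¹)
    (hE : ∀ ψ : N ≃* N, (∀ e ∈ E, ψ e ∈ E) → (∀ m ∈ M, ∃ e ∈ E, ψ m = e * m) →
      ∀ e ∈ E, ψ e = e)
    (x0 : N) (hx0 : x0 ∈ M) (hfix : ∀ e ∈ E, x0 * e = e * x0 → e = 1)
    (hrig : ∀ ψ : N ≃* N, (∀ e ∈ E, ψ e = e) → (∀ m ∈ M, ∃ e ∈ E, ψ m = e * m) → ψ x0 = x0 →
      ∀ x, ψ x = x) :
    ∀ ψ : N ≃* N, (∀ e ∈ E, ψ e ∈ E) → ∃ n : N, ∀ x, ψ x = n * x * n⁻¹ := by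
  intro ψ hψE
  -- decomposition
  have hdec : ∀ n : N, ∃ e ∈ E, ∃ m ∈ M, n = e * m := by
    intro n
    have h1 : n ∈ E ⊔ M := by rw [hsup]; exact Subgroup.mem_top n
    have h2 : n ∈ ((E ⊔ M : Subgroup N) : Set N) := h1
    rw [Subgroup.normal_mul] at h2
    obtain ⟨e, he, m, hm, rfl⟩ := Set.mem_mul.mp h2
    exact ⟨e, he, m, hm, rfl⟩
  have huniq : ∀ e ∈ E, ∀ m ∈ M, ∀ e' ∈ E, ∀ m' ∈ M, e * m = e' * m' → m = m' := by
    intro e he m hm e' he' m' hm' h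
    have h1 : e'⁻¹ * e = m' * m⁻¹ := by
      have : e'⁻¹ * (e * m) * m⁻¹ = e'⁻¹ * (e' * m') * m⁻¹ := by rw [h]
      calc e'⁻¹ * e = e'⁻¹ * (e * m) * m⁻¹ := by group
        _ = e'⁻¹ * (e' * m') * m⁻¹ := this
        _ = m' * m⁻¹ := by group
    have h2 : m' * m⁻¹ ∈ E ⊓ M :=
      ⟨h1 ▸ E.mul_mem (E.inv_mem he') he, M.mul_mem hm' (M.inv_mem hm)⟩
    rw [hdisj, Subgroup.mem_bot] at h2
    exact (mul_inv_eq_one.mp h2).symm
  -- ψ maps E onto E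
  have hψE' : ∀ e, ψ e ∈ E → e ∈ E := by
    let f : ↥E → ↥E := fun e => ⟨ψ e.1, hψE e.1 e.2⟩
    have hf : Function.Injective f := by
      intro a b hab
      apply Subtype.ext
      exact ψ.injective (congrArg Subtype.val hab)
    have hs : Function.Surjective f := Finite.injective_iff_surjective.mp hf
    intro e he
    obtain ⟨e', he'⟩ := hs ⟨ψ e, he⟩
    have : ψ e'.1 = ψ e := congrArg Subtype.val he'
    rw [← ψ.injective this]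
    exact e'.2
  -- the induced automorphism of `M`
  have hex : ∀ m : ↥M, ∃ m' : ↥M, ∃ e ∈ E, ψ m.1 = e * m'.1 := by
    intro m
    obtain ⟨e, he, m', hm', h⟩ := hdec (ψ m.1)
    exact ⟨⟨m', hm'⟩, e, he, h⟩
  choose α hα using hex
  have hαmul : ∀ a b : ↥M, α (a * b) = α a * α b := by
    intro a b
    obtain ⟨e1, he1, h1⟩ := hα a
    obtain ⟨e2, he2, h2⟩ := hα b
    obtain ⟨e3, he3, h3⟩ := hα (a * b)
    apply Subtype.ext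
    have h4 : ψ (a * b : ↥M).1 = (e1 * ((α a).1 * e2 * (α a).1⁻¹)) * ((α a).1 * (α b).1) := by
      show ψ (a.1 * b.1) = _
      rw [map_mul, h1, h2]
      group
    rw [h3] at h4
    exact huniq e3 he3 _ (α (a * b)).2 _
      (E.mul_mem he1 (hEn.conj_mem e2 he2 (α a).1)) _ (M.mul_mem (α a).2 (α b).2) h4
  have hαinj : Function.Injective α := by
    intro a b hab
    obtain ⟨e1, he1, h1⟩ := hα a
    obtain ⟨e2, he2, h2⟩ := hα b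
    rw [hab] at h1
    have h3 : ψ (a.1 * b.1⁻¹) ∈ E := by
      rw [map_mul, map_inv, h1, h2]
      have : e1 * (α b).1 * (e2 * (α b).1)⁻¹ = e1 * e2⁻¹ := by group
      rw [this]
      exact E.mul_mem he1 (E.inv_mem he2)
    have h4 := hψE' _ h3
    have h5 : a.1 * b.1⁻¹ ∈ E ⊓ M := ⟨h4, M.mul_mem a.2 (M.inv_mem b.2)⟩
    rw [hdisj, Subgroup.mem_bot] at h5
    apply Subtype.ext
    exact mul_inv_eq_one.mp h5
  have hαbij : Function.Bijective α := ⟨hαinj, Finite.injective_iff_surjective.mp hαinj⟩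
  let αe : ↥M ≃* ↥M := MulEquiv.ofBijective (MonoidHom.mk' α hαmul) hαbij
  obtain ⟨m0, hm0⟩ := hM αe
  have hm0' : ∀ x : ↥M, α x = m0 * x * m0⁻¹ := hm0
  -- first correction
  let ψ1 : N ≃* N := ψ.trans (MulAut.conj (m0.1)⁻¹)
  have hψ1 : ∀ x, ψ1 x = m0.1⁻¹ * ψ x * m0.1 := by
    intro x
    show MulAut.conj (m0.1)⁻¹ (ψ x) = _
    rw [MulAut.conj_apply, inv_inv]
  have h1E : ∀ e ∈ E, ψ1 e ∈ E := by
    intro e he
    rw [hψ1]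
    have := hEn.conj_mem _ (hψE e he) m0.1⁻¹
    rwa [inv_inv] at this
  have h1M : ∀ m ∈ M, ∃ e ∈ E, ψ1 m = e * m := by
    intro m hm
    obtain ⟨e, he, h⟩ := hα ⟨m, hm⟩
    refine ⟨m0.1⁻¹ * e * m0.1, ?_, ?_⟩
    · have := hEn.conj_mem _ he m0.1⁻¹
      rwa [inv_inv] at this
    · rw [hψ1]
      have h' : ψ m = e * (m0.1 * m * m0.1⁻¹) := by
        have := hm0' ⟨m, hm⟩
        rw [h, this]
        rfl
      rw [h']
      group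
  have h1id := hE ψ1 h1E h1M
  -- second correction
  obtain ⟨e0, he0, hx0e⟩ := h1M x0 hx0
  let κ : ↥E → ↥E := fun e => ⟨e.1⁻¹ * (x0 * e.1 * x0⁻¹),
    E.mul_mem (E.inv_mem e.2) (hEn.conj_mem _ e.2 x0)⟩
  have hκ : Function.Injective κ := by
    intro a b hab
    have h1 : a.1⁻¹ * (x0 * a.1 * x0⁻¹) = b.1⁻¹ * (x0 * b.1 * x0⁻¹) := congrArg Subtype.val hab
    have h2 : x0 * (a.1 * b.1⁻¹) * x0⁻¹ = a.1 * b.1⁻¹ := by
      have h3 : x0 * a.1 * x0⁻¹ = a.1 * b.1⁻¹ * (x0 * b.1 * x0⁻¹) := by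
        calc x0 * a.1 * x0⁻¹ = a.1 * (a.1⁻¹ * (x0 * a.1 * x0⁻¹)) := by group
          _ = a.1 * (b.1⁻¹ * (x0 * b.1 * x0⁻¹)) := by rw [h1]
          _ = a.1 * b.1⁻¹ * (x0 * b.1 * x0⁻¹) := by group
      calc x0 * (a.1 * b.1⁻¹) * x0⁻¹ = (x0 * a.1 * x0⁻¹) * (x0 * b.1 * x0⁻¹)⁻¹ := by group
        _ = a.1 * b.1⁻¹ * (x0 * b.1 * x0⁻¹) * (x0 * b.1 * x0⁻¹)⁻¹ := by rw [h3]
        _ = a.1 * b.1⁻¹ := by group
    have h4 : x0 * (a.1 * b.1⁻¹) = (a.1 * b.1⁻¹) * x0 := by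
      calc x0 * (a.1 * b.1⁻¹) = (x0 * (a.1 * b.1⁻¹) * x0⁻¹) * x0 := by group
        _ = (a.1 * b.1⁻¹) * x0 := by rw [h2]
    have h5 := hfix _ (E.mul_mem a.2 (E.inv_mem b.2)) h4
    apply Subtype.ext
    exact mul_inv_eq_one.mp h5
  obtain ⟨e, he⟩ := (Finite.injective_iff_surjective.mp hκ) ⟨e0, he0⟩
  have he' : e.1⁻¹ * (x0 * e.1 * x0⁻¹) = e0 := congrArg Subtype.val he
  let ψ2 : N ≃* N := ψ1.trans (MulAut.conj e.1)
  have hψ2 : ∀ x, ψ2 x = e.1 * ψ1 x * e.1⁻¹ := by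
    intro x
    show MulAut.conj e.1 (ψ1 x) = _
    rw [MulAut.conj_apply]
  have h2E : ∀ a ∈ E, ψ2 a = a := by
    intro a ha
    rw [hψ2, h1id a ha, hEab e.1 e.2 a ha]
    group
  have h2M : ∀ m ∈ M, ∃ a ∈ E, ψ2 m = a * m := by
    intro m hm
    obtain ⟨a, ha, h⟩ := h1M m hm
    refine ⟨e.1 * a * (m * e.1⁻¹ * m⁻¹), ?_, ?_⟩
    · exact E.mul_mem (E.mul_mem e.2 ha) (hEn.conj_mem _ (E.inv_mem e.2) m)
    · rw [hψ2, h]
      group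
  have h2x : ψ2 x0 = x0 := by
    rw [hψ2, hx0e, ← he']
    group
  have hid := hrig ψ2 h2E h2M h2x
  refine ⟨m0.1 * e.1⁻¹, ?_⟩
  intro x
  have h := hid x
  rw [hψ2, hψ1] at h
  calc ψ x = m0.1 * e.1⁻¹ * (e.1 * (m0.1⁻¹ * ψ x * m0.1) * e.1⁻¹) * (m0.1 * e.1⁻¹)⁻¹ := by group
    _ = m0.1 * e.1⁻¹ * x * (m0.1 * e.1⁻¹)⁻¹ := by rw [h]

end Cfsg.Agent.Lib.Helper9.OutCo1B
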