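import Cfsg.Agent.Lib.Helper1.Nilpotent

set_option autoImplicit false

/-! In a finite `p`-group, between two normal subgroups `X < A` there is an element of `A`
outside `X` which is central modulo `X`. -/

namespace Cfsg.Agent.Lib.Helper9.OutCo1P

theorem exists_central_mod {P : Type*} [Group P] [Finite P] (p : ℕ) [Fact p.Prime]
    (hP : IsPGroup p P) (X A : Subgroup P) [hXn : X.Normal] [hAn : A.Normal] (hXA : X ≤ A)
    (hne : X ≠ A) : ∃ τ ∈ A, τ ∉ X ∧ ∀ g : P, g * τ * g⁻¹ * τ⁻¹ ∈ X := by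
  have : Group.IsNilpotent (P ⧸ X) := (hP.to_quotient X).isNilpotent
  have hsurj : Function.Surjective (QuotientGroup.mk' X) := QuotientGroup.mk'_surjective X
  have : (A.map (QuotientGroup.mk' X)).Normal := Subgroup.Normal.map hAn _ hsurj
  have hne' : A.map (QuotientGroup.mk' X) ≠ ⊥ := by
    intro h
    apply hne
    apply le_antisymm hXA
    intro a ha
    have h1 : (QuotientGroup.mk' X) a ∈ A.map (QuotientGroup.mk' X) := Subgroup.mem_map_of_mem _ ha
    rw [h, Subgroup.mem_bot] at h1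
    exact (QuotientGroup.eq_one_iff a).mp h1
  have h2 := Cfsg.Agent.Lib.Helper1.normal_inf_center_ne_bot (A.map (QuotientGroup.mk' X)) hne'
  obtain ⟨y, hy1⟩ := (Subgroup.ne_bot_iff_exists_ne_one).mp h2
  have hy' : y.1 ∈ A.map (QuotientGroup.mk' X) ⊓ Subgroup.center (P ⧸ X) := y.2
  obtain ⟨hyA, hyZ⟩ := hy'
  obtain ⟨τ, hτ, hτy⟩ := hyA
  refine ⟨τ, hτ, ?_, ?_⟩
  · intro hτX
    apply hy1
    apply Subtype.ext
    show y.1 = 1
    rw [← hτy]
    exact (QuotientGroup.eq_one_iff τ).mpr hτX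
  · intro g
    rw [← QuotientGroup.eq_one_iff]
    have hc := (Subgroup.mem_center_iff.mp hyZ) ((QuotientGroup.mk' X) g)
    rw [← hτy] at hc
    have : ((g * τ * g⁻¹ * τ⁻¹ : P) : P ⧸ X) =
        (QuotientGroup.mk' X g) * (QuotientGroup.mk' X τ) * (QuotientGroup.mk' X g)⁻¹ *
          (QuotientGroup.mk' X τ)⁻¹ := by
      simp
    rw [this, hc]
    group

/-- the same inside an ambient group -/
theorem exists_central_mod' {G : Type*} [Group G] (p : ℕ) [Fact p.Prime] (P X A : Subgroup G)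
    [Finite P] (hP : IsPGroup p P) (hXA : X ≤ A) (hAP : A ≤ P) (hXn : P ≤ Subgroup.normalizer (X : Set G))
    (hAn : P ≤ Subgroup.normalizer (A : Set G)) (hne : X ≠ A) :
    ∃ τ ∈ A, τ ∉ X ∧ ∀ g ∈ P, g * τ * g⁻¹ * τ⁻¹ ∈ X := by
  have hXP : X ≤ P := hXA.trans hAP
  have : (X.subgroupOf P).Normal := (Subgroup.normal_subgroupOf_iff_le_normalizer hXP).mpr hXn
  have : (A.subgroupOf P).Normal := (Subgroup.normal_subgroupOf_iff_le_normalizer hAP).mpr hAn
  have hle : X.subgroupOf P ≤ A.subgroupOf P := fun x hx => hXA hx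
  have hne' : X.subgroupOf P ≠ A.subgroupOf P := by
    intro h
    apply hne
    apply le_antisymm hXA
    intro a ha
    have : (⟨a, hAP ha⟩ : ↥P) ∈ A.subgroupOf P := ha
    rw [← h] at this
    exact this
  obtain ⟨τ, hτ, hτX, hc⟩ := exists_central_mod p hP (X.subgroupOf P) (A.subgroupOf P) hle hne'
  refine ⟨τ.1, hτ, hτX, ?_⟩
  intro g hg
  exact hc ⟨g, hg⟩

end Cfsg.Agent.Lib.Helper9.OutCo1P
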