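import Cfsg.Agent.Lib.Helper9.Syl2M24b
import Cfsg.Agent.Lib.Helper9.OutCo1P

set_option autoImplicit false

/-! Normal elementary abelian subgroups of the explicit Sylow `2`-subgroup of `M24`: the
abstract step from a node of the lattice of such subgroups to its children, from table checks. -/

namespace Cfsg.Agent.Lib.Helper9.OutCo1D

open Cfsg Finset Cfsg.Agent.Lib.Helper9.GolayQR1 Cfsg.Agent.Lib.Helper9.M24F1
  Cfsg.Agent.Lib.Helper9.M24T1 Cfsg.Agent.Lib.Helper9.M24U1 Cfsg.Agent.Lib.Helper9.M24T3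
  Cfsg.Agent.Lib.Helper9.Syl2B Cfsg.Agent.Lib.Helper9.Syl2B.Tab Cfsg.Agent.Lib.Helper9.Syl2M24
open scoped Pointwise

/-- the explicit Sylow subgroup -/
abbrev S0 : Subgroup (Equiv.Perm GolayPt) := tab.S0 gg

/-- entries of the table -/
def EE (i : ℕ) : ℕ := tab.E i

/-- the packed generators -/
def GG (a : ℕ) : ℕ := tab.Gc a

/-- `R = P ∘ Q` on lanes -/
def eqComp (R P Q : ℕ) : Bool := allB 24 (fun j => Nat.beq (im R j) (im P (im Q j)))

/-- `P ∘ Q = P' ∘ Q'` on lanes -/
def eqComp2 (P Q P' Q' : ℕ) : Bool :=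
  allB 24 (fun j => Nat.beq (im P (im Q j)) (im P' (im Q' j)))

/-- `G ∘ P ∘ G = W ∘ P'` on lanes -/
def eqConj (G P W P' : ℕ) : Bool :=
  allB 24 (fun j => Nat.beq (im G (im P (im G j))) (im W (im P' j)))

/-- `G ∘ P ∘ G = W` on lanes -/
def eqConj1 (G P W : ℕ) : Bool :=
  allB 24 (fun j => Nat.beq (im G (im P (im G j))) (im W j))

/-- `P ∘ P = 1` on lanes -/
def sqB (P : ℕ) : Bool := allB 24 (fun j => Nat.beq (im P (im P j)) j)

theorem rep_comp {x y : Equiv.Perm GolayPt} {P Q R : ℕ} (hx : Rep x P) (hy : Rep y Q)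
    (h : eqComp R P Q = true) : Rep (x * y) R := by
  intro p
  unfold eqComp at h
  rw [allB_iff] at h
  have h1 := (beq_iff _ _).mp (h (idx p) (idx_lt p))
  rw [h1, Equiv.Perm.mul_apply, hx (y p), hy p]

theorem eqComp2_of_eq {x y x' y' : Equiv.Perm GolayPt} {P Q P' Q' : ℕ} (hx : Rep x P)
    (hy : Rep y Q) (hx' : Rep x' P') (hy' : Rep y' Q') (h : x * y = x' * y') :
    eqComp2 P Q P' Q' = true := by
  unfold eqComp2
  rw [allB_iff]
  intro j hj
  rw [beq_iff]
  have h1 : idx ((x * y) (unidx j)) = idx ((x' * y') (unidx j)) := by rw [h]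
  rw [Equiv.Perm.mul_apply, Equiv.Perm.mul_apply, hx, hy, hx', hy', idx_unidx j hj] at h1
  exact h1

theorem eqConj_of_eq {g x w x' : Equiv.Perm GolayPt} {G P W P' : ℕ} (hg : Rep g G)
    (hx : Rep x P) (hw : Rep w W) (hx' : Rep x' P') (h : g * x * g = w * x') :
    eqConj G P W P' = true := by
  unfold eqConj
  rw [allB_iff]
  intro j hj
  rw [beq_iff]
  have h1 : idx ((g * x * g) (unidx j)) = idx ((w * x') (unidx j)) := by rw [h]
  rw [Equiv.Perm.mul_apply, Equiv.Perm.mul_apply, Equiv.Perm.mul_apply, hg, hx, hg, hw, hx',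
    idx_unidx j hj] at h1
  exact h1

theorem rep_conj1 {g x : Equiv.Perm GolayPt} {G P W : ℕ} (hg : Rep g G) (hx : Rep x P)
    (h : eqConj1 G P W = true) : Rep (g * x * g) W := by
  intro p
  unfold eqConj1 at h
  rw [allB_iff] at h
  have h1 := (beq_iff _ _).mp (h (idx p) (idx_lt p))
  rw [← h1, Equiv.Perm.mul_apply, Equiv.Perm.mul_apply, hg, hx, hg]

theorem sqB_of {x : Equiv.Perm GolayPt} {P : ℕ} (hx : Rep x P) (h : x * x = 1) : sqB P = true := by
  unfold sqB
  rw [allB_iff]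
  intro j hj
  rw [beq_iff]
  have h1 : idx ((x * x) (unidx j)) = idx ((1 : Equiv.Perm GolayPt) (unidx j)) := by rw [h]
  rw [Equiv.Perm.mul_apply, hx, hx, Equiv.Perm.one_apply, idx_unidx j hj] at h1
  exact h1

theorem sq_of_sqB {x : Equiv.Perm GolayPt} {P : ℕ} (hx : Rep x P) (h : sqB P = true) :
    x * x = 1 := by
  unfold sqB at h
  rw [allB_iff] at h
  apply Equiv.ext
  intro p
  apply idx_injective
  rw [Equiv.Perm.mul_apply, hx, hx, Equiv.Perm.one_apply]
  exact (beq_iff _ _).mp (h (idx p) (idx_lt p))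

/-- membership in a list of indices -/
def memL (L : List ℕ) (i : ℕ) : Bool := L.any (Nat.beq i)

theorem memL_iff (L : List ℕ) (i : ℕ) : memL L i = true ↔ i ∈ L := by
  unfold memL
  rw [List.any_eq_true]
  constructor
  · rintro ⟨x, hx, h⟩
    rw [(beq_iff _ _).mp h]
    exact hx
  · intro h
    exact ⟨i, h, (beq_iff _ _).mpr rfl⟩

/-- the list is a subgroup of involutions -/
def okSub (L : List ℕ) : Bool :=
  memL L 0 && L.all (fun x => Nat.blt x 1024 && sqB (EE x)) &&
  L.all (fun x => L.all (fun y => L.any (fun w => eqComp (EE w) (EE x) (EE y))))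

/-- the list is normalized by the generators -/
def okNrm (L : List ℕ) : Bool :=
  allB 5 (fun a => L.all (fun x => L.any (fun w => eqConj1 (GG a) (EE x) (EE w))))

/-- every element outside the node which could lie over it in an elementary abelian normal
subgroup and is central modulo the node generates one of the children -/
def okStep (L : List ℕ) (C : List (List ℕ)) : Bool :=
  allB 1024 (fun i => memL L i || !(sqB (EE i)) ||
    !(L.all (fun x => eqComp2 (EE i) (EE x) (EE x) (EE i))) ||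
    !(allB 5 (fun a => L.any (fun w => eqConj (GG a) (EE i) (EE w) (EE i)))) ||
    C.any (fun D => D.all (fun j => memL L j || L.any (fun w => eqComp (EE j) (EE w) (EE i)))))

/-- the set of permutations of a list of indices -/
def nodeSet (L : List ℕ) : Set (Equiv.Perm GolayPt) := {x | ∃ i ∈ L, Rep x (EE i)}

theorem rep_one' : Rep 1 (EE 0) := Tab.rep_one ok

theorem rep_G (a : ℕ) (ha : a < 5) : Rep (gg a) (GG a) := rep_gg a ha

theorem gg_sq (a : ℕ) (ha : a < 5) : (gg a)⁻¹ = gg a := Tab.gen_sq ok rep_gg ha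

theorem mem_S0_iff (x : Equiv.Perm GolayPt) : x ∈ S0 ↔ ∃ i < 1024, Rep x (EE i) :=
  Tab.mem_iff ok rep_gg x

theorem exists_el (i : ℕ) (hi : i < 1024) : ∃ y ∈ S0, Rep y (EE i) := Tab.exists_elt ok rep_gg i hi

instance finite_S0 : Finite ↥S0 :=
  Nat.finite_of_card_ne_zero (by rw [Syl2M24.card_S0]; norm_num)

theorem pgroup_S0 : IsPGroup 2 ↥S0 := IsPGroup.of_card Syl2M24.card_S0

section node

variable {L : List ℕ} (h1 : okSub L = true)
include h1

theorem okSub_zero : 0 ∈ L := by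
  unfold okSub at h1
  simp only [Bool.and_eq_true] at h1
  exact (memL_iff L 0).mp h1.1.1

theorem okSub_lt {x : ℕ} (hx : x ∈ L) : x < 1024 ∧ sqB (EE x) = true := by
  unfold okSub at h1
  simp only [Bool.and_eq_true, List.all_eq_true] at h1
  have := h1.1.2 x hx
  exact ⟨(Tab.blt_iff _ _).mp this.1, this.2⟩

theorem okSub_mul {x y : ℕ} (hx : x ∈ L) (hy : y ∈ L) :
    ∃ w ∈ L, eqComp (EE w) (EE x) (EE y) = true := by
  unfold okSub at h1
  simp only [Bool.and_eq_true, List.all_eq_true, List.any_eq_true] at h1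
  exact h1.2 x hx y hy

/-- the subgroup of a node -/
def nodeSub : Subgroup (Equiv.Perm GolayPt) where
  carrier := nodeSet L
  one_mem' := ⟨0, okSub_zero h1, rep_one'⟩
  mul_mem' := by
    rintro x y ⟨i, hi, hx⟩ ⟨j, hj, hy⟩
    obtain ⟨w, hw, hc⟩ := okSub_mul h1 hi hj
    exact ⟨w, hw, rep_comp hx hy hc⟩
  inv_mem' := by
    rintro x ⟨i, hi, hx⟩
    have hsq := sq_of_sqB hx (okSub_lt h1 hi).2
    have : x⁻¹ = x := inv_eq_of_mul_eq_one_left hsq
    rw [this]
    exact ⟨i, hi, hx⟩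

theorem coe_nodeSub : (nodeSub h1 : Set (Equiv.Perm GolayPt)) = nodeSet L := rfl

theorem nodeSub_le : nodeSub h1 ≤ S0 := by
  rintro x ⟨i, hi, hx⟩
  exact (mem_S0_iff x).mpr ⟨i, (okSub_lt h1 hi).1, hx⟩

theorem nodeSub_normal (h2 : okNrm L = true) :
    S0 ≤ Subgroup.normalizer (nodeSub h1 : Set (Equiv.Perm GolayPt)) := by
  have key : ∀ a < 5, ∀ x ∈ nodeSub h1, gg a * x * gg a ∈ nodeSub h1 := by
    intro a ha x hx
    obtain ⟨i, hi, hxi⟩ := hx
    unfold okNrm at h2
    rw [allB_iff] at h2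
    have h3 := h2 a ha
    simp only [List.all_eq_true, List.any_eq_true] at h3
    obtain ⟨w, hw, hc⟩ := h3 i hi
    exact ⟨w, hw, rep_conj1 (rep_G a ha) hxi hc⟩
  unfold S0 Tab.S0
  rw [Subgroup.closure_le]
  rintro s ⟨a, ha, rfl⟩
  have ha' : a < 5 := ha
  show gg a ∈ Subgroup.normalizer (nodeSub h1 : Set (Equiv.Perm GolayPt))
  rw [Subgroup.mem_normalizer_iff]
  intro x
  rw [gg_sq a ha']
  constructor
  · exact key a ha' x
  · intro hx
    have := key a ha' _ hx
    have e : gg a * (gg a * x * gg a) * gg a = x := by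
      have hs : gg a * gg a = 1 := by
        have := gg_sq a ha'
        rw [inv_eq_iff_mul_eq_one] at this
        exact this
      calc gg a * (gg a * x * gg a) * gg a = (gg a * gg a) * x * (gg a * gg a) := by group
        _ = x := by rw [hs, one_mul, mul_one]
    rwa [e] at this

end node

/-- the step from a node to one of its children -/
theorem step {L : List ℕ} {C : List (List ℕ)} (h1 : okSub L = true) (h2 : okNrm L = true)
    (h3 : okStep L C = true) (A : Subgroup (Equiv.Perm GolayPt)) (hA1 : A ≤ S0)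
    (hA2 : ∀ s ∈ S0, ∀ x ∈ A, s * x * s⁻¹ ∈ A) (hA3 : ∀ x ∈ A, x * x = 1)
    (hLA : nodeSet L ⊆ A) : (A : Set (Equiv.Perm GolayPt)) = nodeSet L ∨ ∃ D ∈ C, nodeSet D ⊆ A := by
  by_cases hne : nodeSub h1 = A
  · left
    rw [← hne]
    rfl
  right
  have hcomm : ∀ x ∈ A, ∀ y ∈ A, x * y = y * x := by
    intro x hx y hy
    have e1 := hA3 x hx
    have e2 := hA3 y hy
    have e3 := hA3 (x * y) (A.mul_mem hx hy)
    have hx' : x⁻¹ = x := inv_eq_of_mul_eq_one_left e1
    have hy' : y⁻¹ = y := inv_eq_of_mul_eq_one_left e2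
    have : (x * y)⁻¹ = x * y := inv_eq_of_mul_eq_one_left e3
    rw [mul_inv_rev, hx', hy'] at this
    exact this.symm
  have hAn : S0 ≤ Subgroup.normalizer (A : Set (Equiv.Perm GolayPt)) := by
    intro s hs
    rw [Subgroup.mem_normalizer_iff]
    intro x
    constructor
    · exact hA2 s hs x
    · intro hx
      have := hA2 s⁻¹ (S0.inv_mem hs) _ hx
      have e : s⁻¹ * (s * x * s⁻¹) * s⁻¹⁻¹ = x := by group
      rwa [e] at this
  have hXA : nodeSub h1 ≤ A := hLA
  obtain ⟨τ, hτA, hτX, hτc⟩ := Cfsg.Agent.Lib.Helper9.OutCo1P.exists_central_mod' 2 S0 (nodeSub h1) A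
    pgroup_S0 hXA hA1 (nodeSub_normal h1 h2) hAn hne
  obtain ⟨i, hi, hτi⟩ := (mem_S0_iff τ).mp (hA1 hτA)
  unfold okStep at h3
  rw [allB_iff] at h3
  have h4 := h3 i hi
  simp only [Bool.or_eq_true, Bool.not_eq_true', ← Bool.not_eq_true] at h4
  rcases h4 with (((h4 | h4) | h4) | h4) | h4
  · exact absurd ⟨i, (memL_iff L i).mp h4, hτi⟩ hτX
  · exact absurd (sqB_of hτi (hA3 τ hτA)) h4
  · exfalso
    apply h4
    rw [List.all_eq_true]
    intro x hx
    obtain ⟨y, -, hy⟩ := exists_el x (okSub_lt h1 hx).1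
    have hyA : y ∈ A := hLA ⟨x, hx, hy⟩
    exact eqComp2_of_eq hτi hy hy hτi (hcomm τ hτA y hyA)
  · exfalso
    apply h4
    rw [allB_iff]
    intro a ha
    rw [List.any_eq_true]
    have hc := hτc (gg a) (Tab.gen_mem (t := tab) (g := gg) ha)
    obtain ⟨w, hw, hwr⟩ := hc
    refine ⟨w, hw, ?_⟩
    have hτinv : τ⁻¹ = τ := inv_eq_of_mul_eq_one_left (hA3 τ hτA)
    have e : gg a * τ * gg a = (gg a * τ * (gg a)⁻¹ * τ⁻¹) * τ := by
      rw [gg_sq a ha]
      group
    exact eqConj_of_eq (rep_G a ha) hτi hwr hτi e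
  · rw [List.any_eq_true] at h4
    obtain ⟨D, hD, h5⟩ := h4
    refine ⟨D, hD, ?_⟩
    rw [List.all_eq_true] at h5
    rintro y ⟨j, hj, hy⟩
    have h6 := h5 j hj
    rw [Bool.or_eq_true] at h6
    rcases h6 with h6 | h6
    · exact hLA ⟨j, (memL_iff L j).mp h6, hy⟩
    · rw [List.any_eq_true] at h6
      obtain ⟨w, hw, hc⟩ := h6
      obtain ⟨u, -, hu⟩ := exists_el w (okSub_lt h1 hw).1
      have huA : u ∈ A := hLA ⟨w, hw, hu⟩
      have : y = u * τ := hy.ext (rep_comp hu hτi hc)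
      rw [this]
      exact A.mul_mem huA hτA

end Cfsg.Agent.Lib.Helper9.OutCo1D
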