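import Cfsg.Agent.Lib.Helper9.OutCo1E
import Cfsg.Agent.Lib.Helper9.LeechM1

set_option autoImplicit false
set_option maxRecDepth 1000000
set_option Elab.async false

/-! Every nontrivial normal elementary abelian subgroup of the explicit Sylow `2`-subgroup of
`M24` is small compared to the number of code words it fixes up to complement. -/

namespace Cfsg.Agent.Lib.Helper9.OutCo1D

open Cfsg Finset Cfsg.Agent.Lib.Helper9.GolayQR1 Cfsg.Agent.Lib.Helper9.M24F1
  Cfsg.Agent.Lib.Helper9.M24T1 Cfsg.Agent.Lib.Helper9.M24U1 Cfsg.Agent.Lib.Helper9.M24T3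
  Cfsg.Agent.Lib.Helper9.Syl2B Cfsg.Agent.Lib.Helper9.Syl2B.Tab Cfsg.Agent.Lib.Helper9.Syl2M24
  Cfsg.Agent.Lib.Helper9.M24U2 Cfsg.Agent.Lib.Helper9.LeechM1 Cfsg.Agent.Lib.Helper9.Golay1
  Cfsg.Agent.Lib.Helper9.GolayQR3
open scoped Pointwise

theorem nd_zero : nd 0 = [0] := rfl

/-- the classification of the normal elementary abelian subgroups -/
theorem classify (A : Subgroup (Equiv.Perm GolayPt)) (hA1 : A ≤ S0)
    (hA2 : ∀ s ∈ S0, ∀ x ∈ A, s * x * s⁻¹ ∈ A) (hA3 : ∀ x ∈ A, x * x = 1) :
    ∃ id < 23, (A : Set (Equiv.Perm GolayPt)) = nodeSet (nd id) := by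
  have aux : ∀ n id, id < 23 → 7 ≤ lv id + n → nodeSet (nd id) ⊆ A →
      ∃ id' < 23, (A : Set (Equiv.Perm GolayPt)) = nodeSet (nd id') := by
    intro n
    induction n with
    | zero =>
      intro id hid h
      have := (chk_lv id hid).1
      omega
    | succ n ih =>
      intro id hid h hsub
      have hc := chk_all id hid
      unfold okNode at hc
      simp only [Bool.and_eq_true] at hc
      rcases step hc.1.1 hc.1.2 hc.2 A hA1 hA2 hA3 hsub with h1 | ⟨D, hD, hDA⟩
      · exact ⟨id, hid, h1⟩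
      · unfold chL at hD
        obtain ⟨c, hc', rfl⟩ := List.mem_map.mp hD
        obtain ⟨hc23, hlv⟩ := (chk_lv id hid).2 c hc'
        exact ih c hc23 (by omega) hDA
  apply aux 7 0 (by norm_num) (by omega)
  rintro x ⟨i, hi, hx⟩
  rw [nd_zero, List.mem_singleton] at hi
  rw [hi] at hx
  rw [hx.ext rep_one']
  exact A.one_mem

/-! ### the action on masks -/

/-- the mask of the preimage under the packed permutation -/
def pullN (P m : ℕ) (n : ℕ) : ℕ :=
  Nat.rec 0 (fun j acc => cond (m.testBit (im P j)) (acc ||| 2 ^ j) acc) n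

theorem testBit_pullN (P m : ℕ) : ∀ n i : ℕ,
    (pullN P m n).testBit i = (decide (i < n) && m.testBit (im P i)) := by
  intro n
  induction n with
  | zero => intro i; simp [pullN]
  | succ n ih =>
    intro i
    have e : pullN P m (n + 1) = cond (m.testBit (im P n)) (pullN P m n ||| 2 ^ n) (pullN P m n) := rfl
    rw [e]
    cases hc : m.testBit (im P n)
    · rw [cond_false, ih]
      by_cases h1 : i < n
      · simp [h1, Nat.lt_succ_of_lt h1]
      · by_cases h2 : i = n
        · subst h2; simp [hc]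
        · have : ¬ i < n + 1 := by omega
          simp [h1, this]
    · rw [cond_true, Nat.testBit_or, ih, Nat.testBit_two_pow]
      by_cases h1 : i < n
      · have : n ≠ i := by omega
        simp [h1, Nat.lt_succ_of_lt h1, this]
      · by_cases h2 : i = n
        · subst h2; simp [hc]
        · have h3 : ¬ i < n + 1 := by omega
          have h4 : n ≠ i := fun h => h2 h.symm
          simp [h1, h3, h4]

/-- the mask of the image under a packed involution -/
def pullP (P m : ℕ) : ℕ := pullN P m 24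

theorem pullP_lt (P m : ℕ) : pullP P m < 2 ^ 24 := by
  apply Nat.lt_pow_two_of_testBit
  intro i hi
  unfold pullP
  rw [testBit_pullN]
  simp only [Bool.and_eq_false_imp, decide_eq_true_eq]
  intro h
  omega

theorem smul_M_rep {y : Equiv.Perm GolayPt} {P : ℕ} (hy : Rep y P) (hyy : y * y = 1) (m : ℕ) :
    y • M m = M (pullP P m) := by
  ext p
  have hinv : y⁻¹ = y := inv_eq_of_mul_eq_one_left hyy
  rw [← Finset.inv_smul_mem_iff, hinv, Equiv.Perm.smul_def, mem_M, mem_M, hy p]
  unfold pullP
  rw [testBit_pullN]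
  simp [idx_lt p]

/-- the mask is fixed up to complement -/
def fixM (P m : ℕ) : Bool :=
  Nat.beq (pullP P m) m || Nat.beq (pullP P m) (Nat.xor m 16777215)

theorem fixM_of {y : Equiv.Perm GolayPt} {P : ℕ} (hy : Rep y P) (hyy : y * y = 1) (m : ℕ)
    (hm : m < 2 ^ 24) (h : y • M m = M m ∨ y • M m = (M m)ᶜ) : fixM P m = true := by
  unfold fixM
  rw [smul_M_rep hy hyy, ← M_xor_ones] at h
  rw [Bool.or_eq_true, beq_iff, beq_iff]
  rcases h with h | h
  · left
    exact M_inj _ _ (pullP_lt P m) hm h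
  · right
    exact M_inj _ _ (pullP_lt P m) (Nat.xor_lt_two_pow hm (by norm_num)) h

/-- the masks fixed up to complement by the listed elements are in the list -/
def okFix (G F : List ℕ) : Bool :=
  allB 4096 (fun k => !(G.all (fun i => fixM (EE i) (codeOf k))) || memL F (codeOf k))

/-- the node whose fixed words are listed -/
def anc (id : ℕ) : ℕ := ancTab.getD id 0

/-- generators -/
def gn (id : ℕ) : List ℕ := gnTab.getD id []

/-- fixed masks -/
def fx (id : ℕ) : List ℕ := fxTab.getD id []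

theorem chk_anc : ∀ id < 23, 1 ≤ id →
    ((gn (anc id)).all (memL (nd id)) = true ∧ (nd id).length * (fx (anc id)).length < 4096) := by
  decide +kernel

theorem chkF1 : okFix (gn 1) (fx 1) = true := by decide +kernel

theorem chkF2 : okFix (gn 2) (fx 2) = true := by decide +kernel

theorem chkF4 : okFix (gn 4) (fx 4) = true := by decide +kernel

theorem chkF6 : okFix (gn 6) (fx 6) = true := by decide +kernel

theorem chkF11 : okFix (gn 11) (fx 11) = true := by decide +kernel

theorem chkF14 : okFix (gn 14) (fx 14) = true := by decide +kernel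

theorem chk_anc_cases : ∀ id < 23, 1 ≤ id → anc id ∈ [1, 2, 4, 6, 11, 14] := by decide +kernel

theorem chkF (id : ℕ) (hid : id < 23) (h1 : 1 ≤ id) : okFix (gn (anc id)) (fx (anc id)) = true := by
  have := chk_anc_cases id hid h1
  simp only [List.mem_cons, List.mem_nil_iff, or_false] at this
  rcases this with h | h | h | h | h | h <;> rw [h]
  · exact chkF1
  · exact chkF2
  · exact chkF4
  · exact chkF6
  · exact chkF11
  · exact chkF14

theorem exists_codeOf {c : Finset GolayPt} (hc : c ∈ Code) :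
    ∃ k < 4096, c = M (codeOf k) ∧ codeOf k < 2 ^ 24 := by
  obtain ⟨v, hv, hvc⟩ := hc
  obtain ⟨m, hm, rfl⟩ := (mem_golayCode_iff v).mp hv
  have hm2 := (codeList_reprod m hm).2
  obtain ⟨k, hk, rfl⟩ := List.mem_map.mp hm
  refine ⟨k, List.mem_range.mp hk, ?_, hm2⟩
  rw [← hvc]
  exact (supp_eq_support₂ _).symm

theorem card_le (id : ℕ) (hid : id < 23) (A : Subgroup (Equiv.Perm GolayPt))
    (hA : (A : Set (Equiv.Perm GolayPt)) = nodeSet (nd id)) : Nat.card A ≤ (nd id).length := by
  classical
  have hex : ∀ x : ↥A, ∃ i, i ∈ (nd id).toFinset ∧ Rep x.1 (EE i) := by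
    intro x
    have : x.1 ∈ (A : Set (Equiv.Perm GolayPt)) := x.2
    rw [hA] at this
    obtain ⟨i, hi, hx⟩ := this
    exact ⟨i, List.mem_toFinset.mpr hi, hx⟩
  choose f hf1 hf2 using hex
  let F : ↥A → {i // i ∈ (nd id).toFinset} := fun x => ⟨f x, hf1 x⟩
  have hinj : Function.Injective F := by
    intro x y hxy
    have h1 : f x = f y := congrArg Subtype.val hxy
    apply Subtype.ext
    have h2 := hf2 x
    rw [h1] at h2
    exact h2.ext (hf2 y)
  have h3 := Nat.card_le_card_of_injective F hinj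
  have h4 : Nat.card {i // i ∈ (nd id).toFinset} = (nd id).toFinset.card := by
    rw [Nat.card_eq_fintype_card, Fintype.card_coe]
  rw [h4] at h3
  exact h3.trans (List.toFinset_card_le _)

theorem fix_le (id : ℕ) (hid : id < 23) (h1 : 1 ≤ id) (A : Subgroup (Equiv.Perm GolayPt))
    (hA : (A : Set (Equiv.Perm GolayPt)) = nodeSet (nd id)) (hA3 : ∀ x ∈ A, x * x = 1) :
    {c : Finset GolayPt | c ∈ Code ∧ ∀ σ ∈ A, σ • c = c ∨ σ • c = cᶜ}.ncard
      ≤ (fx (anc id)).length := by
  classical
  have hsub : {c : Finset GolayPt | c ∈ Code ∧ ∀ σ ∈ A, σ • c = c ∨ σ • c = cᶜ} ⊆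
      (fun m => M m) '' (↑(fx (anc id)).toFinset : Set ℕ) := by
    rintro c ⟨hc, hfix⟩
    obtain ⟨k, hk, rfl, hk2⟩ := exists_codeOf hc
    refine ⟨codeOf k, ?_, rfl⟩
    rw [Finset.mem_coe, List.mem_toFinset, ← memL_iff]
    have h2 := chkF id hid h1
    unfold okFix at h2
    rw [allB_iff] at h2
    have h3 := h2 k hk
    rw [Bool.or_eq_true, Bool.not_eq_true', ← Bool.not_eq_true] at h3
    rcases h3 with h3 | h3
    · exfalso
      apply h3
      rw [List.all_eq_true]
      intro i hi
      have h4 := (chk_anc id hid h1).1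
      rw [List.all_eq_true] at h4
      have hi' : i ∈ nd id := (memL_iff _ _).mp (h4 i hi)
      have hc0 := chk_all id hid
      unfold okNode at hc0
      simp only [Bool.and_eq_true] at hc0
      obtain ⟨y, -, hy⟩ := exists_el i (okSub_lt hc0.1.1 hi').1
      have hyA : y ∈ A := by
        have : y ∈ nodeSet (nd id) := ⟨i, hi', hy⟩
        rw [← hA] at this
        exact this
      exact fixM_of hy (hA3 y hyA) _ hk2 (hfix y hyA)
    · exact h3
  have hfin : ((fun m => M m) '' (↑(fx (anc id)).toFinset : Set ℕ)).Finite :=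
    Set.Finite.image _ (Finset.finite_toSet _)
  refine (Set.ncard_le_ncard hsub hfin).trans ?_
  refine (Set.ncard_image_le (Finset.finite_toSet _)).trans ?_
  rw [Set.ncard_coe_finset]
  exact List.toFinset_card_le _

/-- the main bound -/
theorem off (A : Subgroup (Equiv.Perm GolayPt)) (hA1 : A ≤ S0)
    (hA2 : ∀ s ∈ S0, ∀ x ∈ A, s * x * s⁻¹ ∈ A) (hA3 : ∀ x ∈ A, x * x = 1) (hne : A ≠ ⊥) :
    ∃ n f : ℕ, n * f < 4096 ∧ Nat.card A ≤ n ∧
      {c : Finset GolayPt | c ∈ Code ∧ ∀ σ ∈ A, σ • c = c ∨ σ • c = cᶜ}.ncard ≤ f := by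
  obtain ⟨id, hid, hA⟩ := classify A hA1 hA2 hA3
  have h1 : 1 ≤ id := by
    rcases Nat.eq_zero_or_pos id with h | h
    · exfalso
      apply hne
      rw [eq_bot_iff]
      intro x hx
      have : x ∈ (A : Set (Equiv.Perm GolayPt)) := hx
      rw [hA, h, nd_zero] at this
      obtain ⟨i, hi, hxi⟩ := this
      rw [List.mem_singleton] at hi
      rw [hi] at hxi
      rw [Subgroup.mem_bot]
      exact hxi.ext rep_one'
    · exact h
  exact ⟨(nd id).length, (fx (anc id)).length, (chk_anc id hid h1).2, card_le id hid A hA,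
    fix_le id hid h1 A hA hA3⟩

end Cfsg.Agent.Lib.Helper9.OutCo1D
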