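import Cfsg.Agent.Lib.Helper9.Co1f
import Cfsg.Agent.Lib.Helper9.OutM6
import Cfsg.Agent.Lib.Helper9.OutCo1B

set_option autoImplicit false

/-! Groups of monomial shape `2^11 : M24` (sign changes on code words modulo the all-one word,
extended by the coordinate permutations): basic calculus and the data for `autn`. -/

namespace Cfsg.Agent.Lib.Helper9.OutCo1G

open scoped Pointwise symmDiff
open Cfsg Finset Cfsg.Agent.Lib.Helper9.LeechM1 Cfsg.Agent.Lib.Helper9.LeechX6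
  Cfsg.Agent.Lib.Helper9.Co1b Cfsg.Agent.Lib.Helper9.Co1e

/-- a group of monomial shape -/
structure Mono (N : Type) [Group N] where
  eN : Finset GolayPt → N
  mN : ↥M24 →* N
  eN_mul : ∀ c d, c ∈ Code → d ∈ Code → eN c * eN d = eN (c ∆ d)
  eN_eq_one : ∀ c, c ∈ Code → (eN c = 1 ↔ c = ∅ ∨ c = univ)
  conj : ∀ (σ : ↥M24) (c : Finset GolayPt), c ∈ Code → mN σ * eN c * (mN σ)⁻¹ = eN (σ.1 • c)
  surj : ∀ x : N, ∃ c ∈ Code, ∃ σ : ↥M24, x = eN c * mN σ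
  inj : ∀ c ∈ Code, ∀ σ : ↥M24, eN c * mN σ = 1 → σ = 1

namespace Mono

variable {N : Type} [Group N] (D : Mono N)

theorem eN_empty : D.eN ∅ = 1 := (D.eN_eq_one ∅ empty_code).mpr (Or.inl rfl)

theorem eN_univ : D.eN univ = 1 := (D.eN_eq_one univ univ_code).mpr (Or.inr rfl)

theorem eN_sq {c : Finset GolayPt} (hc : c ∈ Code) : D.eN c * D.eN c = 1 := by
  rw [D.eN_mul c c hc hc, symmDiff_self, Finset.bot_eq_empty, D.eN_empty]

theorem eN_inv {c : Finset GolayPt} (hc : c ∈ Code) : (D.eN c)⁻¹ = D.eN c :=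
  inv_eq_of_mul_eq_one_left (D.eN_sq hc)

theorem eN_comm {c d : Finset GolayPt} (hc : c ∈ Code) (hd : d ∈ Code) :
    D.eN c * D.eN d = D.eN d * D.eN c := by
  rw [D.eN_mul c d hc hd, D.eN_mul d c hd hc, symmDiff_comm]

theorem eN_compl {c : Finset GolayPt} (hc : c ∈ Code) : D.eN cᶜ = D.eN c := by
  have : cᶜ = c ∆ univ := by
    ext p
    simp [Finset.mem_symmDiff]
  rw [this, ← D.eN_mul c univ hc univ_code, D.eN_univ, mul_one]

theorem eN_eq_iff {c d : Finset GolayPt} (hc : c ∈ Code) (hd : d ∈ Code) :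
    D.eN c = D.eN d ↔ d = c ∨ d = cᶜ := by
  constructor
  · intro h
    have h1 : D.eN (c ∆ d) = 1 := by
      rw [← D.eN_mul c d hc hd, h, D.eN_sq hd]
    rcases (D.eN_eq_one _ (symmDiff_mem_Code hc hd)).mp h1 with h2 | h2
    · left
      rw [← Finset.bot_eq_empty, symmDiff_eq_bot] at h2
      exact h2.symm
    · right
      rw [← Finset.top_eq_univ, symmDiff_eq_top] at h2
      exact h2.compl_eq.symm
  · rintro (rfl | rfl)
    · rfl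
    · exact (D.eN_compl hc).symm

theorem mN_eq_one {σ : ↥M24} (h : D.mN σ = 1) : σ = 1 := by
  apply D.inj ∅ empty_code σ
  rw [D.eN_empty, one_mul, h]

theorem mN_injective : Function.Injective D.mN :=
  (injective_iff_map_eq_one D.mN).mpr fun _ h => D.mN_eq_one h

theorem conj' (σ : ↥M24) {c : Finset GolayPt} (hc : c ∈ Code) :
    D.mN σ * D.eN c = D.eN (σ.1 • c) * D.mN σ := by
  rw [← D.conj σ c hc]
  group

/-- the normal subgroup of sign changes -/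
def ES : Subgroup N where
  carrier := {x | ∃ c ∈ Code, x = D.eN c}
  one_mem' := ⟨∅, empty_code, D.eN_empty.symm⟩
  mul_mem' := by
    rintro x y ⟨c, hc, rfl⟩ ⟨d, hd, rfl⟩
    exact ⟨c ∆ d, symmDiff_mem_Code hc hd, D.eN_mul c d hc hd⟩
  inv_mem' := by
    rintro x ⟨c, hc, rfl⟩
    exact ⟨c, hc, D.eN_inv hc⟩

/-- the complement of coordinate permutations -/
def MS : Subgroup N := D.mN.range

theorem mem_ES {x : N} : x ∈ D.ES ↔ ∃ c ∈ Code, x = D.eN c := Iff.rfl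

theorem eN_mem {c : Finset GolayPt} (hc : c ∈ Code) : D.eN c ∈ D.ES := ⟨c, hc, rfl⟩

theorem mN_mem (σ : ↥M24) : D.mN σ ∈ D.MS := ⟨σ, rfl⟩

theorem ES_normal : D.ES.Normal := by
  constructor
  rintro x ⟨c, hc, rfl⟩ n
  obtain ⟨d, hd, σ, rfl⟩ := D.surj n
  refine ⟨σ.1 • c, smul_mem_Code σ.2 hc, ?_⟩
  have h1 : D.eN d * D.mN σ * D.eN c * (D.eN d * D.mN σ)⁻¹ =
      D.eN d * (D.mN σ * D.eN c * (D.mN σ)⁻¹) * (D.eN d)⁻¹ := by group
  rw [h1, D.conj σ c hc, D.eN_inv hd, D.eN_comm hd (smul_mem_Code σ.2 hc), mul_assoc, D.eN_sq hd,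
    mul_one]

theorem disj : D.ES ⊓ D.MS = ⊥ := by
  rw [eq_bot_iff]
  rintro x ⟨⟨c, hc, rfl⟩, ⟨σ, hσ⟩⟩
  rw [Subgroup.mem_bot]
  have h1 : D.eN c * D.mN σ⁻¹ = 1 := by
    rw [map_inv, hσ, mul_inv_cancel]
  have h2 := D.inj c hc _ h1
  rw [inv_eq_one] at h2
  rw [← hσ, h2, map_one]

theorem sup_eq : D.ES ⊔ D.MS = ⊤ := by
  rw [eq_top_iff]
  intro x _
  obtain ⟨c, hc, σ, rfl⟩ := D.surj x
  exact Subgroup.mul_mem_sup (D.eN_mem hc) (D.mN_mem σ)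

theorem ES_comm : ∀ a ∈ D.ES, ∀ b ∈ D.ES, a * b = b * a := by
  rintro a ⟨c, hc, rfl⟩ b ⟨d, hd, rfl⟩
  exact D.eN_comm hc hd

theorem MS_complete : ∀ α : ↥D.MS ≃* ↥D.MS, ∃ m : ↥D.MS, ∀ x : ↥D.MS, α x = m * x * m⁻¹ := by
  intro α
  have hbij : Function.Bijective D.mN.rangeRestrict :=
    ⟨MonoidHom.rangeRestrict_injective_iff.mpr D.mN_injective,
      D.mN.rangeRestrict_surjective⟩
  let θ : ↥M24 ≃* ↥D.MS := MulEquiv.ofBijective D.mN.rangeRestrict hbij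
  obtain ⟨k, hk⟩ := Cfsg.Agent.Lib.Helper9.OutM.inner24 (θ.trans (α.trans θ.symm))
  refine ⟨θ k, ?_⟩
  intro x
  obtain ⟨g, rfl⟩ := θ.surjective x
  have h1 := hk g
  have h2 : (θ.trans (α.trans θ.symm)) g = θ.symm (α (θ g)) := rfl
  rw [h2] at h1
  have h3 : α (θ g) = θ (k * g * k⁻¹) := by
    rw [← h1, MulEquiv.apply_symm_apply]
  rw [h3, map_mul, map_mul, map_inv]

/-- the criterion: automorphisms preserving the sign changes are inner -/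
theorem aut_inner_of [Finite N]
    (hE : ∀ ψ : N ≃* N, (∀ e ∈ D.ES, ψ e ∈ D.ES) → (∀ m ∈ D.MS, ∃ e ∈ D.ES, ψ m = e * m) →
      ∀ e ∈ D.ES, ψ e = e)
    (x0 : N) (hx0 : x0 ∈ D.MS) (hfix : ∀ e ∈ D.ES, x0 * e = e * x0 → e = 1)
    (hrig : ∀ ψ : N ≃* N, (∀ e ∈ D.ES, ψ e = e) → (∀ m ∈ D.MS, ∃ e ∈ D.ES, ψ m = e * m) →
      ψ x0 = x0 → ∀ x, ψ x = x) :
    ∀ ψ : N ≃* N, (∀ e ∈ D.ES, ψ e ∈ D.ES) → ∃ n : N, ∀ x, ψ x = n * x * n⁻¹ :=
  Cfsg.Agent.Lib.Helper9.OutCo1B.autn D.ES D.MS D.ES_normal D.disj D.sup_eq D.ES_comm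
    D.MS_complete hE x0 hx0 hfix hrig

end Mono

end Cfsg.Agent.Lib.Helper9.OutCo1G
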