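import Cfsg.Agent.Lib.Helper9.OutCo1G
import Cfsg.Agent.Lib.Helper9.M24U2
import Cfsg.Agent.Lib.Helper9.M24T4

set_option autoImplicit false
set_option maxRecDepth 1000000
set_option Elab.async false

/-! Groups of monomial shape `2^11 : M24`: the word calculus for automorphisms which are trivial
on the sign changes and modulo the sign changes. -/

namespace Cfsg.Agent.Lib.Helper9.OutCo1H

open scoped Pointwise symmDiff
open Cfsg Finset Cfsg.Agent.Lib.Helper9.LeechM1 Cfsg.Agent.Lib.Helper9.LeechX6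
  Cfsg.Agent.Lib.Helper9.Co1b Cfsg.Agent.Lib.Helper9.Co1e Cfsg.Agent.Lib.Helper9.Co1f
  Cfsg.Agent.Lib.Helper9.OutCo1G Cfsg.Agent.Lib.Helper9.M24T1 Cfsg.Agent.Lib.Helper9.M24U1
  Cfsg.Agent.Lib.Helper9.M24U2 Cfsg.Agent.Lib.Helper9.M24T2 Cfsg.Agent.Lib.Helper9.M24T4
  Cfsg.Agent.Lib.Helper9.GolayQR1 Cfsg.Agent.Lib.Helper9.GolayQR2 Cfsg.Agent.Lib.Helper9.GolayQR3
  Cfsg.Agent.Lib.Helper9.M24F1

/-! ### the letters -/

def lS : List ℕ := [1, 2, 3, 4, 5, 6, 7, 8, 9, 10, 11, 12, 13, 14, 15, 16, 17, 18, 19, 20, 21, 22, 0, 23]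
def lS' : List ℕ := [22, 0, 1, 2, 3, 4, 5, 6, 7, 8, 9, 10, 11, 12, 13, 14, 15, 16, 17, 18, 19, 20, 21, 23]
def lJ : List ℕ := [23, 22, 11, 15, 17, 9, 19, 13, 20, 5, 16, 2, 21, 7, 18, 3, 10, 4, 14, 6, 8, 12, 1, 0]
def lC : List ℕ := [0, 18, 6, 3, 2, 21, 1, 5, 16, 12, 7, 19, 8, 9, 17, 15, 13, 11, 4, 22, 10, 20, 14, 23]
def lC' : List ℕ := [0, 6, 4, 3, 18, 7, 2, 10, 12, 13, 20, 17, 9, 16, 22, 15, 8, 14, 1, 11, 21, 5, 19, 23]

theorem pS_M24 : pS ∈ M24 := C_le pS_mem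
theorem pJ_M24 : pJ ∈ M24 := C_le pJ_mem
theorem pC_M24 : pC ∈ M24 := C_le pC_mem

/-- the letters as elements of `M24` -/
def sP : ↥M24 := ⟨pS, pS_M24⟩
def jP : ↥M24 := ⟨pJ, pJ_M24⟩
def cP : ↥M24 := ⟨pC, pC_M24⟩

/-- letter `l` (0: shift, 1: inversion, 2: cube twist, 3: its inverse) -/
def sg (l : ℕ) : ↥M24 := [sP, jP, cP, cP⁻¹].getD l 1

/-- forward tables -/
def fT (l : ℕ) : List ℕ := [lS, lJ, lC, lC'].getD l []

/-- inverse tables -/
def iT (l : ℕ) : List ℕ := [lS', lJ, lC', lC].getD l []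

theorem sg_apply (l : ℕ) (hl : l < 4) (p : GolayPt) : (sg l).1 p = tfun (fT l) p := by
  interval_cases l <;> rfl

theorem pCinv_eq : pC⁻¹ = tperm lC' lC (by decide +kernel) (by decide +kernel) := rfl

theorem sg_smul (l : ℕ) (hl : l < 4) (m : ℕ) : (sg l).1 • M m = M (pull (iT l) m) := by
  interval_cases l
  · show pS • M m = _
    unfold pS
    exact tperm_smul_M _ _ _ _ (by decide +kernel) m
  · show pJ • M m = _
    unfold pJ
    exact tperm_smul_M _ _ _ _ (by decide +kernel) m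
  · show pC • M m = _
    unfold pC
    exact tperm_smul_M _ _ _ _ (by decide +kernel) m
  · show pC⁻¹ • M m = _
    rw [pCinv_eq]
    exact tperm_smul_M _ _ _ _ (by decide +kernel) m

/-- evaluation of a word -/
def ev : List ℕ → ↥M24
  | [] => 1
  | l :: w => sg l * ev w

/-- evaluation of a word on points -/
def evf : List ℕ → GolayPt → GolayPt
  | [], p => p
  | l :: w, p => tfun (fT l) (evf w p)

theorem ev_apply (w : List ℕ) (hw : ∀ l ∈ w, l < 4) (p : GolayPt) : (ev w).1 p = evf w p := by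
  induction w with
  | nil => rfl
  | cons l w ih =>
    show (sg l).1 ((ev w).1 p) = tfun (fT l) (evf w p)
    rw [ih (fun x hx => hw x (List.mem_cons_of_mem _ hx)), sg_apply l (hw l List.mem_cons_self)]

theorem ev_eq_one (w : List ℕ) (hw : ∀ l ∈ w, l < 4) (h : ∀ p, evf w p = p) : ev w = 1 := by
  apply Subtype.ext
  apply Equiv.ext
  intro p
  rw [ev_apply w hw p, h p]
  rfl

/-- the accumulated mask of a word, for the masks `dm` of the letters -/
def Fm (dm : ℕ → ℕ) : List ℕ → ℕ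
  | [] => 0
  | l :: w => Nat.xor (dm l) (pull (iT l) (Fm dm w))

theorem Fm_lt (dm : ℕ → ℕ) (hdm : ∀ l, dm l < 2 ^ 24) (w : List ℕ) : Fm dm w < 2 ^ 24 := by
  cases w with
  | nil => show 0 < 2 ^ 24; norm_num
  | cons l w => exact Nat.xor_lt_two_pow (hdm l) (pull_lt _ _)

theorem M_zero' : M 0 = ∅ := Cfsg.Agent.Lib.Helper9.Co1f.M_zero

section calculus

variable {N : Type} [Group N] (D : Mono N) (ψ : N ≃* N)

/-- the letter `l` has cocycle mask `dm l` -/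
def Hl (dm : ℕ → ℕ) (l : ℕ) : Prop :=
  M (dm l) ∈ Code ∧ ψ (D.mN (sg l)) = D.eN (M (dm l)) * D.mN (sg l)

theorem word (dm : ℕ → ℕ) (w : List ℕ) (hw : ∀ l ∈ w, l < 4 ∧ Hl D ψ dm l) :
    M (Fm dm w) ∈ Code ∧ ψ (D.mN (ev w)) = D.eN (M (Fm dm w)) * D.mN (ev w) := by
  induction w with
  | nil =>
    refine ⟨?_, ?_⟩
    · show M 0 ∈ Code
      rw [M_zero']
      exact empty_code
    · show ψ (D.mN 1) = D.eN (M 0) * D.mN 1
      rw [map_one, map_one, M_zero', D.eN_empty, one_mul]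
  | cons l w ih =>
    obtain ⟨h1, h2⟩ := ih (fun x hx => hw x (List.mem_cons_of_mem _ hx))
    obtain ⟨hl, h3, h4⟩ := hw l List.mem_cons_self
    have e1 : M (Fm dm (l :: w)) = M (dm l) ∆ ((sg l).1 • M (Fm dm w)) := by
      show M (dm l ^^^ pull (iT l) (Fm dm w)) = _
      rw [M_xor, sg_smul l hl]
    have hc : (sg l).1 • M (Fm dm w) ∈ Code := smul_mem_Code (sg l).2 h1
    refine ⟨?_, ?_⟩
    · rw [e1]
      exact symmDiff_mem_Code h3 hc
    · show ψ (D.mN (sg l * ev w)) = D.eN (M (Fm dm (l :: w))) * D.mN (sg l * ev w)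
      rw [map_mul, map_mul, h4, h2, e1, ← D.eN_mul _ _ h3 hc]
      calc D.eN (M (dm l)) * D.mN (sg l) * (D.eN (M (Fm dm w)) * D.mN (ev w))
          = D.eN (M (dm l)) * (D.mN (sg l) * D.eN (M (Fm dm w))) * D.mN (ev w) := by group
        _ = D.eN (M (dm l)) * (D.eN ((sg l).1 • M (Fm dm w)) * D.mN (sg l)) * D.mN (ev w) := by
            rw [D.conj' (sg l) h1]
        _ = _ := by group

/-- a relator gives a trivial accumulated mask -/
theorem relator (dm : ℕ → ℕ) (hdm : ∀ l, dm l < 2 ^ 24) (w : List ℕ)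
    (hw : ∀ l ∈ w, l < 4 ∧ Hl D ψ dm l) (h1 : ev w = 1) :
    Fm dm w = 0 ∨ Fm dm w = 16777215 := by
  obtain ⟨h2, h3⟩ := word D ψ dm w hw
  rw [h1, map_one, map_one, mul_one] at h3
  rcases (D.eN_eq_one _ h2).mp h3.symm with h4 | h4
  · left
    rw [← M_zero'] at h4
    exact Cfsg.Agent.Lib.Helper9.M24U1.M_inj _ _ (Fm_lt dm hdm w) (by norm_num) h4
  · right
    rw [← M_ones] at h4
    exact Cfsg.Agent.Lib.Helper9.M24U1.M_inj _ _ (Fm_lt dm hdm w) (by norm_num) h4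

end calculus

end Cfsg.Agent.Lib.Helper9.OutCo1H
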