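import Cfsg.Agent.Lib.Helper9.OutCo1H

set_option autoImplicit false
set_option maxRecDepth 1000000
set_option Elab.async false

/-! Groups of monomial shape `2^11 : M24`: every automorphism preserving the sign changes is
inner (table checks and assembly). -/

namespace Cfsg.Agent.Lib.Helper9.OutCo1H

open scoped Pointwise symmDiff
open Cfsg Finset Cfsg.Agent.Lib.Helper9.LeechM1 Cfsg.Agent.Lib.Helper9.LeechX6
  Cfsg.Agent.Lib.Helper9.Co1b Cfsg.Agent.Lib.Helper9.Co1e Cfsg.Agent.Lib.Helper9.Co1f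
  Cfsg.Agent.Lib.Helper9.OutCo1G Cfsg.Agent.Lib.Helper9.M24T1 Cfsg.Agent.Lib.Helper9.M24U1
  Cfsg.Agent.Lib.Helper9.M24U2 Cfsg.Agent.Lib.Helper9.M24T2 Cfsg.Agent.Lib.Helper9.M24T4
  Cfsg.Agent.Lib.Helper9.GolayQR1 Cfsg.Agent.Lib.Helper9.GolayQR2 Cfsg.Agent.Lib.Helper9.GolayQR3
  Cfsg.Agent.Lib.Helper9.M24F1 Cfsg.Agent.Lib.Helper9.Golay1 Cfsg.Agent.Lib.Helper9.M24T8

/-! ### generalities on masks -/

/-- `x` is zero or the all-one mask -/
def trivB (x : ℕ) : Bool := Nat.beq x 0 || Nat.beq x 16777215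

theorem trivB_iff (x : ℕ) : trivB x = true ↔ x = 0 ∨ x = 16777215 := by
  unfold trivB
  rw [Bool.or_eq_true, beq_iff, beq_iff]

/-- the mask is fixed up to complement by the permutation with inverse table `l` -/
def fixL (l : List ℕ) (m : ℕ) : Bool :=
  Nat.beq (pull l m) m || Nat.beq (pull l m) (Nat.xor m 16777215)

theorem fixL_of {σ : Equiv.Perm GolayPt} {l : List ℕ} (hσ : ∀ m, σ • M m = M (pull l m)) (m : ℕ)
    (hm : m < 2 ^ 24) (h : σ • M m = M m ∨ σ • M m = (M m)ᶜ) : fixL l m = true := by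
  unfold fixL
  rw [hσ, ← M_xor_ones] at h
  rw [Bool.or_eq_true, beq_iff, beq_iff]
  rcases h with h | h
  · left
    exact Cfsg.Agent.Lib.Helper9.M24U1.M_inj _ _ (pull_lt l m) hm h
  · right
    exact Cfsg.Agent.Lib.Helper9.M24U1.M_inj _ _ (pull_lt l m)
      (Nat.xor_lt_two_pow hm (by norm_num)) h

theorem exists_codeOf {c : Finset GolayPt} (hc : c ∈ Code) :
    ∃ k < 4096, c = M (codeOf k) ∧ codeOf k < 2 ^ 24 := by
  obtain ⟨v, hv, hvc⟩ := hc
  obtain ⟨m, hm, rfl⟩ := (mem_golayCode_iff v).mp hv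
  have hm2 := (codeList_reprod m hm).2
  obtain ⟨k, hk, rfl⟩ := List.mem_map.mp hm
  refine ⟨k, List.mem_range.mp hk, ?_, hm2⟩
  rw [← hvc]
  exact (supp_eq_support₂ _).symm

theorem triv_code {m : ℕ} (h : m = 0 ∨ m = 16777215) : M m = ∅ ∨ M m = univ := by
  rcases h with rfl | rfl
  · left; exact M_zero'
  · right; exact M_ones

/-! ### the shift has no fixed points -/

theorem certS : allB 4096 (fun k => !(fixL lS' (codeOf k)) || trivB (codeOf k)) = true := by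
  decide +kernel

/-! ### vanishing of the cohomology -/

def relA : List (List ℕ) := [[1, 1], [0, 1, 0, 1, 0, 1], [0, 2, 1, 3, 0, 2, 1, 3, 0, 2, 1, 3],
  [0, 1, 2, 2, 0, 1, 2, 2, 0, 1, 2, 2, 0, 1, 2, 2, 0, 1, 2, 2, 0, 1, 2, 2, 0, 1, 2, 2]]

def relB : List (List ℕ) := [[2, 2, 2, 2, 2], [0, 2, 2, 0, 2, 2, 0, 2, 2, 0, 2, 2, 0, 2, 2],
  [0, 0, 0, 3, 0, 0, 0, 3, 0, 0, 0, 3, 0, 0, 0, 3, 0, 0, 0, 3],
  [0, 0, 2, 0, 0, 2, 0, 0, 2, 0, 0, 2, 0, 0, 2, 0, 0, 2, 0, 0, 2]]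

theorem rel_ok : ∀ w ∈ relA ++ relB, (∀ l ∈ w, l < 4) ∧ ∀ p, evf w p = p := by decide +kernel

theorem relB_letters : ∀ w ∈ relB, ∀ l ∈ w, l = 0 ∨ l = 2 ∨ l = 3 := by decide +kernel

/-- masks for the second stage: the cube twist -/
def dmB (k : ℕ) (l : ℕ) : ℕ := [0, 0, codeOf k, pull lC (codeOf k)].getD l 0

/-- masks for the first stage: the inversion -/
def dmA (k : ℕ) (l : ℕ) : ℕ := [0, codeOf k, 0, 0].getD l 0

theorem certB : allB 4096 (fun k => !(relB.all (fun w => trivB (Fm (dmB k) w))) ||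
    trivB (codeOf k)) = true := by decide +kernel

theorem certA : allB 4096 (fun k => !(relA.all (fun w => trivB (Fm (dmA k) w))) ||
    trivB (codeOf k)) = true := by decide +kernel

theorem dmB_lt (k : ℕ) (hk : codeOf k < 2 ^ 24) (l : ℕ) : dmB k l < 2 ^ 24 := by
  unfold dmB
  rcases l with _ | _ | _ | _ | l
  · show 0 < 2 ^ 24; norm_num
  · show 0 < 2 ^ 24; norm_num
  · exact hk
  · exact pull_lt _ _
  · show 0 < 2 ^ 24; norm_num

theorem dmA_lt (k : ℕ) (hk : codeOf k < 2 ^ 24) (l : ℕ) : dmA k l < 2 ^ 24 := by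
  unfold dmA
  rcases l with _ | _ | _ | _ | l
  · show 0 < 2 ^ 24; norm_num
  · exact hk
  · show 0 < 2 ^ 24; norm_num
  · show 0 < 2 ^ 24; norm_num
  · show 0 < 2 ^ 24; norm_num


/-! ### the stabiliser of the standard octad and the translates of the octad -/

def lK1 : List ℕ := [2, 14, 17, 1, 7, 23, 11, 20, 6, 22, 21, 8, 10, 18, 0, 15, 9, 3, 13, 19, 12, 4, 16, 5]
def lK1' : List ℕ := [14, 3, 0, 17, 21, 23, 8, 4, 11, 16, 12, 6, 20, 18, 1, 15, 22, 2, 13, 19, 7, 10, 9, 5]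
def lK2 : List ℕ := [0, 23, 14, 3, 8, 17, 7, 18, 10, 4, 20, 22, 15, 21, 2, 9, 12, 1, 13, 11, 16, 19, 6, 5]
def lK2' : List ℕ := [0, 17, 14, 3, 9, 23, 22, 6, 4, 15, 8, 19, 16, 18, 2, 12, 20, 5, 7, 21, 10, 13, 11, 1]

/-- two elements of the stabiliser of the standard octad -/
def k1 : Equiv.Perm GolayPt := tperm lK1 lK1' (by decide +kernel) (by decide +kernel)
def k2 : Equiv.Perm GolayPt := tperm lK2 lK2' (by decide +kernel) (by decide +kernel)

theorem k1_mem : k1 ∈ M24 := tperm_mem _ _ _ _ (by decide +kernel) (by decide +kernel)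
theorem k2_mem : k2 ∈ M24 := tperm_mem _ _ _ _ (by decide +kernel) (by decide +kernel)

theorem k1_smul (m : ℕ) : k1 • M m = M (pull lK1' m) :=
  tperm_smul_M _ _ _ _ (by decide +kernel) m

theorem k2_smul (m : ℕ) : k2 • M m = M (pull lK2' m) :=
  tperm_smul_M _ _ _ _ (by decide +kernel) m

theorem k1_O : pull lK1' 8536111 = 8536111 := by decide +kernel
theorem k2_O : pull lK2' 8536111 = 8536111 := by decide +kernel

/-- zero, all-one, the octad or its complement -/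
def memK (x : ℕ) : Bool :=
  Nat.beq x 0 || Nat.beq x 16777215 || Nat.beq x 8536111 || Nat.beq x 8241104

theorem certK : allB 4096 (fun k => !(fixL lK1' (codeOf k) && fixL lK2' (codeOf k)) ||
    memK (codeOf k)) = true := by decide +kernel

/-- the translates of the octad under the shift -/
def tr (n : ℕ) : ℕ := Nat.rec 8536111 (fun _ acc => pull lS' acc) n

/-- sums of the first twelve translates -/
def xsN (t : ℕ) (n : ℕ) : ℕ := Nat.rec 0 (fun i acc => cond (t.testBit i) (Nat.xor acc (tr i)) acc) n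

def sels : List ℕ := [585, 1170, 2925, 2559, 3730, 72, 729, 1458, 2916, 2541, 3766, 2852]

theorem certT : ∀ i : Fin 12, bmask i = xsN (sels.getD i.val 0) 12 := by decide +kernel

end Cfsg.Agent.Lib.Helper9.OutCo1H
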