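import Cfsg.Agent.Lib.Helper9.OutCo1I

set_option autoImplicit false
set_option maxRecDepth 1000000

/-! Groups of monomial shape `2^11 : M24`: every automorphism preserving the sign changes is
inner (table checks and assembly). -/

namespace Cfsg.Agent.Lib.Helper9.OutCo1H

open scoped Pointwise symmDiff
open Cfsg Finset Cfsg.Agent.Lib.Helper9.LeechM1 Cfsg.Agent.Lib.Helper9.LeechX6
  Cfsg.Agent.Lib.Helper9.Co1b Cfsg.Agent.Lib.Helper9.Co1e Cfsg.Agent.Lib.Helper9.Co1f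
  Cfsg.Agent.Lib.Helper9.OutCo1G Cfsg.Agent.Lib.Helper9.M24T1 Cfsg.Agent.Lib.Helper9.M24U1
  Cfsg.Agent.Lib.Helper9.M24U2 Cfsg.Agent.Lib.Helper9.M24T2 Cfsg.Agent.Lib.Helper9.M24T4
  Cfsg.Agent.Lib.Helper9.GolayQR1 Cfsg.Agent.Lib.Helper9.GolayQR2 Cfsg.Agent.Lib.Helper9.GolayQR3
  Cfsg.Agent.Lib.Helper9.M24F1 Cfsg.Agent.Lib.Helper9.Golay1 Cfsg.Agent.Lib.Helper9.M24T8

theorem hfix {N : Type} [Group N] (D : Mono N) :
    ∀ e ∈ D.ES, D.mN sP * e = e * D.mN sP → e = 1 := by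
  rintro e ⟨c, hc, rfl⟩ h
  rw [D.conj' sP hc] at h
  have h1 : D.eN c = D.eN (sP.1 • c) := (mul_right_cancel h).symm
  have h2 := (D.eN_eq_iff hc (smul_mem_Code sP.2 hc)).mp h1
  obtain ⟨k, hk, rfl, hk2⟩ := exists_codeOf hc
  have h3 := fixL_of (sg_smul 0 (by norm_num)) (codeOf k) hk2 h2
  have h4 := certS
  rw [allB_iff] at h4
  have h5 := h4 k hk
  rw [Bool.or_eq_true, Bool.not_eq_true', ← Bool.not_eq_true] at h5
  rcases h5 with h5 | h5
  · exact absurd h3 h5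
  · exact (D.eN_eq_one _ hc).mpr (triv_code ((trivB_iff _).mp h5))

section rig

variable {N : Type} [Group N] (D : Mono N) (ψ : N ≃* N)

theorem Hl_zero (dm : ℕ → ℕ) (l : ℕ) (h0 : dm l = 0) (h : ψ (D.mN (sg l)) = D.mN (sg l)) :
    Hl D ψ dm l := by
  refine ⟨?_, ?_⟩
  · rw [h0, M_zero']; exact empty_code
  · rw [h0, M_zero', D.eN_empty, one_mul, h]

theorem psi_inv {σ : ↥M24} {d : Finset GolayPt} (hd : d ∈ Code)
    (h : ψ (D.mN σ) = D.eN d * D.mN σ) :
    ψ (D.mN σ⁻¹) = D.eN ((σ⁻¹).1 • d) * D.mN σ⁻¹ := by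
  rw [← D.conj' σ⁻¹ hd, map_inv, map_inv, h, mul_inv_rev, D.eN_inv hd]

theorem rig (hE : ∀ e ∈ D.ES, ψ e = e) (hM : ∀ m ∈ D.MS, ∃ e ∈ D.ES, ψ m = e * m)
    (hs : ψ (D.mN sP) = D.mN sP) : ∀ x, ψ x = x := by
  -- the cube twist
  have hc : ψ (D.mN cP) = D.mN cP := by
    obtain ⟨e, ⟨d, hd, rfl⟩, he⟩ := hM _ (D.mN_mem cP)
    obtain ⟨k, hk, rfl, hk2⟩ := exists_codeOf hd
    have hH : ∀ l, l = 0 ∨ l = 2 ∨ l = 3 → Hl D ψ (dmB k) l := by
      rintro l (rfl | rfl | rfl)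
      · exact Hl_zero D ψ _ 0 rfl hs
      · exact ⟨hd, he⟩
      · refine ⟨?_, ?_⟩
        · show M (pull lC (codeOf k)) ∈ Code
          have e3 : (sg 3).1 • M (codeOf k) = M (pull lC (codeOf k)) :=
            sg_smul 3 (by norm_num) (codeOf k)
          rw [← e3]
          exact smul_mem_Code (sg 3).2 hd
        · show ψ (D.mN cP⁻¹) = D.eN (M (pull lC (codeOf k))) * D.mN cP⁻¹
          rw [psi_inv D ψ hd he]
          have e3 : (cP⁻¹).1 • M (codeOf k) = M (pull lC (codeOf k)) :=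
            sg_smul 3 (by norm_num) (codeOf k)
          rw [e3]
    have h1 : relB.all (fun w => trivB (Fm (dmB k) w)) = true := by
      rw [List.all_eq_true]
      intro w hw
      rw [trivB_iff]
      have h2 := rel_ok w (List.mem_append_right _ hw)
      apply relator D ψ (dmB k) (dmB_lt k hk2) w
      · intro l hl
        exact ⟨h2.1 l hl, hH l (relB_letters w hw l hl)⟩
      · exact ev_eq_one w h2.1 h2.2
    have h3 := certB
    rw [allB_iff] at h3
    have h4 := h3 k hk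
    rw [h1] at h4
    have h5 : trivB (codeOf k) = true := by simpa using h4
    rw [he, (D.eN_eq_one _ hd).mpr (triv_code ((trivB_iff _).mp h5)), one_mul]
  -- the inversion
  have hj : ψ (D.mN jP) = D.mN jP := by
    obtain ⟨e, ⟨d, hd, rfl⟩, he⟩ := hM _ (D.mN_mem jP)
    obtain ⟨k, hk, rfl, hk2⟩ := exists_codeOf hd
    have hH : ∀ l, l < 4 → Hl D ψ (dmA k) l := by
      intro l hl
      interval_cases l
      · exact Hl_zero D ψ _ 0 rfl hs
      · exact ⟨hd, he⟩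
      · exact Hl_zero D ψ _ 2 rfl hc
      · refine Hl_zero D ψ _ 3 rfl ?_
        show ψ (D.mN cP⁻¹) = D.mN cP⁻¹
        rw [map_inv, map_inv, hc]
    have h1 : relA.all (fun w => trivB (Fm (dmA k) w)) = true := by
      rw [List.all_eq_true]
      intro w hw
      rw [trivB_iff]
      have h2 := rel_ok w (List.mem_append_left _ hw)
      apply relator D ψ (dmA k) (dmA_lt k hk2) w
      · intro l hl
        exact ⟨h2.1 l hl, hH l (h2.1 l hl)⟩
      · exact ev_eq_one w h2.1 h2.2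
    have h3 := certA
    rw [allB_iff] at h3
    have h4 := h3 k hk
    rw [h1] at h4
    have h5 : trivB (codeOf k) = true := by simpa using h4
    rw [he, (D.eN_eq_one _ hd).mpr (triv_code ((trivB_iff _).mp h5)), one_mul]
  -- all of `M24`
  have hall : ∀ σ : ↥M24, ψ (D.mN σ) = D.mN σ := by
    have key : ∀ x (hx : x ∈ Cfsg.Agent.Lib.Helper9.M24T2.C), ∀ hx' : x ∈ M24,
        ψ (D.mN ⟨x, hx'⟩) = D.mN ⟨x, hx'⟩ := by
      intro x hx
      unfold Cfsg.Agent.Lib.Helper9.M24T2.C at hx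
      induction hx using Subgroup.closure_induction with
      | mem x hx =>
        intro hx'
        rcases hx with h | h | h
        · have e : (⟨x, hx'⟩ : ↥M24) = sP := Subtype.ext (h.trans pS_eq)
          rw [e]; exact hs
        · have e : (⟨x, hx'⟩ : ↥M24) = jP := Subtype.ext (h.trans pJ_eq)
          rw [e]; exact hj
        · have e : (⟨x, hx'⟩ : ↥M24) = cP := Subtype.ext (h.trans pC_eq)
          rw [e]; exact hc
      | one =>
        intro hx'
        have e : (⟨1, hx'⟩ : ↥M24) = 1 := rfl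
        rw [e, map_one, map_one]
      | mul x y hx hy ihx ihy =>
        intro hx'
        have hxM : x ∈ M24 := C_le hx
        have hyM : y ∈ M24 := C_le hy
        have e : (⟨x * y, hx'⟩ : ↥M24) = ⟨x, hxM⟩ * ⟨y, hyM⟩ := rfl
        rw [e, map_mul, map_mul, ihx hxM, ihy hyM]
      | inv x hx ihx =>
        intro hx'
        have hxM : x ∈ M24 := C_le hx
        have e : (⟨x⁻¹, hx'⟩ : ↥M24) = ⟨x, hxM⟩⁻¹ := rfl
        rw [e, map_inv, map_inv, ihx hxM]
    intro σ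
    have h1 : σ.1 ∈ Cfsg.Agent.Lib.Helper9.M24T2.C := by
      rw [C_eq_M24]
      exact σ.2
    exact key σ.1 h1 σ.2
  intro x
  obtain ⟨c, hc', σ, rfl⟩ := D.surj x
  rw [map_mul, hE _ (D.eN_mem hc'), hall σ]

end rig


/-! ### rigidity of the sign changes -/

section irr

variable {N : Type} [Group N] (D : Mono N) (ψ : N ≃* N)

theorem O8_eq : O8 = M 8536111 := rfl

theorem psi_conj (hM : ∀ m ∈ D.MS, ∃ e ∈ D.ES, ψ m = e * m) (σ : ↥M24) {c d : Finset GolayPt}
    (hc : c ∈ Code) (hd : d ∈ Code) (h : ψ (D.eN c) = D.eN d) :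
    ψ (D.eN (σ.1 • c)) = D.eN (σ.1 • d) := by
  obtain ⟨e, ⟨a, ha, rfl⟩, he⟩ := hM _ (D.mN_mem σ)
  rw [← D.conj σ c hc, map_mul, map_mul, map_inv, he, h]
  have hσd : σ.1 • d ∈ Code := smul_mem_Code σ.2 hd
  calc D.eN a * D.mN σ * D.eN d * (D.eN a * D.mN σ)⁻¹
      = D.eN a * (D.mN σ * D.eN d * (D.mN σ)⁻¹) * (D.eN a)⁻¹ := by group
    _ = D.eN a * D.eN (σ.1 • d) * D.eN a := by rw [D.conj σ d hd, D.eN_inv ha]
    _ = D.eN (σ.1 • d) := by
        rw [D.eN_comm ha hσd, mul_assoc, D.eN_sq ha, mul_one]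

/-- the property of a mask to be fixed -/
def Pm (m : ℕ) : Prop := M m ∈ Code ∧ ψ (D.eN (M m)) = D.eN (M m)

theorem Pm_zero : Pm D ψ 0 := by
  refine ⟨?_, ?_⟩
  · rw [M_zero']; exact empty_code
  · rw [M_zero', D.eN_empty, map_one]

theorem Pm_xor {m n : ℕ} (hm : Pm D ψ m) (hn : Pm D ψ n) : Pm D ψ (Nat.xor m n) := by
  have e : M (Nat.xor m n) = M m ∆ M n := M_xor m n
  refine ⟨?_, ?_⟩
  · rw [e]; exact symmDiff_mem_Code hm.1 hn.1
  · rw [e, ← D.eN_mul _ _ hm.1 hn.1, map_mul, hm.2, hn.2]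

theorem Pm_sel (a : Bool) {m : ℕ} (hm : Pm D ψ m) : Pm D ψ (sel a m) := by
  cases a
  · exact Pm_zero D ψ
  · exact hm

theorem irr (hE : ∀ e ∈ D.ES, ψ e ∈ D.ES) (hM : ∀ m ∈ D.MS, ∃ e ∈ D.ES, ψ m = e * m) :
    ∀ e ∈ D.ES, ψ e = e := by
  -- the octad
  have hO : Pm D ψ 8536111 := by
    have hOc : M 8536111 ∈ Code :=
      Cfsg.Agent.Lib.Helper9.LeechX7.mask_mem_Code 8536111 (by decide +kernel)
    refine ⟨hOc, ?_⟩
    obtain ⟨d, hd, hψ⟩ := hE _ (D.eN_mem hOc)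
    obtain ⟨k, hk, rfl, hk2⟩ := exists_codeOf hd
    have hfixK : ∀ (κ : Equiv.Perm GolayPt) (hκ : κ ∈ M24) (l : List ℕ)
        (hs : ∀ m, κ • M m = M (pull l m)) (hO : pull l 8536111 = 8536111),
        fixL l (codeOf k) = true := by
      intro κ hκ l hs hO
      have h1 := psi_conj D ψ hM ⟨κ, hκ⟩ hOc hd hψ
      have h2 : (⟨κ, hκ⟩ : ↥M24).1 • M 8536111 = M 8536111 := by
        show κ • M 8536111 = _
        rw [hs, hO]
      rw [h2, hψ] at h1
      have h3 := (D.eN_eq_iff hd (smul_mem_Code hκ hd)).mp h1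
      exact fixL_of hs (codeOf k) hk2 h3
    have h1 := hfixK k1 k1_mem lK1' k1_smul k1_O
    have h2 := hfixK k2 k2_mem lK2' k2_smul k2_O
    have h3 := certK
    rw [allB_iff] at h3
    have h4 := h3 k hk
    rw [h1, h2] at h4
    have h5 : memK (codeOf k) = true := by simpa using h4
    unfold memK at h5
    simp only [Bool.or_eq_true, beq_iff] at h5
    rcases h5 with ((h5 | h5) | h5) | h5
    · exfalso
      rw [h5, M_zero', D.eN_empty] at hψ
      have : D.eN (M 8536111) = 1 := by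
        have := ψ.injective (hψ.trans (map_one ψ).symm)
        exact this
      rcases (D.eN_eq_one _ hOc).mp this with h6 | h6
      · have : (8536111 : ℕ) = 0 :=
          Cfsg.Agent.Lib.Helper9.M24U1.M_inj _ _ (by norm_num) (by norm_num) (h6.trans M_zero'.symm)
        norm_num at this
      · have : (8536111 : ℕ) = 16777215 :=
          Cfsg.Agent.Lib.Helper9.M24U1.M_inj _ _ (by norm_num) (by norm_num) (h6.trans M_ones.symm)
        norm_num at this
    · exfalso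
      rw [h5, M_ones, D.eN_univ] at hψ
      have : D.eN (M 8536111) = 1 := ψ.injective (hψ.trans (map_one ψ).symm)
      rcases (D.eN_eq_one _ hOc).mp this with h6 | h6
      · have : (8536111 : ℕ) = 0 :=
          Cfsg.Agent.Lib.Helper9.M24U1.M_inj _ _ (by norm_num) (by norm_num) (h6.trans M_zero'.symm)
        norm_num at this
      · have : (8536111 : ℕ) = 16777215 :=
          Cfsg.Agent.Lib.Helper9.M24U1.M_inj _ _ (by norm_num) (by norm_num) (h6.trans M_ones.symm)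
        norm_num at this
    · rw [hψ, h5]
    · rw [hψ, h5]
      have e : M 8241104 = (M 8536111)ᶜ := by
        have : (8241104 : ℕ) = 8536111 ^^^ 16777215 := by decide
        rw [this, M_xor_ones]
      rw [e, D.eN_compl hOc]
  -- the translates
  have htr : ∀ n, Pm D ψ (tr n) := by
    intro n
    induction n with
    | zero => exact hO
    | succ n ih =>
      have e : M (tr (n + 1)) = sP.1 • M (tr n) := by
        show M (pull lS' (tr n)) = _
        exact (sg_smul 0 (by norm_num) (tr n)).symm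
      refine ⟨?_, ?_⟩
      · rw [e]; exact smul_mem_Code sP.2 ih.1
      · rw [e]; exact psi_conj D ψ hM sP ih.1 ih.1 ih.2
  have hxs : ∀ t n, Pm D ψ (xsN t n) := by
    intro t n
    induction n with
    | zero => exact Pm_zero D ψ
    | succ n ih =>
      show Pm D ψ (cond (t.testBit n) (Nat.xor (xsN t n) (tr n)) (xsN t n))
      cases t.testBit n
      · exact ih
      · exact Pm_xor D ψ ih (htr n)
  have hb : ∀ i : Fin 12, Pm D ψ (bmask i) := by
    intro i
    rw [certT i]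
    exact hxs _ _
  have hcode : ∀ k, Pm D ψ (codeOf k) := by
    intro k
    unfold codeOf m12
    exact Pm_xor D ψ (Pm_sel D ψ _ (hb 0)) (Pm_xor D ψ (Pm_sel D ψ _ (hb 1))
      (Pm_xor D ψ (Pm_sel D ψ _ (hb 2)) (Pm_xor D ψ (Pm_sel D ψ _ (hb 3))
      (Pm_xor D ψ (Pm_sel D ψ _ (hb 4)) (Pm_xor D ψ (Pm_sel D ψ _ (hb 5))
      (Pm_xor D ψ (Pm_sel D ψ _ (hb 6)) (Pm_xor D ψ (Pm_sel D ψ _ (hb 7))
      (Pm_xor D ψ (Pm_sel D ψ _ (hb 8)) (Pm_xor D ψ (Pm_sel D ψ _ (hb 9))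
      (Pm_xor D ψ (Pm_sel D ψ _ (hb 10)) (Pm_sel D ψ _ (hb 11))))))))))))
  rintro e ⟨c, hc, rfl⟩
  obtain ⟨k, -, rfl, -⟩ := exists_codeOf hc
  exact (hcode k).2

end irr

/-- every automorphism of a group of monomial shape preserving the sign changes is inner -/
theorem aut_inner {N : Type} [Group N] [Finite N] (D : Mono N) :
    ∀ ψ : N ≃* N, (∀ e ∈ D.ES, ψ e ∈ D.ES) → ∃ n : N, ∀ x, ψ x = n * x * n⁻¹ :=
  D.aut_inner_of (fun ψ h1 h2 => irr D ψ h1 h2) (D.mN sP) (D.mN_mem sP) (hfix D)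
    (fun ψ h1 h2 h3 => rig D ψ h1 h2 h3)

end Cfsg.Agent.Lib.Helper9.OutCo1H
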