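import Cfsg.Agent.Lib.Helper9.OutCo1G
import Cfsg.Agent.Lib.Helper9.OutCo1F

set_option autoImplicit false

/-! Groups of monomial shape `2^11 : M24`: the projection onto `M24`, orders, and the uniqueness
of the group of sign changes among the elementary abelian subgroups of its order normalised by
a Sylow `2`-subgroup. -/

namespace Cfsg.Agent.Lib.Helper9.OutCo1G

open scoped Pointwise symmDiff
open Cfsg Finset Cfsg.Agent.Lib.Helper9.LeechM1 Cfsg.Agent.Lib.Helper9.LeechX6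
  Cfsg.Agent.Lib.Helper9.Co1b Cfsg.Agent.Lib.Helper9.Co1e

namespace Mono

variable {N : Type} [Group N] (D : Mono N)

theorem decomp_unique {c d : Finset GolayPt} (hc : c ∈ Code) (hd : d ∈ Code) {σ τ : ↥M24}
    (h : D.eN c * D.mN σ = D.eN d * D.mN τ) : σ = τ ∧ D.eN c = D.eN d := by
  have h1 : D.eN (d ∆ c) * D.mN (σ * τ⁻¹) = 1 := by
    rw [← D.eN_mul d c hd hc, map_mul, map_inv]
    calc D.eN d * D.eN c * (D.mN σ * (D.mN τ)⁻¹)
        = D.eN d * (D.eN c * D.mN σ) * (D.mN τ)⁻¹ := by group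
      _ = D.eN d * (D.eN d * D.mN τ) * (D.mN τ)⁻¹ := by rw [h]
      _ = D.eN d * D.eN d := by group
      _ = 1 := D.eN_sq hd
  have h2 := D.inj _ (symmDiff_mem_Code hd hc) _ h1
  have h3 : σ = τ := mul_inv_eq_one.mp h2
  subst h3
  exact ⟨rfl, mul_right_cancel h⟩

theorem surj' (x : N) : ∃ σ : ↥M24, ∃ c ∈ Code, x = D.eN c * D.mN σ := by
  obtain ⟨c, hc, σ, h⟩ := D.surj x
  exact ⟨σ, c, hc, h⟩

/-- the permutation part -/
noncomputable def sig (x : N) : ↥M24 := Classical.choose (D.surj' x)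

theorem sig_spec (x : N) : ∃ c ∈ Code, x = D.eN c * D.mN (D.sig x) :=
  Classical.choose_spec (D.surj' x)

theorem sig_eq {x : N} {c : Finset GolayPt} (hc : c ∈ Code) {σ : ↥M24}
    (h : x = D.eN c * D.mN σ) : D.sig x = σ := by
  obtain ⟨d, hd, h'⟩ := D.sig_spec x
  have h'' : D.eN c * D.mN σ = D.eN d * D.mN (D.sig x) := h.symm.trans h'
  exact ((D.decomp_unique hc hd h'').1).symm

theorem mul_form {c d : Finset GolayPt} (hc : c ∈ Code) (hd : d ∈ Code) (σ τ : ↥M24) :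
    D.eN c * D.mN σ * (D.eN d * D.mN τ) = D.eN (c ∆ (σ.1 • d)) * D.mN (σ * τ) := by
  rw [← D.eN_mul _ _ hc (smul_mem_Code σ.2 hd), map_mul]
  calc D.eN c * D.mN σ * (D.eN d * D.mN τ) = D.eN c * (D.mN σ * D.eN d) * D.mN τ := by group
    _ = D.eN c * (D.eN (σ.1 • d) * D.mN σ) * D.mN τ := by rw [D.conj' σ hd]
    _ = _ := by group

theorem sig_mul (x y : N) : D.sig (x * y) = D.sig x * D.sig y := by
  obtain ⟨c, hc, hx⟩ := D.sig_spec x
  obtain ⟨d, hd, hy⟩ := D.sig_spec y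
  apply D.sig_eq (symmDiff_mem_Code hc (smul_mem_Code (D.sig x).2 hd))
  rw [← D.mul_form hc hd, ← hx, ← hy]

/-- the projection onto `M24` -/
noncomputable def rho : N →* ↥M24 := MonoidHom.mk' D.sig D.sig_mul

theorem rho_form {c : Finset GolayPt} (hc : c ∈ Code) (σ : ↥M24) :
    D.rho (D.eN c * D.mN σ) = σ := D.sig_eq hc rfl

theorem rho_eN {c : Finset GolayPt} (hc : c ∈ Code) : D.rho (D.eN c) = 1 := by
  have := D.rho_form hc 1
  rwa [map_one, mul_one] at this

theorem rho_mN (σ : ↥M24) : D.rho (D.mN σ) = σ := by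
  have := D.rho_form empty_code σ
  rwa [D.eN_empty, one_mul] at this

theorem rho_spec (x : N) : ∃ c ∈ Code, x = D.eN c * D.mN (D.rho x) := D.sig_spec x

theorem rho_eq_one_iff (x : N) : D.rho x = 1 ↔ x ∈ D.ES := by
  constructor
  · intro h
    obtain ⟨c, hc, hx⟩ := D.rho_spec x
    rw [h, map_one, mul_one] at hx
    exact ⟨c, hc, hx⟩
  · rintro ⟨c, hc, rfl⟩
    exact D.rho_eN hc

theorem card_comap [Finite N] (K : Subgroup ↥M24) :
    Nat.card (K.comap D.rho) = Nat.card D.ES * Nat.card K := by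
  rw [← Nat.card_prod]
  symm
  apply Nat.card_eq_of_bijective
    (fun p : ↥D.ES × ↥K => (⟨p.1.1 * D.mN p.2.1, by
      obtain ⟨c, hc, h⟩ := p.1.2
      show D.rho (p.1.1 * D.mN p.2.1) ∈ K
      rw [h, D.rho_form hc]
      exact p.2.2⟩ : ↥(K.comap D.rho)))
  constructor
  · rintro ⟨⟨e, c, hc, rfl⟩, ⟨σ, hσ⟩⟩ ⟨⟨e', d, hd, rfl⟩, ⟨τ, hτ⟩⟩ h
    have h1 : D.eN c * D.mN σ = D.eN d * D.mN τ := congrArg Subtype.val h
    obtain ⟨h2, h3⟩ := D.decomp_unique hc hd h1
    subst h2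
    simp only [Prod.mk.injEq]
    exact ⟨Subtype.ext h3, trivial⟩
  · rintro ⟨x, hx⟩
    obtain ⟨c, hc, h⟩ := D.rho_spec x
    refine ⟨(⟨D.eN c, D.eN_mem hc⟩, ⟨D.rho x, hx⟩), ?_⟩
    apply Subtype.ext
    exact h.symm

theorem card_ES : Nat.card D.ES = 2048 := by
  rw [← ncard_CodeN, ← Nat.card_coe_set_eq]
  symm
  apply Nat.card_eq_of_bijective
    (fun c : ↥CodeN => (⟨D.eN c.1, D.eN_mem c.2.1⟩ : ↥D.ES))
  constructor
  · rintro ⟨c, hc, hcn⟩ ⟨d, hd, hdn⟩ h
    have h1 : D.eN c = D.eN d := congrArg Subtype.val h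
    apply Subtype.ext
    rcases (D.eN_eq_iff hc hd).mp h1 with h2 | h2
    · exact h2.symm
    · exfalso
      rw [h2] at hdn
      exact hdn (Finset.mem_compl.mpr hcn)
  · rintro ⟨x, c, hc, rfl⟩
    by_cases hn : (none : GolayPt) ∈ c
    · refine ⟨⟨cᶜ, compl_mem_Code hc, ?_⟩, ?_⟩
      · rw [Finset.mem_compl]; exact fun h => h hn
      · apply Subtype.ext
        exact D.eN_compl hc
    · exact ⟨⟨c, hc, hn⟩, rfl⟩

/-- the preimage of the explicit Sylow `2`-subgroup of `M24` -/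
noncomputable def TS : Subgroup N :=
  ((Cfsg.Agent.Lib.Helper9.OutCo1D.S0).subgroupOf M24).comap D.rho

theorem card_TS [Finite N] : Nat.card D.TS = 2 ^ 21 := by
  unfold TS
  rw [D.card_comap, D.card_ES]
  have h1 : Nat.card ((Cfsg.Agent.Lib.Helper9.OutCo1D.S0).subgroupOf M24) = 2 ^ 10 := by
    rw [← Cfsg.Agent.Lib.Helper9.Syl2M24.card_S0]
    exact Nat.card_congr
      (Subgroup.subgroupOfEquivOfLe Cfsg.Agent.Lib.Helper9.Syl2M24.hSG).toEquiv
  rw [h1]
  norm_num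

theorem ES_le_TS : D.ES ≤ D.TS := by
  intro x hx
  unfold TS
  rw [Subgroup.mem_comap, (D.rho_eq_one_iff x).mpr hx]
  exact Subgroup.one_mem _

theorem card_N [Finite N] (D : Mono N) : Nat.card N = 2048 * 244823040 := by
  have h := Mono.card_comap D ⊤
  rw [Subgroup.comap_top, Subgroup.card_top, Subgroup.card_top, D.card_ES,
    Cfsg.Agent.Lib.Helper9.M24T4.card_M24] at h
  exact h

/-- the sign changes form the only elementary abelian subgroup of their order normalised by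
the Sylow `2`-subgroup -/
theorem unique_E [Finite N] (D : Mono N) (A : Subgroup N) (hAT : A ≤ D.TS)
    (hAn : ∀ t ∈ D.TS, ∀ x ∈ A, t * x * t⁻¹ ∈ A) (hA2 : ∀ x ∈ A, x * x = 1)
    (hcard : Nat.card A = 2048) : A = D.ES := by
  classical
  have hcomm : ∀ x ∈ A, ∀ y ∈ A, x * y = y * x := by
    intro x hx y hy
    have e1 := hA2 x hx
    have e2 := hA2 y hy
    have e3 := hA2 (x * y) (A.mul_mem hx hy)
    have hx' : x⁻¹ = x := inv_eq_of_mul_eq_one_left e1
    have hy' : y⁻¹ = y := inv_eq_of_mul_eq_one_left e2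
    have : (x * y)⁻¹ = x * y := inv_eq_of_mul_eq_one_left e3
    rw [mul_inv_rev, hx', hy'] at this
    exact this.symm
  let Ab : Subgroup (Equiv.Perm GolayPt) := (A.map D.rho).map (M24).subtype
  have hmemAb : ∀ a, a ∈ Ab ↔ ∃ x ∈ A, (D.rho x).1 = a := by
    intro a
    constructor
    · rintro ⟨y, ⟨x, hx, rfl⟩, rfl⟩
      exact ⟨x, hx, rfl⟩
    · rintro ⟨x, hx, rfl⟩
      exact ⟨D.rho x, ⟨x, hx, rfl⟩, rfl⟩
  have hA1 : Ab ≤ Cfsg.Agent.Lib.Helper9.OutCo1D.S0 := by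
    intro a ha
    obtain ⟨x, hx, rfl⟩ := (hmemAb a).mp ha
    exact hAT hx
  have hA2' : ∀ s ∈ Cfsg.Agent.Lib.Helper9.OutCo1D.S0, ∀ a ∈ Ab, s * a * s⁻¹ ∈ Ab := by
    intro s hs a ha
    obtain ⟨x, hx, rfl⟩ := (hmemAb a).mp ha
    have hsM : s ∈ M24 := Cfsg.Agent.Lib.Helper9.Syl2M24.hSG hs
    have ht : D.mN ⟨s, hsM⟩ ∈ D.TS := by
      unfold TS
      rw [Subgroup.mem_comap, D.rho_mN]
      exact hs
    have h1 := hAn _ ht x hx
    rw [hmemAb]
    refine ⟨_, h1, ?_⟩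
    rw [map_mul, map_mul, map_inv, D.rho_mN]
    rfl
  have hA3' : ∀ a ∈ Ab, a * a = 1 := by
    intro a ha
    obtain ⟨x, hx, rfl⟩ := (hmemAb a).mp ha
    have : D.rho x * D.rho x = 1 := by rw [← map_mul, hA2 x hx, map_one]
    exact congrArg Subtype.val this
  by_cases hbot : Ab = ⊥
  · have hle : A ≤ D.ES := by
      intro x hx
      rw [← D.rho_eq_one_iff]
      have : (D.rho x).1 ∈ Ab := (hmemAb _).mpr ⟨x, hx, rfl⟩
      rw [hbot, Subgroup.mem_bot] at this
      exact Subtype.ext this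
    exact Subgroup.eq_of_le_of_card_ge hle (by rw [D.card_ES, hcard])
  · exfalso
    obtain ⟨n, f, hnf, hn, hf⟩ := Cfsg.Agent.Lib.Helper9.OutCo1D.off Ab hA1 hA2' hA3' hbot
    let φ : ↥A →* ↥M24 := D.rho.comp A.subtype
    have hc1 : Nat.card ↥A = Nat.card (↥A ⧸ φ.ker) * Nat.card φ.ker :=
      Subgroup.card_eq_card_quotient_mul_card_subgroup φ.ker
    have hc2 : Nat.card (↥A ⧸ φ.ker) = Nat.card φ.range :=
      Nat.card_congr (QuotientGroup.quotientKerEquivRange φ).toEquiv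
    have hc3 : Nat.card φ.range ≤ n := by
      refine le_trans ?_ hn
      apply Nat.card_le_card_of_injective
        (fun y : ↥φ.range => (⟨y.1.1, by
          obtain ⟨x, hx⟩ := y.2
          exact (hmemAb _).mpr ⟨x.1, x.2, by rw [← hx]; rfl⟩⟩ : ↥Ab))
      intro y y' h
      have h1 : y.1.1 = y'.1.1 := congrArg (fun t : ↥Ab => t.1) h
      exact Subtype.ext (Subtype.ext h1)
    -- the kernel
    have hker : ∀ x : ↥φ.ker, ∃ d : Finset GolayPt, d ∈ Code ∧ x.1.1 = D.eN d := by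
      intro x
      have h1 : D.rho x.1.1 = 1 := x.2
      exact (D.rho_eq_one_iff _).mp h1
    choose dd hdd1 hdd2 using hker
    have hfixd : ∀ x : ↥φ.ker, ∀ σ ∈ Ab, σ • dd x = dd x ∨ σ • dd x = (dd x)ᶜ := by
      intro x σ hσ
      obtain ⟨y, hy, rfl⟩ := (hmemAb σ).mp hσ
      obtain ⟨c, hc, hyc⟩ := D.rho_spec y
      have h1 := hcomm y hy x.1.1 x.1.2
      rw [hdd2 x] at h1
      have h2 : D.eN c * D.mN (D.rho y) * D.eN (dd x) = D.eN (dd x) * (D.eN c * D.mN (D.rho y)) := by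
        rw [← hyc]; exact h1
      have hsd : (D.rho y).1 • dd x ∈ Code := smul_mem_Code (D.rho y).2 (hdd1 x)
      have h3 : D.eN c * D.eN ((D.rho y).1 • dd x) * D.mN (D.rho y) =
          D.eN c * D.eN (dd x) * D.mN (D.rho y) := by
        calc D.eN c * D.eN ((D.rho y).1 • dd x) * D.mN (D.rho y)
            = D.eN c * (D.eN ((D.rho y).1 • dd x) * D.mN (D.rho y)) := by group
          _ = D.eN c * (D.mN (D.rho y) * D.eN (dd x)) := by rw [D.conj' _ (hdd1 x)]
          _ = D.eN c * D.mN (D.rho y) * D.eN (dd x) := by group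
          _ = D.eN (dd x) * (D.eN c * D.mN (D.rho y)) := h2
          _ = D.eN (dd x) * D.eN c * D.mN (D.rho y) := by group
          _ = D.eN c * D.eN (dd x) * D.mN (D.rho y) := by rw [D.eN_comm (hdd1 x) hc]
      have h4 : D.eN ((D.rho y).1 • dd x) = D.eN (dd x) :=
        mul_left_cancel (mul_right_cancel h3)
      exact (D.eN_eq_iff (hdd1 x) hsd).mp h4.symm
    let FS : Set (Finset GolayPt) := {c | c ∈ Code ∧ ∀ σ ∈ Ab, σ • c = c ∨ σ • c = cᶜ}
    have hcompl : ∀ c ∈ FS, cᶜ ∈ FS := by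
      rintro c ⟨hc, hfix⟩
      refine ⟨compl_mem_Code hc, ?_⟩
      intro σ hσ
      rw [Cfsg.Agent.Lib.Helper9.M24Y4.smul_compl]
      rcases hfix σ hσ with h | h
      · left; rw [h]
      · right; rw [h]
    let g : ↥φ.ker × Bool → ↥FS := fun p =>
      if p.2 then ⟨dd p.1, hdd1 p.1, hfixd p.1⟩ else ⟨(dd p.1)ᶜ, hcompl _ ⟨hdd1 p.1, hfixd p.1⟩⟩
    have hne : ∀ c : Finset GolayPt, c ≠ cᶜ := by
      intro c h
      by_cases hn : (none : GolayPt) ∈ c
      · have : (none : GolayPt) ∈ cᶜ := by rw [← h]; exact hn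
        exact (Finset.mem_compl.mp this) hn
      · have : (none : GolayPt) ∈ c := by rw [h]; exact Finset.mem_compl.mpr hn
        exact hn this
    have hx_eq : ∀ x x' : ↥φ.ker, D.eN (dd x) = D.eN (dd x') → x = x' := by
      intro x x' h
      apply Subtype.ext
      apply Subtype.ext
      rw [hdd2 x, hdd2 x', h]
    have hg : Function.Injective g := by
      rintro ⟨x, b⟩ ⟨x', b'⟩ h
      have h' : (g (x, b)).1 = (g (x', b')).1 := congrArg Subtype.val h
      cases b <;> cases b'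
      · have h1 : (dd x)ᶜ = (dd x')ᶜ := h'
        have h2 : dd x = dd x' := compl_injective h1
        rw [hx_eq x x' (by rw [h2])]
      · have h1 : (dd x)ᶜ = dd x' := h'
        have h2 : D.eN (dd x) = D.eN (dd x') := by
          rw [← h1, D.eN_compl (hdd1 x)]
        have h3 := hx_eq x x' h2
        subst h3
        exact absurd h1.symm (hne _)
      · have h1 : dd x = (dd x')ᶜ := h'
        have h2 : D.eN (dd x) = D.eN (dd x') := by
          rw [h1, D.eN_compl (hdd1 x')]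
        have h3 := hx_eq x x' h2
        subst h3
        exact absurd h1 (hne _)
      · have h1 : dd x = dd x' := h'
        rw [hx_eq x x' (by rw [h1])]
    have hFSfin : Finite ↥FS := Set.toFinite FS
    have hc4 : Nat.card (↥φ.ker × Bool) ≤ Nat.card ↥FS := Nat.card_le_card_of_injective g hg
    rw [Nat.card_prod, Nat.card_eq_fintype_card (α := Bool), Fintype.card_bool,
      Nat.card_coe_set_eq] at hc4
    have hc5 : Nat.card φ.ker * 2 ≤ f := hc4.trans hf
    have hc6 : Nat.card ↥A * 2 ≤ n * f := by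
      rw [hc1, hc2, mul_assoc]
      exact Nat.mul_le_mul hc3 hc5
    rw [hcard] at hc6
    omega

end Mono

end Cfsg.Agent.Lib.Helper9.OutCo1G
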