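import Cfsg.Agent.Lib.Helper9.Co1g
import Cfsg.Agent.Lib.Helper9.LeechY5
import Cfsg.Agent.Lib.Helper9.OutCo1L

set_option autoImplicit false

/-! The monomial subgroup `2^12 : M24` of the automorphism group of the lattice and its image
`2^11 : M24` in `Co₁`, as a group of monomial shape. -/

namespace Cfsg.Agent.Lib.Helper9.OutCo1K

open scoped Pointwise symmDiff
open Cfsg Finset Cfsg.Agent.Lib.Helper4.Leech Cfsg.Agent.Lib.Helper9.LeechC7
  Cfsg.Agent.Lib.Helper9.LeechM1 Cfsg.Agent.Lib.Helper9.LeechM2 Cfsg.Agent.Lib.Helper9.LeechM4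
  Cfsg.Agent.Lib.Helper9.LeechX6 Cfsg.Agent.Lib.Helper9.Co1b Cfsg.Agent.Lib.Helper9.Co1e
  Cfsg.Agent.Lib.Helper9.Co1g Cfsg.Agent.Lib.Helper9.OutCo1G

/-- the quotient map -/
def piC : ↥Co0 →* Cfsg.Spor.Co1 := QuotientGroup.mk' (Subgroup.center ↥Co0)

theorem piC_surjective : Function.Surjective piC := QuotientGroup.mk'_surjective _

theorem piC_eq_one_iff (g : ↥Co0) : piC g = 1 ↔ g = 1 ∨ g = negOne := mk_eq_one_iff g

/-- sign changes -/
def epsC (c : Finset GolayPt) (hc : c ∈ Code) : ↥Co0 := ⟨eps c hc, eps_mem c hc⟩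

/-- coordinate permutations -/
def prmH : ↥M24 →* ↥Co0 where
  toFun σ := ⟨prm σ.1 σ.2, prm_mem σ.1 σ.2⟩
  map_one' := Subtype.ext prm_one
  map_mul' σ τ := Subtype.ext (prm_mul σ.1 τ.1 σ.2 τ.2).symm

theorem epsC_mul (c d : Finset GolayPt) (hc : c ∈ Code) (hd : d ∈ Code) :
    epsC c hc * epsC d hd = epsC (c ∆ d) (symmDiff_mem_Code hc hd) :=
  Subtype.ext (eps_mul c d hc hd)

theorem epsC_congr {c d : Finset GolayPt} (h : c = d) (hc : c ∈ Code) (hd : d ∈ Code) :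
    epsC c hc = epsC d hd := by
  subst h
  rfl

theorem epsC_empty : epsC ∅ empty_code = 1 := Subtype.ext eps_empty

theorem epsC_univ : epsC univ univ_code = negOne := Subtype.ext eps_univ

theorem epsC_inj {c d : Finset GolayPt} {hc : c ∈ Code} {hd : d ∈ Code}
    (h : epsC c hc = epsC d hd) : c = d :=
  eps_inj (hc := hc) (hc' := hd) (congrArg Subtype.val h)

theorem epsC_sq (c : Finset GolayPt) (hc : c ∈ Code) : epsC c hc * epsC c hc = 1 := by
  rw [epsC_mul, ← epsC_empty]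
  exact epsC_congr (by rw [symmDiff_self, Finset.bot_eq_empty]) _ _

theorem prmH_epsC (σ : ↥M24) (c : Finset GolayPt) (hc : c ∈ Code) :
    prmH σ * epsC c hc = epsC (σ.1 • c) (smul_mem_Code σ.2 hc) * prmH σ :=
  Subtype.ext (prm_eps σ.1 σ.2 c hc)

theorem mono_eq (σ : ↥M24) (c : Finset GolayPt) (hc : c ∈ Code) :
    (epsC c hc * prmH σ).1 = mono σ.1 σ.2 c hc := rfl

/-- the monomial subgroup -/
def H0 : Subgroup ↥Co0 where
  carrier := {g | ∃ (σ : ↥M24) (c : Finset GolayPt) (hc : c ∈ Code), g = epsC c hc * prmH σ}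
  one_mem' := ⟨1, ∅, empty_code, by rw [epsC_empty, map_one, one_mul]⟩
  mul_mem' := by
    rintro _ _ ⟨σ, c, hc, rfl⟩ ⟨τ, d, hd, rfl⟩
    refine ⟨σ * τ, c ∆ (σ.1 • d), symmDiff_mem_Code hc (smul_mem_Code σ.2 hd), ?_⟩
    rw [← epsC_mul c _ hc (smul_mem_Code σ.2 hd), map_mul]
    calc epsC c hc * prmH σ * (epsC d hd * prmH τ)
        = epsC c hc * (prmH σ * epsC d hd) * prmH τ := by group
      _ = epsC c hc * (epsC (σ.1 • d) (smul_mem_Code σ.2 hd) * prmH σ) * prmH τ := by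
          rw [prmH_epsC]
      _ = _ := by group
  inv_mem' := by
    rintro _ ⟨σ, c, hc, rfl⟩
    refine ⟨σ⁻¹, (σ⁻¹).1 • c, smul_mem_Code (σ⁻¹).2 hc, ?_⟩
    rw [← prmH_epsC, mul_inv_rev, map_inv, inv_eq_of_mul_eq_one_left (epsC_sq c hc)]

theorem mem_H0 (g : ↥Co0) :
    g ∈ H0 ↔ ∃ (σ : ↥M24) (c : Finset GolayPt) (hc : c ∈ Code), g = epsC c hc * prmH σ := Iff.rfl

theorem H0_set : (H0 : Set ↥Co0) = {g | P g} := by
  ext g
  constructor
  · rintro ⟨σ, c, hc, rfl⟩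
    exact mono_P σ.1 σ.2 c hc
  · intro hg
    obtain ⟨σ, hσ, c, hc, h⟩ := mono_of_P g hg
    exact ⟨⟨σ, hσ⟩, c, hc, Subtype.ext h⟩

theorem H0_coatom : IsCoatom H0 := Cfsg.Agent.Lib.Helper9.LeechY5.main H0 H0_set

theorem negOne_mem_H0 : negOne ∈ H0 :=
  ⟨1, univ, univ_code, by rw [epsC_univ, map_one, mul_one]⟩

theorem ker_le_H0 : piC.ker ≤ H0 := by
  intro g hg
  rcases (piC_eq_one_iff g).mp hg with rfl | rfl
  · exact H0.one_mem
  · exact negOne_mem_H0

/-- the image of the monomial subgroup in `Co₁` -/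
def N1 : Subgroup Cfsg.Spor.Co1 := H0.map piC

theorem mem_N1 (x : Cfsg.Spor.Co1) :
    x ∈ N1 ↔ ∃ (σ : ↥M24) (c : Finset GolayPt) (hc : c ∈ Code), x = piC (epsC c hc * prmH σ) := by
  constructor
  · rintro ⟨g, ⟨σ, c, hc, rfl⟩, rfl⟩
    exact ⟨σ, c, hc, rfl⟩
  · rintro ⟨σ, c, hc, rfl⟩
    exact ⟨_, ⟨σ, c, hc, rfl⟩, rfl⟩

theorem epsC_mem (c : Finset GolayPt) (hc : c ∈ Code) : epsC c hc ∈ H0 :=
  ⟨1, c, hc, by rw [map_one, mul_one]⟩

theorem prmH_mem (σ : ↥M24) : prmH σ ∈ H0 :=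
  ⟨σ, ∅, empty_code, by rw [epsC_empty, one_mul]⟩

/-- sign changes in `N1` -/
noncomputable def eN1 (c : Finset GolayPt) : ↥N1 := by
  classical
  exact if hc : c ∈ Code then ⟨piC (epsC c hc), Subgroup.mem_map_of_mem _ (epsC_mem c hc)⟩ else 1

theorem eN1_val {c : Finset GolayPt} (hc : c ∈ Code) : (eN1 c).1 = piC (epsC c hc) := by
  unfold eN1
  rw [dif_pos hc]

/-- coordinate permutations in `N1` -/
def mN1 : ↥M24 →* ↥N1 :=
  (piC.comp prmH).codRestrict N1 (fun σ => Subgroup.mem_map_of_mem _ (prmH_mem σ))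

theorem mN1_val (σ : ↥M24) : (mN1 σ).1 = piC (prmH σ) := rfl

theorem mono_one_iff (σ : ↥M24) (c : Finset GolayPt) (hc : c ∈ Code)
    (h : epsC c hc * prmH σ = 1 ∨ epsC c hc * prmH σ = negOne) : σ = 1 := by
  have key : ∀ (d : Finset GolayPt) (hd : d ∈ Code), epsC c hc * prmH σ = epsC d hd * prmH 1 →
      σ = 1 := by
    intro d hd h1
    have h2 : mono σ.1 σ.2 c hc = mono (1 : ↥M24).1 (1 : ↥M24).2 d hd := congrArg Subtype.val h1
    exact Subtype.ext (mono_inj h2).1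
  rcases h with h | h
  · apply key ∅ empty_code
    rw [h, epsC_empty, map_one, one_mul]
  · apply key univ univ_code
    rw [h, epsC_univ, map_one, mul_one]

/-- `N1` is a group of monomial shape -/
noncomputable def D1 : Mono ↥N1 where
  eN := eN1
  mN := mN1
  eN_mul := by
    intro c d hc hd
    apply Subtype.ext
    show (eN1 c).1 * (eN1 d).1 = (eN1 (c ∆ d)).1
    rw [eN1_val hc, eN1_val hd, eN1_val (symmDiff_mem_Code hc hd), ← map_mul, epsC_mul]
  eN_eq_one := by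
    intro c hc
    have e : eN1 c = 1 ↔ piC (epsC c hc) = 1 := by
      rw [← eN1_val hc]
      exact ⟨fun h => by rw [h]; rfl, fun h => Subtype.ext h⟩
    rw [e, piC_eq_one_iff]
    constructor
    · rintro (h | h)
      · left
        rw [← epsC_empty] at h
        exact epsC_inj h
      · right
        rw [← epsC_univ] at h
        exact epsC_inj h
    · rintro (rfl | rfl)
      · left; exact epsC_empty
      · right; exact epsC_univ
  conj := by
    intro σ c hc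
    apply Subtype.ext
    show (mN1 σ).1 * (eN1 c).1 * ((mN1 σ).1)⁻¹ = (eN1 (σ.1 • c)).1
    rw [eN1_val hc, eN1_val (smul_mem_Code σ.2 hc), mN1_val, ← map_mul, ← map_inv, ← map_mul,
      prmH_epsC]
    congr 1
    group
  surj := by
    intro x
    obtain ⟨σ, c, hc, h⟩ := (mem_N1 x.1).mp x.2
    refine ⟨c, hc, σ, ?_⟩
    apply Subtype.ext
    show x.1 = (eN1 c).1 * (mN1 σ).1
    rw [eN1_val hc, mN1_val, ← map_mul]
    exact h
  inj := by
    intro c hc σ h
    have h1 : (eN1 c).1 * (mN1 σ).1 = 1 := congrArg Subtype.val h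
    rw [eN1_val hc, mN1_val, ← map_mul, piC_eq_one_iff] at h1
    exact mono_one_iff σ c hc h1

end Cfsg.Agent.Lib.Helper9.OutCo1K
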