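import Cfsg.Agent.Lib.Helper9.OutCo1K
import Cfsg.Agent.Lib.Helper9.OutCo1J
import Cfsg.Agent.Lib.Helper9.Co1simple2

set_option autoImplicit false

/-! The `2`-local data of `Co₁` around the monomial subgroup `N1 = 2^11 : M24`. -/

namespace Cfsg.Agent.Lib.Helper9.OutCo1K

open scoped Pointwise symmDiff
open Cfsg Finset Cfsg.Agent.Lib.Helper4.Leech Cfsg.Agent.Lib.Helper9.LeechC7
  Cfsg.Agent.Lib.Helper9.LeechM1 Cfsg.Agent.Lib.Helper9.LeechM2 Cfsg.Agent.Lib.Helper9.LeechM4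
  Cfsg.Agent.Lib.Helper9.LeechX6 Cfsg.Agent.Lib.Helper9.Co1a Cfsg.Agent.Lib.Helper9.Co1b
  Cfsg.Agent.Lib.Helper9.Co1c Cfsg.Agent.Lib.Helper9.Co1e Cfsg.Agent.Lib.Helper9.Co1f
  Cfsg.Agent.Lib.Helper9.Co1g Cfsg.Agent.Lib.Helper9.OutCo1G Cfsg.Agent.Lib.Helper9.M24T8

instance finite_Co1 : Finite Cfsg.Spor.Co1 :=
  Nat.finite_of_card_ne_zero (by
    rw [show Nat.card Cfsg.Spor.Co1 = 4157776806543360000 from
      Cfsg.Agent.Lib.Helper9.Co1simple2.card_quot]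
    norm_num)

theorem card_Co1 : Nat.card Cfsg.Spor.Co1 = 4157776806543360000 :=
  Cfsg.Agent.Lib.Helper9.Co1simple2.card_quot

theorem simple_Co1 : IsSimpleGroup Cfsg.Spor.Co1 := Cfsg.Agent.Lib.Helper9.Co1simple2.co1_simple

/-- the sign changes in `Co₁` -/
noncomputable def E1 : Subgroup Cfsg.Spor.Co1 := D1.ES.map N1.subtype

/-- the Sylow `2`-subgroup -/
noncomputable def T1 : Subgroup Cfsg.Spor.Co1 := D1.TS.map N1.subtype

theorem mem_E1 (x : ↥N1) : x.1 ∈ E1 ↔ x ∈ D1.ES := by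
  constructor
  · rintro ⟨y, hy, h⟩
    have : y = x := Subtype.ext h
    rwa [this] at hy
  · intro h
    exact ⟨x, h, rfl⟩

theorem mem_T1 (x : ↥N1) : x.1 ∈ T1 ↔ x ∈ D1.TS := by
  constructor
  · rintro ⟨y, hy, h⟩
    have : y = x := Subtype.ext h
    rwa [this] at hy
  · intro h
    exact ⟨x, h, rfl⟩

theorem E1_le_N1 : E1 ≤ N1 := by
  rintro _ ⟨y, -, rfl⟩
  exact y.2

theorem T1_le_N1 : T1 ≤ N1 := by
  rintro _ ⟨y, -, rfl⟩
  exact y.2

theorem card_T1 : Nat.card T1 = 2 ^ 21 := by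
  unfold T1
  rw [Subgroup.card_subtype]
  exact D1.card_TS

theorem card_E1 : Nat.card E1 = 2048 := by
  unfold E1
  rw [Subgroup.card_subtype]
  exact D1.card_ES

theorem not_dvd_card : ¬ 2 ^ (21 + 1) ∣ Nat.card Cfsg.Spor.Co1 := by
  rw [card_Co1]
  norm_num

theorem E1_le_T1 : E1 ≤ T1 := by
  rintro _ ⟨y, hy, rfl⟩
  exact ⟨y, D1.ES_le_TS hy, rfl⟩

theorem E1_conj : ∀ n ∈ N1, ∀ e ∈ E1, n * e * n⁻¹ ∈ E1 := by
  rintro n hn _ ⟨y, hy, rfl⟩
  have := D1.ES_normal.conj_mem y hy ⟨n, hn⟩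
  exact ⟨_, this, rfl⟩

theorem E1_sq : ∀ e ∈ E1, e * e = 1 := by
  rintro _ ⟨y, ⟨c, hc, rfl⟩, rfl⟩
  have := D1.eN_sq hc
  exact congrArg Subtype.val this

/-- uniqueness of `E1` -/
theorem E1_unique : ∀ A : Subgroup Cfsg.Spor.Co1, A ≤ T1 → (∀ t ∈ T1, ∀ x ∈ A, t * x * t⁻¹ ∈ A) →
    (∀ x ∈ A, ∀ y ∈ A, x * y = y * x) → (∀ x ∈ A, x * x = 1) → Nat.card A = Nat.card E1 →
    A = E1 := by
  intro A hAT hAn _ hA2 hcard
  have hAN : A ≤ N1 := hAT.trans T1_le_N1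
  have hmap : (A.subgroupOf N1).map N1.subtype = A := Subgroup.map_subgroupOf_eq_of_le hAN
  have h1 : A.subgroupOf N1 = D1.ES := by
    apply D1.unique_E
    · intro x hx
      exact (mem_T1 x).mp (hAT hx)
    · intro t ht x hx
      exact hAn t.1 ((mem_T1 t).mpr ht) x.1 hx
    · intro x hx
      apply Subtype.ext
      exact hA2 x.1 hx
    · rw [← card_E1, ← hcard, ← hmap, Subgroup.card_subtype, hmap]
  rw [← hmap, h1]
  rfl

theorem coatom_map {G G' : Type*} [Group G] [Group G'] (f : G →* G')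
    (hf : Function.Surjective f) (H : Subgroup G) (hker : f.ker ≤ H) (hH : IsCoatom H) :
    IsCoatom (H.map f) := by
  have hcm : (H.map f).comap f = H := Subgroup.comap_map_eq_self hker
  constructor
  · intro h
    apply hH.1
    rw [← hcm, h, Subgroup.comap_top]
  · intro K hK
    have h1 : H ≤ K.comap f := by
      rw [← hcm]
      exact Subgroup.comap_mono hK.le
    have h2 : H ≠ K.comap f := by
      intro h
      have : K = H.map f := by
        rw [h, Subgroup.map_comap_eq_self_of_surjective hf]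
      exact hK.ne this.symm
    have h3 := hH.2 _ (lt_of_le_of_ne h1 h2)
    rw [← Subgroup.map_comap_eq_self_of_surjective hf K, h3,
      Subgroup.map_top_of_surjective f hf]

theorem N1_coatom : IsCoatom N1 := coatom_map piC piC_surjective H0 ker_le_H0 H0_coatom

/-- the normaliser of `E1` is `N1` -/
theorem E1_normalizer : ∀ g : Cfsg.Spor.Co1, (∀ e ∈ E1, g * e * g⁻¹ ∈ E1) → g ∈ N1 := by
  intro g hg
  have hfinE : Finite ↥(E1 : Set Cfsg.Spor.Co1) := Set.toFinite _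
  have h1 : g ∈ Subgroup.normalizer (E1 : Set Cfsg.Spor.Co1) :=
    Subgroup.mem_normalizer_fintype hg
  have h2 : N1 ≤ Subgroup.normalizer (E1 : Set Cfsg.Spor.Co1) := by
    intro n hn
    exact Subgroup.mem_normalizer_fintype (E1_conj n hn)
  rcases eq_or_lt_of_le h2 with h3 | h3
  · rw [h3]
    exact h1
  · exfalso
    have h4 := N1_coatom.2 _ h3
    have h5 : E1.Normal := Subgroup.normalizer_eq_top_iff.mp h4
    have := simple_Co1
    rcases h5.eq_bot_or_eq_top with h6 | h6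
    · have := card_E1
      rw [h6, Subgroup.card_bot] at this
      norm_num at this
    · have := card_E1
      rw [h6, Subgroup.card_top, card_Co1] at this
      norm_num at this

/-- automorphisms of `N1` preserving `E1` are inner -/
theorem N1_aut : ∀ ψ : ↥N1 ≃* ↥N1, (∀ x : ↥N1, x.1 ∈ E1 → (ψ x).1 ∈ E1) →
    ∃ n : ↥N1, ∀ x, ψ x = n * x * n⁻¹ := by
  intro ψ hψ
  apply Cfsg.Agent.Lib.Helper9.OutCo1H.aut_inner D1 ψ
  intro e he
  exact (mem_E1 _).mp (hψ e ((mem_E1 e).mpr he))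

theorem z_eq : z = piC (epsC O8 O8_code) := rfl

theorem z_mem_E1 : z ∈ E1 := by
  have h : (D1.eN O8).1 = z := eN1_val O8_code
  rw [← h]
  exact (mem_E1 _).mpr (D1.eN_mem O8_code)

/-- the extraspecial subgroup inside `Co₁` -/
def Q1 : Subgroup Cfsg.Spor.Co1 := Q.map (Cz).subtype

theorem Q1_le_Cz : Q1 ≤ Cz := by
  rintro _ ⟨y, -, rfl⟩
  exact y.2

theorem Q1_le_N1 : Q1 ≤ N1 := by
  rintro _ ⟨y, hy, rfl⟩
  obtain ⟨x, hx, rfl⟩ := hy
  obtain ⟨a, k, rfl⟩ := exists_form x hx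
  show (f (Ek k * Pa a)).1 ∈ N1
  rw [f_val]
  refine ⟨(Ek k * Pa a).1, ?_, rfl⟩
  exact ⟨⟨ep a, (ep_fix a).1⟩, dc k, dc_code k, rfl⟩

theorem card_Cz : Nat.card ↥Cz = 2 ^ 9 * 174182400 := by
  rw [Subgroup.card_eq_card_quotient_mul_card_subgroup Q, card_quot_Cz, card_Q, mul_comm]

theorem N1_sup_Cz : N1 ⊔ Cz = ⊤ := by
  rcases eq_or_lt_of_le (le_sup_left : N1 ≤ N1 ⊔ Cz) with h | h
  · exfalso
    have h1 : Cz ≤ N1 := by
      rw [h]
      exact le_sup_right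
    have h2 := Subgroup.card_dvd_of_le h1
    rw [card_Cz, D1.card_N] at h2
    norm_num at h2
  · exact N1_coatom.2 _ h

end Cfsg.Agent.Lib.Helper9.OutCo1K
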