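import Cfsg.Agent.Lib.Helper9.OutCo1M
import Cfsg.Agent.Lib.Helper7.OutCo1CORE

set_option autoImplicit false

/-! All automorphisms of `Co₁` are inner, given the facts on the involution centraliser. -/

namespace Cfsg.Agent.Lib.Helper9.OutCo1K

open Cfsg Cfsg.Agent.Lib.Helper9.Co1g

theorem mem_Cz_iff (g : Cfsg.Spor.Co1) : g ∈ Cz ↔ g * z = z * g := by
  rw [Subgroup.mem_centralizer_iff]
  constructor
  · intro h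
    exact (h z rfl).symm
  · intro h y hy
    rw [Set.mem_singleton_iff.mp hy]
    exact h.symm

theorem inner_of_cz
    (hcz : (∀ g ∈ Cz, ∀ q ∈ Q1, g * q * g⁻¹ ∈ Q1) ∧
      (∀ g ∈ Cz, (∀ q ∈ Q1, g * q = q * g) → g = 1 ∨ g = z) ∧
      (∀ K : Subgroup Cfsg.Spor.Co1, K ≤ Cz → Q1 ≤ K →
        (∀ g ∈ Cz, ∀ h ∈ Cz, g ∉ K → h ∉ K → g * h ∈ K) → K = Cz)) :
    ∀ ψ : Cfsg.Spor.Co1 ≃* Cfsg.Spor.Co1, ∃ g : Cfsg.Spor.Co1, ∀ x, ψ x = g * x * g⁻¹ :=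
  Cfsg.Agent.Lib.Helper7.OutCo1CORE.core N1 Cz E1 Q1 T1 z 21 card_T1 not_dvd_card E1_le_T1
    T1_le_N1 E1_conj E1_sq E1_unique E1_normalizer N1_aut z_mem_E1 mem_Cz_iff Q1_le_N1 Q1_le_Cz
    hcz.1 hcz.2.1 hcz.2.2 N1_sup_Cz

end Cfsg.Agent.Lib.Helper9.OutCo1K
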