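import Mathlib

set_option autoImplicit false

/-!
Farm OUTCO1 (statement S2069, `Out(Co₁) = 1`): the two ABSTRACT units, as stubs.
NEVER import this file; copy the statement verbatim into your own file and prove it.

Setting of the concrete part (helper9): `G = Co₁`, `N1 = 2^11 : M24` (maximal), `E = O₂(N1)`,
`M ≅ M24` a complement, `T` a Sylow 2-subgroup of `N1` (and of `G`), `z ∈ E` a 2-central
involution, `Cz = C_G(z) = 2^{1+8}.Ω⁺₈(2)`, `Q = O₂(Cz) ≤ N1`.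
-/

namespace Cfsg.Agent.Lib.Helper9.OutCo1Stubs

/-- Unit AUTN: automorphisms of a split extension `N = E ⋊ M` that preserve `E` are inner, if
`M` is complete-like (`hM`), `E` is rigid (`hE`) and the first cohomology vanishes in the concrete
form `hrig` (an automorphism trivial on `E` and on `N/E` which fixes an element `x0` of prime order
`p ∤ |E|` is trivial). -/
theorem autn {N : Type*} [Group N] [Finite N] (E M : Subgroup N) (hEn : E.Normal)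
    (hdisj : E ⊓ M = ⊥) (hsup : E ⊔ M = ⊤)
    (hEab : ∀ a ∈ E, ∀ b ∈ E, a * b = b * a)
    (hM : ∀ α : ↥M ≃* ↥M, ∃ m : ↥M, ∀ x : ↥M, α x = m * x * m⁻¹)
    (hE : ∀ ψ : N ≃* N, (∀ e ∈ E, ψ e ∈ E) → (∀ m ∈ M, ∃ e ∈ E, ψ m = e * m) →
      ∀ e ∈ E, ψ e = e)
    (p : ℕ) (hp : p.Prime) (x0 : N) (hx0 : x0 ∈ M) (hx0p : orderOf x0 = p)
    (hpE : ¬ p ∣ Nat.card E)
    (hrig : ∀ ψ : N ≃* N, (∀ e ∈ E, ψ e = e) → (∀ m ∈ M, ∃ e ∈ E, ψ m = e * m) → ψ x0 = x0 →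
      ∀ x, ψ x = x) :
    ∀ ψ : N ≃* N, (∀ e ∈ E, ψ e ∈ E) → ∃ n : N, ∀ x, ψ x = n * x * n⁻¹ := by
  sorry

/-- Unit CORE: all automorphisms of `G` are inner, from the 2-local data. -/
theorem core {G : Type*} [Group G] [Finite G] (N1 Cz E Q T : Subgroup G) (z : G)
    (a : ℕ) (hTcard : Nat.card T = 2 ^ a) (hGcard : ¬ 2 ^ (a + 1) ∣ Nat.card G)
    (hET : E ≤ T) (hTN : T ≤ N1)
    (hEN : ∀ n ∈ N1, ∀ e ∈ E, n * e * n⁻¹ ∈ E)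
    (hE2 : ∀ e ∈ E, e * e = 1)
    (hU : ∀ A : Subgroup G, A ≤ T → (∀ t ∈ T, ∀ x ∈ A, t * x * t⁻¹ ∈ A) →
      (∀ x ∈ A, ∀ y ∈ A, x * y = y * x) → (∀ x ∈ A, x * x = 1) → Nat.card A = Nat.card E → A = E)
    (hNE : ∀ g : G, (∀ e ∈ E, g * e * g⁻¹ ∈ E) → g ∈ N1)
    (hAutN : ∀ ψ : ↥N1 ≃* ↥N1, (∀ x : ↥N1, x.1 ∈ E → (ψ x).1 ∈ E) →
      ∃ n : ↥N1, ∀ x, ψ x = n * x * n⁻¹)
    (hzE : z ∈ E) (hCz : ∀ g, g ∈ Cz ↔ g * z = z * g)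
    (hQN : Q ≤ N1) (hQC : Q ≤ Cz) (hQn : ∀ g ∈ Cz, ∀ q ∈ Q, g * q * g⁻¹ ∈ Q)
    (hCQ : ∀ g ∈ Cz, (∀ q ∈ Q, g * q = q * g) → g = 1 ∨ g = z)
    (hidx : ∀ K : Subgroup G, K ≤ Cz → Q ≤ K →
      (∀ g ∈ Cz, ∀ h ∈ Cz, g ∉ K → h ∉ K → g * h ∈ K) → K = Cz)
    (hgen : N1 ⊔ Cz = ⊤) :
    ∀ ψ : G ≃* G, ∃ g : G, ∀ x, ψ x = g * x * g⁻¹ := by
  sorry

end Cfsg.Agent.Lib.Helper9.OutCo1Stubs
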