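import Cfsg.Agent.Lib.Helper9.Co1g

set_option autoImplicit false

/-!
Farm OUTCO1 (statement S2069, `Out(Co₁) = 1`): unit CZ, as a stub. NEVER import this file; copy the
statement verbatim (with the definition of `Q1`, renamed into your namespace) into your own file and
prove it. Everything needed is in `Cfsg.Agent.Lib.Helper9.Co1g` (`Cz`, `Q`, `z`, `Q_normal`,
`Q_extraspecial`, `gfs_eq : generalizedFittingSubgroup ↥Cz = Q`, `quot_simple`, `card_quot_Cz`,
`card_Q`, `z_order`, `f`, `f_surjective`, `nC`, `dC`, `eC`, ...).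
-/

namespace Cfsg.Agent.Lib.Helper9.OutCo1Stubs2

open Cfsg Cfsg.Agent.Lib.Helper9.Co1g

/-- the extraspecial normal subgroup of the involution centraliser, inside `Co₁` -/
def Q1 : Subgroup Cfsg.Spor.Co1 := Q.map (Cz).subtype

/-- Unit CZ: `Q1` is normalised by `Cz`, its centraliser in `Cz` is `{1, z}`, and a subgroup of
`Cz` containing `Q1` whose complement is closed under "product lands inside" (index at most 2) is
all of `Cz` (because `Cz / Q` is simple of order `174182400`). -/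
theorem cz :
    (∀ g ∈ Cz, ∀ q ∈ Q1, g * q * g⁻¹ ∈ Q1) ∧
    (∀ g ∈ Cz, (∀ q ∈ Q1, g * q = q * g) → g = 1 ∨ g = z) ∧
    (∀ K : Subgroup Cfsg.Spor.Co1, K ≤ Cz → Q1 ≤ K →
      (∀ g ∈ Cz, ∀ h ∈ Cz, g ∉ K → h ∉ K → g * h ∈ K) → K = Cz) := by
  sorry

end Cfsg.Agent.Lib.Helper9.OutCo1Stubs2
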