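import Cfsg.Agent.Lib.Helper9.OutH

set_option autoImplicit false

/-! Outer automorphism groups computed from a rigid generating triple: an element of order 29,
an element normalising it, and an element of the centraliser of the square of the latter. -/

namespace Cfsg.Agent.Lib.Helper9.OutJ

open Cfsg.Agent.Lib.Helper9.J1O Cfsg.Agent.Lib.Helper9.GrpCount Cfsg.Agent.Lib.Helper9.OutG
  Cfsg.Agent.Lib.Helper9.OutH

variable {G : Type*} [Group G]

/-- evaluate a word in three generators: letter `0` is `x`, letter `1` is `n`, any other letter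
is `z` -/
def evalG3 (x n z : G) : List ℕ → G
  | [] => 1
  | c :: w => (bif Nat.beq c 0 then x else bif Nat.beq c 1 then n else z) * evalG3 x n z w

theorem evalG3_nil (x n z : G) : evalG3 x n z [] = 1 := rfl

theorem evalG3_cons (x n z : G) (c : ℕ) (w : List ℕ) :
    evalG3 x n z (c :: w) =
      (bif Nat.beq c 0 then x else bif Nat.beq c 1 then n else z) * evalG3 x n z w := rfl

theorem map_evalG3 {H : Type*} [Group H] (f : G →* H) (x n z : G) (w : List ℕ) :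
    f (evalG3 x n z w) = evalG3 (f x) (f n) (f z) w := by
  induction w with
  | nil => exact map_one f
  | cons c w ih =>
    rw [evalG3_cons, evalG3_cons, map_mul, ih]
    congr 1
    cases Nat.beq c 0 <;> cases Nat.beq c 1 <;> simp

/-- the image of an element of order `29` under an automorphism is conjugate to the element or to
its square, when some element conjugates it to its fourth power -/
theorem exists_conj_of_29 [Finite G] (hfac : (Nat.card G).factorization 29 = 1) (x n : G)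
    (hx : x ^ 29 = 1) (hx1 : x ≠ 1) (hn : n * x * n⁻¹ = x ^ 4) (φ : G ≃* G) :
    ∃ g : G, φ x = g * x * g⁻¹ ∨ φ x = g * x ^ 2 * g⁻¹ := by
  haveI : Fact (Nat.Prime 29) := ⟨by norm_num⟩
  have hy : (φ x) ^ 29 = 1 := by rw [← map_pow, hx, map_one]
  have hy1 : φ x ≠ 1 := fun h => hx1 (φ.injective (by rw [h, map_one]))
  obtain ⟨h, j, hj0, hj, e⟩ := exists_conj_pow_of_prime 29 hfac (φ x) x hy hy1 hx hx1
  have key : ∀ (a k : ℕ), (k * 4 ^ a) % 29 = j → φ x = (h * n ^ a) * x ^ k * (h * n ^ a)⁻¹ := by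
    intro a k hak
    have h1 := conj_pow_iter' n x 4 hn a k
    rw [pow_eq_pow_mod (k * 4 ^ a) hx, hak] at h1
    rw [e, ← h1]
    group
  have k1 : ∀ a : ℕ, (1 * 4 ^ a) % 29 = j → ∃ g : G, φ x = g * x * g⁻¹ ∨ φ x = g * x ^ 2 * g⁻¹ := by
    intro a ha
    refine ⟨h * n ^ a, Or.inl ?_⟩
    have := key a 1 ha
    rwa [pow_one] at this
  have k2 : ∀ a : ℕ, (2 * 4 ^ a) % 29 = j → ∃ g : G, φ x = g * x * g⁻¹ ∨ φ x = g * x ^ 2 * g⁻¹ :=
    fun a ha => ⟨h * n ^ a, Or.inr (key a 2 ha)⟩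
  interval_cases j
  · exact k1 0 (by norm_num)
  · exact k2 0 (by norm_num)
  · exact k2 2 (by norm_num)
  · exact k1 1 (by norm_num)
  · exact k1 11 (by norm_num)
  · exact k1 3 (by norm_num)
  · exact k1 6 (by norm_num)
  · exact k2 1 (by norm_num)
  · exact k1 5 (by norm_num)
  · exact k2 11 (by norm_num)
  · exact k2 12 (by norm_num)
  · exact k2 3 (by norm_num)
  · exact k1 9 (by norm_num)
  · exact k2 6 (by norm_num)
  · exact k2 13 (by norm_num)
  · exact k1 2 (by norm_num)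
  · exact k2 10 (by norm_num)
  · exact k2 5 (by norm_num)
  · exact k2 4 (by norm_num)
  · exact k1 12 (by norm_num)
  · exact k2 8 (by norm_num)
  · exact k1 13 (by norm_num)
  · exact k1 10 (by norm_num)
  · exact k1 4 (by norm_num)
  · exact k1 8 (by norm_num)
  · exact k2 9 (by norm_num)
  · exact k2 7 (by norm_num)
  · exact k1 7 (by norm_num)

/-- a group generated by an element `x0` of order 29 with centraliser generated by `x0`, an
element `nn` conjugating `x0` to its fourth power and an element `z` of the centraliser of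
`nn ^ 2`, which is listed, such that no pair of `x0` or `x0 ^ 2` and a listed element other than
`(x0, z)` satisfies with `nn` the relations of the triple, has only inner automorphisms -/
theorem aut_inner_of_triple [Finite G] (hfac : (Nat.card G).factorization 29 = 1)
    (x0 nn z : G) (hx29 : x0 ^ 29 = 1) (hx1 : x0 ≠ 1) (hn : nn * x0 * nn⁻¹ = x0 ^ 4)
    (htop : Subgroup.closure ({x0, nn, z} : Set G) = ⊤)
    (hcx : ∀ y : G, y * x0 = x0 * y → ∃ i : ℕ, y = x0 ^ i)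
    (cu : ℕ → G) (m : ℕ)
    (hcu : ∀ y : G, y * nn ^ 2 = nn ^ 2 * y → ∃ j < m, y = cu j)
    (hzu : z * nn ^ 2 = nn ^ 2 * z)
    (REL : List (List ℕ)) (hrel : ∀ ρ ∈ REL, evalG3 x0 nn z ρ = 1)
    (helim : ∀ k0, (k0 = 1 ∨ k0 = 2) → ∀ j < m,
      (∀ ρ ∈ REL, evalG3 (x0 ^ k0) nn (cu j) ρ = 1) → k0 = 1 ∧ cu j = z)
    (φ : G ≃* G) : ∃ k : G, ∀ g : G, φ g = k * g * k⁻¹ := by
  obtain ⟨g, hg⟩ := exists_conj_of_29 hfac x0 nn hx29 hx1 hn φ
  obtain ⟨k0, hk0, hgk⟩ : ∃ k0, (k0 = 1 ∨ k0 = 2) ∧ φ x0 = g * x0 ^ k0 * g⁻¹ := by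
    rcases hg with h | h
    · exact ⟨1, Or.inl rfl, by rw [pow_one]; exact h⟩
    · exact ⟨2, Or.inr rfl, h⟩
  -- first normalisation
  obtain ⟨ψ1, hψ1⟩ : ∃ ψ : G →* G, ∀ y, ψ y = g⁻¹ * φ y * g :=
    ⟨(MulAut.conj g⁻¹).toMonoidHom.comp φ.toMonoidHom, fun y => by
      show MulAut.conj g⁻¹ (φ y) = _
      rw [MulAut.conj_apply, inv_inv]⟩
  obtain ⟨X, hX⟩ : ∃ X : G, X = x0 ^ k0 := ⟨_, rfl⟩
  have hψ1x : ψ1 x0 = X := by
    rw [hψ1, hgk, hX]
    group
  obtain ⟨n1, hn1⟩ : ∃ n1 : G, n1 = ψ1 nn := ⟨_, rfl⟩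
  have h1 : n1 * X * n1⁻¹ = X ^ 4 := by
    have := congrArg ψ1 hn
    rw [map_mul, map_mul, map_inv, map_pow, hψ1x, ← hn1] at this
    exact this
  have h2 : nn * X * nn⁻¹ = X ^ 4 := by
    rw [hX, ← conj_pow, hn, ← pow_mul, ← pow_mul, mul_comm]
  have e1 : n1 * X = X ^ 4 * n1 := by rw [← h1]; group
  have e2 : nn * X = X ^ 4 * nn := by rw [← h2]; group
  have hc : (nn⁻¹ * n1) * X = X * (nn⁻¹ * n1) := by
    calc nn⁻¹ * n1 * X = nn⁻¹ * (n1 * X) := by group
      _ = nn⁻¹ * (X ^ 4 * n1) := by rw [e1]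
      _ = nn⁻¹ * (X ^ 4 * nn) * (nn⁻¹ * n1) := by group
      _ = nn⁻¹ * (nn * X) * (nn⁻¹ * n1) := by rw [e2]
      _ = X * (nn⁻¹ * n1) := by group
  obtain ⟨e, he⟩ : ∃ e : ℕ, x0 = X ^ e := by
    rcases hk0 with rfl | rfl
    · exact ⟨1, by rw [hX, pow_one, pow_one]⟩
    · refine ⟨15, ?_⟩
      rw [hX, ← pow_mul]
      have : x0 ^ (2 * 15) = x0 ^ 29 * x0 := by rw [← pow_succ]
      rw [this, hx29, one_mul]
  have hc0 : (nn⁻¹ * n1) * x0 = x0 * (nn⁻¹ * n1) := by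
    have hcm : Commute (nn⁻¹ * n1) X := hc
    have := hcm.pow_right e
    rw [← he] at this
    exact this
  obtain ⟨i, hi⟩ := hcx _ hc0
  have hn1' : n1 = nn * x0 ^ i := by rw [← hi]; group
  -- second normalisation
  have hna : ∀ a : ℕ, nn * x0 ^ a = x0 ^ (4 * a) * nn := by
    intro a
    have h3 : (nn * x0 * nn⁻¹) ^ a = nn * x0 ^ a * nn⁻¹ := conj_pow
    rw [hn, ← pow_mul] at h3
    rw [h3]
    group
  have e44 : x0 ^ (4 * (11 * i)) = x0 ^ (11 * i + 4 * i) := by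
    have : 4 * (11 * i) = (11 * i + 4 * i) + 29 * i := by ring
    rw [this, pow_add, pow_mul x0 29, hx29, one_pow, mul_one]
  have hconj : x0 ^ (11 * i) * (nn * x0 ^ i) * (x0 ^ (11 * i))⁻¹ = nn := by
    have a1 := hna i
    have a2 := hna (11 * i)
    rw [e44] at a2
    rw [a1]
    have h4 : x0 ^ (11 * i) * (x0 ^ (4 * i) * nn) = nn * x0 ^ (11 * i) := by
      rw [a2, pow_add]
      group
    rw [h4]
    group
  obtain ⟨k, hk⟩ : ∃ k : G, k = g * (x0 ^ (11 * i))⁻¹ := ⟨_, rfl⟩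
  obtain ⟨ψ, hψ⟩ : ∃ ψ : G →* G, ∀ y, ψ y = k⁻¹ * φ y * k :=
    ⟨(MulAut.conj k⁻¹).toMonoidHom.comp φ.toMonoidHom, fun y => by
      show MulAut.conj k⁻¹ (φ y) = _
      rw [MulAut.conj_apply, inv_inv]⟩
  have hψ' : ∀ y, ψ y = x0 ^ (11 * i) * ψ1 y * (x0 ^ (11 * i))⁻¹ := by
    intro y
    rw [hψ, hψ1, hk]
    group
  have hψx : ψ x0 = x0 ^ k0 := by
    rw [hψ', hψ1x, hX]
    have hcm : Commute (x0 ^ (11 * i)) (x0 ^ k0) := (Commute.refl x0).pow_pow _ _
    rw [hcm.eq]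
    group
  have hψn : ψ nn = nn := by
    rw [hψ', ← hn1, hn1']
    exact hconj
  -- the image of the third generator
  have hcz : ψ z * nn ^ 2 = nn ^ 2 * ψ z := by
    have := congrArg ψ hzu
    rw [map_mul, map_mul, map_pow, hψn] at this
    exact this
  obtain ⟨j, hj, hzj⟩ := hcu _ hcz
  have hrel' : ∀ ρ ∈ REL, evalG3 (x0 ^ k0) nn (cu j) ρ = 1 := by
    intro ρ hρ
    have h5 := map_evalG3 ψ x0 nn z ρ
    rw [hrel ρ hρ, map_one, hψx, hψn, hzj] at h5
    exact h5.symm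
  obtain ⟨rfl, hcz'⟩ := helim k0 hk0 j hj hrel'
  rw [pow_one] at hψx
  refine ⟨k, ?_⟩
  have heq : ψ = MonoidHom.id G := by
    apply hom_eq_of_closure _ htop
    rintro t (rfl | rfl | rfl)
    · rw [hψx]; rfl
    · rw [hψn]; rfl
    · rw [hzj, hcz']; rfl
  intro y
  have h6 : ψ y = y := by rw [heq]; rfl
  rw [hψ] at h6
  calc φ y = k * (k⁻¹ * φ y * k) * k⁻¹ := by group
    _ = k * y * k⁻¹ := by rw [h6]

end Cfsg.Agent.Lib.Helper9.OutJ
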