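import Mathlib
import Cfsg.Agent.Lib.Helper9.Chain1

set_option autoImplicit false

/-! General lemmas on permutation groups used to bound outer automorphism groups: orbits as
finsets, fixed points of elements of prime order, and automorphisms induced by permutations. -/

namespace Cfsg.Agent.Lib.Helper9.OutM

open Finset MulAction

variable {α : Type*} [Fintype α] [DecidableEq α]

/-- the fixed points of a permutation -/
def fixF (x : Equiv.Perm α) : Finset α := univ.filter (fun b => x b = b)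

theorem mem_fixF (x : Equiv.Perm α) (b : α) : b ∈ fixF x ↔ x b = b := by
  unfold fixF
  rw [mem_filter]
  simp

/-- the orbit of a point under a subgroup, as a finset -/
noncomputable def orbF (K : Subgroup (Equiv.Perm α)) (c : α) : Finset α := by
  classical exact univ.filter (fun x => ∃ h ∈ K, h c = x)

theorem mem_orbF (K : Subgroup (Equiv.Perm α)) (c x : α) : x ∈ orbF K c ↔ ∃ h ∈ K, h c = x := by
  classical
  unfold orbF
  rw [mem_filter]
  simp

theorem self_mem_orbF (K : Subgroup (Equiv.Perm α)) (c : α) : c ∈ orbF K c :=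
  (mem_orbF K c c).mpr ⟨1, K.one_mem, rfl⟩

theorem orbF_invariant (K : Subgroup (Equiv.Perm α)) (c : α) (x : Equiv.Perm α) (hx : x ∈ K) :
    ∀ b ∈ orbF K c, x b ∈ orbF K c := by
  intro b hb
  obtain ⟨h, hh, rfl⟩ := (mem_orbF K c b).mp hb
  exact (mem_orbF K c _).mpr ⟨x * h, K.mul_mem hx hh, rfl⟩

/-- orbit-stabilizer -/
theorem card_orbF (K : Subgroup (Equiv.Perm α)) (c : α) :
    Nat.card K = (orbF K c).card * Nat.card ↥(K ⊓ stabilizer (Equiv.Perm α) c) := by
  apply Cfsg.Agent.Lib.Helper9.Chain1.card_step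
  · intro h hh
    exact (mem_orbF K c _).mpr ⟨h, hh, rfl⟩
  · intro x hx
    exact (mem_orbF K c x).mp hx

/-- a point fixed by the whole subgroup does not lie in the orbit of another point -/
theorem notMem_orbF (K : Subgroup (Equiv.Perm α)) (c a : α) (ha : ∀ h ∈ K, h a = a) (hac : a ≠ c) :
    a ∉ orbF K c := by
  intro h
  obtain ⟨g, hg, hga⟩ := (mem_orbF K c a).mp h
  have h1 := ha g hg
  rw [← hga] at h1
  exact hac (hga ▸ (g.injective h1).symm ▸ rfl)

/-- fixed points on an invariant set, modulo `p` -/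
theorem card_modEq_fix (x : Equiv.Perm α) (p : ℕ) [hp : Fact p.Prime] (hx : x ^ p = 1) (B : Finset α)
    (hB : ∀ b ∈ B, x b ∈ B) : B.card ≡ (B ∩ fixF x).card [MOD p] := by
  have hiff : ∀ b, x b ∈ B ↔ b ∈ B := by
    have hsub : B.image x ⊆ B := by
      intro y hy
      obtain ⟨b, hb, rfl⟩ := mem_image.mp hy
      exact hB b hb
    have heq : B.image x = B :=
      eq_of_subset_of_card_le hsub (by rw [card_image_of_injective _ x.injective])
    intro b
    constructor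
    · intro h
      rw [← heq] at h
      obtain ⟨b', hb', hbb'⟩ := mem_image.mp h
      rw [← x.injective hbb']
      exact hb'
    · exact hB b
  let σ : Equiv.Perm {a // a ∈ B} := x.subtypePerm hiff
  have hσ : σ ^ p ^ 1 = 1 := by
    rw [pow_one]
    ext b
    have h1 : ((σ ^ p) b : α) = (x ^ p) b := by
      show ((x.subtypePerm hiff ^ p) b : α) = (x ^ p) b
      rw [Equiv.Perm.subtypePerm_pow]
      rfl
    rw [h1, hx]
    rfl
  have h2 := Equiv.Perm.card_compl_support_modEq hσ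
  rw [Fintype.card_coe] at h2
  have h3 : σ.supportᶜ.card = (B ∩ fixF x).card := by
    apply card_bij (fun b _ => b.1)
    · intro b hb
      rw [mem_compl, Equiv.Perm.mem_support, not_not] at hb
      rw [mem_inter, mem_fixF]
      refine ⟨b.2, ?_⟩
      exact congrArg Subtype.val hb
    · intro b _ b' _ h
      exact Subtype.ext h
    · intro b hb
      rw [mem_inter, mem_fixF] at hb
      refine ⟨⟨b, hb.1⟩, ?_, rfl⟩
      rw [mem_compl, Equiv.Perm.mem_support, not_not]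
      exact Subtype.ext hb.2
  rw [h3] at h2
  exact h2.symm

theorem card_fixF_modEq (x : Equiv.Perm α) (p : ℕ) [hp : Fact p.Prime] (hx : x ^ p = 1) :
    Fintype.card α ≡ (fixF x).card [MOD p] := by
  have := card_modEq_fix x p hx univ (fun b _ => mem_univ _)
  rwa [card_univ, univ_inter] at this

/-! ### automorphisms preserving a point stabilizer are induced by permutations -/

/-- an automorphism of a permutation group preserving the stabilizer of a point is induced by a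
permutation of the points, provided the points outside the orbit are fixed by the whole group -/
theorem exists_perm_of_aut (G : Subgroup (Equiv.Perm α)) (w : α)
    (hout : ∀ x : α, (¬ ∃ g ∈ G, g w = x) → ∀ g ∈ G, g x = x)
    (φ : ↥G ≃* ↥G) (hφ : ∀ g : ↥G, (φ g).1 w = w ↔ g.1 w = w) :
    ∃ π : Equiv.Perm α, (∀ x : α, (¬ ∃ g ∈ G, g w = x) → π x = x) ∧
      ∀ g : ↥G, (φ g).1 = π * g.1 * π⁻¹ := by
  classical
  -- the map on points
  let f : α → α := fun x =>
    if h : ∃ g : ↥G, g.1 w = x then (φ (Classical.choose h)).1 w else x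
  have hf_orb : ∀ g : ↥G, f (g.1 w) = (φ g).1 w := by
    intro g
    have h : ∃ g' : ↥G, g'.1 w = g.1 w := ⟨g, rfl⟩
    show (if h : ∃ g' : ↥G, g'.1 w = g.1 w then (φ (Classical.choose h)).1 w else g.1 w) = _
    rw [dif_pos h]
    have h1 := Classical.choose_spec h
    set g' := Classical.choose h
    have h2 : (g⁻¹ * g').1 w = w := by
      show (g.1⁻¹ * g'.1) w = w
      rw [Equiv.Perm.mul_apply, h1, Cfsg.Agent.Lib.Helper9.Chain1.inv_apply_self']
    have h3 := (hφ (g⁻¹ * g')).mpr h2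
    rw [map_mul, map_inv] at h3
    have h4 : ((φ g).1⁻¹ * (φ g').1) w = w := h3
    rw [Equiv.Perm.mul_apply, Equiv.Perm.inv_eq_iff_eq] at h4
    exact h4
  have hf_out : ∀ x : α, (¬ ∃ g ∈ G, g w = x) → f x = x := by
    intro x hx
    have h : ¬ ∃ g : ↥G, g.1 w = x := by
      rintro ⟨g, hg⟩
      exact hx ⟨g.1, g.2, hg⟩
    show (if h : ∃ g' : ↥G, g'.1 w = x then (φ (Classical.choose h)).1 w else x) = _
    rw [dif_neg h]
  have hf_inj : Function.Injective f := by
    intro x y hxy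
    by_cases hx : ∃ g ∈ G, g w = x
    · obtain ⟨g, hg, rfl⟩ := hx
      by_cases hy : ∃ g ∈ G, g w = y
      · obtain ⟨g', hg', rfl⟩ := hy
        have e1 := hf_orb ⟨g, hg⟩
        have e2 := hf_orb ⟨g', hg'⟩
        simp only at e1 e2
        rw [e1, e2] at hxy
        have h3 : ((φ ⟨g, hg⟩)⁻¹ * φ ⟨g', hg'⟩).1 w = w := by
          show ((φ ⟨g, hg⟩).1⁻¹ * (φ ⟨g', hg'⟩).1) w = w
          rw [Equiv.Perm.mul_apply, ← hxy, Cfsg.Agent.Lib.Helper9.Chain1.inv_apply_self']
        rw [← map_inv, ← map_mul] at h3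
        have h4 := (hφ _).mp h3
        have h5 : (g⁻¹ * g') w = w := h4
        rw [Equiv.Perm.mul_apply, Equiv.Perm.inv_eq_iff_eq] at h5
        exact h5.symm
      · exfalso
        have e1 := hf_orb ⟨g, hg⟩
        simp only at e1
        rw [e1, hf_out y hy] at hxy
        exact hy ⟨(φ ⟨g, hg⟩).1, (φ ⟨g, hg⟩).2, hxy⟩
    · by_cases hy : ∃ g ∈ G, g w = y
      · exfalso
        obtain ⟨g', hg', rfl⟩ := hy
        have e2 := hf_orb ⟨g', hg'⟩
        simp only at e2
        rw [e2, hf_out x hx] at hxy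
        exact hx ⟨(φ ⟨g', hg'⟩).1, (φ ⟨g', hg'⟩).2, hxy.symm⟩
      · rw [hf_out x hx, hf_out y hy] at hxy
        exact hxy
  let π : Equiv.Perm α := Equiv.ofBijective f (Finite.injective_iff_bijective.mp hf_inj)
  have hπ : ∀ x, π x = f x := fun x => rfl
  refine ⟨π, fun x hx => by rw [hπ, hf_out x hx], ?_⟩
  intro g
  rw [eq_mul_inv_iff_mul_eq]
  ext x
  rw [Equiv.Perm.mul_apply, Equiv.Perm.mul_apply, hπ, hπ]
  by_cases hx : ∃ g' ∈ G, g' w = x
  · obtain ⟨g', hg', rfl⟩ := hx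
    have e1 := hf_orb ⟨g', hg'⟩
    have e2 := hf_orb (g * ⟨g', hg'⟩)
    simp only at e1
    have e3 : (g * ⟨g', hg'⟩ : ↥G).1 w = g.1 (g' w) := rfl
    rw [e3] at e2
    rw [e1, e2, map_mul]
    rfl
  · have hx' : ¬ ∃ g' ∈ G, g' w = g.1 x := by
      rintro ⟨g', hg', h⟩
      apply hx
      refine ⟨g.1⁻¹ * g', G.mul_mem (G.inv_mem g.2) hg', ?_⟩
      rw [Equiv.Perm.mul_apply, h, Cfsg.Agent.Lib.Helper9.Chain1.inv_apply_self']
    rw [hf_out x hx, hf_out _ hx', hout x hx _ (φ g).2, hout x hx _ g.2]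

/-- the criterion for all automorphisms to be inner -/
theorem inner_of_perm (G : Subgroup (Equiv.Perm α)) (w : α)
    (hout : ∀ x : α, (¬ ∃ g ∈ G, g w = x) → ∀ g ∈ G, g x = x)
    (hidx : ∀ φ : ↥G ≃* ↥G, ∃ k ∈ G, ∀ g : ↥G, (φ g).1 (k w) = k w ↔ g.1 w = w)
    (hnorm : ∀ π : Equiv.Perm α, (∀ x : α, (¬ ∃ g ∈ G, g w = x) → π x = x) →
      (∀ g ∈ G, π * g * π⁻¹ ∈ G) → π ∈ G)
    (φ : ↥G ≃* ↥G) : ∃ k : ↥G, ∀ g : ↥G, φ g = k * g * k⁻¹ := by
  obtain ⟨k, hk, hkφ⟩ := hidx φ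
  -- the corrected automorphism
  let ψ : ↥G ≃* ↥G := φ.trans (MulAut.conj (⟨k, hk⟩ : ↥G)⁻¹)
  have hψ : ∀ g : ↥G, ψ g = (⟨k, hk⟩ : ↥G)⁻¹ * φ g * ⟨k, hk⟩ := by
    intro g
    show MulAut.conj (⟨k, hk⟩ : ↥G)⁻¹ (φ g) = _
    rw [MulAut.conj_apply, inv_inv]
  have hψw : ∀ g : ↥G, (ψ g).1 w = w ↔ g.1 w = w := by
    intro g
    rw [hψ, ← hkφ g]
    show (k⁻¹ * (φ g).1 * k) w = w ↔ _
    rw [Equiv.Perm.mul_apply, Equiv.Perm.mul_apply, Equiv.Perm.inv_eq_iff_eq]
  obtain ⟨π, hπout, hπ⟩ := exists_perm_of_aut G w hout ψ hψw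
  have hπG : π ∈ G := by
    apply hnorm π hπout
    intro g hg
    rw [← hπ ⟨g, hg⟩]
    exact (ψ ⟨g, hg⟩).2
  refine ⟨⟨k, hk⟩ * ⟨π, hπG⟩, ?_⟩
  intro g
  have h1 : ψ g = ⟨π, hπG⟩ * g * (⟨π, hπG⟩ : ↥G)⁻¹ := Subtype.ext (hπ g)
  rw [hψ] at h1
  have h2 : φ g = ⟨k, hk⟩ * ((⟨k, hk⟩ : ↥G)⁻¹ * φ g * ⟨k, hk⟩) * (⟨k, hk⟩ : ↥G)⁻¹ := by group
  rw [h2, h1]
  group

/-- all automorphisms inner: the outer automorphism group is trivial -/
theorem card_out_eq_one {H : Type*} [Group H]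
    (h : ∀ φ : H ≃* H, ∃ k : H, ∀ g : H, φ g = k * g * k⁻¹) :
    Nat.card (MulAut H ⧸ (MulAut.conj : H →* MulAut H).range) = 1 := by
  have htop : (MulAut.conj : H →* MulAut H).range = ⊤ := by
    rw [eq_top_iff]
    intro φ _
    obtain ⟨k, hk⟩ := h φ
    refine ⟨k, ?_⟩
    ext g
    rw [MulAut.conj_apply, hk g]
  rw [← Subgroup.index_eq_card, htop, Subgroup.index_top]

end Cfsg.Agent.Lib.Helper9.OutM
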