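import Cfsg.Agent.Lib.Helper9.OutM2
import Cfsg.Agent.Lib.Helper9.M24T7

set_option autoImplicit false

/-! Subgroups of `M23` of index 23 and of `M24` of index 24 are point stabilizers. -/

namespace Cfsg.Agent.Lib.Helper9.OutM

open Cfsg Finset MulAction Cfsg.Agent.Lib.Helper9.GolayQR1 Cfsg.Agent.Lib.Helper9.M24T3
open scoped Pointwise

/-- Cauchy's theorem inside a subgroup -/
theorem exists_prime_order {A : Type*} [Group A] (K : Subgroup A) (p : ℕ) [Fact p.Prime]
    (hp : p ∣ Nat.card K) (h0 : Nat.card K ≠ 0) : ∃ x ∈ K, x ≠ 1 ∧ x ^ p = 1 := by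
  haveI : Finite ↥K := Nat.finite_of_card_ne_zero h0
  obtain ⟨x, hx⟩ := exists_prime_orderOf_dvd_card' p hp
  refine ⟨x.1, x.2, ?_, ?_⟩
  · intro h
    have : x = 1 := Subtype.ext h
    rw [this, orderOf_one] at hx
    exact (Fact.out : p.Prime).one_lt.ne hx
  · have := pow_orderOf_eq_one x
    rw [hx] at this
    exact congrArg Subtype.val this

/-- a subgroup of `M24` fixing the points of `F` -/
structure Lvl (K : Subgroup (Equiv.Perm GolayPt)) (F : Finset GolayPt) : Prop where
  le : K ≤ M24
  fix : ∀ g ∈ K, ∀ a ∈ F, g a = a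

theorem Lvl.next {K : Subgroup (Equiv.Perm GolayPt)} {F : Finset GolayPt} (h : Lvl K F)
    (c : GolayPt) : Lvl (K ⊓ stabilizer (Equiv.Perm GolayPt) c) (insert c F) := by
  constructor
  · exact fun g hg => h.le hg.1
  · intro g hg a ha
    rw [mem_insert] at ha
    rcases ha with rfl | ha
    · exact mem_stabilizer_iff.mp hg.2
    · exact h.fix g hg.1 a ha

theorem Lvl.subset_fixF {K : Subgroup (Equiv.Perm GolayPt)} {F : Finset GolayPt} (h : Lvl K F)
    (x : Equiv.Perm GolayPt) (hx : x ∈ K) : F ⊆ fixF x := by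
  intro a ha
  exact (mem_fixF x a).mpr (h.fix x hx a ha)

/-- the fixed points of an element with as many fixed points as the level -/
theorem Lvl.fixF_eq {K : Subgroup (Equiv.Perm GolayPt)} {F : Finset GolayPt} (h : Lvl K F)
    (x : Equiv.Perm GolayPt) (hx : x ∈ K) (hc : (fixF x).card = F.card) : fixF x = F :=
  (eq_of_subset_of_card_le (h.subset_fixF x hx) (le_of_eq hc)).symm

/-- the fixed points of an element with one more fixed point than the level -/
theorem Lvl.fixF_insert {K : Subgroup (Equiv.Perm GolayPt)} {F : Finset GolayPt} (h : Lvl K F)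
    (x : Equiv.Perm GolayPt) (hx : x ∈ K) (hc : (fixF x).card = F.card + 1) :
    ∃ c, c ∉ F ∧ fixF x = insert c F := by
  have hsub := h.subset_fixF x hx
  have h1 : (fixF x \ F).card = 1 := by
    rw [card_sdiff_of_subset hsub, hc]
    omega
  obtain ⟨c, hc'⟩ := card_eq_one.mp h1
  have hcm : c ∈ fixF x \ F := by rw [hc']; exact mem_singleton_self c
  rw [mem_sdiff] at hcm
  refine ⟨c, hcm.2, ?_⟩
  ext a
  rw [mem_insert]
  constructor
  · intro ha
    by_cases haF : a ∈ F
    · exact Or.inr haF
    · left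
      have : a ∈ fixF x \ F := mem_sdiff.mpr ⟨ha, haF⟩
      rw [hc', mem_singleton] at this
      exact this
  · rintro (rfl | ha)
    · exact hcm.1
    · exact hsub ha

theorem Lvl.orb_disjoint {K : Subgroup (Equiv.Perm GolayPt)} {F : Finset GolayPt} (h : Lvl K F)
    (c : GolayPt) (hc : c ∉ F) : Disjoint (orbF K c) F := by
  rw [disjoint_left]
  intro a ha haF
  exact notMem_orbF K c a (fun g hg => h.fix g hg a haF) (fun e => hc (e ▸ haF)) ha

theorem Lvl.orb_card_le {K : Subgroup (Equiv.Perm GolayPt)} {F : Finset GolayPt} (h : Lvl K F)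
    (c : GolayPt) (hc : c ∉ F) : (orbF K c).card + F.card ≤ 24 := by
  rw [← card_union_of_disjoint (h.orb_disjoint c hc), ← Cfsg.Agent.Lib.Helper9.GolayQR5.card_golayPt]
  exact card_le_univ _

theorem orb_card_pos (K : Subgroup (Equiv.Perm GolayPt)) (c : GolayPt) : 0 < (orbF K c).card :=
  card_pos.mpr ⟨c, self_mem_orbF K c⟩

/-- an element whose fixed points are those of the level: the orbit has size divisible by `p` -/
theorem Lvl.orb_mod_zero {K : Subgroup (Equiv.Perm GolayPt)} {F : Finset GolayPt} (h : Lvl K F)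
    (c : GolayPt) (hc : c ∉ F) (x : Equiv.Perm GolayPt) (hx : x ∈ K) (p : ℕ) [Fact p.Prime]
    (hxp : x ^ p = 1) (hfix : fixF x = F) : (orbF K c).card % p = 0 := by
  have h1 := card_modEq_fix x p hxp (orbF K c) (orbF_invariant K c x hx)
  rw [hfix, disjoint_iff_inter_eq_empty.mp (h.orb_disjoint c hc), card_empty] at h1
  exact h1

/-- an element fixing just `c` beyond the level: the orbit of `c` has size `1` modulo `p` -/
theorem Lvl.orb_mod_one {K : Subgroup (Equiv.Perm GolayPt)} {F : Finset GolayPt} (h : Lvl K F)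
    (c : GolayPt) (hc : c ∉ F) (x : Equiv.Perm GolayPt) (hx : x ∈ K) (p : ℕ) [Fact p.Prime]
    (hxp : x ^ p = 1) (hfix : fixF x = insert c F) : (orbF K c).card % p = 1 % p := by
  have h1 := card_modEq_fix x p hxp (orbF K c) (orbF_invariant K c x hx)
  have h2 : orbF K c ∩ fixF x = {c} := by
    rw [hfix]
    ext a
    rw [mem_inter, mem_insert, mem_singleton]
    constructor
    · rintro ⟨h3, rfl | h4⟩
      · rfl
      · exact absurd h4 (disjoint_left.mp (h.orb_disjoint c hc) h3)
    · rintro rfl
      exact ⟨self_mem_orbF K a, Or.inl rfl⟩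
  rw [h2, card_singleton] at h1
  exact h1

/-- an orbit of size one: the point is fixed -/
theorem fixed_of_orb_one (K : Subgroup (Equiv.Perm GolayPt)) (c : GolayPt)
    (h : (orbF K c).card = 1) : ∀ g ∈ K, g c = c := by
  intro g hg
  obtain ⟨a, ha⟩ := card_eq_one.mp h
  have h1 : g c ∈ orbF K c := (mem_orbF K c _).mpr ⟨g, hg, rfl⟩
  have h2 := self_mem_orbF K c
  rw [ha, mem_singleton] at h1 h2
  rw [h1, h2]

/-! ### subgroups of index 23 in `M23` -/

theorem index23 (H : Subgroup (Equiv.Perm GolayPt)) (hH : H ≤ Spor.M23)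
    (hc : Nat.card H = 443520) : ∃ a, a ≠ none ∧ H = fixL M24 [none, a] := by
  haveI : Fact (Nat.Prime 11) := ⟨by norm_num⟩
  haveI : Fact (Nat.Prime 7) := ⟨by norm_num⟩
  have hL : Lvl H {none} := by
    constructor
    · exact fun g hg => (Subgroup.mem_inf.mp (hH hg)).1
    · intro g hg a ha
      rw [mem_singleton] at ha
      rw [ha]
      exact mem_stabilizer_iff.mp (Subgroup.mem_inf.mp (hH hg)).2
  obtain ⟨x, hx, hx1, hx11⟩ := exists_prime_order H 11 (by rw [hc]; norm_num) (by rw [hc]; norm_num)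
  obtain ⟨y, hy, hy1, hy7⟩ := exists_prime_order H 7 (by rw [hc]; norm_num) (by rw [hc]; norm_num)
  have hfx := card_fixF_prime x (hL.le hx) hx1 11 (by norm_num) hx11
  have hfy := card_fixF_prime y (hL.le hy) hy1 7 (by norm_num) hy7
  obtain ⟨f, hfF, hfix⟩ := hL.fixF_insert x hx (by rw [hfx, card_singleton])
  have hfn : f ≠ none := fun e => hfF (by rw [e]; exact mem_singleton_self _)
  have h1 := hL.orb_mod_one f hfF x hx 11 hx11 hfix
  have h2 := hL.orb_card_le f hfF
  rw [card_singleton] at h2
  have h3 := orb_card_pos H f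
  have h4 := card_orbF H f
  rw [hc] at h4
  -- fixed points of `y` in the orbit
  have h5 := card_modEq_fix y 7 hy7 (orbF H f) (orbF_invariant H f y hy)
  have h6 : (orbF H f ∩ fixF y).card ≤ 2 := by
    have hsub : orbF H f ∩ fixF y ⊆ fixF y \ {none} := by
      intro a ha
      rw [mem_inter] at ha
      rw [mem_sdiff]
      exact ⟨ha.2, fun hn => disjoint_left.mp (hL.orb_disjoint f hfF) ha.1 hn⟩
    have := card_le_card hsub
    rw [card_sdiff_of_subset (hL.subset_fixF y hy), hfy, card_singleton] at this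
    exact this
  unfold Nat.ModEq at h5
  have hcases : (orbF H f).card = 1 ∨ (orbF H f).card = 12 ∨ (orbF H f).card = 23 := by omega
  have hone : (orbF H f).card = 1 := by
    rcases hcases with h | h | h
    · exact h
    · exfalso
      rw [h] at h5
      omega
    · exfalso
      rw [h] at h4
      omega
  have hfixf := fixed_of_orb_one H f hone
  refine ⟨f, hfn, ?_⟩
  have hle : H ≤ fixL M24 [none, f] := by
    intro g hg
    refine ⟨hL.le hg, ?_⟩
    intro b hb
    simp only [List.mem_cons, List.not_mem_nil, or_false] at hb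
    rcases hb with rfl | rfl
    · exact hL.fix g hg none (mem_singleton_self _)
    · exact hfixf g hg
  have hcard := Cfsg.Agent.Lib.Helper9.M24T7.card_fix_two none f (Ne.symm hfn)
  haveI : Finite ↥(fixL M24 [none, f]) := Nat.finite_of_card_ne_zero (by rw [hcard]; norm_num)
  exact Subgroup.eq_of_le_of_card_ge hle (by rw [hcard, hc])

end Cfsg.Agent.Lib.Helper9.OutM
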