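import Cfsg.Agent.Lib.Helper9.OutM3

set_option autoImplicit false

/-! Subgroups of `M24` of index 24 are point stabilizers. -/

namespace Cfsg.Agent.Lib.Helper9.OutM

open Cfsg Finset MulAction Cfsg.Agent.Lib.Helper9.GolayQR1 Cfsg.Agent.Lib.Helper9.M24T3
open scoped Pointwise

theorem fact_pow (p : ℕ) (hp : p.Prime) {k m : ℕ} (hm : ¬ p ∣ m) :
    (p ^ k * m).factorization p = k := by
  have hm0 : m ≠ 0 := by
    rintro rfl
    exact hm (dvd_zero p)
  rw [Nat.factorization_mul (pow_ne_zero _ hp.ne_zero) hm0, Finsupp.add_apply,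
    Nat.Prime.factorization_pow hp, Finsupp.single_eq_same,
    Nat.factorization_eq_zero_of_not_dvd hm, add_zero]

/-- in a group of order 40 an element of order 5 commutes with an involution -/
theorem exists_involution_commute {G : Type*} [Group G] (hG : Nat.card G = 40) (s : G)
    (hs5 : s ^ 5 = 1) : ∃ u : G, u ≠ 1 ∧ u ^ 2 = 1 ∧ u * s = s * u := by
  haveI : Finite G := Nat.finite_of_card_ne_zero (by rw [hG]; norm_num)
  haveI : Fact (Nat.Prime 5) := ⟨by norm_num⟩
  haveI : Fact (Nat.Prime 2) := ⟨by norm_num⟩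
  have hZ : IsPGroup 5 (Subgroup.zpowers s) := by
    rintro ⟨x, hx⟩
    obtain ⟨i, rfl⟩ := Subgroup.mem_zpowers_iff.mp hx
    refine ⟨1, Subtype.ext ?_⟩
    show (s ^ i) ^ 5 ^ 1 = 1
    rw [pow_one, ← zpow_natCast, ← zpow_mul, mul_comm, zpow_mul, zpow_natCast, hs5, one_zpow]
  obtain ⟨P, hP⟩ := hZ.exists_le_sylow
  have hsP : s ∈ (P : Subgroup G) := hP (Subgroup.mem_zpowers s)
  have hPc : Nat.card (P : Subgroup G) = 5 := by
    rw [Sylow.card_eq_multiplicity P, hG, show (40 : ℕ) = 5 ^ 1 * 8 by norm_num,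
      fact_pow 5 (by norm_num) (by norm_num)]
    norm_num
  have hidx : (P : Subgroup G).index = 8 := by
    have := (P : Subgroup G).index_mul_card
    rw [hPc, hG] at this
    omega
  have hn1 : Nat.card (Sylow 5 G) = 1 := by
    have h1 := card_sylow_modEq_one 5 G
    have h2 := Sylow.card_dvd_index P
    rw [hidx] at h2
    have h3 := Nat.le_of_dvd (by norm_num) h2
    unfold Nat.ModEq at h1
    have h4 : Nat.card (Sylow 5 G) ≠ 0 := Nat.card_pos.ne'
    interval_cases (Nat.card (Sylow 5 G)) <;> simp_all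
  haveI : Subsingleton (Sylow 5 G) := (Nat.card_eq_one_iff_unique.mp hn1).1
  haveI hN : (P : Subgroup G).Normal := Sylow.normal_of_subsingleton P
  obtain ⟨T, hT⟩ := Sylow.exists_subgroup_card_pow_prime 2 (n := 3) (G := G)
    (by rw [hG]; norm_num)
  -- pigeonhole
  have e1 : ((P : Subgroup G) : Set G).ncard = 5 := by
    rw [← Nat.card_coe_set_eq]
    exact hPc
  have e2 : (T : Set G).ncard = 8 := by
    rw [← Nat.card_coe_set_eq]
    exact hT
  have hnc : (((P : Subgroup G) : Set G) \ {1}).ncard < (T : Set G).ncard := by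
    rw [Set.ncard_diff_singleton_of_mem (Subgroup.one_mem _), e1, e2]
    norm_num
  have hs1' : ∀ t : G, t * s * t⁻¹ = 1 → s = 1 := by
    intro t h
    have : s = t⁻¹ * (t * s * t⁻¹) * t := by group
    rw [this, h]
    group
  by_cases hs1 : s = 1
  · -- trivial case: any involution works
    obtain ⟨u, hu⟩ := exists_prime_orderOf_dvd_card' (G := G) 2 (by rw [hG]; norm_num)
    refine ⟨u, ?_, ?_, ?_⟩
    · intro h
      rw [h, orderOf_one] at hu
      norm_num at hu
    · rw [← hu]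
      exact pow_orderOf_eq_one u
    · rw [hs1, mul_one, one_mul]
  obtain ⟨t1, ht1, t2, ht2, hne, heq⟩ := Set.exists_ne_map_eq_of_ncard_lt_of_maps_to hnc
    (f := fun t => t * s * t⁻¹) (fun t _ => by
      refine ⟨hN.conj_mem s hsP t, ?_⟩
      intro h
      exact hs1 (hs1' t h))
  have heq' : t1 * s * t1⁻¹ = t2 * s * t2⁻¹ := heq
  -- the element `v = t2⁻¹ t1` commutes with `s`
  have hv1 : t2⁻¹ * t1 ≠ 1 := by
    intro h
    apply hne
    have : t1 = t2 * (t2⁻¹ * t1) := by group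
    rw [this, h, mul_one]
  have hvT : t2⁻¹ * t1 ∈ T := T.mul_mem (T.inv_mem ht2) ht1
  have hvs : (t2⁻¹ * t1) * s = s * (t2⁻¹ * t1) := by
    have h1 : t2⁻¹ * (t1 * s * t1⁻¹) * t1 = t2⁻¹ * (t2 * s * t2⁻¹) * t1 := by rw [heq']
    have h2 : t2⁻¹ * (t1 * s * t1⁻¹) * t1 = (t2⁻¹ * t1) * s := by group
    have h3 : t2⁻¹ * (t2 * s * t2⁻¹) * t1 = s * (t2⁻¹ * t1) := by group
    rw [← h2, ← h3, h1]
  have hv8 : (t2⁻¹ * t1) ^ 8 = 1 := by
    haveI : Finite ↥T := Nat.finite_of_card_ne_zero (by rw [hT]; norm_num)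
    have h1 : (⟨t2⁻¹ * t1, hvT⟩ : ↥T) ^ Nat.card ↥T = 1 := pow_card_eq_one'
    rw [hT] at h1
    have h2 := congrArg Subtype.val h1
    simpa using h2
  set v := t2⁻¹ * t1 with hv
  have hcomm : ∀ n : ℕ, v ^ n * s = s * v ^ n := by
    intro n
    exact ((Commute.pow_left (show Commute v s from hvs) n)).eq
  by_cases h4 : v ^ 4 = 1
  · by_cases h2 : v ^ 2 = 1
    · exact ⟨v, hv1, h2, hvs⟩
    · refine ⟨v ^ 2, h2, ?_, hcomm 2⟩
      rw [← pow_mul]
      exact h4
  · refine ⟨v ^ 4, h4, ?_, hcomm 4⟩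
    rw [← pow_mul]
    exact hv8

/-- no subgroup of `M24` of order 40 fixes four points -/
theorem no_forty (K : Subgroup (Equiv.Perm GolayPt)) (F : Finset GolayPt) (hL : Lvl K F)
    (hF : F.card = 4) (hc : Nat.card K = 40) : False := by
  haveI : Fact (Nat.Prime 5) := ⟨by norm_num⟩
  obtain ⟨s, hs, hs1, hs5⟩ := exists_prime_order K 5 (by rw [hc]; norm_num) (by rw [hc]; norm_num)
  have hfs := card_fixF_prime s (hL.le hs) hs1 5 (by norm_num) hs5
  have hfixs : fixF s = F := hL.fixF_eq s hs (by rw [hfs, hF])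
  obtain ⟨u, hu1, hu2, hus⟩ := exists_involution_commute hc (⟨s, hs⟩ : ↥K)
    (Subtype.ext (by simpa using hs5))
  have hu1' : u.1 ≠ 1 := fun h => hu1 (Subtype.ext h)
  have hu2' : u.1 ^ 2 = 1 := by
    have := congrArg Subtype.val hu2
    simpa using this
  have hus' : u.1 * s = s * u.1 := congrArg Subtype.val hus
  have hcard := card_fixF_involution u.1 (hL.le u.2) hu2' hu1'
  have hsub := hL.subset_fixF u.1 u.2
  have h4 : 4 ≤ (fixF u.1).card := by
    rw [← hF]
    exact card_le_card hsub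
  have h8 : (fixF u.1).card = 8 := by omega
  -- `s` preserves the fixed points of `u`
  have hinv : ∀ b ∈ fixF u.1, s b ∈ fixF u.1 := by
    intro b hb
    rw [mem_fixF] at hb ⊢
    have : (u.1 * s) b = (s * u.1) b := by rw [hus']
    rw [Equiv.Perm.mul_apply, Equiv.Perm.mul_apply, hb] at this
    exact this
  have hmod := card_modEq_fix s 5 hs5 (fixF u.1) hinv
  rw [hfixs, inter_eq_right.mpr hsub, h8, hF] at hmod
  exact absurd hmod (by decide)

/-- subgroups of `M24` of index 24 are point stabilizers -/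
theorem index24 (H : Subgroup (Equiv.Perm GolayPt)) (hH : H ≤ M24)
    (hc : Nat.card H = 10200960) : ∃ a, H = fixL M24 [a] := by
  haveI : Fact (Nat.Prime 23) := ⟨by norm_num⟩
  haveI : Fact (Nat.Prime 11) := ⟨by norm_num⟩
  haveI : Fact (Nat.Prime 7) := ⟨by norm_num⟩
  haveI : Fact (Nat.Prime 5) := ⟨by norm_num⟩
  have hL0 : Lvl H ∅ := ⟨hH, fun g _ a ha => absurd ha (notMem_empty a)⟩
  -- level 0
  obtain ⟨x0, hx0, hx01, hx0p⟩ := exists_prime_order H 23 (by rw [hc]; norm_num)
    (by rw [hc]; norm_num)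
  have hf0 := card_fixF_prime x0 (hL0.le hx0) hx01 23 (by norm_num) hx0p
  obtain ⟨f, hfF, hfix0⟩ := hL0.fixF_insert x0 hx0 (by rw [hf0, card_empty])
  have h1 := hL0.orb_mod_one f hfF x0 hx0 23 hx0p hfix0
  have h2 := hL0.orb_card_le f hfF
  rw [card_empty] at h2
  have h3 := orb_card_pos H f
  have h4 := card_orbF H f
  rw [hc] at h4
  have hcases : (orbF H f).card = 1 ∨ (orbF H f).card = 24 := by omega
  rcases hcases with hone | h24
  · -- `H` fixes `f`
    have hfixf := fixed_of_orb_one H f hone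
    refine ⟨f, ?_⟩
    have hle : H ≤ fixL M24 [f] := by
      intro g hg
      refine ⟨hL0.le hg, ?_⟩
      intro b hb
      rw [List.mem_singleton] at hb
      rw [hb]
      exact hfixf g hg
    have hcard := Cfsg.Agent.Lib.Helper9.M24T7.card_fix_point f
    haveI : Finite ↥(fixL M24 [f]) := Nat.finite_of_card_ne_zero (by rw [hcard]; norm_num)
    exact Subgroup.eq_of_le_of_card_ge hle (by rw [hcard, hc])
  · exfalso
    -- level 1
    rw [h24] at h4
    have hK1 : Nat.card ↥(H ⊓ stabilizer (Equiv.Perm GolayPt) f) = 425040 := by omega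
    have hL1 := hL0.next f
    set K1 := H ⊓ stabilizer (Equiv.Perm GolayPt) f with hK1def
    have hF1 : (insert f (∅ : Finset GolayPt)).card = 1 := by simp
    obtain ⟨x1, hx1, hx11, hx1p⟩ := exists_prime_order K1 23 (by rw [hK1]; norm_num)
      (by rw [hK1]; norm_num)
    have hf1 := card_fixF_prime x1 (hL1.le hx1) hx11 23 (by norm_num) hx1p
    have hfix1 := hL1.fixF_eq x1 hx1 (by rw [hf1, hF1])
    obtain ⟨b, hbF⟩ : ∃ b : GolayPt, b ∉ insert f (∅ : Finset GolayPt) := by
      by_cases hfn : f = none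
      · exact ⟨some 0, by rw [hfn]; simp⟩
      · exact ⟨none, by simpa using Ne.symm hfn⟩
    have g1 := hL1.orb_mod_zero b hbF x1 hx1 23 hx1p hfix1
    have g2 := hL1.orb_card_le b hbF
    rw [hF1] at g2
    have g3 := orb_card_pos K1 b
    have g4 := card_orbF K1 b
    rw [hK1] at g4
    have g5 : (orbF K1 b).card = 23 := by omega
    rw [g5] at g4
    have hK2 : Nat.card ↥(K1 ⊓ stabilizer (Equiv.Perm GolayPt) b) = 18480 := by omega
    -- level 2
    have hL2 := hL1.next b
    set K2 := K1 ⊓ stabilizer (Equiv.Perm GolayPt) b with hK2def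
    have hF2 : (insert b (insert f (∅ : Finset GolayPt))).card = 2 := by
      rw [card_insert_of_notMem hbF, hF1]
    obtain ⟨x2, hx2, hx21, hx2p⟩ := exists_prime_order K2 11 (by rw [hK2]; norm_num)
      (by rw [hK2]; norm_num)
    obtain ⟨y2, hy2, hy21, hy2p⟩ := exists_prime_order K2 7 (by rw [hK2]; norm_num)
      (by rw [hK2]; norm_num)
    have hfx2 := card_fixF_prime x2 (hL2.le hx2) hx21 11 (by norm_num) hx2p
    have hfy2 := card_fixF_prime y2 (hL2.le hy2) hy21 7 (by norm_num) hy2p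
    have hfixx2 := hL2.fixF_eq x2 hx2 (by rw [hfx2, hF2])
    obtain ⟨c, hcF, hfixy2⟩ := hL2.fixF_insert y2 hy2 (by rw [hfy2, hF2])
    have k1 := hL2.orb_mod_zero c hcF x2 hx2 11 hx2p hfixx2
    have k2 := hL2.orb_mod_one c hcF y2 hy2 7 hy2p hfixy2
    have k3 := hL2.orb_card_le c hcF
    rw [hF2] at k3
    have k4 := orb_card_pos K2 c
    have k5 := card_orbF K2 c
    rw [hK2] at k5
    have k6 : (orbF K2 c).card = 22 := by omega
    rw [k6] at k5
    have hK3 : Nat.card ↥(K2 ⊓ stabilizer (Equiv.Perm GolayPt) c) = 840 := by omega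
    -- level 3
    have hL3 := hL2.next c
    set K3 := K2 ⊓ stabilizer (Equiv.Perm GolayPt) c with hK3def
    have hF3 : (insert c (insert b (insert f (∅ : Finset GolayPt)))).card = 3 := by
      rw [card_insert_of_notMem hcF, hF2]
    obtain ⟨x3, hx3, hx31, hx3p⟩ := exists_prime_order K3 7 (by rw [hK3]; norm_num)
      (by rw [hK3]; norm_num)
    obtain ⟨y3, hy3, hy31, hy3p⟩ := exists_prime_order K3 5 (by rw [hK3]; norm_num)
      (by rw [hK3]; norm_num)
    have hfx3 := card_fixF_prime x3 (hL3.le hx3) hx31 7 (by norm_num) hx3p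
    have hfy3 := card_fixF_prime y3 (hL3.le hy3) hy31 5 (by norm_num) hy3p
    have hfixx3 := hL3.fixF_eq x3 hx3 (by rw [hfx3, hF3])
    obtain ⟨d, hdF, hfixy3⟩ := hL3.fixF_insert y3 hy3 (by rw [hfy3, hF3])
    have m1 := hL3.orb_mod_zero d hdF x3 hx3 7 hx3p hfixx3
    have m2 := hL3.orb_mod_one d hdF y3 hy3 5 hy3p hfixy3
    have m3 := hL3.orb_card_le d hdF
    rw [hF3] at m3
    have m4 := orb_card_pos K3 d
    have m5 := card_orbF K3 d
    rw [hK3] at m5
    have m6 : (orbF K3 d).card = 21 := by omega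
    rw [m6] at m5
    have hK4 : Nat.card ↥(K3 ⊓ stabilizer (Equiv.Perm GolayPt) d) = 40 := by omega
    -- level 4
    have hL4 := hL3.next d
    have hF4 : (insert d (insert c (insert b (insert f (∅ : Finset GolayPt))))).card = 4 := by
      rw [card_insert_of_notMem hdF, hF3]
    exact no_forty _ _ hL4 hF4 hK4

end Cfsg.Agent.Lib.Helper9.OutM
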