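import Cfsg.Agent.Lib.Helper9.OutM4
import Cfsg.Agent.Lib.Helper9.M24T6
import Cfsg.Agent.Lib.Helper9.Syl2M23b
import Cfsg.Prelude.Def_KGroupFacts

set_option autoImplicit false

/-! Every automorphism of `M23` and of `M24` is inner. -/

namespace Cfsg.Agent.Lib.Helper9.OutM

open Cfsg Finset MulAction Cfsg.Agent.Lib.Helper9.Golay1 Cfsg.Agent.Lib.Helper9.GolayQR1
  Cfsg.Agent.Lib.Helper9.GolayQR2 Cfsg.Agent.Lib.Helper9.GolayQR3
  Cfsg.Agent.Lib.Helper9.GolayM24a Cfsg.Agent.Lib.Helper9.GolayM24c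
  Cfsg.Agent.Lib.Helper9.M24T1 Cfsg.Agent.Lib.Helper9.M24U1
  Cfsg.Agent.Lib.Helper9.M24T3 Cfsg.Agent.Lib.Helper9.M24T5 Cfsg.Agent.Lib.Helper9.M24T6
  Cfsg.Agent.Lib.Helper9.M24T7
open scoped Pointwise

/-! ### the image of a subgroup under an automorphism -/

theorem image_subgroup {α : Type*} (G : Subgroup (Equiv.Perm α)) (φ : ↥G ≃* ↥G)
    (H0 : Subgroup (Equiv.Perm α)) (hH0 : H0 ≤ G) :
    ∃ H' : Subgroup (Equiv.Perm α), H' ≤ G ∧ Nat.card H' = Nat.card H0 ∧
      ∀ g : ↥G, (φ g).1 ∈ H' ↔ g.1 ∈ H0 := by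
  let f : ↥G →* Equiv.Perm α := G.subtype.comp φ.toMonoidHom
  have hf : Function.Injective f := fun a b h => φ.injective (Subtype.ext h)
  refine ⟨(H0.subgroupOf G).map f, ?_, ?_, ?_⟩
  · rintro x ⟨g, -, rfl⟩
    exact (φ g).2
  · rw [Subgroup.card_map_of_injective hf]
    exact Nat.card_congr (Subgroup.subgroupOfEquivOfLe hH0).toEquiv
  · intro g
    constructor
    · rintro ⟨g', hg', h⟩
      have : g' = g := hf h
      rw [← this]
      exact hg'
    · intro h
      exact ⟨g, h, rfl⟩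

/-! ### the involution fixing an octad -/

/-- the central involution of the explicit Sylow `2`-subgroup of `M24` -/
abbrev z0 : Equiv.Perm GolayPt := Cfsg.Agent.Lib.Helper9.Syl2M24.c0

theorem z0_sq : z0 ^ 2 = 1 := by
  rw [pow_two]
  apply Equiv.ext
  decide +kernel

theorem z0_ne : z0 ≠ 1 := by
  intro h
  have : z0 (some 0) = some 0 := by rw [h]; rfl
  revert this
  decide +kernel

theorem z0_fix : z0 (some 3) = some 3 := by decide +kernel

theorem fixF_z0 : fixF z0 ∈ octads := by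
  rcases fixF_involution z0 Cfsg.Agent.Lib.Helper9.Syl2M24.c0_mem z0_sq z0_ne with h | h
  · exfalso
    have : (some 3 : GolayPt) ∈ fixF z0 := (mem_fixF _ _).mpr z0_fix
    rw [h] at this
    exact absurd this (notMem_empty _)
  · exact h

theorem conj_sq {A : Type*} [Group A] (g z : A) (hz : z ^ 2 = 1) : (g * z * g⁻¹) ^ 2 = 1 := by
  rw [pow_two]
  have : g * z * g⁻¹ * (g * z * g⁻¹) = g * (z * z) * g⁻¹ := by group
  rw [this, ← pow_two, hz]
  group

theorem conj_ne {A : Type*} [Group A] (g z : A) (hz : z ≠ 1) : g * z * g⁻¹ ≠ 1 := by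
  intro h
  apply hz
  have : z = g⁻¹ * (g * z * g⁻¹) * g := by group
  rw [this, h]
  group

/-- every octad is the set of fixed points of an involution of `M24` -/
theorem exists_involution_fix (O : Finset GolayPt) (hO : O ∈ octads) :
    ∃ z ∈ M24, z ^ 2 = 1 ∧ z ≠ 1 ∧ fixF z = O := by
  obtain ⟨g, hg, hgO⟩ := octad_transitive (fixF z0) O fixF_z0 hO
  refine ⟨g * z0 * g⁻¹, M24.mul_mem (M24.mul_mem hg Cfsg.Agent.Lib.Helper9.Syl2M24.c0_mem)
    (M24.inv_mem hg), conj_sq g z0 z0_sq, conj_ne g z0 z0_ne, ?_⟩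
  rw [fixF_conj, hgO]

/-- a permutation conjugating the involution of an octad into `M24` maps the octad to an octad -/
theorem smul_octad_of_conj (π : Equiv.Perm GolayPt) (z : Equiv.Perm GolayPt) (hz2 : z ^ 2 = 1)
    (hz1 : z ≠ 1) (O : Finset GolayPt) (hO : O ∈ octads) (hfix : fixF z = O)
    (hπ : π * z * π⁻¹ ∈ M24) : π • O ∈ octads := by
  rcases fixF_involution _ hπ (conj_sq π z hz2) (conj_ne π z hz1) with h | h
  · exfalso
    rw [fixF_conj, hfix] at h
    have h8 : O.card = 8 := hO.2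
    have : (π • O).card = 8 := by rw [Finset.card_smul_finset, h8]
    rw [h, card_empty] at this
    omega
  · rw [fixF_conj, hfix] at h
    exact h

/-! ### the normalizer of `M24` -/

theorem mem_M24_of_normalizes (π : Equiv.Perm GolayPt) (hπ : ∀ g ∈ M24, π * g * π⁻¹ ∈ M24) :
    π ∈ M24 := by
  have hmap : ∀ O ∈ octads, π • O ∈ octads := by
    intro O hO
    obtain ⟨z, hz, hz2, hz1, hfix⟩ := exists_involution_fix O hO
    exact smul_octad_of_conj π z hz2 hz1 O hO hfix (hπ z hz)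
  rw [M24_eq_aut_octads, MulAction.mem_stabilizer_iff]
  have hsub : π • octads ⊆ octads := by
    rintro _ ⟨O, hO, rfl⟩
    exact hmap O hO
  have hfin : (octads : Set (Finset GolayPt)).Finite := Set.toFinite _
  apply Set.eq_of_subset_of_ncard_le hsub _ hfin
  rw [Set.ncard_smul_set]

/-! ### octads through the extra point span the code -/

/-- twelve octads through the extra point -/
def om (i : Fin 12) : ℕ :=
  [8391797, 11669008, 13148440, 9748745, 11548936, 8849458, 8471941, 14709264, 8431757, 8407702,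
    8398155, 8394986].getD i.val 0

theorem om_oct : ∀ i : Fin 12, Cfsg.Agent.Lib.Helper9.M24F2.isOctF (om i) = true := by
  decide +kernel

theorem om_inf : ∀ i : Fin 12, (om i).testBit 23 = true := by decide +kernel

theorem om_mem (i : Fin 12) : dec (om i) ∈ golayCode := by
  have h := Cfsg.Agent.Lib.Helper9.M24F2.isOctF_sound _ (om_oct i)
  obtain ⟨⟨w, hw, hws⟩, -⟩ := h
  have : dec (om i) = w := by
    rw [← supp_eq_iff, supp_eq_support₂ w, hws]
    rfl
  rw [this]
  exact hw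

theorem span_om : Submodule.span (ZMod 2) (Set.range (fun i : Fin 12 => dec (om i))) = golayCode := by
  apply le_antisymm
  · rw [Submodule.span_le]
    rintro _ ⟨i, rfl⟩
    exact om_mem i
  · rw [golayCode_eq_span, Submodule.span_le]
    have hm : ∀ i : Fin 12, dec (om i) ∈
        Submodule.span (ZMod 2) (Set.range (fun i : Fin 12 => dec (om i))) :=
      fun i => Submodule.subset_span ⟨i, rfl⟩
    have hx : ∀ a b : ℕ, dec a ∈ Submodule.span (ZMod 2) (Set.range (fun i : Fin 12 => dec (om i))) →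
        dec b ∈ Submodule.span (ZMod 2) (Set.range (fun i : Fin 12 => dec (om i))) →
        dec (a ^^^ b) ∈ Submodule.span (ZMod 2) (Set.range (fun i : Fin 12 => dec (om i))) := by
      intro a b ha hb
      rw [dec_xor]
      exact Submodule.add_mem _ ha hb
    rintro _ ⟨j, rfl⟩
    unfold bw
    fin_cases j
    · have e : bmask 0 = om 0 ^^^ om 11 := by decide +kernel
      show dec (bmask 0) ∈ _
      rw [e]
      exact hx _ _ (hm 0) (hm 11)
    · have e : bmask 1 = om 0 ^^^ om 10 := by decide +kernel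
      show dec (bmask 1) ∈ _
      rw [e]
      exact hx _ _ (hm 0) (hm 10)
    · have e : bmask 2 = om 0 ^^^ om 9 := by decide +kernel
      show dec (bmask 2) ∈ _
      rw [e]
      exact hx _ _ (hm 0) (hm 9)
    · have e : bmask 3 = om 8 ^^^ om 10 := by decide +kernel
      show dec (bmask 3) ∈ _
      rw [e]
      exact hx _ _ (hm 8) (hm 10)
    · have e : bmask 4 = om 6 ^^^ om 9 := by decide +kernel
      show dec (bmask 4) ∈ _
      rw [e]
      exact hx _ _ (hm 6) (hm 9)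
    · have e : bmask 5 = om 1 ^^^ (om 4 ^^^ (om 10 ^^^ om 11)) := by decide +kernel
      show dec (bmask 5) ∈ _
      rw [e]
      exact hx _ _ (hm 1) (hx _ _ (hm 4) (hx _ _ (hm 10) (hm 11)))
    · have e : bmask 6 = om 0 ^^^ (om 1 ^^^ (om 4 ^^^ (om 5 ^^^ (om 6 ^^^ (om 9 ^^^
          (om 10 ^^^ om 11)))))) := by decide +kernel
      show dec (bmask 6) ∈ _
      rw [e]
      exact hx _ _ (hm 0) (hx _ _ (hm 1) (hx _ _ (hm 4) (hx _ _ (hm 5) (hx _ _ (hm 6)
        (hx _ _ (hm 9) (hx _ _ (hm 10) (hm 11)))))))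
    · have e : bmask 7 = om 1 ^^^ (om 2 ^^^ (om 3 ^^^ (om 5 ^^^ (om 6 ^^^ (om 7 ^^^
          (om 9 ^^^ om 11)))))) := by decide +kernel
      show dec (bmask 7) ∈ _
      rw [e]
      exact hx _ _ (hm 1) (hx _ _ (hm 2) (hx _ _ (hm 3) (hx _ _ (hm 5) (hx _ _ (hm 6)
        (hx _ _ (hm 7) (hx _ _ (hm 9) (hm 11)))))))
    · have e : bmask 8 = om 0 ^^^ (om 1 ^^^ (om 3 ^^^ (om 4 ^^^ (om 5 ^^^ (om 6 ^^^
          (om 8 ^^^ om 11)))))) := by decide +kernel
      show dec (bmask 8) ∈ _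
      rw [e]
      exact hx _ _ (hm 0) (hx _ _ (hm 1) (hx _ _ (hm 3) (hx _ _ (hm 4) (hx _ _ (hm 5)
        (hx _ _ (hm 6) (hx _ _ (hm 8) (hm 11)))))))
    · have e : bmask 9 = om 1 ^^^ (om 3 ^^^ (om 5 ^^^ (om 6 ^^^ (om 8 ^^^ om 10)))) := by
        decide +kernel
      show dec (bmask 9) ∈ _
      rw [e]
      exact hx _ _ (hm 1) (hx _ _ (hm 3) (hx _ _ (hm 5) (hx _ _ (hm 6) (hx _ _ (hm 8) (hm 10)))))
    · have e : bmask 10 = om 1 ^^^ (om 3 ^^^ (om 5 ^^^ (om 6 ^^^ (om 7 ^^^ (om 8 ^^^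
          (om 9 ^^^ om 11)))))) := by decide +kernel
      show dec (bmask 10) ∈ _
      rw [e]
      exact hx _ _ (hm 1) (hx _ _ (hm 3) (hx _ _ (hm 5) (hx _ _ (hm 6) (hx _ _ (hm 7)
        (hx _ _ (hm 8) (hx _ _ (hm 9) (hm 11)))))))
    · have e : bmask 11 = om 0 := by decide +kernel
      show dec (bmask 11) ∈ _
      rw [e]
      exact hm 0

end Cfsg.Agent.Lib.Helper9.OutM
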