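import Cfsg.Agent.Lib.Helper9.OutM6

set_option autoImplicit false

/-! Towards the outer automorphism group of `M22`: the Golay code is its own orthogonal, and the
subgroups of index 22 of `M22` are point stabilizers. -/

namespace Cfsg.Agent.Lib.Helper9.OutM

open Cfsg Finset MulAction Module Cfsg.Agent.Lib.Helper9.Golay1 Cfsg.Agent.Lib.Helper9.GolayQR1
  Cfsg.Agent.Lib.Helper9.GolayQR2 Cfsg.Agent.Lib.Helper9.GolayQR3 Cfsg.Agent.Lib.Helper9.GolayQR4
  Cfsg.Agent.Lib.Helper9.M24T3 Cfsg.Agent.Lib.Helper9.M24T7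
open scoped Pointwise

/-! ### self-duality -/

/-- the dot product as a bilinear form -/
noncomputable def dotB : LinearMap.BilinForm (ZMod 2) (GolayPt → ZMod 2) :=
  Matrix.toBilin' (1 : Matrix GolayPt GolayPt (ZMod 2))

theorem dotB_apply (v w : GolayPt → ZMod 2) : dotB v w = ∑ p, v p * w p := by
  unfold dotB
  rw [Matrix.toBilin'_apply']
  simp [dotProduct]

theorem dotB_nondeg : dotB.Nondegenerate := by
  unfold dotB
  rw [LinearMap.BilinForm.nondegenerate_toBilin'_iff_det_ne_zero, Matrix.det_one]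
  exact one_ne_zero

theorem golay_orthogonal : dotB.orthogonal golayCode = golayCode := by
  symm
  apply Submodule.eq_of_le_of_finrank_eq
  · intro v hv
    rw [LinearMap.BilinForm.mem_orthogonal_iff]
    intro w hw
    rw [dotB_apply]
    exact self_orth w v hw hv
  · rw [LinearMap.BilinForm.finrank_orthogonal dotB_nondeg, finrank_golayCode]
    simp [Cfsg.Agent.Lib.Helper9.GolayQR5.card_golayPt]

/-- a word orthogonal to a spanning set of the code lies in the code -/
theorem mem_golay_of_orth (S : Set (GolayPt → ZMod 2))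
    (hS : Submodule.span (ZMod 2) S = golayCode) (v : GolayPt → ZMod 2)
    (h : ∀ w ∈ S, ∑ p, w p * v p = 0) : v ∈ golayCode := by
  rw [← golay_orthogonal, LinearMap.BilinForm.mem_orthogonal_iff]
  intro w hw
  rw [← hS] at hw
  induction hw using Submodule.span_induction with
  | mem x hx => rw [dotB_apply]; exact h x hx
  | zero => simp
  | add x y _ _ hx hy => rw [map_add, LinearMap.add_apply, hx, hy, add_zero]
  | smul a x _ hx => rw [map_smul, LinearMap.smul_apply, hx, smul_zero]

/-! ### subgroups of index 22 in `M22` -/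

/-- a subgroup of `M24` fixing six points has order at most 16 -/
theorem card_le_of_fix_six (K : Subgroup (Equiv.Perm GolayPt)) (F : Finset GolayPt) (hL : Lvl K F)
    (hF : 6 ≤ F.card) : Nat.card K ≤ 16 := by
  obtain ⟨t, ht, ht6⟩ := Finset.exists_subset_card_eq hF
  obtain ⟨l, y, hl, h5, hlE⟩ := Cfsg.Agent.Lib.Helper9.M24Y8.exists_list_six t ht6
  obtain ⟨c16, c3⟩ := Cfsg.Agent.Lib.Helper9.M24Y8.card_fix_six l y hl h5
  have hle : K ≤ fixL M24 (l ++ [y]) := by
    intro g hg
    refine ⟨hL.le hg, fun b hb => ?_⟩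
    have : b ∈ t := by rw [← hlE, List.mem_toFinset]; exact hb
    exact hL.fix g hg b (ht this)
  by_cases hin : Cfsg.Agent.Lib.Helper9.M24Z3.InOct (l ++ [y]).toFinset
  · have hc := c16 hin
    haveI : Finite ↥(fixL M24 (l ++ [y])) := Nat.finite_of_card_ne_zero (by rw [hc]; norm_num)
    have := Subgroup.card_le_of_le hle
    omega
  · have hc := c3 hin
    haveI : Finite ↥(fixL M24 (l ++ [y])) := Nat.finite_of_card_ne_zero (by rw [hc]; norm_num)
    have := Subgroup.card_le_of_le hle
    omega

/-- one step down a chain of stabilizers inside an invariant set -/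
theorem chain_step (K : Subgroup (Equiv.Perm GolayPt)) (R : Finset GolayPt)
    (hR : ∀ g ∈ K, ∀ r ∈ R, g r ∈ R) (r : GolayPt) (hr : r ∈ R) :
    Nat.card K ≤ R.card * Nat.card ↥(K ⊓ stabilizer (Equiv.Perm GolayPt) r) ∧
      ∀ g ∈ K ⊓ stabilizer (Equiv.Perm GolayPt) r, ∀ s ∈ R.erase r, g s ∈ R.erase r := by
  constructor
  · rw [card_orbF K r]
    apply Nat.mul_le_mul_right
    apply card_le_card
    intro x hx
    obtain ⟨g, hg, rfl⟩ := (mem_orbF K r x).mp hx
    exact hR g hg r hr
  · intro g hg s hs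
    rw [mem_erase] at hs ⊢
    refine ⟨?_, hR g hg.1 s hs.2⟩
    intro h
    have h2 : g r = r := mem_stabilizer_iff.mp hg.2
    rw [← h2] at h
    exact hs.1 (g.injective h)

theorem index22 (H : Subgroup (Equiv.Perm GolayPt)) (hH : H ≤ Spor.M22)
    (hc : Nat.card H = 20160) :
    ∃ a, a ≠ none ∧ a ≠ some 0 ∧ H = fixL M24 [none, some 0, a] := by
  haveI : Fact (Nat.Prime 7) := ⟨by norm_num⟩
  haveI : Fact (Nat.Prime 5) := ⟨by norm_num⟩
  have hmem := fun g (hg : g ∈ H) => (Cfsg.Agent.Lib.Helper9.M24L1.mem_M22 g).mp (hH hg)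
  have hF2 : ({none, some 0} : Finset GolayPt).card = 2 := by decide
  have hL : Lvl H {none, some 0} := by
    constructor
    · exact fun g hg => (hmem g hg).1
    · intro g hg a ha
      rw [mem_insert, mem_singleton] at ha
      rcases ha with rfl | rfl
      · exact (hmem g hg).2.1
      · exact (hmem g hg).2.2
  obtain ⟨y, hy, hy1, hy7⟩ := exists_prime_order H 7 (by rw [hc]; norm_num) (by rw [hc]; norm_num)
  obtain ⟨s, hs, hs1, hs5⟩ := exists_prime_order H 5 (by rw [hc]; norm_num) (by rw [hc]; norm_num)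
  have hfy := card_fixF_prime y (hL.le hy) hy1 7 (by norm_num) hy7
  have hfs := card_fixF_prime s (hL.le hs) hs1 5 (by norm_num) hs5
  obtain ⟨c, hcF, hfixy⟩ := hL.fixF_insert y hy (by rw [hfy, hF2])
  have h1 := hL.orb_mod_one c hcF y hy 7 hy7 hfixy
  have h2 := hL.orb_card_le c hcF
  rw [hF2] at h2
  have h3 := orb_card_pos H c
  have h4 := card_orbF H c
  rw [hc] at h4
  have h5 := card_modEq_fix s 5 hs5 (orbF H c) (orbF_invariant H c s hs)
  have h6 : (orbF H c ∩ fixF s).card ≤ 2 := by
    have hsub : orbF H c ∩ fixF s ⊆ fixF s \ {none, some 0} := by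
      intro a ha
      rw [mem_inter] at ha
      rw [mem_sdiff]
      exact ⟨ha.2, fun hn => disjoint_left.mp (hL.orb_disjoint c hcF) ha.1 hn⟩
    have := card_le_card hsub
    rw [card_sdiff_of_subset (hL.subset_fixF s hs), hfs, hF2] at this
    exact this
  unfold Nat.ModEq at h5
  have hcn : c ≠ none := fun e => hcF (by rw [e]; simp)
  have hc0 : c ≠ some 0 := fun e => hcF (by rw [e]; simp)
  have hcases : (orbF H c).card = 1 ∨ (orbF H c).card = 8 ∨ (orbF H c).card = 15 ∨
      (orbF H c).card = 22 := by omega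
  rcases hcases with hone | h8 | h15 | h22
  · -- `H` fixes `c`
    have hfixc := fixed_of_orb_one H c hone
    refine ⟨c, hcn, hc0, ?_⟩
    have hle : H ≤ fixL M24 [none, some 0, c] := by
      intro g hg
      refine ⟨hL.le hg, ?_⟩
      intro b hb
      simp only [List.mem_cons, List.not_mem_nil, or_false] at hb
      rcases hb with rfl | rfl | rfl
      · exact (hmem g hg).2.1
      · exact (hmem g hg).2.2
      · exact hfixc g hg
    have hcard := card_fix_three none (some 0) c (by decide) (Ne.symm hcn) (Ne.symm hc0)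
    haveI : Finite ↥(fixL M24 [none, some 0, c]) :=
      Nat.finite_of_card_ne_zero (by rw [hcard]; norm_num)
    exact Subgroup.eq_of_le_of_card_ge hle (by rw [hcard, hc])
  · exfalso
    rw [h8] at h5
    omega
  · exfalso
    -- the seven remaining points
    set R : Finset GolayPt := univ \ (orbF H c ∪ {none, some 0}) with hRdef
    have hRcard : R.card = 7 := by
      rw [hRdef, card_sdiff_of_subset (subset_univ _), card_univ,
        Cfsg.Agent.Lib.Helper9.GolayQR5.card_golayPt,
        card_union_of_disjoint (hL.orb_disjoint c hcF), h15, hF2]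
    have hRinv : ∀ g ∈ H, ∀ r ∈ R, g r ∈ R := by
      intro g hg r hr
      rw [hRdef, mem_sdiff, mem_union, not_or] at hr ⊢
      refine ⟨mem_univ _, ?_, ?_⟩
      · intro h
        apply hr.2.1
        have := orbF_invariant H c g⁻¹ (H.inv_mem hg) _ h
        rwa [Cfsg.Agent.Lib.Helper9.Chain1.inv_apply_self'] at this
      · intro h
        apply hr.2.2
        have h7 := hL.fix g⁻¹ (H.inv_mem hg) _ h
        rw [Cfsg.Agent.Lib.Helper9.Chain1.inv_apply_self'] at h7
        rw [h7]
        exact h
    have hRF : ∀ r ∈ R, r ∉ ({none, some 0} : Finset GolayPt) := by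
      intro r hr h
      rw [hRdef, mem_sdiff, mem_union, not_or] at hr
      exact hr.2.2 h
    -- four steps
    obtain ⟨r1, hr1⟩ : R.Nonempty := card_pos.mp (by omega)
    obtain ⟨b1, i1⟩ := chain_step H R hRinv r1 hr1
    have hL1 := hL.next r1
    have c1 : (R.erase r1).card = 6 := by rw [card_erase_of_mem hr1, hRcard]
    obtain ⟨r2, hr2⟩ : (R.erase r1).Nonempty := card_pos.mp (by omega)
    obtain ⟨b2, i2⟩ := chain_step _ _ i1 r2 hr2
    have hL2 := hL1.next r2
    have c2 : ((R.erase r1).erase r2).card = 5 := by rw [card_erase_of_mem hr2, c1]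
    obtain ⟨r3, hr3⟩ : ((R.erase r1).erase r2).Nonempty := card_pos.mp (by omega)
    obtain ⟨b3, i3⟩ := chain_step _ _ i2 r3 hr3
    have hL3 := hL2.next r3
    have c3 : (((R.erase r1).erase r2).erase r3).card = 4 := by rw [card_erase_of_mem hr3, c2]
    obtain ⟨r4, hr4⟩ : (((R.erase r1).erase r2).erase r3).Nonempty := card_pos.mp (by omega)
    obtain ⟨b4, -⟩ := chain_step _ _ i3 r4 hr4
    have hL4 := hL3.next r4
    -- the six fixed points
    have hr2R : r2 ∈ R := (mem_erase.mp hr2).2
    have hr3R : r3 ∈ R := (mem_erase.mp (mem_erase.mp hr3).2).2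
    have hr4R : r4 ∈ R := (mem_erase.mp (mem_erase.mp (mem_erase.mp hr4).2).2).2
    have n1 : r1 ∉ ({none, some 0} : Finset GolayPt) := hRF r1 hr1
    have n2 : r2 ∉ insert r1 ({none, some 0} : Finset GolayPt) := by
      rw [mem_insert, not_or]
      exact ⟨(mem_erase.mp hr2).1, hRF r2 hr2R⟩
    have n3 : r3 ∉ insert r2 (insert r1 ({none, some 0} : Finset GolayPt)) := by
      rw [mem_insert, mem_insert, not_or, not_or]
      exact ⟨(mem_erase.mp hr3).1, (mem_erase.mp (mem_erase.mp hr3).2).1, hRF r3 hr3R⟩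
    have n4 : r4 ∉ insert r3 (insert r2 (insert r1 ({none, some 0} : Finset GolayPt))) := by
      rw [mem_insert, mem_insert, mem_insert, not_or, not_or, not_or]
      exact ⟨(mem_erase.mp hr4).1, (mem_erase.mp (mem_erase.mp hr4).2).1,
        (mem_erase.mp (mem_erase.mp (mem_erase.mp hr4).2).2).1, hRF r4 hr4R⟩
    have hF6 : (insert r4 (insert r3 (insert r2 (insert r1
        ({none, some 0} : Finset GolayPt))))).card = 6 := by
      rw [card_insert_of_notMem n4, card_insert_of_notMem n3, card_insert_of_notMem n2,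
        card_insert_of_notMem n1, hF2]
    have hle16 := card_le_of_fix_six _ _ hL4 (le_of_eq hF6.symm)
    rw [hc, hRcard] at b1
    rw [c1] at b2
    rw [c2] at b3
    rw [c3] at b4
    nlinarith
  · exfalso
    rw [h22] at h4
    omega

end Cfsg.Agent.Lib.Helper9.OutM
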