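import Cfsg.Agent.Lib.Helper9.OutN1

set_option autoImplicit false

/-! Towards the outer automorphism group of `M22`: a spanning set of the code adapted to the two
fixed points. -/

namespace Cfsg.Agent.Lib.Helper9.OutM

open Cfsg Finset MulAction Module Cfsg.Agent.Lib.Helper9.Golay1 Cfsg.Agent.Lib.Helper9.GolayQR1
  Cfsg.Agent.Lib.Helper9.GolayQR2 Cfsg.Agent.Lib.Helper9.GolayQR3 Cfsg.Agent.Lib.Helper9.GolayQR4
  Cfsg.Agent.Lib.Helper9.M24U1
open scoped Pointwise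

/-- eleven octads through the two fixed points and one through the first only -/
def on (i : Fin 12) : ℕ :=
  [8391797, 9748745, 8471941, 12325377, 8983587, 12880401, 8431757, 13062145, 12747077, 8398155, 12641313, 11669008].getD i.val 0

theorem on_oct : ∀ i : Fin 12, Cfsg.Agent.Lib.Helper9.M24F2.isOctF (on i) = true := by
  decide +kernel

theorem on_inf : ∀ i : Fin 12, (on i).testBit 23 = true := by decide +kernel

theorem on_zero : ∀ i : Fin 12, (on i).testBit 0 = decide (i.val < 11) := by decide +kernel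

theorem on_octad (i : Fin 12) : M (on i) ∈ octads :=
  Cfsg.Agent.Lib.Helper9.M24F2.isOctF_sound _ (on_oct i)

theorem on_mem (i : Fin 12) : dec (on i) ∈ golayCode := by
  obtain ⟨⟨w, hw, hws⟩, -⟩ := on_octad i
  have : dec (on i) = w := by
    rw [← supp_eq_iff, supp_eq_support₂ w, hws]
    rfl
  rw [this]
  exact hw

theorem span_on : Submodule.span (ZMod 2) (Set.range (fun i : Fin 12 => dec (on i))) = golayCode := by
  apply le_antisymm
  · rw [Submodule.span_le]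
    rintro _ ⟨i, rfl⟩
    exact on_mem i
  · rw [golayCode_eq_span, Submodule.span_le]
    have hm : ∀ i : Fin 12, dec (on i) ∈
        Submodule.span (ZMod 2) (Set.range (fun i : Fin 12 => dec (on i))) :=
      fun i => Submodule.subset_span ⟨i, rfl⟩
    have hx : ∀ a b : ℕ, dec a ∈ Submodule.span (ZMod 2) (Set.range (fun i : Fin 12 => dec (on i))) →
        dec b ∈ Submodule.span (ZMod 2) (Set.range (fun i : Fin 12 => dec (on i))) →
        dec (a ^^^ b) ∈ Submodule.span (ZMod 2) (Set.range (fun i : Fin 12 => dec (on i))) := by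
      intro a b ha hb
      rw [dec_xor]
      exact Submodule.add_mem _ ha hb
    rintro _ ⟨j, rfl⟩
    unfold bw
    fin_cases j
    · have e : bmask 0 = on 3 ^^^ (on 4 ^^^ (on 6 ^^^ (on 7 ^^^ (on 10 ^^^ (on 11))))) := by decide +kernel
      show dec (bmask 0) ∈ _
      rw [e]
      exact (hx _ _ (hm 3) (hx _ _ (hm 4) (hx _ _ (hm 6) (hx _ _ (hm 7) (hx _ _ (hm 10) (hm 11))))))
    · have e : bmask 1 = on 0 ^^^ (on 9) := by decide +kernel
      show dec (bmask 1) ∈ _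
      rw [e]
      exact (hx _ _ (hm 0) (hm 9))
    · have e : bmask 2 = on 2 ^^^ (on 3 ^^^ (on 4 ^^^ (on 5 ^^^ (on 8 ^^^ (on 11))))) := by decide +kernel
      show dec (bmask 2) ∈ _
      rw [e]
      exact (hx _ _ (hm 2) (hx _ _ (hm 3) (hx _ _ (hm 4) (hx _ _ (hm 5) (hx _ _ (hm 8) (hm 11))))))
    · have e : bmask 3 = on 6 ^^^ (on 9) := by decide +kernel
      show dec (bmask 3) ∈ _
      rw [e]
      exact (hx _ _ (hm 6) (hm 9))
    · have e : bmask 4 = on 0 ^^^ (on 3 ^^^ (on 4 ^^^ (on 5 ^^^ (on 8 ^^^ (on 11))))) := by decide +kernel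
      show dec (bmask 4) ∈ _
      rw [e]
      exact (hx _ _ (hm 0) (hx _ _ (hm 3) (hx _ _ (hm 4) (hx _ _ (hm 5) (hx _ _ (hm 8) (hm 11))))))
    · have e : bmask 5 = on 0 ^^^ (on 2 ^^^ (on 3 ^^^ (on 4 ^^^ (on 5 ^^^ (on 9 ^^^ (on 10 ^^^ (on 11))))))) := by decide +kernel
      show dec (bmask 5) ∈ _
      rw [e]
      exact (hx _ _ (hm 0) (hx _ _ (hm 2) (hx _ _ (hm 3) (hx _ _ (hm 4) (hx _ _ (hm 5) (hx _ _ (hm 9) (hx _ _ (hm 10) (hm 11))))))))
    · have e : bmask 6 = on 0 ^^^ (on 2 ^^^ (on 3 ^^^ (on 4 ^^^ (on 8 ^^^ (on 9 ^^^ (on 10 ^^^ (on 11))))))) := by decide +kernel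
      show dec (bmask 6) ∈ _
      rw [e]
      exact (hx _ _ (hm 0) (hx _ _ (hm 2) (hx _ _ (hm 3) (hx _ _ (hm 4) (hx _ _ (hm 8) (hx _ _ (hm 9) (hx _ _ (hm 10) (hm 11))))))))
    · have e : bmask 7 = on 4 ^^^ (on 5 ^^^ (on 6 ^^^ (on 7 ^^^ (on 8 ^^^ (on 10))))) := by decide +kernel
      show dec (bmask 7) ∈ _
      rw [e]
      exact (hx _ _ (hm 4) (hx _ _ (hm 5) (hx _ _ (hm 6) (hx _ _ (hm 7) (hx _ _ (hm 8) (hm 10))))))
    · have e : bmask 8 = on 1 ^^^ (on 5 ^^^ (on 6 ^^^ (on 10))) := by decide +kernel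
      show dec (bmask 8) ∈ _
      rw [e]
      exact (hx _ _ (hm 1) (hx _ _ (hm 5) (hx _ _ (hm 6) (hm 10))))
    · have e : bmask 9 = on 1 ^^^ (on 2 ^^^ (on 3 ^^^ (on 4 ^^^ (on 6 ^^^ (on 9))))) := by decide +kernel
      show dec (bmask 9) ∈ _
      rw [e]
      exact (hx _ _ (hm 1) (hx _ _ (hm 2) (hx _ _ (hm 3) (hx _ _ (hm 4) (hx _ _ (hm 6) (hm 9))))))
    · have e : bmask 10 = on 2 ^^^ (on 3 ^^^ (on 4 ^^^ (on 5 ^^^ (on 6 ^^^ (on 8 ^^^ (on 10 ^^^ (on 11))))))) := by decide +kernel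
      show dec (bmask 10) ∈ _
      rw [e]
      exact (hx _ _ (hm 2) (hx _ _ (hm 3) (hx _ _ (hm 4) (hx _ _ (hm 5) (hx _ _ (hm 6) (hx _ _ (hm 8) (hx _ _ (hm 10) (hm 11))))))))
    · have e : bmask 11 = on 0 := by decide +kernel
      show dec (bmask 11) ∈ _
      rw [e]
      exact (hm 0)

end Cfsg.Agent.Lib.Helper9.OutM
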