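import Cfsg.Agent.Lib.Helper9.OutN2

set_option autoImplicit false

/-! The normalizer of `M22` in the symmetric group: a permutation of the 24 points fixing the two
base points and normalizing `M22` lies in `M24`, up to the transposition of the two base points. -/

namespace Cfsg.Agent.Lib.Helper9.OutM

open Cfsg Finset MulAction Module Cfsg.Agent.Lib.Helper9.Golay1 Cfsg.Agent.Lib.Helper9.GolayQR1
  Cfsg.Agent.Lib.Helper9.GolayQR2 Cfsg.Agent.Lib.Helper9.GolayQR3 Cfsg.Agent.Lib.Helper9.GolayQR4
  Cfsg.Agent.Lib.Helper9.GolayM24a Cfsg.Agent.Lib.Helper9.GolayM24c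
  Cfsg.Agent.Lib.Helper9.M24U1 Cfsg.Agent.Lib.Helper9.M24T3 Cfsg.Agent.Lib.Helper9.M24T7
open scoped Pointwise

/-- the word of an octad composed with a permutation mapping it to an octad is in the code -/
theorem comp_mem_of_smul_octad (m : ℕ) (ρ : Equiv.Perm GolayPt) (h : ρ⁻¹ • M m ∈ octads) :
    dec m ∘ ⇑ρ ∈ golayCode := by
  obtain ⟨⟨w', hw', hw'eq⟩, -⟩ := h
  have : dec m ∘ ⇑ρ = w' := by
    rw [← supp_eq_iff, supp_eq_support₂, supp_eq_support₂, support_comp, hw'eq]
    rfl
  rw [this]
  exact hw'

theorem dec_apply (m : ℕ) (p : GolayPt) : dec m p = if m.testBit (idx p) then 1 else 0 := rfl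

/-- the word of the two base points -/
def e2 : GolayPt → ZMod 2 := fun p => if p = none ∨ p = some 0 then 1 else 0

theorem sum_mul_e2 (w : GolayPt → ZMod 2) : ∑ p, w p * e2 p = w none + w (some 0) := by
  have h : ∀ p, w p * e2 p = (if p = none then w none else 0) + (if p = some 0 then w (some 0) else 0) := by
    intro p
    unfold e2
    by_cases h1 : p = none
    · subst h1
      simp
    · by_cases h2 : p = some 0
      · subst h2
        simp
      · simp [h1, h2]
  simp_rw [h]
  rw [Finset.sum_add_distrib, Finset.sum_ite_eq', Finset.sum_ite_eq']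
  simp

theorem comp_swap (u : GolayPt → ZMod 2) :
    u ∘ ⇑(Equiv.swap (none : GolayPt) (some 0)) =
      u + (fun p => (u none + u (some 0)) * e2 p) := by
  funext p
  have hz : ∀ a b : ZMod 2, a = b + (b + a) * 1 := by decide
  have hz' : ∀ a b : ZMod 2, a = b + (a + b) * 1 := by decide
  show u (Equiv.swap none (some 0) p) = u p + (u none + u (some 0)) * e2 p
  unfold e2
  by_cases h1 : p = none
  · subst h1
    rw [Equiv.swap_apply_left]
    simp only [true_or, if_true]
    exact hz _ _
  · by_cases h2 : p = some 0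
    · subst h2
      rw [Equiv.swap_apply_right]
      simp only [or_true, if_true]
      exact hz' _ _
    · rw [Equiv.swap_apply_of_ne_of_ne h1 h2]
      simp [h1, h2]

/-- a permutation fixing the two base points and normalizing `M22` lies in `M24`, possibly after
multiplication by the transposition of the base points -/
theorem normalizer22 (π : Equiv.Perm GolayPt) (h0 : π none = none) (h1 : π (some 0) = some 0)
    (hπ : ∀ g ∈ Spor.M22, π * g * π⁻¹ ∈ Spor.M22)
    (hπ' : ∀ g ∈ Spor.M22, π⁻¹ * g * π ∈ Spor.M22) :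
    π ∈ M24 ∨ Equiv.swap (none : GolayPt) (some 0) * π ∈ M24 := by
  have hi0 : π⁻¹ none = none := by rw [Equiv.Perm.inv_eq_iff_eq, h0]
  have hi1 : π⁻¹ (some 0) = some 0 := by rw [Equiv.Perm.inv_eq_iff_eq, h1]
  -- octads through the base points are mapped to octads
  have hoct : ∀ O ∈ octads, (none : GolayPt) ∈ O → (some 0 : GolayPt) ∈ O →
      π • O ∈ octads ∧ π⁻¹ • O ∈ octads := by
    intro O hO hn hz
    obtain ⟨z, hzm, hz2, hz1, hfix⟩ := exists_involution_fix O hO
    have hz22 : z ∈ Spor.M22 := by
      rw [Cfsg.Agent.Lib.Helper9.M24L1.mem_M22]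
      rw [← hfix, mem_fixF] at hn hz
      exact ⟨hzm, hn, hz⟩
    constructor
    · exact smul_octad_of_conj π z hz2 hz1 O hO hfix
        ((Cfsg.Agent.Lib.Helper9.M24L1.mem_M22 _).mp (hπ z hz22)).1
    · have := hπ' z hz22
      have e : π⁻¹ * z * π = π⁻¹ * z * π⁻¹⁻¹ := by rw [inv_inv]
      rw [e] at this
      exact smul_octad_of_conj π⁻¹ z hz2 hz1 O hO hfix
        ((Cfsg.Agent.Lib.Helper9.M24L1.mem_M22 _).mp this).1
  have hon : ∀ i : Fin 12, i.val < 11 → (none : GolayPt) ∈ M (on i) ∧ (some 0 : GolayPt) ∈ M (on i) := by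
    intro i hi
    rw [mem_M, mem_M]
    refine ⟨on_inf i, ?_⟩
    have := on_zero i
    rw [decide_eq_true hi] at this
    exact this
  -- the words of the first eleven octads
  have hw : ∀ i : Fin 12, i.val < 11 → dec (on i) ∘ ⇑π⁻¹ ∈ golayCode ∧ dec (on i) ∘ ⇑π ∈ golayCode := by
    intro i hi
    obtain ⟨hn, hz⟩ := hon i hi
    obtain ⟨o1, o2⟩ := hoct _ (on_octad i) hn hz
    constructor
    · apply comp_mem_of_smul_octad
      rw [inv_inv]
      exact o1
    · apply comp_mem_of_smul_octad
      exact o2
  set v : GolayPt → ZMod 2 := dec (on 11) ∘ ⇑π⁻¹ with hv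
  -- `v` is orthogonal to the first eleven words
  have horth : ∀ i : Fin 12, i.val < 11 → ∑ p, dec (on i) p * v p = 0 := by
    intro i hi
    have e : ∑ p, dec (on i) p * v p = ∑ q, (dec (on i) ∘ ⇑π) q * dec (on 11) q := by
      rw [← Equiv.sum_comp π]
      apply Finset.sum_congr rfl
      intro q _
      show dec (on i) (π q) * dec (on 11) (π⁻¹ (π q)) = _
      rw [Cfsg.Agent.Lib.Helper9.Chain1.inv_apply_self']
      rfl
    rw [e]
    exact self_orth _ _ (hw i hi).2 (on_mem 11)
  have hvn : v none = 1 := by
    show dec (on 11) (π⁻¹ none) = 1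
    rw [hi0, dec_apply]
    have : (on 11).testBit (idx none) = true := on_inf 11
    rw [this]
    rfl
  have hvz : v (some 0) = 0 := by
    show dec (on 11) (π⁻¹ (some 0)) = 0
    rw [hi1, dec_apply]
    have : (on 11).testBit (idx (some 0 : GolayPt)) = false := by decide +kernel
    rw [this]
    rfl
  have hd11n : dec (on 11) none = 1 := by
    rw [dec_apply]
    have : (on 11).testBit (idx none) = true := on_inf 11
    rw [this]
    rfl
  have hd11z : dec (on 11) (some 0) = 0 := by
    rw [dec_apply]
    have : (on 11).testBit (idx (some 0 : GolayPt)) = false := by decide +kernel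
    rw [this]
    rfl
  have hdn : ∀ i : Fin 12, i.val < 11 → dec (on i) none = 1 ∧ dec (on i) (some 0) = 1 := by
    intro i hi
    obtain ⟨hn, hz⟩ := hon i hi
    rw [mem_M] at hn hz
    rw [dec_apply, dec_apply, hn, hz]
    exact ⟨rfl, rfl⟩
  have hcases : ∀ a : ZMod 2, a = 0 ∨ a = 1 := by decide
  rcases hcases (∑ p, dec (on 11) p * v p) with ha | ha
  · -- `v` lies in the code
    left
    have hvmem : v ∈ golayCode := by
      apply mem_golay_of_orth _ span_on
      rintro _ ⟨i, rfl⟩
      by_cases hi : i.val < 11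
      · exact horth i hi
      · have : i = 11 := Fin.ext (by have := i.2; show i.val = 11; omega)
        rw [this]
        exact ha
    rw [← Subgroup.inv_mem_iff]
    apply mem_M24_of_map_eq
    apply map_eq_of_span π⁻¹ _ span_on
    rintro _ ⟨i, rfl⟩
    by_cases hi : i.val < 11
    · exact (hw i hi).1
    · have : i = 11 := Fin.ext (by have := i.2; show i.val = 11; omega)
      rw [this]
      exact hvmem
  · -- `v + e2` lies in the code
    right
    have hvmem : v + e2 ∈ golayCode := by
      apply mem_golay_of_orth _ span_on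
      rintro _ ⟨i, rfl⟩
      have hsplit : ∑ p, dec (on i) p * (v + e2) p =
          ∑ p, dec (on i) p * v p + ∑ p, dec (on i) p * e2 p := by
        rw [← Finset.sum_add_distrib]
        apply Finset.sum_congr rfl
        intro p _
        rw [Pi.add_apply, mul_add]
      rw [hsplit, sum_mul_e2]
      by_cases hi : i.val < 11
      · rw [horth i hi, (hdn i hi).1, (hdn i hi).2]
        decide
      · have : i = 11 := Fin.ext (by have := i.2; show i.val = 11; omega)
        rw [this, ha, hd11n, hd11z]
        decide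
    have hmem : π⁻¹ * Equiv.swap (none : GolayPt) (some 0) ∈ M24 := by
      apply mem_M24_of_map_eq
      apply map_eq_of_span _ _ span_on
      rintro _ ⟨i, rfl⟩
      have hcomp : dec (on i) ∘ ⇑(π⁻¹ * Equiv.swap (none : GolayPt) (some 0)) =
          (dec (on i) ∘ ⇑π⁻¹) ∘ ⇑(Equiv.swap (none : GolayPt) (some 0)) := rfl
      rw [hcomp, comp_swap]
      by_cases hi : i.val < 11
      · have e1 : (dec (on i) ∘ ⇑π⁻¹) none = 1 := by
          show dec (on i) (π⁻¹ none) = 1
          rw [hi0]
          exact (hdn i hi).1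
        have e2' : (dec (on i) ∘ ⇑π⁻¹) (some 0) = 1 := by
          show dec (on i) (π⁻¹ (some 0)) = 1
          rw [hi1]
          exact (hdn i hi).2
        rw [e1, e2']
        have : (fun p => ((1 : ZMod 2) + 1) * e2 p) = 0 := by
          funext p
          have : ((1 : ZMod 2) + 1) = 0 := by decide
          rw [this, zero_mul]
          rfl
        rw [this, add_zero]
        exact (hw i hi).1
      · have hi11 : i = 11 := Fin.ext (by have := i.2; show i.val = 11; omega)
        rw [hi11]
        show v + (fun p => (v none + v (some 0)) * e2 p) ∈ golayCode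
        rw [hvn, hvz]
        have : (fun p => ((1 : ZMod 2) + 0) * e2 p) = e2 := by
          funext p
          rw [add_zero, one_mul]
        rw [this]
        exact hvmem
    have := M24.inv_mem hmem
    rw [mul_inv_rev, inv_inv, Equiv.swap_inv] at this
    exact this

end Cfsg.Agent.Lib.Helper9.OutM
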