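import Cfsg.Agent.Lib.Helper9.OutN3

set_option autoImplicit false

/-! The outer automorphism group of `M22` has order 2. -/

namespace Cfsg.Agent.Lib.Helper9.OutM

open Cfsg Finset MulAction Module Cfsg.Agent.Lib.Helper9.Golay1 Cfsg.Agent.Lib.Helper9.GolayQR1
  Cfsg.Agent.Lib.Helper9.M24U1 Cfsg.Agent.Lib.Helper9.M24T3 Cfsg.Agent.Lib.Helper9.M24T7
open scoped Pointwise

section general

variable {α : Type*} [Fintype α] [DecidableEq α]

/-- every automorphism is, up to an inner automorphism, conjugation by a permutation normalizing the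
group -/
theorem aut_of_perm (G : Subgroup (Equiv.Perm α)) (w : α)
    (hout : ∀ x : α, (¬ ∃ g ∈ G, g w = x) → ∀ g ∈ G, g x = x)
    (hidx : ∀ φ : ↥G ≃* ↥G, ∃ k ∈ G, ∀ g : ↥G, (φ g).1 (k w) = k w ↔ g.1 w = w)
    (φ : ↥G ≃* ↥G) : ∃ k ∈ G, ∃ π : Equiv.Perm α,
      (∀ x : α, (¬ ∃ g ∈ G, g w = x) → π x = x) ∧ (∀ g ∈ G, π * g * π⁻¹ ∈ G) ∧
      (∀ g ∈ G, π⁻¹ * g * π ∈ G) ∧ ∀ g : ↥G, (φ g).1 = k * (π * g.1 * π⁻¹) * k⁻¹ := by
  obtain ⟨k, hk, hkφ⟩ := hidx φ
  let ψ : ↥G ≃* ↥G := φ.trans (MulAut.conj (⟨k, hk⟩ : ↥G)⁻¹)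
  have hψ : ∀ g : ↥G, ψ g = (⟨k, hk⟩ : ↥G)⁻¹ * φ g * ⟨k, hk⟩ := by
    intro g
    show MulAut.conj (⟨k, hk⟩ : ↥G)⁻¹ (φ g) = _
    rw [MulAut.conj_apply, inv_inv]
  have hψw : ∀ g : ↥G, (ψ g).1 w = w ↔ g.1 w = w := by
    intro g
    rw [hψ, ← hkφ g]
    show (k⁻¹ * (φ g).1 * k) w = w ↔ _
    rw [Equiv.Perm.mul_apply, Equiv.Perm.mul_apply, Equiv.Perm.inv_eq_iff_eq]
  obtain ⟨π, hπout, hπ⟩ := exists_perm_of_aut G w hout ψ hψw
  refine ⟨k, hk, π, hπout, ?_, ?_, ?_⟩
  · intro g hg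
    rw [← hπ ⟨g, hg⟩]
    exact (ψ ⟨g, hg⟩).2
  · intro g hg
    obtain ⟨g', hg'⟩ := ψ.surjective ⟨g, hg⟩
    have h1 := hπ g'
    rw [hg'] at h1
    have h2 : π⁻¹ * g * π = g'.1 := by
      show π⁻¹ * (⟨g, hg⟩ : ↥G).1 * π = g'.1
      rw [h1]
      group
    rw [h2]
    exact g'.2
  · intro g
    rw [← hπ g, hψ]
    show (φ g).1 = k * (k⁻¹ * (φ g).1 * k) * k⁻¹
    group

end general

/-! ### the outer automorphism -/

theorem exists_swap22 : ∃ t ∈ M24, t none = some 0 ∧ t (some 0) = none := by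
  obtain ⟨g, hg, h⟩ := exists_mapn 2 (by omega) (fun i => if i = 0 then some 0 else none) (by
    intro i hi j hj hij
    by_contra hne
    have : (i = 0 ∧ j = 1) ∨ (i = 1 ∧ j = 0) := by omega
    rcases this with ⟨rfl, rfl⟩ | ⟨rfl, rfl⟩
    · simp at hij
    · simp at hij)
  exact ⟨g, hg, h 0 (by omega), h 1 (by omega)⟩

theorem mem_M22_iff (x : Equiv.Perm GolayPt) :
    x ∈ Spor.M22 ↔ x ∈ M24 ∧ x none = none ∧ x (some 0) = some 0 :=
  Cfsg.Agent.Lib.Helper9.M24L1.mem_M22 x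

/-- conjugation by an element of `M24` exchanging the base points preserves `M22` -/
theorem conj_mem_M22 (t : Equiv.Perm GolayPt) (ht : t ∈ M24) (h1 : t none = some 0)
    (h2 : t (some 0) = none) (g : Equiv.Perm GolayPt) (hg : g ∈ Spor.M22) :
    t * g * t⁻¹ ∈ Spor.M22 ∧ t⁻¹ * g * t ∈ Spor.M22 := by
  rw [mem_M22_iff] at hg
  have i1 : t⁻¹ none = some 0 := by rw [Equiv.Perm.inv_eq_iff_eq, h2]
  have i2 : t⁻¹ (some 0) = none := by rw [Equiv.Perm.inv_eq_iff_eq, h1]
  constructor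
  · rw [mem_M22_iff]
    refine ⟨M24.mul_mem (M24.mul_mem ht hg.1) (M24.inv_mem ht), ?_, ?_⟩
    · rw [Equiv.Perm.mul_apply, Equiv.Perm.mul_apply, i1, hg.2.2, h2]
    · rw [Equiv.Perm.mul_apply, Equiv.Perm.mul_apply, i2, hg.2.1, h1]
  · rw [mem_M22_iff]
    refine ⟨M24.mul_mem (M24.mul_mem (M24.inv_mem ht) hg.1) ht, ?_, ?_⟩
    · rw [Equiv.Perm.mul_apply, Equiv.Perm.mul_apply, h1, hg.2.2, i2]
    · rw [Equiv.Perm.mul_apply, Equiv.Perm.mul_apply, h2, hg.2.1, i1]

/-- the automorphism of `M22` induced by an element of `M24` exchanging the base points -/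
noncomputable def tau (t : Equiv.Perm GolayPt) (ht : t ∈ M24) (h1 : t none = some 0)
    (h2 : t (some 0) = none) : ↥Spor.M22 ≃* ↥Spor.M22 where
  toFun g := ⟨t * g.1 * t⁻¹, (conj_mem_M22 t ht h1 h2 g.1 g.2).1⟩
  invFun g := ⟨t⁻¹ * g.1 * t, (conj_mem_M22 t ht h1 h2 g.1 g.2).2⟩
  left_inv g := by
    apply Subtype.ext
    show t⁻¹ * (t * g.1 * t⁻¹) * t = g.1
    group
  right_inv g := by
    apply Subtype.ext
    show t * (t⁻¹ * g.1 * t) * t⁻¹ = g.1
    group
  map_mul' a b := by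
    apply Subtype.ext
    show t * (a.1 * b.1) * t⁻¹ = (t * a.1 * t⁻¹) * (t * b.1 * t⁻¹)
    group

/-- no element of `M24` exchanging the base points centralizes `M22` -/
theorem not_centralizes (c : Equiv.Perm GolayPt) (hc : c ∈ M24) (h1 : c none = some 0)
    (h2 : c (some 0) = none) (hcomm : ∀ g ∈ Spor.M22, c * g = g * c) : False := by
  haveI : Fact (Nat.Prime 7) := ⟨by norm_num⟩
  -- `c` fixes every other point
  have hfix : ∀ x : GolayPt, x ≠ none → x ≠ some 0 → c x = x := by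
    intro x hxn hx0
    have hcard := card_fix_three none (some 0) x (by decide) (Ne.symm hxn) (Ne.symm hx0)
    obtain ⟨y, hy, hy1, hy7⟩ := exists_prime_order (fixL M24 [none, some 0, x]) 7
      (by rw [hcard]; norm_num) (by rw [hcard]; norm_num)
    have hyM : y ∈ M24 := hy.1
    have hfy := card_fixF_prime y hyM hy1 7 (by norm_num) hy7
    have hy22 : y ∈ Spor.M22 := by
      rw [mem_M22_iff]
      exact ⟨hyM, hy.2 none (by simp), hy.2 (some 0) (by simp)⟩
    have hsub : ({none, some 0, x} : Finset GolayPt) ⊆ fixF y := by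
      intro a ha
      simp only [mem_insert, mem_singleton] at ha
      rw [mem_fixF]
      rcases ha with rfl | rfl | rfl
      · exact hy.2 none (by simp)
      · exact hy.2 (some 0) (by simp)
      · exact hy.2 a (by simp)
    have hc3 : ({none, some 0, x} : Finset GolayPt).card = 3 := by
      rw [card_insert_of_notMem, card_insert_of_notMem, card_singleton]
      · simpa using Ne.symm hx0
      · simp only [mem_insert, mem_singleton, not_or]
        exact ⟨by decide, Ne.symm hxn⟩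
    have heq : fixF y = {none, some 0, x} :=
      (eq_of_subset_of_card_le hsub (by rw [hfy, hc3])).symm
    -- `c x` is fixed by `y`
    have h3 : c x ∈ fixF y := by
      rw [mem_fixF]
      have := hcomm y hy22
      have h4 : (c * y) x = (y * c) x := by rw [this]
      rw [Equiv.Perm.mul_apply, Equiv.Perm.mul_apply, hy.2 x (by simp)] at h4
      exact h4.symm
    rw [heq] at h3
    simp only [mem_insert, mem_singleton] at h3
    rcases h3 with h3 | h3 | h3
    · exfalso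
      rw [← h2] at h3
      exact hx0 (c.injective h3)
    · exfalso
      rw [← h1] at h3
      exact hxn (c.injective h3)
    · exact h3
  -- `c` is an involution with 22 fixed points
  have hc2 : c ^ 2 = 1 := by
    rw [pow_two]
    ext x
    rw [Equiv.Perm.mul_apply, Equiv.Perm.one_apply]
    by_cases hxn : x = none
    · rw [hxn, h1, h2]
    · by_cases hx0 : x = some 0
      · rw [hx0, h2, h1]
      · rw [hfix x hxn hx0, hfix x hxn hx0]
  have hc1 : c ≠ 1 := by
    intro h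
    rw [h] at h1
    exact absurd h1 (by decide)
  have hcard := card_fixF_involution c hc hc2 hc1
  have hsub : (univ \ {none, some 0} : Finset GolayPt) ⊆ fixF c := by
    intro x hx
    rw [mem_sdiff, mem_insert, mem_singleton, not_or] at hx
    exact (mem_fixF c x).mpr (hfix x hx.2.1 hx.2.2)
  have := card_le_card hsub
  rw [card_sdiff_of_subset (subset_univ _), card_univ,
    Cfsg.Agent.Lib.Helper9.GolayQR5.card_golayPt] at this
  have h22 : ({none, some 0} : Finset GolayPt).card = 2 := by decide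
  rw [h22] at this
  omega

end Cfsg.Agent.Lib.Helper9.OutM
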