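import Cfsg.Agent.Lib.Helper9.OutN4

set_option autoImplicit false

/-! The outer automorphism group of `M22` has order 2: assembly. -/

namespace Cfsg.Agent.Lib.Helper9.OutM

open Cfsg Finset MulAction Module Cfsg.Agent.Lib.Helper9.Golay1 Cfsg.Agent.Lib.Helper9.GolayQR1
  Cfsg.Agent.Lib.Helper9.M24U1 Cfsg.Agent.Lib.Helper9.M24T3 Cfsg.Agent.Lib.Helper9.M24T7
open scoped Pointwise

theorem transitive22 (p : GolayPt) (hpn : p ≠ none) (hp0 : p ≠ some 0) :
    ∃ g ∈ Spor.M22, g (some 1) = p := by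
  obtain ⟨g, hg, h⟩ := exists_mapn 3 (by omega)
    (fun i => if i = 0 then none else if i = 1 then some 0 else p) (by
    intro i hi j hj hij
    by_contra hne
    have : (i = 0 ∧ j = 1) ∨ (i = 1 ∧ j = 0) ∨ (i = 0 ∧ j = 2) ∨ (i = 2 ∧ j = 0) ∨
        (i = 1 ∧ j = 2) ∨ (i = 2 ∧ j = 1) := by omega
    rcases this with ⟨rfl, rfl⟩ | ⟨rfl, rfl⟩ | ⟨rfl, rfl⟩ | ⟨rfl, rfl⟩ | ⟨rfl, rfl⟩ | ⟨rfl, rfl⟩
    · simp at hij
    · simp at hij
    · exact hpn (by simpa using hij.symm)
    · exact hpn (by simpa using hij)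
    · exact hp0 (by simpa using hij.symm)
    · exact hp0 (by simpa using hij))
  have e0 : g none = none := h 0 (by omega)
  have e1 : g (some 0) = some 0 := h 1 (by omega)
  have e2 : g (some 1) = p := h 2 (by omega)
  exact ⟨g, (mem_M22_iff g).mpr ⟨hg, e0, e1⟩, e2⟩

theorem swap_conj_of_fix (h : Equiv.Perm GolayPt) (hn : h none = none) (h0 : h (some 0) = some 0) :
    Equiv.swap (none : GolayPt) (some 0) * h * (Equiv.swap (none : GolayPt) (some 0))⁻¹ = h := by
  rw [Equiv.swap_inv]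
  ext x
  rw [Equiv.Perm.mul_apply, Equiv.Perm.mul_apply]
  by_cases hxn : x = none
  · rw [hxn, Equiv.swap_apply_left, h0, Equiv.swap_apply_right, hn]
  · by_cases hx0 : x = some 0
    · rw [hx0, Equiv.swap_apply_right, hn, Equiv.swap_apply_left, h0]
    · rw [Equiv.swap_apply_of_ne_of_ne hxn hx0]
      have h1 : h x ≠ none := fun e => hxn (h.injective (e.trans hn.symm))
      have h2 : h x ≠ some 0 := fun e => hx0 (h.injective (e.trans h0.symm))
      rw [Equiv.swap_apply_of_ne_of_ne h1 h2]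

/-- every automorphism of `M22` is inner or an inner automorphism times `tau` -/
theorem class22 (φ : ↥Spor.M22 ≃* ↥Spor.M22) (t : Equiv.Perm GolayPt) (ht : t ∈ M24)
    (h1 : t none = some 0) (h2 : t (some 0) = none) :
    (∃ k : ↥Spor.M22, ∀ g : ↥Spor.M22, φ g = k * g * k⁻¹) ∨
      (∃ k : ↥Spor.M22, ∀ g : ↥Spor.M22, φ g = k * tau t ht h1 h2 g * k⁻¹) := by
  have hout : ∀ x : GolayPt, (¬ ∃ g ∈ Spor.M22, g (some 1) = x) → x = none ∨ x = some 0 := by
    intro x hx
    by_contra hne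
    rw [not_or] at hne
    exact hx (transitive22 x hne.1 hne.2)
  obtain ⟨k, hk, π, hπout, hπ, hπ', hφ⟩ := aut_of_perm Spor.M22 (some 1) (by
      intro x hx g hg
      rw [mem_M22_iff] at hg
      rcases hout x hx with rfl | rfl
      · exact hg.2.1
      · exact hg.2.2) (by
      intro φ
      have hle : fixL M24 [none, some 0, some 1] ≤ Spor.M22 := by
        intro g hg
        exact (mem_M22_iff g).mpr ⟨hg.1, hg.2 none (by simp), hg.2 (some 0) (by simp)⟩
      obtain ⟨H', hH', hcard, hmem⟩ := image_subgroup Spor.M22 φ (fixL M24 [none, some 0, some 1]) hle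
      rw [card_fix_three none (some 0) (some 1) (by decide) (by decide) (by decide)] at hcard
      obtain ⟨a, han, ha0, ha⟩ := index22 H' hH' hcard
      obtain ⟨k, hk, hka⟩ := transitive22 a han ha0
      refine ⟨k, hk, ?_⟩
      intro g
      rw [hka]
      have h1 := hmem g
      rw [ha, mem_fixL, mem_fixL] at h1
      have hφg := (mem_M22_iff _).mp (φ g).2
      have hg := (mem_M22_iff _).mp g.2
      constructor
      · intro h
        refine (h1.mp ⟨hφg.1, fun b hb => ?_⟩).2 (some 1) (by simp)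
        simp only [List.mem_cons, List.not_mem_nil, or_false] at hb
        rcases hb with rfl | rfl | rfl
        · exact hφg.2.1
        · exact hφg.2.2
        · exact h
      · intro h
        refine (h1.mpr ⟨hg.1, fun b hb => ?_⟩).2 a (by simp)
        simp only [List.mem_cons, List.not_mem_nil, or_false] at hb
        rcases hb with rfl | rfl | rfl
        · exact hg.2.1
        · exact hg.2.2
        · exact h) φ
  have hπn : π none = none := by
    apply hπout
    rintro ⟨g, hg, h⟩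
    have := ((mem_M22_iff g).mp hg).2.1
    have h3 : g (some 1) = g none := by rw [h, this]
    exact absurd (g.injective h3) (by decide)
  have hπ0 : π (some 0) = some 0 := by
    apply hπout
    rintro ⟨g, hg, h⟩
    have := ((mem_M22_iff g).mp hg).2.2
    have h3 : g (some 1) = g (some 0) := by rw [h, this]
    exact absurd (g.injective h3) (by decide)
  rcases normalizer22 π hπn hπ0 hπ hπ' with hM | hM
  · left
    have hπ22 : π ∈ Spor.M22 := (mem_M22_iff π).mpr ⟨hM, hπn, hπ0⟩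
    refine ⟨⟨k, hk⟩ * ⟨π, hπ22⟩, ?_⟩
    intro g
    apply Subtype.ext
    rw [hφ g]
    show k * (π * g.1 * π⁻¹) * k⁻¹ = (k * π) * g.1 * (k * π)⁻¹
    group
  · right
    set t1 := Equiv.swap (none : GolayPt) (some 0) * π with ht1
    have e1 : t1 none = some 0 := by
      rw [ht1, Equiv.Perm.mul_apply, hπn, Equiv.swap_apply_left]
    have e2 : t1 (some 0) = none := by
      rw [ht1, Equiv.Perm.mul_apply, hπ0, Equiv.swap_apply_right]
    have i1 : t⁻¹ none = some 0 := by rw [Equiv.Perm.inv_eq_iff_eq, h2]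
    have i2 : t⁻¹ (some 0) = none := by rw [Equiv.Perm.inv_eq_iff_eq, h1]
    have hm22 : t1 * t⁻¹ ∈ Spor.M22 := by
      rw [mem_M22_iff]
      refine ⟨M24.mul_mem hM (M24.inv_mem ht), ?_, ?_⟩
      · rw [Equiv.Perm.mul_apply, i1, e2]
      · rw [Equiv.Perm.mul_apply, i2, e1]
    refine ⟨⟨k, hk⟩ * ⟨t1 * t⁻¹, hm22⟩, ?_⟩
    intro g
    apply Subtype.ext
    rw [hφ g]
    have hconj := (conj_mem_M22 t1 hM e1 e2 g.1 g.2).1
    rw [mem_M22_iff] at hconj
    have hsw := swap_conj_of_fix _ hconj.2.1 hconj.2.2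
    have hπeq : π * g.1 * π⁻¹ = t1 * g.1 * t1⁻¹ := by
      rw [← hsw, ht1]
      have : (Equiv.swap (none : GolayPt) (some 0))⁻¹ = Equiv.swap (none : GolayPt) (some 0) :=
        Equiv.swap_inv _ _
      have hs2 : Equiv.swap (none : GolayPt) (some 0) * Equiv.swap (none : GolayPt) (some 0) = 1 :=
        Equiv.swap_mul_self _ _
      rw [this, mul_inv_rev, this]
      calc π * g.1 * π⁻¹ = 1 * π * g.1 * π⁻¹ * 1 := by group
        _ = (Equiv.swap (none : GolayPt) (some 0) * Equiv.swap (none : GolayPt) (some 0)) * π *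
            g.1 * π⁻¹ * (Equiv.swap (none : GolayPt) (some 0) *
              Equiv.swap (none : GolayPt) (some 0)) := by rw [hs2]
        _ = _ := by group
    rw [hπeq]
    show k * (t1 * g.1 * t1⁻¹) * k⁻¹ = (k * (t1 * t⁻¹)) * (t * g.1 * t⁻¹) * (k * (t1 * t⁻¹))⁻¹
    group

theorem tau_not_inner (t : Equiv.Perm GolayPt) (ht : t ∈ M24) (h1 : t none = some 0)
    (h2 : t (some 0) = none) :
    ¬ ∃ k : ↥Spor.M22, ∀ g : ↥Spor.M22, tau t ht h1 h2 g = k * g * k⁻¹ := by
  rintro ⟨k, hk⟩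
  have hk22 := (mem_M22_iff k.1).mp k.2
  have i1 : k.1⁻¹ none = none := by rw [Equiv.Perm.inv_eq_iff_eq, hk22.2.1]
  have i2 : k.1⁻¹ (some 0) = some 0 := by rw [Equiv.Perm.inv_eq_iff_eq, hk22.2.2]
  apply not_centralizes (k.1⁻¹ * t) (M24.mul_mem (M24.inv_mem hk22.1) ht)
  · rw [Equiv.Perm.mul_apply, h1, i2]
  · rw [Equiv.Perm.mul_apply, h2, i1]
  · intro g hg
    have := congrArg Subtype.val (hk ⟨g, hg⟩)
    have h3 : t * g * t⁻¹ = k.1 * g * k.1⁻¹ := this
    calc k.1⁻¹ * t * g = k.1⁻¹ * (t * g * t⁻¹) * t := by group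
      _ = k.1⁻¹ * (k.1 * g * k.1⁻¹) * t := by rw [h3]
      _ = g * (k.1⁻¹ * t) := by group

theorem inner_iff {H : Type*} [Group H] (φ : MulAut H) :
    φ ∈ (MulAut.conj : H →* MulAut H).range ↔ ∃ k : H, ∀ g : H, φ g = k * g * k⁻¹ := by
  constructor
  · rintro ⟨k, rfl⟩
    exact ⟨k, fun g => MulAut.conj_apply k g⟩
  · rintro ⟨k, hk⟩
    refine ⟨k, ?_⟩
    ext g
    rw [MulAut.conj_apply, hk g]

theorem card_out_M22 : Nat.card (Cfsg.Out ↥Spor.M22) = 2 := by
  obtain ⟨t, ht, h1, h2⟩ := exists_swap22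
  show Nat.card (MulAut ↥Spor.M22 ⧸ (MulAut.conj : ↥Spor.M22 →* MulAut ↥Spor.M22).range) = 2
  rw [← Subgroup.index_eq_card, Subgroup.index_eq_two_iff]
  set τ : MulAut ↥Spor.M22 := tau t ht h1 h2 with hτ
  have hτn : τ ∉ (MulAut.conj : ↥Spor.M22 →* MulAut ↥Spor.M22).range := by
    rw [inner_iff]
    exact tau_not_inner t ht h1 h2
  refine ⟨τ⁻¹, ?_⟩
  intro b
  rcases class22 b t ht h1 h2 with hb | hb
  · right
    have hbI : b ∈ (MulAut.conj : ↥Spor.M22 →* MulAut ↥Spor.M22).range := (inner_iff b).mpr hb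
    refine ⟨hbI, ?_⟩
    intro h
    apply hτn
    have h3 := Subgroup.mul_mem _ (Subgroup.inv_mem _ h) hbI
    have e : (b * τ⁻¹)⁻¹ * b = τ := by group
    rwa [e] at h3
  · left
    obtain ⟨k, hk⟩ := hb
    have hbe : b = MulAut.conj k * τ := by
      apply MulEquiv.ext
      intro g
      rw [hk g, MulAut.mul_apply, MulAut.conj_apply]
    have hbt : b * τ⁻¹ = MulAut.conj k := by
      rw [hbe]
      group
    refine ⟨by rw [hbt]; exact ⟨k, rfl⟩, ?_⟩
    intro h
    apply hτn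
    have h3 := Subgroup.mul_mem _ (Subgroup.inv_mem _ (show MulAut.conj k ∈
      (MulAut.conj : ↥Spor.M22 →* MulAut ↥Spor.M22).range from ⟨k, rfl⟩)) h
    have e : (MulAut.conj k)⁻¹ * b = τ := by
      rw [hbe]
      group
    rwa [e] at h3

end Cfsg.Agent.Lib.Helper9.OutM
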