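import Cfsg.Agent.Lib.Helper9.OutN5
import Cfsg.Agent.Lib.Helper9.M24M1
import Cfsg.Agent.Lib.Helper9.M24P5

set_option autoImplicit false

/-! The outer automorphism group of `M12`: general lemmas and the subgroups of index 12 of `M11`. -/

namespace Cfsg.Agent.Lib.Helper9.OutM

open Cfsg Finset MulAction Cfsg.Agent.Lib.Helper9.GolayQR1 Cfsg.Agent.Lib.Helper9.M24T9
  Cfsg.Agent.Lib.Helper9.Chain1
open scoped Pointwise

section general

variable {α : Type*} [Fintype α] [DecidableEq α]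

/-- an automorphism permuting the point stabilizers is conjugation by a permutation -/
theorem exists_perm_of_stab (G : Subgroup (Equiv.Perm α)) (φ : ↥G ≃* ↥G)
    (hidx : ∀ x : α, ∃ y : α, ∀ g : ↥G, (φ g).1 y = y ↔ g.1 x = x)
    (hinj : ∀ y y' : α, (∀ g ∈ G, g y = y ↔ g y' = y') → y = y') :
    ∃ π : Equiv.Perm α, ∀ g : ↥G, (φ g).1 = π * g.1 * π⁻¹ := by
  choose f hf using hidx
  have hfinj : Function.Injective f := by
    intro x x' h
    apply hinj
    intro g hg
    rw [← hf x ⟨g, hg⟩, ← hf x' ⟨g, hg⟩, h]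
  have hfbij : Function.Bijective f := Finite.injective_iff_bijective.mp hfinj
  let π : Equiv.Perm α := Equiv.ofBijective f hfbij
  have hπ : ∀ x, π x = f x := fun x => rfl
  have hequiv : ∀ (g : ↥G) (x : α), f (g.1 x) = (φ g).1 (f x) := by
    intro g x
    apply hinj
    intro k hk
    obtain ⟨k0, hk0⟩ := φ.surjective ⟨k, hk⟩
    have hk' : k = (φ k0).1 := by rw [hk0]
    rw [hk', hf (g.1 x) k0]
    have h1 : (φ k0).1 ((φ g).1 (f x)) = (φ g).1 (f x) ↔ (φ (g⁻¹ * k0 * g)).1 (f x) = f x := by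
      rw [map_mul, map_mul, map_inv]
      show _ ↔ ((φ g).1⁻¹ * (φ k0).1 * (φ g).1) (f x) = f x
      rw [Equiv.Perm.mul_apply, Equiv.Perm.mul_apply, Equiv.Perm.inv_eq_iff_eq]
    rw [h1, hf x (g⁻¹ * k0 * g)]
    show _ ↔ (g.1⁻¹ * k0.1 * g.1) x = x
    rw [Equiv.Perm.mul_apply, Equiv.Perm.mul_apply, Equiv.Perm.inv_eq_iff_eq]
  refine ⟨π, fun g => ?_⟩
  ext p
  obtain ⟨x, rfl⟩ := hfbij.surjective p
  rw [Equiv.Perm.mul_apply, Equiv.Perm.mul_apply]
  have : π⁻¹ (f x) = x := by rw [Equiv.Perm.inv_eq_iff_eq, hπ]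
  rw [this, hπ, hequiv]

/-- the orbit of a point of an orbit is the whole orbit -/
theorem orbF_eq_of_mem (K : Subgroup (Equiv.Perm α)) (c c' : α) (h : c' ∈ orbF K c) :
    orbF K c' = orbF K c := by
  obtain ⟨k, hk, rfl⟩ := (mem_orbF K c c').mp h
  ext x
  rw [mem_orbF, mem_orbF]
  constructor
  · rintro ⟨g, hg, rfl⟩
    exact ⟨g * k, K.mul_mem hg hk, rfl⟩
  · rintro ⟨g, hg, rfl⟩
    refine ⟨g * k⁻¹, K.mul_mem hg (K.inv_mem hk), ?_⟩
    rw [Equiv.Perm.mul_apply, inv_apply_self']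

/-- an orbit inside an invariant set -/
theorem orbF_subset (K : Subgroup (Equiv.Perm α)) (c : α) (B : Finset α) (hc : c ∈ B)
    (hB : ∀ g ∈ K, ∀ b ∈ B, g b ∈ B) : orbF K c ⊆ B := by
  intro x hx
  obtain ⟨g, hg, rfl⟩ := (mem_orbF K c x).mp hx
  exact hB g hg c hc

/-- an involution does not lie in a subgroup of odd order -/
theorem not_mem_of_odd_card {A : Type*} [Group A] (K : Subgroup A) (v : A) (hv2 : v ^ 2 = 1)
    (hv1 : v ≠ 1) (n : ℕ) (hK : Nat.card K = n) (hn : ¬ 2 ∣ n) (hn0 : n ≠ 0) : v ∉ K := by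
  intro hv
  haveI : Finite ↥K := Nat.finite_of_card_ne_zero (by rw [hK]; exact hn0)
  have h2 : orderOf (⟨v, hv⟩ : ↥K) = 2 := by
    apply orderOf_eq_prime
    · exact Subtype.ext hv2
    · intro h
      exact hv1 (congrArg Subtype.val h)
  have := orderOf_dvd_natCard (⟨v, hv⟩ : ↥K)
  rw [h2, hK] at this
  exact hn this

end general

/-- the outer automorphism group has order two when some non-inner automorphism represents every
non-inner class -/
theorem card_out_eq_two {H : Type*} [Group H] (τ : MulAut H)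
    (hτ : ¬ ∃ k : H, ∀ g : H, τ g = k * g * k⁻¹)
    (hcl : ∀ φ : MulAut H, (∃ k : H, ∀ g : H, φ g = k * g * k⁻¹) ∨
      (∃ k : H, ∀ g : H, φ g = k * τ g * k⁻¹)) :
    Nat.card (MulAut H ⧸ (MulAut.conj : H →* MulAut H).range) = 2 := by
  rw [← Subgroup.index_eq_card, Subgroup.index_eq_two_iff]
  have hτn : τ ∉ (MulAut.conj : H →* MulAut H).range := by
    rw [inner_iff]
    exact hτ
  refine ⟨τ⁻¹, ?_⟩
  intro b
  rcases hcl b with hb | hb
  · right
    have hbI : b ∈ (MulAut.conj : H →* MulAut H).range := (inner_iff b).mpr hb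
    refine ⟨hbI, ?_⟩
    intro h
    apply hτn
    have h3 := Subgroup.mul_mem _ (Subgroup.inv_mem _ h) hbI
    have e : (b * τ⁻¹)⁻¹ * b = τ := by group
    rwa [e] at h3
  · left
    obtain ⟨k, hk⟩ := hb
    have hbe : b = MulAut.conj k * τ := by
      apply MulEquiv.ext
      intro g
      rw [hk g, MulAut.mul_apply, MulAut.conj_apply]
    have hbt : b * τ⁻¹ = MulAut.conj k := by
      rw [hbe]
      group
    refine ⟨by rw [hbt]; exact ⟨k, rfl⟩, ?_⟩
    intro h
    apply hτn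
    have h3 := Subgroup.mul_mem _ (Subgroup.inv_mem _ (show MulAut.conj k ∈
      (MulAut.conj : H →* MulAut H).range from ⟨k, rfl⟩)) h
    have e : (MulAut.conj k)⁻¹ * b = τ := by
      rw [hbe]
      group
    rwa [e] at h3

/-! ### elements of order 11 in the stabilizer of a dodecad -/

theorem stabF_maps (d : Finset GolayPt) (g : Equiv.Perm GolayPt) (hg : g ∈ stabF d) :
    ∀ b ∈ d, g b ∈ d := by
  intro b hb
  have := ((mem_stabF d g).mp hg).2
  rw [← this]
  exact Finset.smul_mem_smul_finset hb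

theorem stabF_maps_compl (d : Finset GolayPt) (g : Equiv.Perm GolayPt) (hg : g ∈ stabF d) :
    ∀ b ∈ dᶜ, g b ∈ dᶜ := by
  intro b hb
  rw [mem_compl] at hb ⊢
  exact Cfsg.Agent.Lib.Helper9.M24M1.maps_compl d g ((mem_stabF d g).mp hg).2 b hb

/-- an element of order 11 of the stabilizer of a dodecad fixes one point of the dodecad and one
point of its complement -/
theorem fix_eleven (d : Finset GolayPt) (hd : d ∈ dodecads) (h : Equiv.Perm GolayPt)
    (hh : h ∈ stabF d) (h1 : h ≠ 1) (h11 : h ^ 11 = 1) :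
    (d ∩ fixF h).card = 1 ∧ (dᶜ ∩ fixF h).card = 1 := by
  haveI : Fact (Nat.Prime 11) := ⟨by norm_num⟩
  have hM : h ∈ M24 := ((mem_stabF d h).mp hh).1
  have hc := card_fixF_prime h hM h1 11 (by norm_num) h11
  have h12 : d.card = 12 := hd.2
  have hm := card_modEq_fix h 11 h11 d (stabF_maps d h hh)
  rw [h12] at hm
  unfold Nat.ModEq at hm
  have hle : (d ∩ fixF h).card ≤ (fixF h).card := card_le_card inter_subset_right
  have hsplit : (dᶜ ∩ fixF h).card + (d ∩ fixF h).card = (fixF h).card := by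
    rw [inter_comm dᶜ, inter_comm d, ← sdiff_eq_inter_compl]
    exact card_sdiff_add_card_inter (fixF h) d
  rw [hc] at hle hsplit
  constructor
  · omega
  · omega

end Cfsg.Agent.Lib.Helper9.OutM
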