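import Cfsg.Agent.Lib.Helper9.OutP1

set_option autoImplicit false

/-! The subgroups of index 12 of `M11` and of `M12`. -/

namespace Cfsg.Agent.Lib.Helper9.OutM

open Cfsg Finset MulAction Cfsg.Agent.Lib.Helper9.GolayQR1 Cfsg.Agent.Lib.Helper9.M24T9
  Cfsg.Agent.Lib.Helper9.Chain1
open scoped Pointwise

/-- an involution of the stabilizer of a dodecad with a fixed point fixes a point of the
complement -/
theorem involution_fix_compl (d : Finset GolayPt) (hd : d ∈ dodecads) (v : Equiv.Perm GolayPt)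
    (hv : v ∈ stabF d) (hv2 : v ^ 2 = 1) (hv1 : v ≠ 1) (x : GolayPt) (hx : v x = x) :
    ∃ y ∉ d, v y = y := by
  have hM : v ∈ M24 := ((mem_stabF d v).mp hv).1
  rcases fixF_involution v hM hv2 hv1 with h | h
  · exfalso
    have : x ∈ fixF v := (mem_fixF v x).mpr hx
    rw [h] at this
    exact absurd this (notMem_empty _)
  · have h8 : (fixF v).card = 8 := h.2
    have hle : (fixF v ∩ d).card ≤ 4 := by
      by_contra hcon
      push Not at hcon
      apply hv1
      exact Cfsg.Agent.Lib.Helper9.M24P5.eq_one_of_fix d hd v hv (fixF v ∩ d) inter_subset_right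
        (by omega) (fun p hp => (mem_fixF v p).mp (mem_inter.mp hp).1)
    have hsplit := card_sdiff_add_card_inter (fixF v) d
    have hpos : 0 < (fixF v \ d).card := by omega
    obtain ⟨y, hy⟩ := card_pos.mp hpos
    rw [mem_sdiff] at hy
    exact ⟨y, hy.2, (mem_fixF v y).mp hy.1⟩

/-- a subgroup of order 660 of the stabilizer of a dodecad and one of its points fixes a point of
the complement -/
theorem index_M11 (d : Finset GolayPt) (hd : d ∈ dodecads) (x : GolayPt) (hx : x ∈ d)
    (K : Subgroup (Equiv.Perm GolayPt)) (hK : K ≤ stabF d ⊓ stabilizer (Equiv.Perm GolayPt) x)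
    (hc : Nat.card K = 660) : ∃ y ∉ d, ∀ k ∈ K, k y = y := by
  haveI : Fact (Nat.Prime 11) := ⟨by norm_num⟩
  haveI : Fact (Nat.Prime 2) := ⟨by norm_num⟩
  have h12 : d.card = 12 := hd.2
  have hKd : ∀ g ∈ K, g ∈ stabF d := fun g hg => ((mem_inf_stab _ _ _).mp (hK hg)).1
  have hKx : ∀ g ∈ K, g x = x := fun g hg => ((mem_inf_stab _ _ _).mp (hK hg)).2
  obtain ⟨h, hh, hh1, hh11⟩ := exists_prime_order K 11 (by rw [hc]; norm_num) (by rw [hc]; norm_num)
  obtain ⟨hf1, hf2⟩ := fix_eleven d hd h (hKd h hh) hh1 hh11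
  have hxf : d ∩ fixF h = {x} := by
    obtain ⟨a, ha⟩ := card_eq_one.mp hf1
    have : x ∈ d ∩ fixF h := mem_inter.mpr ⟨hx, (mem_fixF h x).mpr (hKx h hh)⟩
    rw [ha, mem_singleton] at this
    rw [ha, this]
  obtain ⟨y, hy⟩ := card_eq_one.mp hf2
  have hyy : y ∈ dᶜ ∩ fixF h := by rw [hy]; exact mem_singleton_self y
  rw [mem_inter, mem_compl, mem_fixF] at hyy
  refine ⟨y, hyy.1, ?_⟩
  have hBsub : orbF K y ⊆ dᶜ := orbF_subset K y dᶜ (mem_compl.mpr hyy.1)
    (fun g hg => stabF_maps_compl d g (hKd g hg))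
  have hBm := card_modEq_fix h 11 hh11 (orbF K y) (orbF_invariant K y h hh)
  have hBf : orbF K y ∩ fixF h = {y} := by
    ext a
    rw [mem_inter, mem_singleton]
    constructor
    · rintro ⟨h1, h2⟩
      have : a ∈ dᶜ ∩ fixF h := mem_inter.mpr ⟨hBsub h1, h2⟩
      rw [hy, mem_singleton] at this
      exact this
    · rintro rfl
      exact ⟨self_mem_orbF K a, (mem_fixF h a).mpr hyy.2⟩
  rw [hBf, card_singleton] at hBm
  unfold Nat.ModEq at hBm
  have hBle : (orbF K y).card ≤ 12 := by
    have := card_le_card hBsub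
    rw [card_compl, Cfsg.Agent.Lib.Helper9.GolayQR5.card_golayPt, h12] at this
    exact this
  have hBpos := orb_card_pos K y
  have hcases : (orbF K y).card = 1 ∨ (orbF K y).card = 12 := by omega
  rcases hcases with h1 | h12'
  · exact fixed_of_orb_one K y h1
  · exfalso
    have hBeq : orbF K y = dᶜ := eq_of_subset_of_card_le hBsub (by
      rw [card_compl, Cfsg.Agent.Lib.Helper9.GolayQR5.card_golayPt, h12, h12'])
    obtain ⟨x2, hx2⟩ : (d.erase x).Nonempty := card_pos.mp (by rw [card_erase_of_mem hx]; omega)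
    obtain ⟨hx2x, hx2d⟩ := mem_erase.mp hx2
    have hAsub : orbF K x2 ⊆ d.erase x := orbF_subset K x2 (d.erase x) hx2 (by
      intro g hg b hb
      obtain ⟨hbx, hbd⟩ := mem_erase.mp hb
      refine mem_erase.mpr ⟨?_, stabF_maps d g (hKd g hg) b hbd⟩
      intro e
      rw [← hKx g hg] at e
      exact hbx (g.injective e))
    have hAm := card_modEq_fix h 11 hh11 (orbF K x2) (orbF_invariant K x2 h hh)
    have hAf : orbF K x2 ∩ fixF h = ∅ := by
      rw [eq_empty_iff_forall_notMem]
      intro a ha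
      obtain ⟨h1, h2⟩ := mem_inter.mp ha
      obtain ⟨hax, had⟩ := mem_erase.mp (hAsub h1)
      have : a ∈ d ∩ fixF h := mem_inter.mpr ⟨had, h2⟩
      rw [hxf, mem_singleton] at this
      exact hax this
    rw [hAf, card_empty] at hAm
    unfold Nat.ModEq at hAm
    have hAle : (orbF K x2).card ≤ 11 := by
      have := card_le_card hAsub
      rw [card_erase_of_mem hx, h12] at this
      exact this
    have hApos := orb_card_pos K x2
    have hA11 : (orbF K x2).card = 11 := by omega
    have hstab := card_orbF K x2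
    rw [hc, hA11] at hstab
    have h60 : Nat.card ↥(K ⊓ stabilizer (Equiv.Perm GolayPt) x2) = 60 := by omega
    obtain ⟨v, hv, hv1, hv2⟩ := exists_prime_order (K ⊓ stabilizer (Equiv.Perm GolayPt) x2) 2
      (by rw [h60]; norm_num) (by rw [h60]; norm_num)
    obtain ⟨hvK, hvx2⟩ := (mem_inf_stab _ _ _).mp hv
    obtain ⟨y', hy'd, hy'⟩ := involution_fix_compl d hd v (hKd v hvK) hv2 hv1 x (hKx v hvK)
    have hy'B : y' ∈ orbF K y := by rw [hBeq, mem_compl]; exact hy'd
    have hB' : (orbF K y').card = 12 := by rw [orbF_eq_of_mem K y y' hy'B, h12']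
    have hstab' := card_orbF K y'
    rw [hc, hB'] at hstab'
    have h55 : Nat.card ↥(K ⊓ stabilizer (Equiv.Perm GolayPt) y') = 55 := by omega
    exact not_mem_of_odd_card _ v hv2 hv1 55 h55 (by norm_num) (by norm_num)
      ((mem_inf_stab _ _ _).mpr ⟨hvK, hy'⟩)

end Cfsg.Agent.Lib.Helper9.OutM
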