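import Cfsg.Agent.Lib.Helper9.OutP2
import Cfsg.Agent.Lib.Helper9.M24F2
import Cfsg.Agent.Lib.Helper9.Steiner9

set_option autoImplicit false

/-! The octads meeting the dodecad of squares in two points. -/

namespace Cfsg.Agent.Lib.Helper9.OutM

open Cfsg Finset MulAction Cfsg.Agent.Lib.Helper9.GolayQR1 Cfsg.Agent.Lib.Helper9.M24T9
  Cfsg.Agent.Lib.Helper9.Chain1 Cfsg.Agent.Lib.Helper9.M24U1 Cfsg.Agent.Lib.Helper9.GolayQR5
  Cfsg.Agent.Lib.Helper9.GolayQR8 Cfsg.Agent.Lib.Helper9.Steiner5 Cfsg.Agent.Lib.Helper9.Steiner9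
open scoped Pointwise

/-- the mask of the dodecad of squares -/
def sqMask : ℕ := 340831

theorem sq_eq_M : Spor.squareDodecad = M sqMask := by
  ext p
  rw [mem_M]
  revert p
  decide +kernel

/-- the octads meeting the dodecad of squares in two points -/
def o26 : List ℕ :=
  [190626, 580704, 675712, 689317, 1100945, 1230376, 1445088, 1608104, 1664160, 1722420, 1805314,
    2019456, 2268296, 2313249, 2409888, 2624690, 2738308, 2769128, 2810896, 3050016, 3168928,
    3189796, 3294342, 3328320, 3375280, 3704512, 3719203, 3806496, 3811457, 3951624, 4213932,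
    4361520, 4441280, 4768432, 4900873, 4921504, 5024896, 5129250, 5280930, 5390753, 5405696,
    5409412, 5621792, 5770785, 5785794, 5817604, 5899416, 5939296, 6326497, 6344194, 6432416,
    6475812, 6703248, 6837377, 6842656, 6915112, 6949956, 6979970, 7357552, 7397512, 7409024,
    7473194, 7767041, 7903248, 8077824, 8126628, 8490656, 8541360, 8834052, 8963210, 9055272,
    9078992, 9158944, 9193633, 9456930, 9486564, 9607201, 9610624, 9652360, 9968772, 10021376,
    10093218, 10110017, 10257456, 10513600, 10537016, 10619300, 10650722, 10666625, 11028004,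
    11046145, 11055264, 11163650, 11469952, 11535529, 11654144, 11669008, 11831426, 11952160,
    12075408, 12126304, 12222476, 12638592, 12641313, 12717187, 12733024, 13009064, 13108704,
    13142054, 13192208, 13262980, 13276672, 13641904, 13667400, 13811730, 13829156, 13911680,
    14176296, 14254209, 14551296, 14714004, 14762146, 14828808, 14919680, 14949408, 15207048,
    15335473, 15515712, 15747077, 15762208, 15864000, 16262146]

theorem o26_ok : o26.all (fun m => Cfsg.Agent.Lib.Helper9.M24F2.isOctF m &&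
    Nat.beq (wt24 (m &&& sqMask)) 2) = true := by
  decide +kernel

theorem o26_cover : ∀ i j k : Fin 24, sqMask.testBit i.val = true → sqMask.testBit j.val = true →
    i ≠ j → sqMask.testBit k.val = false →
    o26.any (fun m => m.testBit i.val && m.testBit j.val && m.testBit k.val) = true := by
  decide +kernel

/-- two points of the dodecad of squares and a point outside lie in an octad meeting the dodecad in
the two points -/
theorem exists_octad_two (x0 x2 y0 : GolayPt) (hx0 : x0 ∈ Spor.squareDodecad)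
    (hx2 : x2 ∈ Spor.squareDodecad) (hne : x0 ≠ x2) (hy0 : y0 ∉ Spor.squareDodecad) :
    ∃ O ∈ octads, O ∩ Spor.squareDodecad = {x0, x2} ∧ y0 ∈ O := by
  have hx0' := hx0
  have hx2' := hx2
  rw [sq_eq_M, mem_M] at hx0' hx2' hy0
  rw [Bool.not_eq_true] at hy0
  have hij : (⟨idx x0, idx_lt x0⟩ : Fin 24) ≠ ⟨idx x2, idx_lt x2⟩ := by
    intro e
    apply hne
    have e' : idx x0 = idx x2 := congrArg Fin.val e
    rw [← unidx_idx x0, ← unidx_idx x2, e']
  have hc := o26_cover ⟨idx x0, idx_lt x0⟩ ⟨idx x2, idx_lt x2⟩ ⟨idx y0, idx_lt y0⟩ hx0' hx2' hij hy0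
  rw [List.any_eq_true] at hc
  obtain ⟨m, hm, hbits⟩ := hc
  simp only [Bool.and_eq_true] at hbits
  obtain ⟨⟨hb0, hb2⟩, hby⟩ := hbits
  have hok := o26_ok
  rw [List.all_eq_true] at hok
  have hm' := hok m hm
  simp only [Bool.and_eq_true, Nat.beq_eq_true_eq] at hm'
  obtain ⟨hoct, hw⟩ := hm'
  refine ⟨M m, Cfsg.Agent.Lib.Helper9.M24F2.isOctF_sound m hoct, ?_, (mem_M m y0).mpr hby⟩
  have hcard : (M m ∩ Spor.squareDodecad).card = 2 := by
    rw [sq_eq_M, ← M_and, card_M]
    exact Nat.eq_of_beq_eq_true hw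
  have hsub : ({x0, x2} : Finset GolayPt) ⊆ M m ∩ Spor.squareDodecad := by
    intro p hp
    rw [mem_insert, mem_singleton] at hp
    rcases hp with rfl | rfl
    · exact mem_inter.mpr ⟨(mem_M m p).mpr hb0, hx0⟩
    · exact mem_inter.mpr ⟨(mem_M m p).mpr hb2, hx2⟩
  have hc2 : ({x0, x2} : Finset GolayPt).card = 2 := card_pair hne
  exact (eq_of_subset_of_card_le hsub (by rw [hcard, hc2])).symm

/-- an octad meeting a dodecad in two given points is determined by a further point -/
theorem octad_two_unique (d : Finset GolayPt) (hd : d ∈ dodecads) (O1 O2 : Finset GolayPt)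
    (h1 : O1 ∈ octads) (h2 : O2 ∈ octads) (x0 x2 y0 : GolayPt) (hne : x0 ≠ x2)
    (hO1 : O1 ∩ d = {x0, x2}) (hO2 : O2 ∩ d = {x0, x2}) (hy0 : y0 ∉ d) (hy1 : y0 ∈ O1)
    (hy2 : y0 ∈ O2) : O1 = O2 := by
  by_contra hne12
  have hst := octads_isSteiner
  have hx0d : x0 ∈ O1 ∩ d := by rw [hO1]; exact mem_insert_self _ _
  have hx2d : x2 ∈ O1 ∩ d := by rw [hO1]; exact mem_insert_of_mem (mem_singleton_self _)
  have hx0d' : x0 ∈ O2 ∩ d := by rw [hO2]; exact mem_insert_self _ _
  have hx2d' : x2 ∈ O2 ∩ d := by rw [hO2]; exact mem_insert_of_mem (mem_singleton_self _)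
  have h3 : 3 ≤ (O1 ∩ O2).card := by
    have hsub : ({y0, x0, x2} : Finset GolayPt) ⊆ O1 ∩ O2 := by
      intro p hp
      simp only [mem_insert, mem_singleton] at hp
      rcases hp with rfl | rfl | rfl
      · exact mem_inter.mpr ⟨hy1, hy2⟩
      · exact mem_inter.mpr ⟨(mem_inter.mp hx0d).1, (mem_inter.mp hx0d').1⟩
      · exact mem_inter.mpr ⟨(mem_inter.mp hx2d).1, (mem_inter.mp hx2d').1⟩
    have hc : ({y0, x0, x2} : Finset GolayPt).card = 3 := by
      rw [card_insert_of_notMem, card_pair hne]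
      intro hmem
      rw [mem_insert, mem_singleton] at hmem
      rcases hmem with rfl | rfl
      · exact hy0 (mem_inter.mp hx0d).2
      · exact hy0 (mem_inter.mp hx2d).2
    rw [← hc]
    exact card_le_card hsub
  rcases block_inter card_golayPt hst h1 h2 hne12 with h | h | h
  · omega
  · omega
  · have hsd := symm_block card_golayPt hst h1 h2 h
    have hdis : (symmDiff O1 O2 ∩ d).card = 0 := by
      rw [card_eq_zero, eq_empty_iff_forall_notMem]
      intro p hp
      rw [mem_inter, mem_symmDiff] at hp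
      obtain ⟨hp1, hpd⟩ := hp
      have e1 : p ∈ O1 ↔ p ∈ ({x0, x2} : Finset GolayPt) := by
        rw [← hO1, mem_inter]
        tauto
      have e2 : p ∈ O2 ↔ p ∈ ({x0, x2} : Finset GolayPt) := by
        rw [← hO2, mem_inter]
        tauto
      tauto
    have := octad_inter_dodecad _ d hsd hd
    omega

/-- the stabilizer of the dodecad, two of its points and a point outside preserves the octad -/
theorem octad_two_invariant (d : Finset GolayPt) (hd : d ∈ dodecads) (O : Finset GolayPt)
    (hO : O ∈ octads) (x0 x2 y0 : GolayPt) (hne : x0 ≠ x2) (hOd : O ∩ d = {x0, x2}) (hy0 : y0 ∉ d)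
    (hyO : y0 ∈ O) (k : Equiv.Perm GolayPt) (hk : k ∈ stabF d) (k0 : k x0 = x0) (k2 : k x2 = x2)
    (ky : k y0 = y0) : k • O = O := by
  obtain ⟨hkM, hkd⟩ := (mem_stabF d k).mp hk
  apply octad_two_unique d hd (k • O) O (Cfsg.Agent.Lib.Helper9.M24T1.smul_octad_mem k hkM O hO) hO
    x0 x2 y0 hne _ hOd hy0 _ hyO
  · have : (k • O) ∩ d = k • (O ∩ d) := by
      rw [Finset.smul_finset_inter, hkd]
    rw [this, hOd]
    ext p
    rw [← Finset.inv_smul_mem_iff, mem_insert, mem_singleton, mem_insert, mem_singleton,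
      Equiv.Perm.smul_def]
    constructor
    · rintro (h | h)
      · left
        rw [Equiv.Perm.inv_eq_iff_eq, k0] at h
        exact h
      · right
        rw [Equiv.Perm.inv_eq_iff_eq, k2] at h
        exact h
    · rintro (rfl | rfl)
      · left
        rw [Equiv.Perm.inv_eq_iff_eq, k0]
      · right
        rw [Equiv.Perm.inv_eq_iff_eq, k2]
  · rw [← ky]
    exact Finset.smul_mem_smul_finset hyO

end Cfsg.Agent.Lib.Helper9.OutM
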