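import Cfsg.Agent.Lib.Helper9.OutP3
import Cfsg.Agent.Lib.Helper9.M24P9

set_option autoImplicit false

/-! The subgroups of index 12 of `M12` are point stabilizers. -/

namespace Cfsg.Agent.Lib.Helper9.OutM

open Cfsg Finset MulAction Cfsg.Agent.Lib.Helper9.GolayQR1 Cfsg.Agent.Lib.Helper9.M24T9
  Cfsg.Agent.Lib.Helper9.Chain1 Cfsg.Agent.Lib.Helper9.M24U1 Cfsg.Agent.Lib.Helper9.GolayQR5
  Cfsg.Agent.Lib.Helper9.GolayQR8 Cfsg.Agent.Lib.Helper9.M24Z11 Cfsg.Agent.Lib.Helper9.M24Y4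
  Cfsg.Agent.Lib.Helper9.M24P7
open scoped Pointwise

/-- the stabilizer of a dodecad, three points outside it and a point of it has order 6 -/
theorem card_three_pt (d : Finset GolayPt) (hd : d ∈ dodecads) (y0 y2 y3 x0 : GolayPt)
    (h0 : y0 ∉ d) (h2 : y2 ∉ d) (h3 : y3 ∉ d) (h02 : y0 ≠ y2) (h03 : y0 ≠ y3) (h23 : y2 ≠ y3)
    (hx0 : x0 ∈ d) :
    Nat.card ↥(stabF d ⊓ stabilizer (Equiv.Perm GolayPt) y0 ⊓ stabilizer (Equiv.Perm GolayPt) y2 ⊓
      stabilizer (Equiv.Perm GolayPt) y3 ⊓ stabilizer (Equiv.Perm GolayPt) x0) = 6 := by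
  have hd' : dᶜ ∈ dodecads := compl_mem_dodecads d hd
  have h12 : d.card = 12 := hd.2
  have hc := card_three dᶜ hd' y0 y2 y3 (mem_compl.mpr h0) (mem_compl.mpr h2) (mem_compl.mpr h3)
    h02 h03 h23
  rw [stabF_compl] at hc
  obtain ⟨-, htr⟩ := three_result dᶜ hd' y0 y2 y3 (mem_compl.mpr h0) (mem_compl.mpr h2)
    (mem_compl.mpr h3) h02 h03 h23
  set P := stabF d ⊓ stabilizer (Equiv.Perm GolayPt) y0 ⊓ stabilizer (Equiv.Perm GolayPt) y2 ⊓
      stabilizer (Equiv.Perm GolayPt) y3 with hP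
  have hPd : ∀ g ∈ P, g ∈ stabF d := by
    intro g hg
    rw [hP, mem_inf_stab, mem_inf_stab, mem_inf_stab] at hg
    exact hg.1.1.1
  have horb : orbF P x0 = d := by
    apply Subset.antisymm
    · exact orbF_subset P x0 d hx0 (fun g hg => stabF_maps d g (hPd g hg))
    · intro x hx
      obtain ⟨g, hg, hgx⟩ := htr x0 (by rw [notMem_compl]; exact hx0) x (by rw [notMem_compl]; exact hx)
      simp only [Subgroup.mem_inf, MulAction.mem_stabilizer_iff] at hg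
      rw [mem_orbF]
      refine ⟨g.1, ?_, hgx⟩
      rw [hP, mem_inf_stab, mem_inf_stab, mem_inf_stab, mem_stabF]
      refine ⟨⟨⟨⟨g.2, ?_⟩, hg.1.1.2⟩, hg.1.2⟩, hg.2⟩
      have h1 : g.1 • dᶜ = dᶜ := hg.1.1.1
      rw [Cfsg.Agent.Lib.Helper9.M24F7.smul_compl', compl_inj_iff] at h1
      exact h1
  have := card_orbF P x0
  rw [hc, horb, h12] at this
  omega

/-- a subgroup of order 60 of the stabilizer of a dodecad fixing two points of the dodecad and two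
points outside is transitive on the other ten points outside -/
theorem trans_ten (d : Finset GolayPt) (hd : d ∈ dodecads) (W : Subgroup (Equiv.Perm GolayPt))
    (hW : W ≤ stabF d) (hc : Nat.card W = 60) (x0 y0 y2 : GolayPt) (hx0 : x0 ∈ d) (h0 : y0 ∉ d)
    (h2 : y2 ∉ d) (h02 : y0 ≠ y2) (hfx : ∀ k ∈ W, k x0 = x0) (hf0 : ∀ k ∈ W, k y0 = y0)
    (hf2 : ∀ k ∈ W, k y2 = y2) (y3 y4 : GolayPt) (h3 : y3 ∉ d) (h4 : y4 ∉ d) (h30 : y3 ≠ y0)
    (h32 : y3 ≠ y2) (h40 : y4 ≠ y0) (h42 : y4 ≠ y2) : ∃ k ∈ W, k y3 = y4 := by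
  have h12 : d.card = 12 := hd.2
  have h6 := card_three_pt d hd y0 y2 y3 x0 h0 h2 h3 h02 (Ne.symm h30) (Ne.symm h32) hx0
  have hle : W ⊓ stabilizer (Equiv.Perm GolayPt) y3 ≤
      stabF d ⊓ stabilizer (Equiv.Perm GolayPt) y0 ⊓ stabilizer (Equiv.Perm GolayPt) y2 ⊓
      stabilizer (Equiv.Perm GolayPt) y3 ⊓ stabilizer (Equiv.Perm GolayPt) x0 := by
    intro k hk
    obtain ⟨hkW, hk3⟩ := (mem_inf_stab _ _ _).mp hk
    rw [mem_inf_stab, mem_inf_stab, mem_inf_stab, mem_inf_stab]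
    exact ⟨⟨⟨⟨hW hkW, hf0 k hkW⟩, hf2 k hkW⟩, hk3⟩, hfx k hkW⟩
  haveI : Finite ↥(stabF d ⊓ stabilizer (Equiv.Perm GolayPt) y0 ⊓
      stabilizer (Equiv.Perm GolayPt) y2 ⊓ stabilizer (Equiv.Perm GolayPt) y3 ⊓
      stabilizer (Equiv.Perm GolayPt) x0) := Nat.finite_of_card_ne_zero (by rw [h6]; norm_num)
  have hle6 := Subgroup.card_le_of_le hle
  rw [h6] at hle6
  have hos := card_orbF W y3
  rw [hc] at hos
  have hsub : orbF W y3 ⊆ (dᶜ.erase y0).erase y2 := by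
    apply orbF_subset W y3
    · exact mem_erase.mpr ⟨h32, mem_erase.mpr ⟨h30, mem_compl.mpr h3⟩⟩
    · intro g hg b hb
      obtain ⟨hb2, hb'⟩ := mem_erase.mp hb
      obtain ⟨hb0, hbd⟩ := mem_erase.mp hb'
      refine mem_erase.mpr ⟨?_, mem_erase.mpr ⟨?_, stabF_maps_compl d g (hW hg) b hbd⟩⟩
      · intro e
        rw [← hf2 g hg] at e
        exact hb2 (g.injective e)
      · intro e
        rw [← hf0 g hg] at e
        exact hb0 (g.injective e)
    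
  have hcard10 : ((dᶜ.erase y0).erase y2).card = 10 := by
    rw [card_erase_of_mem (mem_erase.mpr ⟨Ne.symm h02, mem_compl.mpr h2⟩),
      card_erase_of_mem (mem_compl.mpr h0), card_compl, card_golayPt, h12]
  have hle10 := card_le_card hsub
  rw [hcard10] at hle10
  have hge : 10 ≤ (orbF W y3).card := by
    by_contra hlt
    push Not at hlt
    have : (orbF W y3).card * Nat.card ↥(W ⊓ stabilizer (Equiv.Perm GolayPt) y3) ≤ 9 * 6 :=
      Nat.mul_le_mul (by omega) hle6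
    omega
  have heq : orbF W y3 = (dᶜ.erase y0).erase y2 :=
    eq_of_subset_of_card_le hsub (by rw [hcard10]; exact hge)
  have hy4 : y4 ∈ orbF W y3 := by
    rw [heq]
    exact mem_erase.mpr ⟨h42, mem_erase.mpr ⟨h40, mem_compl.mpr h4⟩⟩
  exact (mem_orbF W y3 y4).mp hy4

/-- no subgroup of order 60 of `M12` fixes two points of the dodecad and two points outside -/
theorem no_sixty (W : Subgroup (Equiv.Perm GolayPt)) (hW : W ≤ stabF Spor.squareDodecad)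
    (hc : Nat.card W = 60) (x0 x2 y0 y2 : GolayPt) (hx0 : x0 ∈ Spor.squareDodecad)
    (hx2 : x2 ∈ Spor.squareDodecad) (h0 : y0 ∉ Spor.squareDodecad) (h2 : y2 ∉ Spor.squareDodecad)
    (hx02 : x0 ≠ x2) (h02 : y0 ≠ y2) (hfx : ∀ k ∈ W, k x0 = x0) (hfx2 : ∀ k ∈ W, k x2 = x2)
    (hf0 : ∀ k ∈ W, k y0 = y0) (hf2 : ∀ k ∈ W, k y2 = y2) : False := by
  have hd := Cfsg.Agent.Lib.Helper9.M24P6.sq_mem
  have h12 : (Spor.squareDodecad).card = 12 := hd.2
  obtain ⟨O, hO, hOd, hyO⟩ := exists_octad_two x0 x2 y0 hx0 hx2 hx02 h0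
  have hinv : ∀ k ∈ W, k • O = O := fun k hk =>
    octad_two_invariant _ hd O hO x0 x2 y0 hx02 hOd h0 hyO k (hW hk) (hfx k hk) (hfx2 k hk)
      (hf0 k hk)
  have h8 : O.card = 8 := hO.2
  have hT6 : (O \ Spor.squareDodecad).card = 6 := by
    have := card_sdiff_add_card_inter O Spor.squareDodecad
    rw [hOd, card_pair hx02, h8] at this
    omega
  -- a point of the octad outside the dodecad
  obtain ⟨y3, hy3⟩ : (((O \ Spor.squareDodecad).erase y0).erase y2).Nonempty := by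
    apply card_pos.mp
    have h1 := pred_card_le_card_erase (s := O \ Spor.squareDodecad) (a := y0)
    have h2 := pred_card_le_card_erase (s := (O \ Spor.squareDodecad).erase y0) (a := y2)
    omega
  obtain ⟨h32, hy3'⟩ := mem_erase.mp hy3
  obtain ⟨h30, hy3''⟩ := mem_erase.mp hy3'
  obtain ⟨hy3O, hy3d⟩ := mem_sdiff.mp hy3''
  -- a point outside both
  have hU6 : ((Spor.squareDodecad)ᶜ \ O).card = 6 := by
    have h1 := card_sdiff_add_card_inter (Spor.squareDodecad)ᶜ O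
    have h2 : (Spor.squareDodecad)ᶜ ∩ O = O \ Spor.squareDodecad := by
      rw [inter_comm, sdiff_eq_inter_compl]
    rw [h2, hT6, card_compl, card_golayPt, h12] at h1
    omega
  obtain ⟨y4, hy4⟩ : (((Spor.squareDodecad)ᶜ \ O).erase y2).Nonempty := by
    apply card_pos.mp
    have h1 := pred_card_le_card_erase (s := (Spor.squareDodecad)ᶜ \ O) (a := y2)
    omega
  obtain ⟨h42, hy4'⟩ := mem_erase.mp hy4
  obtain ⟨hy4d, hy4O⟩ := mem_sdiff.mp hy4'
  rw [mem_compl] at hy4d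
  have h40 : y4 ≠ y0 := fun e => hy4O (e ▸ hyO)
  obtain ⟨k, hk, hk34⟩ := trans_ten _ hd W hW hc x0 y0 y2 hx0 h0 h2 h02 hfx hf0 hf2 y3 y4 hy3d hy4d
    h30 h32 h40 h42
  apply hy4O
  rw [← hinv k hk, ← hk34]
  exact Finset.smul_mem_smul_finset hy3O

end Cfsg.Agent.Lib.Helper9.OutM
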