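import Cfsg.Agent.Lib.Helper9.OutP4

set_option autoImplicit false

/-! The subgroups of index 12 of `M12` are point stabilizers: assembly. -/

namespace Cfsg.Agent.Lib.Helper9.OutM

open Cfsg Finset MulAction Cfsg.Agent.Lib.Helper9.GolayQR1 Cfsg.Agent.Lib.Helper9.M24T9
  Cfsg.Agent.Lib.Helper9.Chain1 Cfsg.Agent.Lib.Helper9.M24U1 Cfsg.Agent.Lib.Helper9.GolayQR5
  Cfsg.Agent.Lib.Helper9.GolayQR8 Cfsg.Agent.Lib.Helper9.M24Z11 Cfsg.Agent.Lib.Helper9.M24Y4
  Cfsg.Agent.Lib.Helper9.M24P7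
open scoped Pointwise

/-- a subgroup of order 7920 of `M12` fixes one of the 24 points -/
theorem index_M12 (H : Subgroup (Equiv.Perm GolayPt)) (hH : H ≤ stabF Spor.squareDodecad)
    (hc : Nat.card H = 7920) : ∃ a : GolayPt, ∀ g ∈ H, g a = a := by
  haveI : Fact (Nat.Prime 11) := ⟨by norm_num⟩
  obtain ⟨d, hdd⟩ : ∃ d, d = Spor.squareDodecad := ⟨_, rfl⟩
  rw [← hdd] at hH
  have hd : d ∈ dodecads := by rw [hdd]; exact Cfsg.Agent.Lib.Helper9.M24P6.sq_mem
  have h12 : d.card = 12 := hd.2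
  have h12' : dᶜ.card = 12 := by rw [card_compl, card_golayPt, h12]
  obtain ⟨h, hh, hh1, hh11⟩ := exists_prime_order H 11 (by rw [hc]; norm_num) (by rw [hc]; norm_num)
  obtain ⟨hf1, hf2⟩ := fix_eleven d hd h (hH hh) hh1 hh11
  obtain ⟨x0, hx0⟩ := card_eq_one.mp hf1
  obtain ⟨y0, hy0⟩ := card_eq_one.mp hf2
  have hx0m : x0 ∈ d ∩ fixF h := by rw [hx0]; exact mem_singleton_self _
  have hy0m : y0 ∈ dᶜ ∩ fixF h := by rw [hy0]; exact mem_singleton_self _
  rw [mem_inter, mem_fixF] at hx0m hy0m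
  obtain ⟨hx0d, hhx0⟩ := hx0m
  obtain ⟨hy0d', hhy0⟩ := hy0m
  have hy0d : y0 ∉ d := mem_compl.mp hy0d'
  have hAsub : orbF H x0 ⊆ d := orbF_subset H x0 d hx0d (fun g hg => stabF_maps d g (hH hg))
  have hBsub : orbF H y0 ⊆ dᶜ :=
    orbF_subset H y0 dᶜ hy0d' (fun g hg => stabF_maps_compl d g (hH hg))
  have hAf : orbF H x0 ∩ fixF h = {x0} := by
    ext a
    rw [mem_inter, mem_singleton]
    constructor
    · rintro ⟨h1, h2⟩
      have : a ∈ d ∩ fixF h := mem_inter.mpr ⟨hAsub h1, h2⟩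
      rw [hx0, mem_singleton] at this
      exact this
    · rintro rfl
      exact ⟨self_mem_orbF H a, (mem_fixF h a).mpr hhx0⟩
  have hBf : orbF H y0 ∩ fixF h = {y0} := by
    ext a
    rw [mem_inter, mem_singleton]
    constructor
    · rintro ⟨h1, h2⟩
      have : a ∈ dᶜ ∩ fixF h := mem_inter.mpr ⟨hBsub h1, h2⟩
      rw [hy0, mem_singleton] at this
      exact this
    · rintro rfl
      exact ⟨self_mem_orbF H a, (mem_fixF h a).mpr hhy0⟩
  have hAm := card_modEq_fix h 11 hh11 (orbF H x0) (orbF_invariant H x0 h hh)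
  have hBm := card_modEq_fix h 11 hh11 (orbF H y0) (orbF_invariant H y0 h hh)
  rw [hAf, card_singleton] at hAm
  rw [hBf, card_singleton] at hBm
  unfold Nat.ModEq at hAm hBm
  have hAle := card_le_card hAsub
  have hBle := card_le_card hBsub
  rw [h12] at hAle
  rw [h12'] at hBle
  have hApos := orb_card_pos H x0
  have hBpos := orb_card_pos H y0
  by_cases hA1 : (orbF H x0).card = 1
  · exact ⟨x0, fixed_of_orb_one H x0 hA1⟩
  by_cases hB1 : (orbF H y0).card = 1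
  · exact ⟨y0, fixed_of_orb_one H y0 hB1⟩
  exfalso
  have hA12 : (orbF H x0).card = 12 := by omega
  have hB12 : (orbF H y0).card = 12 := by omega
  have hK660 : Nat.card ↥(H ⊓ stabilizer (Equiv.Perm GolayPt) x0) = 660 := by
    have := card_orbF H x0
    rw [hc, hA12] at this
    omega
  have hK660' : Nat.card ↥(H ⊓ stabilizer (Equiv.Perm GolayPt) y0) = 660 := by
    have := card_orbF H y0
    rw [hc, hB12] at this
    omega
  obtain ⟨y, hyd, hyfix⟩ := index_M11 d hd x0 hx0d (H ⊓ stabilizer (Equiv.Perm GolayPt) x0) (by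
      intro g hg
      obtain ⟨h1, h2⟩ := (mem_inf_stab _ _ _).mp hg
      exact (mem_inf_stab _ _ _).mpr ⟨hH h1, h2⟩) hK660
  have hyy0 : y = y0 := by
    have : y ∈ dᶜ ∩ fixF h := mem_inter.mpr ⟨mem_compl.mpr hyd,
      (mem_fixF h y).mpr (hyfix h ((mem_inf_stab _ _ _).mpr ⟨hh, hhx0⟩))⟩
    rw [hy0, mem_singleton] at this
    exact this
  rw [hyy0] at hyfix
  have hle : H ⊓ stabilizer (Equiv.Perm GolayPt) x0 ≤ H ⊓ stabilizer (Equiv.Perm GolayPt) y0 := by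
    intro g hg
    exact (mem_inf_stab _ _ _).mpr ⟨((mem_inf_stab _ _ _).mp hg).1, hyfix g hg⟩
  haveI : Finite ↥(H ⊓ stabilizer (Equiv.Perm GolayPt) y0) :=
    Nat.finite_of_card_ne_zero (by rw [hK660']; norm_num)
  have hEq : H ⊓ stabilizer (Equiv.Perm GolayPt) x0 = H ⊓ stabilizer (Equiv.Perm GolayPt) y0 :=
    Subgroup.eq_of_le_of_card_ge hle (by rw [hK660, hK660'])
  have hiff : ∀ g ∈ H, g x0 = x0 ↔ g y0 = y0 := by
    intro g hg
    constructor
    · intro e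
      have : g ∈ H ⊓ stabilizer (Equiv.Perm GolayPt) y0 := by
        rw [← hEq]
        exact (mem_inf_stab _ _ _).mpr ⟨hg, e⟩
      exact ((mem_inf_stab _ _ _).mp this).2
    · intro e
      have : g ∈ H ⊓ stabilizer (Equiv.Perm GolayPt) x0 := by
        rw [hEq]
        exact (mem_inf_stab _ _ _).mpr ⟨hg, e⟩
      exact ((mem_inf_stab _ _ _).mp this).2
  -- an element moving `x0`
  obtain ⟨g, hg, hgx⟩ : ∃ g ∈ H, g x0 ≠ x0 := by
    by_contra hcon
    push Not at hcon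
    apply hA1
    rw [card_eq_one]
    refine ⟨x0, ?_⟩
    ext a
    rw [mem_orbF, mem_singleton]
    constructor
    · rintro ⟨k, hk, rfl⟩
      exact hcon k hk
    · rintro rfl
      exact ⟨1, H.one_mem, rfl⟩
  obtain ⟨x2, hx2⟩ : ∃ x2, x2 = g x0 := ⟨_, rfl⟩
  obtain ⟨y2, hy2⟩ : ∃ y2, y2 = g y0 := ⟨_, rfl⟩
  have hx2d : x2 ∈ d := by rw [hx2]; exact stabF_maps d g (hH hg) x0 hx0d
  have hy2d : y2 ∉ d := by
    rw [hy2]
    exact mem_compl.mp (stabF_maps_compl d g (hH hg) y0 hy0d')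
  have hx2ne : x0 ≠ x2 := by rw [hx2]; exact Ne.symm hgx
  have hy2ne : y0 ≠ y2 := by
    rw [hy2]
    intro e
    exact hgx ((hiff g hg).mpr e.symm)
  have hiff2 : ∀ k ∈ H, k x2 = x2 ↔ k y2 = y2 := by
    intro k hk
    have hc' : g⁻¹ * k * g ∈ H := H.mul_mem (H.mul_mem (H.inv_mem hg) hk) hg
    have := hiff _ hc'
    rw [Equiv.Perm.mul_apply, Equiv.Perm.mul_apply, Equiv.Perm.inv_eq_iff_eq,
      Equiv.Perm.mul_apply, Equiv.Perm.mul_apply, Equiv.Perm.inv_eq_iff_eq, ← hx2, ← hy2] at this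
    exact this
  -- the stabilizer of `x0` and `x2`
  obtain ⟨K, hKdef⟩ : ∃ K, K = H ⊓ stabilizer (Equiv.Perm GolayPt) x0 := ⟨_, rfl⟩
  have hKH : ∀ k ∈ K, k ∈ H ∧ k x0 = x0 := by
    intro k hk
    rw [hKdef] at hk
    exact (mem_inf_stab _ _ _).mp hk
  have hhK : h ∈ K := by rw [hKdef]; exact (mem_inf_stab _ _ _).mpr ⟨hh, hhx0⟩
  have hA2sub : orbF K x2 ⊆ d.erase x0 := orbF_subset K x2 (d.erase x0)
    (mem_erase.mpr ⟨Ne.symm hx2ne, hx2d⟩) (by
      intro k hk b hb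
      obtain ⟨hbx, hbd⟩ := mem_erase.mp hb
      refine mem_erase.mpr ⟨?_, stabF_maps d k (hH (hKH k hk).1) b hbd⟩
      intro e
      rw [← (hKH k hk).2] at e
      exact hbx (k.injective e))
  have hA2m := card_modEq_fix h 11 hh11 (orbF K x2) (orbF_invariant K x2 h hhK)
  have hA2f : orbF K x2 ∩ fixF h = ∅ := by
    rw [eq_empty_iff_forall_notMem]
    intro a ha
    obtain ⟨h1, h2⟩ := mem_inter.mp ha
    obtain ⟨hax, had⟩ := mem_erase.mp (hA2sub h1)
    have : a ∈ d ∩ fixF h := mem_inter.mpr ⟨had, h2⟩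
    rw [hx0, mem_singleton] at this
    exact hax this
  rw [hA2f, card_empty] at hA2m
  unfold Nat.ModEq at hA2m
  have hA2le := card_le_card hA2sub
  rw [card_erase_of_mem hx0d, h12] at hA2le
  have hA2pos := orb_card_pos K x2
  have hA211 : (orbF K x2).card = 11 := by omega
  have hstab := card_orbF K x2
  rw [hKdef, hK660, ← hKdef, hA211] at hstab
  have hW60 : Nat.card ↥(K ⊓ stabilizer (Equiv.Perm GolayPt) x2) = 60 := by omega
  have hWfix : ∀ k ∈ K ⊓ stabilizer (Equiv.Perm GolayPt) x2,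
      k ∈ H ∧ k x0 = x0 ∧ k x2 = x2 := by
    intro k hk
    obtain ⟨h1, h2⟩ := (mem_inf_stab _ _ _).mp hk
    exact ⟨(hKH k h1).1, (hKH k h1).2, h2⟩
  rw [hdd] at hH hx0d hx2d hy0d hy2d
  exact no_sixty (K ⊓ stabilizer (Equiv.Perm GolayPt) x2) (fun k hk => hH (hWfix k hk).1) hW60
    x0 x2 y0 y2 hx0d hx2d hy0d hy2d hx2ne hy2ne (fun k hk => (hWfix k hk).2.1)
    (fun k hk => (hWfix k hk).2.2)
    (fun k hk => (hiff k (hWfix k hk).1).mp (hWfix k hk).2.1)
    (fun k hk => (hiff2 k (hWfix k hk).1).mp (hWfix k hk).2.2)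

end Cfsg.Agent.Lib.Helper9.OutM
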