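import Cfsg.Agent.Lib.Helper9.OutP5

set_option autoImplicit false

/-! A permutation normalizing `M12` lies in `M24`. -/

namespace Cfsg.Agent.Lib.Helper9.OutM

open Cfsg Finset MulAction Cfsg.Agent.Lib.Helper9.Golay1 Cfsg.Agent.Lib.Helper9.GolayQR1
  Cfsg.Agent.Lib.Helper9.GolayQR2 Cfsg.Agent.Lib.Helper9.GolayQR3
  Cfsg.Agent.Lib.Helper9.GolayM24a Cfsg.Agent.Lib.Helper9.GolayM24c
  Cfsg.Agent.Lib.Helper9.M24T1 Cfsg.Agent.Lib.Helper9.M24U1
  Cfsg.Agent.Lib.Helper9.M24T3 Cfsg.Agent.Lib.Helper9.M24T5 Cfsg.Agent.Lib.Helper9.M24T6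
  Cfsg.Agent.Lib.Helper9.M24T7 Cfsg.Agent.Lib.Helper9.M24T9
open scoped Pointwise

/-- the tables of twelve involutions of `M12` -/
def zl (i : Fin 12) : List ℕ :=
  [[0, 4, 3, 2, 1, 5, 18, 7, 8, 16, 10, 11, 12, 13, 22, 23, 9, 20, 6, 21, 17, 19, 14, 15],
    [0, 1, 3, 2, 12, 5, 6, 7, 18, 9, 10, 22, 4, 16, 14, 21, 13, 23, 8, 20, 19, 15, 11, 17],
    [4, 1, 2, 12, 0, 23, 6, 7, 8, 16, 10, 11, 3, 18, 20, 15, 9, 21, 13, 22, 14, 17, 19, 5],
    [2, 12, 0, 3, 4, 5, 6, 7, 18, 16, 10, 23, 1, 13, 21, 15, 9, 19, 8, 17, 22, 14, 20, 11],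
    [18, 13, 3, 2, 4, 5, 6, 7, 8, 12, 22, 11, 9, 1, 14, 17, 16, 15, 0, 23, 21, 20, 10, 19],
    [0, 13, 8, 3, 4, 5, 18, 7, 2, 9, 20, 11, 16, 1, 15, 14, 12, 17, 6, 22, 10, 23, 19, 21],
    [16, 8, 3, 2, 4, 5, 12, 22, 1, 9, 10, 11, 6, 13, 14, 19, 0, 21, 18, 15, 23, 17, 7, 20],
    [18, 4, 2, 8, 1, 5, 6, 7, 3, 9, 21, 11, 16, 13, 23, 20, 12, 22, 0, 19, 15, 10, 17, 14],
    [3, 12, 2, 0, 4, 5, 18, 7, 8, 9, 10, 17, 1, 16, 19, 22, 13, 11, 6, 14, 20, 23, 15, 21],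
    [16, 4, 13, 3, 1, 5, 6, 19, 8, 9, 10, 11, 18, 2, 17, 20, 0, 14, 12, 7, 15, 21, 23, 22],
    [1, 0, 3, 2, 4, 14, 6, 7, 16, 9, 10, 11, 12, 18, 5, 19, 8, 23, 13, 15, 21, 20, 22, 17],
    [0, 8, 2, 13, 4, 5, 6, 15, 1, 16, 10, 11, 18, 3, 20, 7, 9, 19, 12, 17, 14, 22, 21, 23]].getD i.val []

/-- the octads of their fixed points -/
def oz (i : Fin 12) : ℕ :=
  [15777, 18147, 36294, 42232, 84464, 133817, 290352, 535268, 1050548, 2101096, 4202192, 8391797].getD i.val 0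

theorem zl_inv : ∀ i : Fin 12, ∀ p : GolayPt, tfun (zl i) (tfun (zl i) p) = p := by
  decide +kernel

theorem zl_lt : ∀ i : Fin 12, ∀ p : GolayPt, (zl i).getD (idx p) 0 < 24 := by decide +kernel

theorem zl_code : ∀ i : Fin 12, ∀ j : Fin 12,
    reprod (pull (zl i) (bmask j)) = pull (zl i) (bmask j) := by decide +kernel

theorem zl_sq : ∀ i : Fin 12, pull (zl i) sqMask = sqMask := by decide +kernel

theorem zl_fix : ∀ i : Fin 12, ∀ p : GolayPt,
    tfun (zl i) p = p ↔ (oz i).testBit (idx p) = true := by decide +kernel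

theorem oz_oct : ∀ i : Fin 12, Cfsg.Agent.Lib.Helper9.M24F2.isOctF (oz i) = true := by
  decide +kernel

/-- twelve involutions of `M12` -/
def zz (i : Fin 12) : Equiv.Perm GolayPt := tperm (zl i) (zl i) (zl_inv i) (zl_inv i)

theorem zz_mem24 (i : Fin 12) : zz i ∈ M24 := tperm_mem _ _ _ _ (zl_lt i) (zl_code i)

theorem zz_mem (i : Fin 12) : zz i ∈ stabF Spor.squareDodecad := by
  rw [mem_stabF]
  refine ⟨zz_mem24 i, ?_⟩
  unfold zz
  rw [sq_eq_M, tperm_smul_M _ _ _ _ (zl_lt i), zl_sq i]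

theorem zz_sq (i : Fin 12) : zz i ^ 2 = 1 := by
  rw [pow_two]
  apply Equiv.ext
  intro p
  exact zl_inv i p

theorem fixF_zz (i : Fin 12) : fixF (zz i) = M (oz i) := by
  ext p
  rw [mem_fixF, mem_M]
  exact zl_fix i p

theorem oz_mem (i : Fin 12) : M (oz i) ∈ octads :=
  Cfsg.Agent.Lib.Helper9.M24F2.isOctF_sound _ (oz_oct i)

theorem zz_ne (i : Fin 12) : zz i ≠ 1 := by
  intro h
  have h1 : fixF (zz i) = univ := by
    rw [h]
    ext p
    rw [mem_fixF]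
    simp
  have h8 : (fixF (zz i)).card = 8 := by
    rw [fixF_zz]
    exact (oz_mem i).2
  rw [h1, card_univ, Cfsg.Agent.Lib.Helper9.GolayQR5.card_golayPt] at h8
  omega

theorem oz_code (i : Fin 12) : dec (oz i) ∈ golayCode := by
  obtain ⟨⟨w, hw, hws⟩, -⟩ := oz_mem i
  have : dec (oz i) = w := by
    rw [← supp_eq_iff, supp_eq_support₂ w, hws]
    rfl
  rw [this]
  exact hw

theorem span_oz : Submodule.span (ZMod 2) (Set.range (fun i : Fin 12 => dec (oz i))) = golayCode := by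
  apply le_antisymm
  · rw [Submodule.span_le]
    rintro _ ⟨i, rfl⟩
    exact oz_code i
  · rw [golayCode_eq_span, Submodule.span_le]
    have hm : ∀ i : Fin 12, dec (oz i) ∈
        Submodule.span (ZMod 2) (Set.range (fun i : Fin 12 => dec (oz i))) :=
      fun i => Submodule.subset_span ⟨i, rfl⟩
    have hx : ∀ a b : ℕ, dec a ∈ Submodule.span (ZMod 2) (Set.range (fun i : Fin 12 => dec (oz i))) →
        dec b ∈ Submodule.span (ZMod 2) (Set.range (fun i : Fin 12 => dec (oz i))) →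
        dec (a ^^^ b) ∈ Submodule.span (ZMod 2) (Set.range (fun i : Fin 12 => dec (oz i))) := by
      intro a b ha hb
      rw [dec_xor]
      exact Submodule.add_mem _ ha hb
    rintro _ ⟨j, rfl⟩
    unfold bw
    fin_cases j
    · have e : bmask 0 = oz 0 ^^^ (oz 2 ^^^ oz 3) := by decide +kernel
      show dec (bmask 0) ∈ _
      rw [e]
      exact hx _ _ (hm 0) (hx _ _ (hm 2) (hm 3))
    · have e : bmask 1 = oz 2 ^^^ oz 3 := by decide +kernel
      show dec (bmask 1) ∈ _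
      rw [e]
      exact hx _ _ (hm 2) (hm 3)
    · have e : bmask 2 = oz 1 := by decide +kernel
      show dec (bmask 2) ∈ _
      rw [e]
      exact hm 1
    · have e : bmask 3 = oz 2 := by decide +kernel
      show dec (bmask 3) ∈ _
      rw [e]
      exact hm 2
    · have e : bmask 4 = oz 1 ^^^ oz 4 := by decide +kernel
      show dec (bmask 4) ∈ _
      rw [e]
      exact hx _ _ (hm 1) (hm 4)
    · have e : bmask 5 = oz 5 := by decide +kernel
      show dec (bmask 5) ∈ _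
      rw [e]
      exact hm 5
    · have e : bmask 6 = oz 1 ^^^ (oz 2 ^^^ (oz 3 ^^^ oz 6)) := by decide +kernel
      show dec (bmask 6) ∈ _
      rw [e]
      exact hx _ _ (hm 1) (hx _ _ (hm 2) (hx _ _ (hm 3) (hm 6)))
    · have e : bmask 7 = oz 2 ^^^ (oz 3 ^^^ oz 7) := by decide +kernel
      show dec (bmask 7) ∈ _
      rw [e]
      exact hx _ _ (hm 2) (hx _ _ (hm 3) (hm 7))
    · have e : bmask 8 = oz 8 := by decide +kernel
      show dec (bmask 8) ∈ _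
      rw [e]
      exact hm 8
    · have e : bmask 9 = oz 9 := by decide +kernel
      show dec (bmask 9) ∈ _
      rw [e]
      exact hm 9
    · have e : bmask 10 = oz 0 ^^^ (oz 2 ^^^ (oz 3 ^^^ oz 10)) := by decide +kernel
      show dec (bmask 10) ∈ _
      rw [e]
      exact hx _ _ (hm 0) (hx _ _ (hm 2) (hx _ _ (hm 3) (hm 10)))
    · have e : bmask 11 = oz 11 := by decide +kernel
      show dec (bmask 11) ∈ _
      rw [e]
      exact hm 11

/-- a permutation normalizing `M12` lies in `M24` -/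
theorem mem_M24_of_normalizes_M12 (π : Equiv.Perm GolayPt)
    (hπ : ∀ g ∈ stabF Spor.squareDodecad, π * g * π⁻¹ ∈ stabF Spor.squareDodecad) : π ∈ M24 := by
  rw [← Subgroup.inv_mem_iff]
  apply mem_M24_of_map_eq
  apply map_eq_of_span π⁻¹ _ span_oz
  rintro _ ⟨i, rfl⟩
  have h := smul_octad_of_conj π (zz i) (zz_sq i) (zz_ne i) (M (oz i)) (oz_mem i) (fixF_zz i)
    ((mem_stabF _ _).mp (hπ (zz i) (zz_mem i))).1
  obtain ⟨⟨w', hw', hw'eq⟩, -⟩ := h
  have : dec (oz i) ∘ ⇑π⁻¹ = w' := by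
    rw [← supp_eq_iff, supp_eq_support₂, supp_eq_support₂, support_comp, inv_inv, hw'eq]
    rfl
  rw [this]
  exact hw'

end Cfsg.Agent.Lib.Helper9.OutM
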