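import Cfsg.Agent.Lib.Helper9.OutP6

set_option autoImplicit false

/-! The outer automorphism group of `M12` has order 2: assembly. -/

namespace Cfsg.Agent.Lib.Helper9.OutM

open Cfsg Finset MulAction Cfsg.Agent.Lib.Helper9.GolayQR1 Cfsg.Agent.Lib.Helper9.M24T9
  Cfsg.Agent.Lib.Helper9.Chain1 Cfsg.Agent.Lib.Helper9.M24U1 Cfsg.Agent.Lib.Helper9.GolayQR5
  Cfsg.Agent.Lib.Helper9.M24Y4 Cfsg.Agent.Lib.Helper9.M24P7 Cfsg.Agent.Lib.Helper9.M24T11
  Cfsg.Agent.Lib.Helper9.M24F7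
open scoped Pointwise

/-- conjugation by an element normalizing a subgroup, as an automorphism of the subgroup -/
noncomputable def conjAut {A : Type*} [Group A] (G : Subgroup A) (t : A)
    (h1 : ∀ g ∈ G, t * g * t⁻¹ ∈ G) (h2 : ∀ g ∈ G, t⁻¹ * g * t ∈ G) : ↥G ≃* ↥G where
  toFun g := ⟨t * g.1 * t⁻¹, h1 g.1 g.2⟩
  invFun g := ⟨t⁻¹ * g.1 * t, h2 g.1 g.2⟩
  left_inv g := by
    apply Subtype.ext
    show t⁻¹ * (t * g.1 * t⁻¹) * t = g.1
    group
  right_inv g := by
    apply Subtype.ext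
    show t * (t⁻¹ * g.1 * t) * t⁻¹ = g.1
    group
  map_mul' a b := by
    apply Subtype.ext
    show t * (a.1 * b.1) * t⁻¹ = (t * a.1 * t⁻¹) * (t * b.1 * t⁻¹)
    group

theorem conjAut_apply {A : Type*} [Group A] (G : Subgroup A) (t : A)
    (h1 : ∀ g ∈ G, t * g * t⁻¹ ∈ G) (h2 : ∀ g ∈ G, t⁻¹ * g * t ∈ G) (g : ↥G) :
    (conjAut G t h1 h2 g).1 = t * g.1 * t⁻¹ := rfl

/-! ### point stabilizers in the stabilizer of a dodecad -/

/-- the point stabilizers of two points of the dodecad are different -/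
theorem stab_inj_same (d : Finset GolayPt) (hd : d ∈ dodecads) (y y' : GolayPt) (hy : y ∈ d)
    (hy' : y' ∈ d) (h : ∀ g ∈ stabF d, g y = y → g y' = y') : y = y' := by
  haveI : Fact (Nat.Prime 11) := ⟨by norm_num⟩
  have hc := card_stab_point d hd y hy
  obtain ⟨u, hu, hu1, hu11⟩ := exists_prime_order (stabF d ⊓ stabilizer (Equiv.Perm GolayPt) y) 11
    (by rw [hc]; norm_num) (by rw [hc]; norm_num)
  obtain ⟨hud, huy⟩ := (mem_inf_stab _ _ _).mp hu
  obtain ⟨hf1, -⟩ := fix_eleven d hd u hud hu1 hu11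
  obtain ⟨a, ha⟩ := card_eq_one.mp hf1
  have h1 : y ∈ d ∩ fixF u := mem_inter.mpr ⟨hy, (mem_fixF u y).mpr huy⟩
  have h2 : y' ∈ d ∩ fixF u := mem_inter.mpr ⟨hy', (mem_fixF u y').mpr (h u hud huy)⟩
  rw [ha, mem_singleton] at h1 h2
  rw [h1, h2]

/-- the stabilizer of a point of the dodecad moves every point outside -/
theorem stab_ne_diff (d : Finset GolayPt) (hd : d ∈ dodecads) (y y' : GolayPt) (hy : y ∈ d)
    (hy' : y' ∉ d) : ∃ g ∈ stabF d, g y = y ∧ g y' ≠ y' := by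
  have h12 : d.card = 12 := hd.2
  obtain ⟨y'', hy''⟩ : (dᶜ.erase y').Nonempty := by
    apply card_pos.mp
    rw [card_erase_of_mem (mem_compl.mpr hy'), card_compl, card_golayPt, h12]
    norm_num
  obtain ⟨hne, hy''d⟩ := mem_erase.mp hy''
  obtain ⟨g, hg, hgy⟩ := Cfsg.Agent.Lib.Helper9.M24M1.trans_compl d hd y hy y' y'' hy'
    (mem_compl.mp hy''d)
  obtain ⟨hgd, hgy0⟩ := (mem_inf_stab _ _ _).mp hg
  exact ⟨g, hgd, hgy0, by rw [hgy]; exact hne⟩

/-- distinct points have distinct stabilizers in `M12` -/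
theorem stab_inj (d : Finset GolayPt) (hd : d ∈ dodecads) (y y' : GolayPt)
    (h : ∀ g ∈ stabF d, g y = y ↔ g y' = y') : y = y' := by
  have hd' := compl_mem_dodecads d hd
  by_cases hy : y ∈ d
  · by_cases hy' : y' ∈ d
    · exact stab_inj_same d hd y y' hy hy' (fun g hg => (h g hg).mp)
    · exfalso
      obtain ⟨g, hg, h1, h2⟩ := stab_ne_diff d hd y y' hy hy'
      exact h2 ((h g hg).mp h1)
  · by_cases hy' : y' ∈ d
    · exfalso
      obtain ⟨g, hg, h1, h2⟩ := stab_ne_diff d hd y' y hy' hy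
      exact h2 ((h g hg).mpr h1)
    · apply stab_inj_same dᶜ hd' y y' (mem_compl.mpr hy) (mem_compl.mpr hy')
      intro g hg
      rw [stabF_compl] at hg
      exact (h g hg).mp

/-- every point stabilizer in `M12` has order 7920 -/
theorem card_stab_any (d : Finset GolayPt) (hd : d ∈ dodecads) (x : GolayPt) :
    Nat.card ↥(stabF d ⊓ stabilizer (Equiv.Perm GolayPt) x) = 7920 := by
  by_cases hx : x ∈ d
  · exact card_stab_point d hd x hx
  · have := card_stab_point dᶜ (compl_mem_dodecads d hd) x (mem_compl.mpr hx)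
    rw [stabF_compl] at this
    exact this

/-- an automorphism of `M12` permutes the point stabilizers -/
theorem aut_stab (φ : ↥(stabF Spor.squareDodecad) ≃* ↥(stabF Spor.squareDodecad)) (x : GolayPt) :
    ∃ y : GolayPt, ∀ g : ↥(stabF Spor.squareDodecad), (φ g).1 y = y ↔ g.1 x = x := by
  have hd := Cfsg.Agent.Lib.Helper9.M24P6.sq_mem
  obtain ⟨H', hH', hcard, hmem⟩ := image_subgroup (stabF Spor.squareDodecad) φ
    (stabF Spor.squareDodecad ⊓ stabilizer (Equiv.Perm GolayPt) x) inf_le_left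
  rw [card_stab_any _ hd x] at hcard
  obtain ⟨a, ha⟩ := index_M12 H' hH' hcard
  have hle : H' ≤ stabF Spor.squareDodecad ⊓ stabilizer (Equiv.Perm GolayPt) a := by
    intro g hg
    exact (mem_inf_stab _ _ _).mpr ⟨hH' hg, ha g hg⟩
  have hca := card_stab_any _ hd a
  haveI : Finite ↥(stabF Spor.squareDodecad ⊓ stabilizer (Equiv.Perm GolayPt) a) :=
    Nat.finite_of_card_ne_zero (by rw [hca]; norm_num)
  have hEq : H' = stabF Spor.squareDodecad ⊓ stabilizer (Equiv.Perm GolayPt) a :=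
    Subgroup.eq_of_le_of_card_ge hle (by rw [hca, hcard])
  refine ⟨a, fun g => ?_⟩
  have h1 := hmem g
  rw [hEq, mem_inf_stab, mem_inf_stab] at h1
  constructor
  · intro h
    exact (h1.mp ⟨(φ g).2, h⟩).2
  · intro h
    exact (h1.mpr ⟨g.2, h⟩).2

/-- every automorphism of `M12` is conjugation by an element of `M24` -/
theorem aut_M12 (φ : ↥(stabF Spor.squareDodecad) ≃* ↥(stabF Spor.squareDodecad)) :
    ∃ π ∈ M24, (π • Spor.squareDodecad = Spor.squareDodecad ∨
      π • Spor.squareDodecad = (Spor.squareDodecad)ᶜ) ∧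
      ∀ g : ↥(stabF Spor.squareDodecad), (φ g).1 = π * g.1 * π⁻¹ := by
  have hd := Cfsg.Agent.Lib.Helper9.M24P6.sq_mem
  have h12 : (Spor.squareDodecad).card = 12 := hd.2
  obtain ⟨π, hπ⟩ := exists_perm_of_stab (stabF Spor.squareDodecad) φ (aut_stab φ)
    (fun y y' h => stab_inj _ hd y y' h)
  have hn1 : ∀ g ∈ stabF Spor.squareDodecad, π * g * π⁻¹ ∈ stabF Spor.squareDodecad := by
    intro g hg
    rw [← hπ ⟨g, hg⟩]
    exact (φ ⟨g, hg⟩).2
  have hn2 : ∀ g ∈ stabF Spor.squareDodecad, π⁻¹ * g * π ∈ stabF Spor.squareDodecad := by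
    intro g hg
    obtain ⟨g', hg'⟩ := φ.surjective ⟨g, hg⟩
    have h1 := hπ g'
    rw [hg'] at h1
    have h2 : π⁻¹ * g * π = g'.1 := by
      show π⁻¹ * (⟨g, hg⟩ : ↥(stabF Spor.squareDodecad)).1 * π = g'.1
      rw [h1]
      group
    rw [h2]
    exact g'.2
  have hπM : π ∈ M24 := mem_M24_of_normalizes_M12 π hn1
  refine ⟨π, hπM, ?_, hπ⟩
  -- the image of the dodecad is invariant
  have hinv : ∀ g ∈ stabF Spor.squareDodecad, g • (π • Spor.squareDodecad) =
      π • Spor.squareDodecad := by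
    intro g hg
    have h1 := ((mem_stabF _ _).mp (hn2 g hg)).2
    have h2 : g • π • Spor.squareDodecad = π • ((π⁻¹ * g * π) • Spor.squareDodecad) := by
      rw [← mul_smul, ← mul_smul]
      congr 1
      group
    rw [h2, h1]
  have hcS : (π • Spor.squareDodecad).card = 12 := by rw [Finset.card_smul_finset, h12]
  by_cases hex : ∃ p ∈ π • Spor.squareDodecad, p ∈ Spor.squareDodecad
  · left
    obtain ⟨p, hpS, hpd⟩ := hex
    have hsub : Spor.squareDodecad ⊆ π • Spor.squareDodecad := by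
      intro q hq
      obtain ⟨g, hg, hgp⟩ := transitive_on_dodecad _ hd p q hpd hq
      rw [← hinv g hg, ← hgp]
      exact Finset.smul_mem_smul_finset hpS
    exact (eq_of_subset_of_card_le hsub (by rw [hcS, h12])).symm
  · right
    push Not at hex
    have hsub : π • Spor.squareDodecad ⊆ (Spor.squareDodecad)ᶜ := by
      intro p hp
      exact mem_compl.mpr (hex p hp)
    exact eq_of_subset_of_card_le hsub (by rw [hcS, card_compl, card_golayPt, h12])

/-! ### the outer automorphism -/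

theorem swap_normalizes (t : Equiv.Perm GolayPt) (ht : t ∈ M24)
    (h : t • Spor.squareDodecad = (Spor.squareDodecad)ᶜ) :
    (∀ g ∈ stabF Spor.squareDodecad, t * g * t⁻¹ ∈ stabF Spor.squareDodecad) ∧
    (∀ g ∈ stabF Spor.squareDodecad, t⁻¹ * g * t ∈ stabF Spor.squareDodecad) := by
  have h' : t • (Spor.squareDodecad)ᶜ = Spor.squareDodecad := by
    rw [smul_compl', h, compl_compl]
  have i1 : t⁻¹ • Spor.squareDodecad = (Spor.squareDodecad)ᶜ := by
    rw [inv_smul_eq_iff, h']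
  have i2 : t⁻¹ • (Spor.squareDodecad)ᶜ = Spor.squareDodecad := by
    rw [inv_smul_eq_iff, h]
  constructor
  · intro g hg
    obtain ⟨hgM, hgd⟩ := (mem_stabF _ _).mp hg
    have hgd' : g • (Spor.squareDodecad)ᶜ = (Spor.squareDodecad)ᶜ := by
      rw [smul_compl', hgd]
    rw [mem_stabF]
    refine ⟨M24.mul_mem (M24.mul_mem ht hgM) (M24.inv_mem ht), ?_⟩
    rw [mul_smul, mul_smul, i1, hgd', h']
  · intro g hg
    obtain ⟨hgM, hgd⟩ := (mem_stabF _ _).mp hg
    have hgd' : g • (Spor.squareDodecad)ᶜ = (Spor.squareDodecad)ᶜ := by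
      rw [smul_compl', hgd]
    rw [mem_stabF]
    refine ⟨M24.mul_mem (M24.mul_mem (M24.inv_mem ht) hgM) ht, ?_⟩
    rw [mul_smul, mul_smul, h, hgd', i2]

/-- no element exchanging the dodecad with its complement centralizes `M12` -/
theorem not_centralizes_M12 (c : Equiv.Perm GolayPt)
    (hc : c • Spor.squareDodecad = (Spor.squareDodecad)ᶜ)
    (hcomm : ∀ g ∈ stabF Spor.squareDodecad, c * g = g * c) : False := by
  have hd := Cfsg.Agent.Lib.Helper9.M24P6.sq_mem
  have h0 := Cfsg.Agent.Lib.Helper9.M24P6.zero_mem_sq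
  have hc0 : c (some 0) ∉ Spor.squareDodecad := by
    have : c (some 0) ∈ c • Spor.squareDodecad :=
      (Cfsg.Agent.Lib.Helper9.M24X1.smul_mem_iff c _ _).mpr h0
    rw [hc, mem_compl] at this
    exact this
  obtain ⟨g, hg, h1, h2⟩ := stab_ne_diff _ hd (some 0) (c (some 0)) h0 hc0
  apply h2
  have := hcomm g hg
  have h3 : (c * g) (some 0) = (g * c) (some 0) := by rw [this]
  rw [Equiv.Perm.mul_apply, Equiv.Perm.mul_apply, h1] at h3
  exact h3.symm

theorem card_out_M12 : Nat.card (Cfsg.Out ↥Spor.M12) = 2 := by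
  obtain ⟨t, ht, hts, -⟩ := Cfsg.Agent.Lib.Helper9.M24P9.exists_swap
  obtain ⟨hn1, hn2⟩ := swap_normalizes t ht hts
  show Nat.card (MulAut ↥(stabF Spor.squareDodecad) ⧸
    (MulAut.conj : ↥(stabF Spor.squareDodecad) →* MulAut ↥(stabF Spor.squareDodecad)).range) = 2
  apply card_out_eq_two (conjAut (stabF Spor.squareDodecad) t hn1 hn2)
  · rintro ⟨k, hk⟩
    obtain ⟨hkM, hkd⟩ := (mem_stabF _ _).mp k.2
    apply not_centralizes_M12 (k.1⁻¹ * t)
    · rw [mul_smul, hts, inv_smul_eq_iff, smul_compl', hkd]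
    · intro g hg
      have := congrArg Subtype.val (hk ⟨g, hg⟩)
      have h3 : t * g * t⁻¹ = k.1 * g * k.1⁻¹ := this
      calc k.1⁻¹ * t * g = k.1⁻¹ * (t * g * t⁻¹) * t := by group
        _ = k.1⁻¹ * (k.1 * g * k.1⁻¹) * t := by rw [h3]
        _ = g * (k.1⁻¹ * t) := by group
  · intro φ
    obtain ⟨π, hπM, hπd, hπ⟩ := aut_M12 φ
    rcases hπd with hπd | hπd
    · left
      refine ⟨⟨π, (mem_stabF _ _).mpr ⟨hπM, hπd⟩⟩, ?_⟩
      intro g
      apply Subtype.ext
      rw [hπ g]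
      rfl
    · right
      have hkd : (π * t⁻¹) • Spor.squareDodecad = Spor.squareDodecad := by
        have i1 : t⁻¹ • Spor.squareDodecad = (Spor.squareDodecad)ᶜ := by
          rw [inv_smul_eq_iff, smul_compl', hts, compl_compl]
        rw [mul_smul, i1, smul_compl', hπd, compl_compl]
      refine ⟨⟨π * t⁻¹, (mem_stabF _ _).mpr ⟨M24.mul_mem hπM (M24.inv_mem ht), hkd⟩⟩, ?_⟩
      intro g
      apply Subtype.ext
      rw [hπ g]
      show π * g.1 * π⁻¹ = (π * t⁻¹) * (t * g.1 * t⁻¹) * (π * t⁻¹)⁻¹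
      group

end Cfsg.Agent.Lib.Helper9.OutM
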