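import Cfsg.Agent.Lib.Helper9.OutP7
import Cfsg.Agent.Lib.Helper9.M24Z10

set_option autoImplicit false

/-! The outer automorphism group of `M11`: subgroups of index 11. -/

namespace Cfsg.Agent.Lib.Helper9.OutM

open Cfsg Finset MulAction Cfsg.Agent.Lib.Helper9.GolayQR1 Cfsg.Agent.Lib.Helper9.M24T9
  Cfsg.Agent.Lib.Helper9.Chain1 Cfsg.Agent.Lib.Helper9.M24U1 Cfsg.Agent.Lib.Helper9.GolayQR5
  Cfsg.Agent.Lib.Helper9.M24Y4 Cfsg.Agent.Lib.Helper9.M24P7 Cfsg.Agent.Lib.Helper9.M24T11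
  Cfsg.Agent.Lib.Helper9.M24F7 Cfsg.Agent.Lib.Helper9.M24Z10
open scoped Pointwise

section general

variable {α : Type*} [Fintype α] [DecidableEq α]

/-- a subgroup preserving a set and fixing one of its points preserves the rest -/
theorem erase_invariant (K : Subgroup (Equiv.Perm α)) (B : Finset α) (b : α)
    (hB : ∀ g ∈ K, ∀ c ∈ B, g c ∈ B) (hb : ∀ g ∈ K, g b = b) :
    ∀ g ∈ K, ∀ c ∈ B.erase b, g c ∈ B.erase b := by
  intro g hg c hc
  obtain ⟨hcb, hcB⟩ := mem_erase.mp hc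
  refine mem_erase.mpr ⟨?_, hB g hg c hcB⟩
  intro e
  rw [← hb g hg] at e
  exact hcb (g.injective e)

/-- the order of a subgroup is at most the size of an invariant set times the order of a point
stabilizer -/
theorem card_le_mul_stab (K : Subgroup (Equiv.Perm α)) (B : Finset α) (b : α) (hb : b ∈ B)
    (hB : ∀ g ∈ K, ∀ c ∈ B, g c ∈ B) :
    Nat.card K ≤ B.card * Nat.card ↥(K ⊓ stabilizer (Equiv.Perm α) b) := by
  rw [card_orbF K b]
  exact Nat.mul_le_mul_right _ (card_le_card (orbF_subset K b B hb hB))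

/-- a subgroup with at least two elements has a non-trivial element -/
theorem exists_ne_one_of_card {A : Type*} [Group A] (K : Subgroup A) (h : 2 ≤ Nat.card K) :
    ∃ g ∈ K, g ≠ 1 := by
  by_contra hcon
  push Not at hcon
  have : K = ⊥ := (Subgroup.eq_bot_iff_forall K).mpr hcon
  rw [this, Subgroup.card_bot] at h
  omega

end general

/-- the stabilizer of two points of a dodecad has order 720 -/
theorem card_two (d : Finset GolayPt) (hd : d ∈ dodecads) (p q : GolayPt) (hp : p ∈ d) (hq : q ∈ d)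
    (hpq : p ≠ q) :
    Nat.card ↥(stabF d ⊓ stabilizer (Equiv.Perm GolayPt) p ⊓ stabilizer (Equiv.Perm GolayPt) q)
      = 720 := by
  have h12 : d.card = 12 := hd.2
  have h1 := card_stab_point d hd p hp
  have h2 := card_orbF (stabF d ⊓ stabilizer (Equiv.Perm GolayPt) p) q
  have horb : orbF (stabF d ⊓ stabilizer (Equiv.Perm GolayPt) p) q = d.erase p := by
    apply Subset.antisymm
    · apply orbF_subset _ q (d.erase p) (mem_erase.mpr ⟨Ne.symm hpq, hq⟩)
      apply erase_invariant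
      · intro g hg
        exact stabF_maps d g ((mem_inf_stab _ _ _).mp hg).1
      · intro g hg
        exact ((mem_inf_stab _ _ _).mp hg).2
    · intro x hx
      obtain ⟨hxp, hxd⟩ := mem_erase.mp hx
      obtain ⟨g, hg, hmap⟩ := dodecad_map_list d hd [p, q] [p, x] (by simp [hpq])
        (by simp [hxp.symm]) (by simp [hp, hq]) (by simp [hp, hxd]) rfl (by simp)
      simp only [List.map_cons, List.map_nil, List.cons.injEq, and_true] at hmap
      exact (mem_orbF _ _ _).mpr ⟨g, (mem_inf_stab _ _ _).mpr ⟨hg, hmap.1⟩, hmap.2⟩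
  rw [h1, horb, card_erase_of_mem hp, h12] at h2
  omega

/-- a subgroup of order 720 of the stabilizer of a dodecad and one of its points fixes a second
point of the dodecad -/
theorem index_M10 (d : Finset GolayPt) (hd : d ∈ dodecads) (x : GolayPt) (hx : x ∈ d)
    (K : Subgroup (Equiv.Perm GolayPt)) (hK : K ≤ stabF d ⊓ stabilizer (Equiv.Perm GolayPt) x)
    (hc : Nat.card K = 720) : ∃ a ∈ d, a ≠ x ∧ ∀ k ∈ K, k a = a := by
  haveI : Fact (Nat.Prime 5) := ⟨by norm_num⟩
  have h12 : d.card = 12 := hd.2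
  have hKd : ∀ g ∈ K, g ∈ stabF d := fun g hg => ((mem_inf_stab _ _ _).mp (hK hg)).1
  have hKx : ∀ g ∈ K, g x = x := fun g hg => ((mem_inf_stab _ _ _).mp (hK hg)).2
  have hKinv : ∀ g ∈ K, ∀ c ∈ d.erase x, g c ∈ d.erase x :=
    erase_invariant K d x (fun g hg => stabF_maps d g (hKd g hg)) hKx
  obtain ⟨w, hw, hw1, hw5⟩ := exists_prime_order K 5 (by rw [hc]; norm_num) (by rw [hc]; norm_num)
  have hwM : w ∈ M24 := ((mem_stabF d w).mp (hKd w hw)).1
  have hfw := card_fixF_prime w hwM hw1 5 (by norm_num) hw5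
  have hm := card_modEq_fix w 5 hw5 d (stabF_maps d w (hKd w hw))
  rw [h12] at hm
  unfold Nat.ModEq at hm
  have hle : (d ∩ fixF w).card ≤ (fixF w).card := card_le_card inter_subset_right
  rw [hfw] at hle
  have h2 : (d ∩ fixF w).card = 2 := by omega
  have hxm : x ∈ d ∩ fixF w := mem_inter.mpr ⟨hx, (mem_fixF w x).mpr (hKx w hw)⟩
  obtain ⟨a, ha⟩ := card_eq_one.mp
    (show ((d ∩ fixF w).erase x).card = 1 by rw [card_erase_of_mem hxm, h2])
  have ham : a ∈ (d ∩ fixF w).erase x := by rw [ha]; exact mem_singleton_self a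
  obtain ⟨hax, ham'⟩ := mem_erase.mp ham
  obtain ⟨had, haw⟩ := mem_inter.mp ham'
  refine ⟨a, had, hax, ?_⟩
  have hAsub : orbF K a ⊆ d.erase x := orbF_subset K a (d.erase x) (mem_erase.mpr ⟨hax, had⟩) hKinv
  have hAf : orbF K a ∩ fixF w = {a} := by
    ext b
    rw [mem_inter, mem_singleton]
    constructor
    · rintro ⟨h1, h3⟩
      obtain ⟨hbx, hbd⟩ := mem_erase.mp (hAsub h1)
      have : b ∈ (d ∩ fixF w).erase x := mem_erase.mpr ⟨hbx, mem_inter.mpr ⟨hbd, h3⟩⟩
      rw [ha, mem_singleton] at this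
      exact this
    · rintro rfl
      exact ⟨self_mem_orbF K b, haw⟩
  have hAm := card_modEq_fix w 5 hw5 (orbF K a) (orbF_invariant K a w hw)
  rw [hAf, card_singleton] at hAm
  unfold Nat.ModEq at hAm
  have hAle := card_le_card hAsub
  rw [card_erase_of_mem hx, h12] at hAle
  have hApos := orb_card_pos K a
  have hos := card_orbF K a
  rw [hc] at hos
  have hcases : (orbF K a).card = 1 ∨ (orbF K a).card = 6 := by
    have : (orbF K a).card = 1 ∨ (orbF K a).card = 6 ∨ (orbF K a).card = 11 := by omega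
    rcases this with h | h | h
    · exact Or.inl h
    · exact Or.inr h
    · exfalso
      rw [h] at hos
      omega
  rcases hcases with h1 | h6
  · exact fixed_of_orb_one K a h1
  · exfalso
    obtain ⟨C, hCdef⟩ : ∃ C, C = (d.erase x) \ orbF K a := ⟨_, rfl⟩
    have hC5 : C.card = 5 := by
      rw [hCdef, card_sdiff_of_subset hAsub, card_erase_of_mem hx, h12, h6]
    have hCsub : ∀ c ∈ C, c ∈ d ∧ c ≠ x := by
      intro c hc'
      rw [hCdef, mem_sdiff] at hc'
      obtain ⟨h3, h4⟩ := mem_erase.mp hc'.1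
      exact ⟨h4, h3⟩
    have hCinv : ∀ g ∈ K, ∀ c ∈ C, g c ∈ C := by
      intro g hg c hc'
      rw [hCdef, mem_sdiff] at hc' ⊢
      refine ⟨hKinv g hg c hc'.1, ?_⟩
      intro hin
      apply hc'.2
      have := orbF_invariant K a g⁻¹ (K.inv_mem hg) (g c) hin
      rwa [inv_apply_self'] at this
    -- four points of `C`
    obtain ⟨b1, hb1⟩ : C.Nonempty := card_pos.mp (by omega)
    obtain ⟨b2, hb2⟩ : (C.erase b1).Nonempty := card_pos.mp (by rw [card_erase_of_mem hb1]; omega)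
    obtain ⟨b3, hb3⟩ : ((C.erase b1).erase b2).Nonempty :=
      card_pos.mp (by rw [card_erase_of_mem hb2, card_erase_of_mem hb1]; omega)
    obtain ⟨b4, hb4⟩ : (((C.erase b1).erase b2).erase b3).Nonempty :=
      card_pos.mp (by rw [card_erase_of_mem hb3, card_erase_of_mem hb2, card_erase_of_mem hb1]; omega)
    obtain ⟨K1, hK1⟩ : ∃ K1, K1 = K ⊓ stabilizer (Equiv.Perm GolayPt) b1 := ⟨_, rfl⟩
    obtain ⟨K2, hK2⟩ : ∃ K2, K2 = K1 ⊓ stabilizer (Equiv.Perm GolayPt) b2 := ⟨_, rfl⟩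
    obtain ⟨K3, hK3⟩ : ∃ K3, K3 = K2 ⊓ stabilizer (Equiv.Perm GolayPt) b3 := ⟨_, rfl⟩
    obtain ⟨K4, hK4⟩ : ∃ K4, K4 = K3 ⊓ stabilizer (Equiv.Perm GolayPt) b4 := ⟨_, rfl⟩
    have hK1K : ∀ g ∈ K1, g ∈ K ∧ g b1 = b1 := fun g hg => by
      rw [hK1] at hg; exact (mem_inf_stab _ _ _).mp hg
    have hK2K : ∀ g ∈ K2, g ∈ K1 ∧ g b2 = b2 := fun g hg => by
      rw [hK2] at hg; exact (mem_inf_stab _ _ _).mp hg
    have hK3K : ∀ g ∈ K3, g ∈ K2 ∧ g b3 = b3 := fun g hg => by
      rw [hK3] at hg; exact (mem_inf_stab _ _ _).mp hg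
    have hK4K : ∀ g ∈ K4, g ∈ K3 ∧ g b4 = b4 := fun g hg => by
      rw [hK4] at hg; exact (mem_inf_stab _ _ _).mp hg
    have hinv1 : ∀ g ∈ K1, ∀ c ∈ C.erase b1, g c ∈ C.erase b1 :=
      erase_invariant K1 C b1 (fun g hg => hCinv g (hK1K g hg).1) (fun g hg => (hK1K g hg).2)
    have hinv2 : ∀ g ∈ K2, ∀ c ∈ (C.erase b1).erase b2, g c ∈ (C.erase b1).erase b2 :=
      erase_invariant K2 _ b2 (fun g hg => hinv1 g (hK2K g hg).1) (fun g hg => (hK2K g hg).2)
    have hinv3 : ∀ g ∈ K3, ∀ c ∈ ((C.erase b1).erase b2).erase b3,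
        g c ∈ ((C.erase b1).erase b2).erase b3 :=
      erase_invariant K3 _ b3 (fun g hg => hinv2 g (hK3K g hg).1) (fun g hg => (hK3K g hg).2)
    have e1 := card_le_mul_stab K C b1 hb1 hCinv
    have e2 := card_le_mul_stab K1 (C.erase b1) b2 hb2 hinv1
    have e3 := card_le_mul_stab K2 ((C.erase b1).erase b2) b3 hb3 hinv2
    have e4 := card_le_mul_stab K3 (((C.erase b1).erase b2).erase b3) b4 hb4 hinv3
    rw [← hK1, hc, hC5] at e1
    rw [← hK2, card_erase_of_mem hb1, hC5] at e2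
    rw [← hK3, card_erase_of_mem hb2, card_erase_of_mem hb1, hC5] at e3
    rw [← hK4, card_erase_of_mem hb3, card_erase_of_mem hb2, card_erase_of_mem hb1, hC5] at e4
    have h6' : 2 ≤ Nat.card K4 := by omega
    obtain ⟨g, hg, hg1⟩ := exists_ne_one_of_card K4 h6'
    apply hg1
    have hg3 := (hK4K g hg).1
    have hg2 := (hK3K g hg3).1
    have hg1' := (hK2K g hg2).1
    have hg0 := (hK1K g hg1').1
    obtain ⟨hb3ne, hb4'⟩ := mem_erase.mp hb4
    obtain ⟨hb42, hb4''⟩ := mem_erase.mp hb4'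
    obtain ⟨hb41, hb4C⟩ := mem_erase.mp hb4''
    obtain ⟨hb32, hb3'⟩ := mem_erase.mp hb3
    obtain ⟨hb31, hb3C⟩ := mem_erase.mp hb3'
    obtain ⟨hb21, hb2C⟩ := mem_erase.mp hb2
    apply Cfsg.Agent.Lib.Helper9.M24P5.eq_one_of_fix d hd g (hKd g hg0) {x, b1, b2, b3, b4}
    · intro p hp
      simp only [mem_insert, mem_singleton] at hp
      rcases hp with rfl | rfl | rfl | rfl | rfl
      · exact hx
      · exact (hCsub _ hb1).1
      · exact (hCsub _ hb2C).1
      · exact (hCsub _ hb3C).1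
      · exact (hCsub _ hb4C).1
    · have : ({x, b1, b2, b3, b4} : Finset GolayPt).card = 5 := by
        rw [card_insert_of_notMem, card_insert_of_notMem, card_insert_of_notMem,
          card_insert_of_notMem, card_singleton]
        · simpa using hb3ne.symm
        · simp only [mem_insert, mem_singleton, not_or]
          exact ⟨hb32.symm, hb42.symm⟩
        · simp only [mem_insert, mem_singleton, not_or]
          exact ⟨hb21.symm, hb31.symm, hb41.symm⟩
        · simp only [mem_insert, mem_singleton, not_or]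
          exact ⟨(hCsub _ hb1).2.symm, (hCsub _ hb2C).2.symm, (hCsub _ hb3C).2.symm,
            (hCsub _ hb4C).2.symm⟩
      omega
    · intro p hp
      simp only [mem_insert, mem_singleton] at hp
      rcases hp with rfl | rfl | rfl | rfl | rfl
      · exact hKx g hg0
      · exact (hK1K g hg1').2
      · exact (hK2K g hg2).2
      · exact (hK3K g hg3).2
      · exact (hK4K g hg).2

end Cfsg.Agent.Lib.Helper9.OutM
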