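import Cfsg.Agent.Lib.Helper9.OutQ1

set_option autoImplicit false

/-! The outer automorphism group of `M11`: automorphisms permute the point stabilizers. -/

namespace Cfsg.Agent.Lib.Helper9.OutM

open Cfsg Finset MulAction Cfsg.Agent.Lib.Helper9.GolayQR1 Cfsg.Agent.Lib.Helper9.M24T9
  Cfsg.Agent.Lib.Helper9.Chain1 Cfsg.Agent.Lib.Helper9.M24U1 Cfsg.Agent.Lib.Helper9.GolayQR5
  Cfsg.Agent.Lib.Helper9.M24Y4 Cfsg.Agent.Lib.Helper9.M24P7 Cfsg.Agent.Lib.Helper9.M24T11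
  Cfsg.Agent.Lib.Helper9.M24F7 Cfsg.Agent.Lib.Helper9.M24Z10 Cfsg.Agent.Lib.Helper9.M24Z11
open scoped Pointwise

/-- `M11` moves every point but one -/
theorem M11_moves_x (d : Finset GolayPt) (hd : d ∈ dodecads) (x : GolayPt) (hx : x ∈ d)
    (y' : GolayPt) (hy'x : y' ≠ x) :
    ∃ g ∈ stabF d ⊓ stabilizer (Equiv.Perm GolayPt) x, g y' ≠ y' := by
  have h12 : d.card = 12 := hd.2
  by_cases hy' : y' ∈ d
  · obtain ⟨y'', hy''d, hy''⟩ := Finset.exists_mem_notMem_of_card_lt_card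
      (s := ({x, y'} : Finset GolayPt)) (t := d) (by rw [card_pair hy'x.symm, h12]; norm_num)
    rw [mem_insert, mem_singleton, not_or] at hy''
    obtain ⟨g, hg, hmap⟩ := dodecad_map_list d hd [x, y'] [x, y''] (by simp [hy'x.symm])
      (by simp [Ne.symm hy''.1]) (by simp [hx, hy']) (by simp [hx, hy''d]) rfl (by simp)
    simp only [List.map_cons, List.map_nil, List.cons.injEq, and_true] at hmap
    refine ⟨g, (mem_inf_stab _ _ _).mpr ⟨hg, hmap.1⟩, ?_⟩
    rw [hmap.2]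
    exact hy''.2
  · obtain ⟨g, hg, h1, h2⟩ := stab_ne_diff d hd x y' hx hy'
    exact ⟨g, (mem_inf_stab _ _ _).mpr ⟨hg, h1⟩, h2⟩

/-- in `M11` the stabilizers of two moved points are different -/
theorem M11_moves (d : Finset GolayPt) (hd : d ∈ dodecads) (x : GolayPt) (hx : x ∈ d)
    (y y' : GolayPt) (hyx : y ≠ x) (hy'x : y' ≠ x) (hyy : y ≠ y') :
    ∃ g ∈ stabF d ⊓ stabilizer (Equiv.Perm GolayPt) x,
      (g y = y ∧ g y' ≠ y') ∨ (g y' = y' ∧ g y ≠ y) := by
  have h12 : d.card = 12 := hd.2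
  have h12' : dᶜ.card = 12 := by rw [card_compl, card_golayPt, h12]
  -- mixed case
  have hmixed : ∀ a b : GolayPt, a ∈ d → a ≠ x → b ∉ d →
      ∃ g ∈ stabF d ⊓ stabilizer (Equiv.Perm GolayPt) x, g a = a ∧ g b ≠ b := by
    intro a b had hax hbd
    obtain ⟨r, hrd, hr⟩ := Finset.exists_mem_notMem_of_card_lt_card
      (s := ({x, a} : Finset GolayPt)) (t := d) (by rw [card_pair hax.symm, h12]; norm_num)
    rw [mem_insert, mem_singleton, not_or] at hr
    obtain ⟨b', hb'd, hb'⟩ := Finset.exists_mem_notMem_of_card_lt_card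
      (s := ({b} : Finset GolayPt)) (t := dᶜ) (by rw [card_singleton, h12']; norm_num)
    rw [mem_singleton] at hb'
    obtain ⟨-, htr⟩ := three_result d hd x a r hx had hrd hax.symm (Ne.symm hr.1) (Ne.symm hr.2)
    obtain ⟨g, hg, hgb⟩ := htr b hbd b' (mem_compl.mp hb'd)
    simp only [Subgroup.mem_inf, MulAction.mem_stabilizer_iff] at hg
    refine ⟨g.1, ?_, hg.1.2, ?_⟩
    · rw [mem_inf_stab, mem_stabF]
      exact ⟨⟨g.2, hg.1.1.1⟩, hg.1.1.2⟩
    · rw [hgb]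
      exact hb'
  by_cases hy : y ∈ d
  · by_cases hy' : y' ∈ d
    · obtain ⟨y'', hy''d, hy''⟩ := Finset.exists_mem_notMem_of_card_lt_card
        (s := ({x, y, y'} : Finset GolayPt)) (t := d) (by
          have : ({x, y, y'} : Finset GolayPt).card ≤ 3 := card_le_three
          omega)
      simp only [mem_insert, mem_singleton, not_or] at hy''
      obtain ⟨g, hg, hmap⟩ := dodecad_map_list d hd [x, y, y'] [x, y, y'']
        (by simp [hyx.symm, hy'x.symm, hyy])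
        (by simp [hyx.symm, Ne.symm hy''.1, Ne.symm hy''.2.1]) (by simp [hx, hy, hy'])
        (by simp [hx, hy, hy''d]) rfl (by simp)
      simp only [List.map_cons, List.map_nil, List.cons.injEq, and_true] at hmap
      refine ⟨g, (mem_inf_stab _ _ _).mpr ⟨hg, hmap.1⟩, Or.inl ⟨hmap.2.1, ?_⟩⟩
      rw [hmap.2.2]
      exact hy''.2.2
    · obtain ⟨g, hg, h1, h2⟩ := hmixed y y' hy hyx hy'
      exact ⟨g, hg, Or.inl ⟨h1, h2⟩⟩
  · by_cases hy' : y' ∈ d
    · obtain ⟨g, hg, h1, h2⟩ := hmixed y' y hy' hy'x hy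
      exact ⟨g, hg, Or.inr ⟨h1, h2⟩⟩
    · obtain ⟨y'', hy''d, hy''⟩ := Finset.exists_mem_notMem_of_card_lt_card
        (s := ({y, y'} : Finset GolayPt)) (t := dᶜ) (by rw [card_pair hyy, h12']; norm_num)
      rw [mem_insert, mem_singleton, not_or] at hy''
      obtain ⟨g, hg, h1, h2⟩ := Cfsg.Agent.Lib.Helper9.M24M1.two_trans_compl d hd x hx y y' y'' hy hy'
        (mem_compl.mp hy''d) (Ne.symm hyy) hy''.1
      refine ⟨g, hg, Or.inl ⟨h1, ?_⟩⟩
      rw [h2]
      exact hy''.2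

/-- distinct points have distinct stabilizers in `M11` -/
theorem stab_inj11 (d : Finset GolayPt) (hd : d ∈ dodecads) (x : GolayPt) (hx : x ∈ d)
    (y y' : GolayPt)
    (h : ∀ g ∈ stabF d ⊓ stabilizer (Equiv.Perm GolayPt) x, g y = y ↔ g y' = y') : y = y' := by
  by_contra hne
  by_cases hyx : y = x
  · have hy'x : y' ≠ x := fun e => hne (hyx.trans e.symm)
    obtain ⟨g, hg, hg'⟩ := M11_moves_x d hd x hx y' hy'x
    apply hg'
    apply (h g hg).mp
    rw [hyx]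
    exact ((mem_inf_stab _ _ _).mp hg).2
  · by_cases hy'x : y' = x
    · obtain ⟨g, hg, hg'⟩ := M11_moves_x d hd x hx y hyx
      apply hg'
      apply (h g hg).mpr
      rw [hy'x]
      exact ((mem_inf_stab _ _ _).mp hg).2
    · obtain ⟨g, hg, hg' | hg'⟩ := M11_moves d hd x hx y y' hyx hy'x hne
      · exact hg'.2 ((h g hg).mp hg'.1)
      · exact hg'.2 ((h g hg).mpr hg'.1)

/-- the orders of the point stabilizers of `M11` -/
theorem card_stab11 (d : Finset GolayPt) (hd : d ∈ dodecads) (x : GolayPt) (hx : x ∈ d)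
    (p : GolayPt) :
    (p = x ∧ Nat.card ↥(stabF d ⊓ stabilizer (Equiv.Perm GolayPt) x ⊓
      stabilizer (Equiv.Perm GolayPt) p) = 7920) ∨
    (p ∈ d ∧ p ≠ x ∧ Nat.card ↥(stabF d ⊓ stabilizer (Equiv.Perm GolayPt) x ⊓
      stabilizer (Equiv.Perm GolayPt) p) = 720) ∨
    (p ∉ d ∧ Nat.card ↥(stabF d ⊓ stabilizer (Equiv.Perm GolayPt) x ⊓
      stabilizer (Equiv.Perm GolayPt) p) = 660) := by
  by_cases hpx : p = x
  · left
    refine ⟨hpx, ?_⟩
    rw [hpx, inf_assoc, inf_idem]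
    exact card_stab_point d hd x hx
  · by_cases hpd : p ∈ d
    · right
      left
      exact ⟨hpd, hpx, card_two d hd x p hx hpd (Ne.symm hpx)⟩
    · right
      right
      exact ⟨hpd, Cfsg.Agent.Lib.Helper9.M24M1.card_M11_pt d hd x hx p hpd⟩

/-- an automorphism of `M11` permutes the point stabilizers -/
theorem aut_stab11 (d : Finset GolayPt) (hd : d ∈ dodecads) (x : GolayPt) (hx : x ∈ d)
    (φ : ↥(stabF d ⊓ stabilizer (Equiv.Perm GolayPt) x) ≃*
      ↥(stabF d ⊓ stabilizer (Equiv.Perm GolayPt) x)) (p : GolayPt) :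
    ∃ y : GolayPt, ∀ g : ↥(stabF d ⊓ stabilizer (Equiv.Perm GolayPt) x),
      (φ g).1 y = y ↔ g.1 p = p := by
  obtain ⟨G, hG⟩ : ∃ G, G = stabF d ⊓ stabilizer (Equiv.Perm GolayPt) x := ⟨_, rfl⟩
  obtain ⟨H', hH', hcard, hmem⟩ := image_subgroup (stabF d ⊓ stabilizer (Equiv.Perm GolayPt) x) φ
    (stabF d ⊓ stabilizer (Equiv.Perm GolayPt) x ⊓ stabilizer (Equiv.Perm GolayPt) p) inf_le_left
  -- the image fixes a point `a` whose stabilizer has the same order
  have key : ∃ a : GolayPt, (∀ g ∈ H', g a = a) ∧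
      Nat.card ↥(stabF d ⊓ stabilizer (Equiv.Perm GolayPt) x ⊓
        stabilizer (Equiv.Perm GolayPt) a) = Nat.card H' := by
    rcases card_stab11 d hd x hx p with ⟨-, hc⟩ | ⟨-, -, hc⟩ | ⟨-, hc⟩
    · refine ⟨x, fun g hg => ((mem_inf_stab _ _ _).mp (hH' hg)).2, ?_⟩
      rw [hcard, hc, inf_assoc, inf_idem]
      exact card_stab_point d hd x hx
    · rw [hc] at hcard
      obtain ⟨a, had, hax, hfix⟩ := index_M10 d hd x hx H' hH' hcard
      exact ⟨a, hfix, by rw [hcard]; exact card_two d hd x a hx had (Ne.symm hax)⟩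
    · rw [hc] at hcard
      obtain ⟨a, had, hfix⟩ := index_M11 d hd x hx H' hH' hcard
      exact ⟨a, hfix, by rw [hcard]; exact Cfsg.Agent.Lib.Helper9.M24M1.card_M11_pt d hd x hx a had⟩
  obtain ⟨a, hfix, hca⟩ := key
  have hle : H' ≤ stabF d ⊓ stabilizer (Equiv.Perm GolayPt) x ⊓
      stabilizer (Equiv.Perm GolayPt) a := by
    intro g hg
    exact (mem_inf_stab _ _ _).mpr ⟨hH' hg, hfix g hg⟩
  have hpos : Nat.card H' ≠ 0 := by
    rw [hcard]
    rcases card_stab11 d hd x hx p with ⟨-, hc⟩ | ⟨-, -, hc⟩ | ⟨-, hc⟩ <;> rw [hc] <;> norm_num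
  haveI : Finite ↥(stabF d ⊓ stabilizer (Equiv.Perm GolayPt) x ⊓
      stabilizer (Equiv.Perm GolayPt) a) := Nat.finite_of_card_ne_zero (by rw [hca]; exact hpos)
  have hEq : H' = stabF d ⊓ stabilizer (Equiv.Perm GolayPt) x ⊓
      stabilizer (Equiv.Perm GolayPt) a := Subgroup.eq_of_le_of_card_ge hle (by rw [hca])
  refine ⟨a, fun g => ?_⟩
  have h1 := hmem g
  rw [hEq, mem_inf_stab, mem_inf_stab] at h1
  constructor
  · intro h
    exact (h1.mp ⟨(φ g).2, h⟩).2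
  · intro h
    exact (h1.mpr ⟨g.2, h⟩).2

end Cfsg.Agent.Lib.Helper9.OutM
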