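import Cfsg.Agent.Lib.Helper9.OutQ2

set_option autoImplicit false

/-! A permutation normalizing `M11` lies in `M24`. -/

namespace Cfsg.Agent.Lib.Helper9.OutM

open Cfsg Finset MulAction Cfsg.Agent.Lib.Helper9.Golay1 Cfsg.Agent.Lib.Helper9.GolayQR1
  Cfsg.Agent.Lib.Helper9.GolayQR2 Cfsg.Agent.Lib.Helper9.GolayQR3
  Cfsg.Agent.Lib.Helper9.GolayM24a Cfsg.Agent.Lib.Helper9.GolayM24c
  Cfsg.Agent.Lib.Helper9.M24T1 Cfsg.Agent.Lib.Helper9.M24U1
  Cfsg.Agent.Lib.Helper9.M24T3 Cfsg.Agent.Lib.Helper9.M24T5 Cfsg.Agent.Lib.Helper9.M24T6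
  Cfsg.Agent.Lib.Helper9.M24T7 Cfsg.Agent.Lib.Helper9.M24T9
open scoped Pointwise

/-- the tables of twelve involutions of `M11` -/
def yl (i : Fin 12) : List ℕ :=
  [[0, 4, 3, 2, 1, 5, 18, 7, 8, 16, 10, 11, 12, 13, 22, 23, 9, 20, 6, 21, 17, 19, 14, 15],
    [0, 1, 3, 2, 12, 5, 6, 7, 18, 9, 10, 22, 4, 16, 14, 21, 13, 23, 8, 20, 19, 15, 11, 17],
    [0, 13, 2, 4, 3, 5, 12, 17, 8, 9, 19, 11, 6, 1, 14, 15, 18, 7, 16, 10, 22, 23, 20, 21],
    [0, 13, 6, 3, 9, 5, 2, 7, 18, 4, 21, 17, 12, 1, 14, 15, 16, 11, 8, 22, 23, 10, 19, 20],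
    [0, 13, 8, 3, 4, 5, 18, 7, 2, 9, 20, 11, 16, 1, 15, 14, 12, 17, 6, 22, 10, 23, 19, 21],
    [0, 13, 2, 16, 18, 15, 6, 7, 9, 8, 19, 11, 12, 1, 14, 5, 3, 17, 4, 10, 23, 22, 21, 20],
    [0, 1, 13, 3, 8, 5, 12, 23, 4, 16, 10, 11, 6, 2, 19, 15, 9, 22, 18, 14, 21, 20, 17, 7],
    [0, 18, 9, 3, 4, 5, 12, 20, 8, 2, 10, 15, 6, 16, 14, 11, 13, 22, 1, 19, 7, 23, 17, 21],
    [0, 8, 4, 3, 2, 5, 6, 21, 1, 12, 23, 11, 9, 13, 14, 22, 18, 19, 16, 17, 20, 7, 15, 10],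
    [0, 1, 16, 3, 18, 20, 13, 7, 8, 12, 23, 11, 9, 6, 14, 19, 2, 22, 4, 15, 5, 21, 17, 10],
    [0, 1, 3, 2, 4, 5, 9, 10, 13, 6, 7, 11, 12, 8, 14, 20, 18, 23, 16, 21, 15, 19, 22, 17],
    [0, 8, 2, 13, 4, 5, 6, 15, 1, 16, 10, 11, 18, 3, 20, 7, 9, 19, 12, 17, 14, 22, 21, 23]].getD i.val []

/-- the octads of their fixed points -/
def oy (i : Fin 12) : ℕ :=
  [15777, 18147, 52005, 118953, 133817, 153797, 298027, 542009, 1075305, 2115979, 4216883, 8391797].getD i.val 0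

theorem yl_inv : ∀ i : Fin 12, ∀ p : GolayPt, tfun (yl i) (tfun (yl i) p) = p := by
  decide +kernel

theorem yl_lt : ∀ i : Fin 12, ∀ p : GolayPt, (yl i).getD (idx p) 0 < 24 := by decide +kernel

theorem yl_code : ∀ i : Fin 12, ∀ j : Fin 12,
    reprod (pull (yl i) (bmask j)) = pull (yl i) (bmask j) := by decide +kernel

theorem yl_sq : ∀ i : Fin 12, pull (yl i) sqMask = sqMask := by decide +kernel

theorem yl_fix : ∀ i : Fin 12, ∀ p : GolayPt,
    tfun (yl i) p = p ↔ (oy i).testBit (idx p) = true := by decide +kernel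

theorem oy_oct : ∀ i : Fin 12, Cfsg.Agent.Lib.Helper9.M24F2.isOctF (oy i) = true := by
  decide +kernel

/-- twelve involutions of `M11` -/
def yy (i : Fin 12) : Equiv.Perm GolayPt := tperm (yl i) (yl i) (yl_inv i) (yl_inv i)

theorem yy_mem24 (i : Fin 12) : yy i ∈ M24 := tperm_mem _ _ _ _ (yl_lt i) (yl_code i)

theorem yy_mem (i : Fin 12) : yy i ∈ stabF Spor.squareDodecad := by
  rw [mem_stabF]
  refine ⟨yy_mem24 i, ?_⟩
  unfold yy
  rw [sq_eq_M, tperm_smul_M _ _ _ _ (yl_lt i), yl_sq i]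

theorem yl_zero : ∀ i : Fin 12, tfun (yl i) (some 0) = some 0 := by decide +kernel

theorem yy_mem11 (i : Fin 12) :
    yy i ∈ stabF Spor.squareDodecad ⊓ stabilizer (Equiv.Perm GolayPt) (some 0 : GolayPt) :=
  (Cfsg.Agent.Lib.Helper9.Chain1.mem_inf_stab _ _ _).mpr ⟨yy_mem i, yl_zero i⟩

theorem yy_sq (i : Fin 12) : yy i ^ 2 = 1 := by
  rw [pow_two]
  apply Equiv.ext
  intro p
  exact yl_inv i p

theorem fixF_yy (i : Fin 12) : fixF (yy i) = M (oy i) := by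
  ext p
  rw [mem_fixF, mem_M]
  exact yl_fix i p

theorem oy_mem (i : Fin 12) : M (oy i) ∈ octads :=
  Cfsg.Agent.Lib.Helper9.M24F2.isOctF_sound _ (oy_oct i)

theorem yy_ne (i : Fin 12) : yy i ≠ 1 := by
  intro h
  have h1 : fixF (yy i) = univ := by
    rw [h]
    ext p
    rw [mem_fixF]
    simp
  have h8 : (fixF (yy i)).card = 8 := by
    rw [fixF_yy]
    exact (oy_mem i).2
  rw [h1, card_univ, Cfsg.Agent.Lib.Helper9.GolayQR5.card_golayPt] at h8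
  omega

theorem oy_code (i : Fin 12) : dec (oy i) ∈ golayCode := by
  obtain ⟨⟨w, hw, hws⟩, -⟩ := oy_mem i
  have : dec (oy i) = w := by
    rw [← supp_eq_iff, supp_eq_support₂ w, hws]
    rfl
  rw [this]
  exact hw

theorem span_oy : Submodule.span (ZMod 2) (Set.range (fun i : Fin 12 => dec (oy i))) = golayCode := by
  apply le_antisymm
  · rw [Submodule.span_le]
    rintro _ ⟨i, rfl⟩
    exact oy_code i
  · rw [golayCode_eq_span, Submodule.span_le]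
    have hm : ∀ i : Fin 12, dec (oy i) ∈
        Submodule.span (ZMod 2) (Set.range (fun i : Fin 12 => dec (oy i))) :=
      fun i => Submodule.subset_span ⟨i, rfl⟩
    have hx : ∀ a b : ℕ, dec a ∈ Submodule.span (ZMod 2) (Set.range (fun i : Fin 12 => dec (oy i))) →
        dec b ∈ Submodule.span (ZMod 2) (Set.range (fun i : Fin 12 => dec (oy i))) →
        dec (a ^^^ b) ∈ Submodule.span (ZMod 2) (Set.range (fun i : Fin 12 => dec (oy i))) := by
      intro a b ha hb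
      rw [dec_xor]
      exact Submodule.add_mem _ ha hb
    rintro _ ⟨j, rfl⟩
    unfold bw
    fin_cases j
    · have e : bmask 0 = oy 1 ^^^ (oy 4 ^^^ oy 5) := by decide +kernel
      show dec (bmask 0) ∈ _
      rw [e]
      exact hx _ _ (hm 1) (hx _ _ (hm 4) (hm 5))
    · have e : bmask 1 = oy 0 ^^^ (oy 1 ^^^ (oy 4 ^^^ oy 5)) := by decide +kernel
      show dec (bmask 1) ∈ _
      rw [e]
      exact hx _ _ (hm 0) (hx _ _ (hm 1) (hx _ _ (hm 4) (hm 5)))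
    · have e : bmask 2 = oy 1 := by decide +kernel
      show dec (bmask 2) ∈ _
      rw [e]
      exact hm 1
    · have e : bmask 3 = oy 1 ^^^ oy 2 := by decide +kernel
      show dec (bmask 3) ∈ _
      rw [e]
      exact hx _ _ (hm 1) (hm 2)
    · have e : bmask 4 = oy 1 ^^^ (oy 2 ^^^ (oy 3 ^^^ (oy 4 ^^^ oy 5))) := by decide +kernel
      show dec (bmask 4) ∈ _
      rw [e]
      exact hx _ _ (hm 1) (hx _ _ (hm 2) (hx _ _ (hm 3) (hx _ _ (hm 4) (hm 5))))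
    · have e : bmask 5 = oy 4 := by decide +kernel
      show dec (bmask 5) ∈ _
      rw [e]
      exact hm 4
    · have e : bmask 6 = oy 1 ^^^ (oy 2 ^^^ oy 6) := by decide +kernel
      show dec (bmask 6) ∈ _
      rw [e]
      exact hx _ _ (hm 1) (hx _ _ (hm 2) (hm 6))
    · have e : bmask 7 = oy 1 ^^^ oy 7 := by decide +kernel
      show dec (bmask 7) ∈ _
      rw [e]
      exact hx _ _ (hm 1) (hm 7)
    · have e : bmask 8 = oy 0 ^^^ (oy 4 ^^^ (oy 5 ^^^ oy 8)) := by decide +kernel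
      show dec (bmask 8) ∈ _
      rw [e]
      exact hx _ _ (hm 0) (hx _ _ (hm 4) (hx _ _ (hm 5) (hm 8)))
    · have e : bmask 9 = oy 1 ^^^ oy 9 := by decide +kernel
      show dec (bmask 9) ∈ _
      rw [e]
      exact hx _ _ (hm 1) (hm 9)
    · have e : bmask 10 = oy 4 ^^^ (oy 5 ^^^ oy 10) := by decide +kernel
      show dec (bmask 10) ∈ _
      rw [e]
      exact hx _ _ (hm 4) (hx _ _ (hm 5) (hm 10))
    · have e : bmask 11 = oy 11 := by decide +kernel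
      show dec (bmask 11) ∈ _
      rw [e]
      exact hm 11

/-- a permutation normalizing `M11` lies in `M24` -/
theorem mem_M24_of_normalizes_M11 (π : Equiv.Perm GolayPt)
    (hπ : ∀ g ∈ stabF Spor.squareDodecad ⊓ stabilizer (Equiv.Perm GolayPt) (some 0 : GolayPt),
      π * g * π⁻¹ ∈ stabF Spor.squareDodecad ⊓
        stabilizer (Equiv.Perm GolayPt) (some 0 : GolayPt)) : π ∈ M24 := by
  rw [← Subgroup.inv_mem_iff]
  apply mem_M24_of_map_eq
  apply map_eq_of_span π⁻¹ _ span_oy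
  rintro _ ⟨i, rfl⟩
  have h := smul_octad_of_conj π (yy i) (yy_sq i) (yy_ne i) (M (oy i)) (oy_mem i) (fixF_yy i)
    ((mem_stabF _ _).mp ((Cfsg.Agent.Lib.Helper9.Chain1.mem_inf_stab _ _ _).mp (hπ (yy i) (yy_mem11 i))).1).1
  obtain ⟨⟨w', hw', hw'eq⟩, -⟩ := h
  have : dec (oy i) ∘ ⇑π⁻¹ = w' := by
    rw [← supp_eq_iff, supp_eq_support₂, supp_eq_support₂, support_comp, inv_inv, hw'eq]
    rfl
  rw [this]
  exact hw'

end Cfsg.Agent.Lib.Helper9.OutM
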