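import Cfsg.Agent.Lib.Helper9.OutQ3

set_option autoImplicit false

/-! Every automorphism of `M11` is inner. -/

namespace Cfsg.Agent.Lib.Helper9.OutM

open Cfsg Finset MulAction Cfsg.Agent.Lib.Helper9.GolayQR1 Cfsg.Agent.Lib.Helper9.M24T9
  Cfsg.Agent.Lib.Helper9.Chain1 Cfsg.Agent.Lib.Helper9.M24U1 Cfsg.Agent.Lib.Helper9.GolayQR5
  Cfsg.Agent.Lib.Helper9.M24Y4 Cfsg.Agent.Lib.Helper9.M24P7 Cfsg.Agent.Lib.Helper9.M24T11
  Cfsg.Agent.Lib.Helper9.M24F7
open scoped Pointwise

theorem inner11 (φ : ↥(stabF Spor.squareDodecad ⊓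
      stabilizer (Equiv.Perm GolayPt) (some 0 : GolayPt)) ≃*
    ↥(stabF Spor.squareDodecad ⊓ stabilizer (Equiv.Perm GolayPt) (some 0 : GolayPt))) :
    ∃ k : ↥(stabF Spor.squareDodecad ⊓ stabilizer (Equiv.Perm GolayPt) (some 0 : GolayPt)),
      ∀ g, φ g = k * g * k⁻¹ := by
  have hd := Cfsg.Agent.Lib.Helper9.M24P6.sq_mem
  have hx := Cfsg.Agent.Lib.Helper9.M24P6.zero_mem_sq
  have h12 : (Spor.squareDodecad).card = 12 := hd.2
  obtain ⟨π, hπ⟩ := exists_perm_of_stab _ φ (aut_stab11 _ hd _ hx φ)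
    (fun y y' h => stab_inj11 _ hd _ hx y y' h)
  have hn1 : ∀ g ∈ stabF Spor.squareDodecad ⊓
      stabilizer (Equiv.Perm GolayPt) (some 0 : GolayPt), π * g * π⁻¹ ∈
      stabF Spor.squareDodecad ⊓ stabilizer (Equiv.Perm GolayPt) (some 0 : GolayPt) := by
    intro g hg
    rw [← hπ ⟨g, hg⟩]
    exact (φ ⟨g, hg⟩).2
  have hn2 : ∀ g ∈ stabF Spor.squareDodecad ⊓
      stabilizer (Equiv.Perm GolayPt) (some 0 : GolayPt), π⁻¹ * g * π ∈
      stabF Spor.squareDodecad ⊓ stabilizer (Equiv.Perm GolayPt) (some 0 : GolayPt) := by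
    intro g hg
    obtain ⟨g', hg'⟩ := φ.surjective ⟨g, hg⟩
    have h1 := hπ g'
    rw [hg'] at h1
    have h2 : π⁻¹ * g * π = g'.1 := by
      show π⁻¹ * (⟨g, hg⟩ : ↥(stabF Spor.squareDodecad ⊓
        stabilizer (Equiv.Perm GolayPt) (some 0 : GolayPt))).1 * π = g'.1
      rw [h1]
      group
    rw [h2]
    exact g'.2
  have hπM : π ∈ M24 := mem_M24_of_normalizes_M11 π hn1
  -- `π` fixes the fixed point
  have hπx : π (some 0) = some 0 := by
    by_contra hne
    obtain ⟨g, hg, hg'⟩ := M11_moves_x _ hd _ hx (π (some 0)) hne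
    apply hg'
    have h1 := ((mem_inf_stab _ _ _).mp (hn2 g hg)).2
    rw [Equiv.Perm.mul_apply, Equiv.Perm.mul_apply, Equiv.Perm.inv_eq_iff_eq] at h1
    exact h1
  -- the image of the dodecad is invariant
  have hinv : ∀ g ∈ stabF Spor.squareDodecad ⊓
      stabilizer (Equiv.Perm GolayPt) (some 0 : GolayPt), g • (π • Spor.squareDodecad) =
      π • Spor.squareDodecad := by
    intro g hg
    have h1 := ((mem_stabF _ _).mp ((mem_inf_stab _ _ _).mp (hn2 g hg)).1).2
    have h2 : g • π • Spor.squareDodecad = π • ((π⁻¹ * g * π) • Spor.squareDodecad) := by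
      rw [← mul_smul, ← mul_smul]
      congr 1
      group
    rw [h2, h1]
  have hcS : (π • Spor.squareDodecad).card = 12 := by rw [Finset.card_smul_finset, h12]
  have hxS : (some 0 : GolayPt) ∈ π • Spor.squareDodecad := by
    have := (Cfsg.Agent.Lib.Helper9.M24X1.smul_mem_iff π (some 0) Spor.squareDodecad).mpr hx
    rwa [hπx] at this
  have hsub : π • Spor.squareDodecad ⊆ Spor.squareDodecad := by
    by_contra hcon
    rw [not_subset] at hcon
    obtain ⟨p, hpS, hpd⟩ := hcon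
    have hall : insert (some 0 : GolayPt) (Spor.squareDodecad)ᶜ ⊆ π • Spor.squareDodecad := by
      intro q hq
      rw [mem_insert] at hq
      rcases hq with rfl | hq
      · exact hxS
      · obtain ⟨g, hg, hgp⟩ := Cfsg.Agent.Lib.Helper9.M24M1.trans_compl _ hd _ hx p q hpd
          (mem_compl.mp hq)
        rw [← hinv g hg, ← hgp]
        exact Finset.smul_mem_smul_finset hpS
    have := card_le_card hall
    rw [card_insert_of_notMem (by rw [mem_compl, not_not]; exact hx), card_compl, card_golayPt,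
      h12, hcS] at this
    omega
  have hπd : π • Spor.squareDodecad = Spor.squareDodecad :=
    eq_of_subset_of_card_le hsub (by rw [hcS, h12])
  refine ⟨⟨π, (mem_inf_stab _ _ _).mpr ⟨(mem_stabF _ _).mpr ⟨hπM, hπd⟩, hπx⟩⟩, ?_⟩
  intro g
  apply Subtype.ext
  rw [hπ g]
  rfl

theorem card_out_M11 : Nat.card (Cfsg.Out ↥Spor.M11) = 1 := card_out_eq_one inner11

end Cfsg.Agent.Lib.Helper9.OutM
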