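import Mathlib
import Cfsg.Agent.S3377

set_option autoImplicit false

/-! Subgroups isomorphic to `A₅` via the `(2,3,5)` presentation, and the abstract counting
statement for the `A₅`-subgroups of a group with 22 of them in two classes. -/

namespace Cfsg.Agent.Lib.Helper9.P11

open scoped Pointwise

abbrev Rels235 : Set (FreeGroup (Fin 2)) :=
  {FreeGroup.of (0 : Fin 2) ^ 3, FreeGroup.of (1 : Fin 2) ^ 5,
    (FreeGroup.of (0 : Fin 2) * FreeGroup.of 1) ^ 2}

abbrev A5 := alternatingGroup (Fin 5)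

theorem card_A5 : Nat.card A5 = 60 := by
  rw [nat_card_alternatingGroup, Nat.card_eq_fintype_card, Fintype.card_fin]
  rfl

section
variable {G : Type*} [Group G]

/-- a pair satisfying the `(2,3,5)` relations is the image of the standard generators of `A₅` -/
theorem exists_hom_of_rel (a b : G) (ha : a ^ 3 = 1) (hb : b ^ 5 = 1) (hab : (a * b) ^ 2 = 1) :
    ∃ ψ : A5 →* G, ψ.range = Subgroup.closure {a, b} ∧ (a ≠ 1 → Function.Injective ψ) := by
  classical
  obtain ⟨e⟩ := Cfsg.Agent.S3377.result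
  have hrel : ∀ r ∈ Rels235, FreeGroup.lift ![a, b] r = 1 := by
    rintro r (rfl | rfl | rfl)
    · simp [ha]
    · simp [hb]
    · simp [hab]
  let τ := PresentedGroup.toGroup hrel
  let ψ : A5 →* G := τ.comp e.symm.toMonoidHom
  have h0 : τ (PresentedGroup.of 0) = a := by
    show PresentedGroup.toGroup hrel (PresentedGroup.of 0) = a
    rw [PresentedGroup.toGroup.of]; rfl
  have h1 : τ (PresentedGroup.of 1) = b := by
    show PresentedGroup.toGroup hrel (PresentedGroup.of 1) = b
    rw [PresentedGroup.toGroup.of]; rfl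
  have hrange : ψ.range = Subgroup.closure {a, b} := by
    have h2 : ψ.range = τ.range := by
      apply le_antisymm
      · rintro _ ⟨x, rfl⟩
        exact ⟨e.symm x, rfl⟩
      · rintro _ ⟨y, rfl⟩
        exact ⟨e y, by show τ (e.symm (e y)) = τ y; rw [MulEquiv.symm_apply_apply]⟩
    rw [h2, MonoidHom.range_eq_map, ← PresentedGroup.closure_range_of, MonoidHom.map_closure]
    congr 1
    ext x
    constructor
    · rintro ⟨_, ⟨i, rfl⟩, rfl⟩
      fin_cases i
      · left; exact h0
      · right; exact h1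
    · rintro (rfl | rfl)
      · exact ⟨_, ⟨0, rfl⟩, h0⟩
      · exact ⟨_, ⟨1, rfl⟩, h1⟩
  refine ⟨ψ, hrange, ?_⟩
  intro ha1
  have hs : IsSimpleGroup A5 := alternatingGroup.isSimpleGroup (by simp)
  rw [← MonoidHom.ker_eq_bot_iff]
  rcases (MonoidHom.normal_ker ψ).eq_bot_or_eq_top with h | h
  · exact h
  · exfalso
    apply ha1
    have h3 : e (PresentedGroup.of 0) ∈ ψ.ker := by rw [h]; exact Subgroup.mem_top _
    rw [MonoidHom.mem_ker] at h3
    have h4 : ψ (e (PresentedGroup.of 0)) = a := by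
      show τ (e.symm (e (PresentedGroup.of 0))) = a
      rw [MulEquiv.symm_apply_apply, h0]
    rw [← h4, h3]

/-- the subgroup generated by a `(2,3,5)` pair with `a ≠ 1` is isomorphic to `A₅` -/
theorem closure_iso_A5 (a b : G) (ha : a ^ 3 = 1) (hb : b ^ 5 = 1) (hab : (a * b) ^ 2 = 1)
    (ha1 : a ≠ 1) : Nonempty (↥(Subgroup.closure {a, b}) ≃* A5) := by
  obtain ⟨ψ, hr, hinj⟩ := exists_hom_of_rel a b ha hb hab
  exact ⟨((MonoidHom.ofInjective (hinj ha1)).trans (MulEquiv.subgroupCongr hr)).symm⟩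

/-- a subgroup isomorphic to `A₅` is generated by a `(2,3,5)` pair -/
theorem exists_gens_of_iso (H : Subgroup G) (φ : ↥H ≃* A5) :
    ∃ a b : G, a ^ 3 = 1 ∧ b ^ 5 = 1 ∧ (a * b) ^ 2 = 1 ∧ H = Subgroup.closure {a, b} := by
  classical
  obtain ⟨e⟩ := Cfsg.Agent.S3377.result
  let θ : PresentedGroup Rels235 →* G := H.subtype.comp (φ.symm.toMonoidHom.comp e.toMonoidHom)
  have r0 : (PresentedGroup.of (rels := Rels235) 0) ^ 3 = 1 := by
    have : (FreeGroup.of (0 : Fin 2)) ^ 3 ∈ Rels235 := by simp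
    have h := PresentedGroup.one_of_mem this
    rw [map_pow] at h
    exact h
  have r1 : (PresentedGroup.of (rels := Rels235) 1) ^ 5 = 1 := by
    have : (FreeGroup.of (1 : Fin 2)) ^ 5 ∈ Rels235 := by simp
    have h := PresentedGroup.one_of_mem this
    rw [map_pow] at h
    exact h
  have r2 : (PresentedGroup.of (rels := Rels235) 0 * PresentedGroup.of 1) ^ 2 = 1 := by
    have : (FreeGroup.of (0 : Fin 2) * FreeGroup.of 1) ^ 2 ∈ Rels235 := by simp
    have h := PresentedGroup.one_of_mem this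
    rw [map_pow, map_mul] at h
    exact h
  refine ⟨θ (PresentedGroup.of 0), θ (PresentedGroup.of 1), ?_, ?_, ?_, ?_⟩
  · rw [← map_pow, r0, map_one]
  · rw [← map_pow, r1, map_one]
  · rw [← map_mul, ← map_pow, r2, map_one]
  · have hθ : θ.range = H := by
      apply le_antisymm
      · rintro _ ⟨x, rfl⟩
        exact (φ.symm (e x)).2
      · intro y hy
        refine ⟨e.symm (φ ⟨y, hy⟩), ?_⟩
        show ((φ.symm (e (e.symm (φ ⟨y, hy⟩))) : ↥H) : G) = y
        rw [MulEquiv.apply_symm_apply, MulEquiv.symm_apply_apply]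
    rw [← hθ, MonoidHom.range_eq_map, ← PresentedGroup.closure_range_of, MonoidHom.map_closure]
    congr 1
    ext x
    constructor
    · rintro ⟨_, ⟨i, rfl⟩, rfl⟩
      fin_cases i
      · left; rfl
      · right; rfl
    · rintro (rfl | rfl)
      · exact ⟨_, ⟨0, rfl⟩, rfl⟩
      · exact ⟨_, ⟨1, rfl⟩, rfl⟩

end

/-- the statement about the `A₅`-subgroups -/
def St (G : Type*) [Group G] : Prop :=
  Nat.card {H : Subgroup G // Nonempty (↥H ≃* A5)} = 22 ∧
    ∃ H K : Subgroup G, Nonempty (↥H ≃* A5) ∧ Nonempty (↥K ≃* A5) ∧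
      (∀ g : G, MulAut.conj g • H ≠ K) ∧
      ∀ L : Subgroup G, Nonempty (↥L ≃* A5) →
        ∃ g : G, MulAut.conj g • L = H ∨ MulAut.conj g • L = K

section main
variable {G : Type*} [Group G] [Finite G]

theorem st_of_data (ga gb : Fin 22 → G)
    (hrel : ∀ k, ga k ^ 3 = 1 ∧ gb k ^ 5 = 1 ∧ (ga k * gb k) ^ 2 = 1 ∧ ga k ≠ 1)
    (hall : ∀ a b : G, a ^ 3 = 1 → b ^ 5 = 1 → (a * b) ^ 2 = 1 → a ≠ 1 →
      ∃ k, a ∈ Subgroup.closure {ga k, gb k} ∧ b ∈ Subgroup.closure {ga k, gb k})
    (hinj : ∀ k k', ga k ∈ Subgroup.closure {ga k', gb k'} →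
      gb k ∈ Subgroup.closure {ga k', gb k'} → k = k')
    (hconj : ∀ k, ∃ g : G, (g * ga k * g⁻¹ ∈ Subgroup.closure {ga 0, gb 0} ∧
        g * gb k * g⁻¹ ∈ Subgroup.closure {ga 0, gb 0}) ∨
      (g * ga k * g⁻¹ ∈ Subgroup.closure {ga 11, gb 11} ∧
        g * gb k * g⁻¹ ∈ Subgroup.closure {ga 11, gb 11}))
    (hnc : ∀ g : G, ¬ (g * ga 0 * g⁻¹ ∈ Subgroup.closure {ga 11, gb 11} ∧
        g * gb 0 * g⁻¹ ∈ Subgroup.closure {ga 11, gb 11})) : St G := by
  classical
  let C : Fin 22 → Subgroup G := fun k => Subgroup.closure {ga k, gb k}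
  have hCiso : ∀ k, Nonempty (↥(C k) ≃* A5) := fun k =>
    closure_iso_A5 _ _ (hrel k).1 (hrel k).2.1 (hrel k).2.2.1 (hrel k).2.2.2
  have hcard : ∀ H : Subgroup G, Nonempty (↥H ≃* A5) → Nat.card H = 60 := by
    rintro H ⟨φ⟩
    rw [Nat.card_congr φ.toEquiv, card_A5]
  -- every `A₅`-subgroup is one of the `C k`
  have hcls : ∀ H : Subgroup G, Nonempty (↥H ≃* A5) → ∃ k, H = C k := by
    rintro H ⟨φ⟩
    obtain ⟨a, b, ha, hb, hab, hH⟩ := exists_gens_of_iso H φ
    have ha1 : a ≠ 1 := by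
      rintro rfl
      have hb2 : b ^ 2 = 1 := by simpa using hab
      have hb1 : b = 1 := by
        have h5 : b ^ 5 = b ^ 2 * b ^ 2 * b := by group
        rw [hb2] at h5
        rw [hb] at h5
        simpa using h5.symm
      subst hb1
      have : H = ⊥ := by rw [hH]; simp
      have h60 := hcard H ⟨φ⟩
      rw [this, Subgroup.card_bot] at h60
      omega
    obtain ⟨k, hak, hbk⟩ := hall a b ha hb hab ha1
    refine ⟨k, ?_⟩
    have hle : H ≤ C k := by
      rw [hH, Subgroup.closure_le]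
      rintro x (rfl | rfl)
      · exact hak
      · exact hbk
    exact Subgroup.eq_of_le_of_card_ge hle (by rw [hcard H ⟨φ⟩, hcard (C k) (hCiso k)])
  have hCinj : Function.Injective C := by
    intro k k' h
    apply hinj k k'
    · have : ga k ∈ C k := Subgroup.subset_closure (by simp)
      rw [h] at this; exact this
    · have : gb k ∈ C k := Subgroup.subset_closure (by simp)
      rw [h] at this; exact this
  have hconjC : ∀ (g : G) (k k' : Fin 22), g * ga k * g⁻¹ ∈ C k' → g * gb k * g⁻¹ ∈ C k' →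
      MulAut.conj g • C k = C k' := by
    intro g k k' h1 h2
    have hle : MulAut.conj g • C k ≤ C k' := by
      intro x hx
      obtain ⟨y, hy, rfl⟩ := (Subgroup.mem_smul_pointwise_iff_exists _ _ _).mp hx
      have hy' : y ∈ Subgroup.closure {ga k, gb k} := hy
      induction hy' using Subgroup.closure_induction with
      | mem z hz =>
        rcases hz with rfl | rfl
        · exact h1
        · exact h2
      | one => simp
      | mul a b _ _ iha ihb =>
        rw [smul_mul']
        exact Subgroup.mul_mem _ (iha (Subgroup.mem_closure.mpr fun K hK => by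
          rename_i ha' _; exact (Subgroup.mem_closure.mp ha') K hK)
          ((Subgroup.mem_smul_pointwise_iff_exists _ _ _).mpr ⟨a, by assumption, rfl⟩))
          (ihb (by assumption) ((Subgroup.mem_smul_pointwise_iff_exists _ _ _).mpr ⟨b, by assumption, rfl⟩))
      | inv a _ iha =>
        rw [smul_inv']
        exact Subgroup.inv_mem _ (iha (by assumption)
          ((Subgroup.mem_smul_pointwise_iff_exists _ _ _).mpr ⟨a, by assumption, rfl⟩))
    apply Subgroup.eq_of_le_of_card_ge hle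
    rw [hcard (C k') (hCiso k')]
    have e1 : Nat.card ↥(MulAut.conj g • C k) = Nat.card ↥(C k) :=
      Nat.card_congr (Subgroup.equivSMul (MulAut.conj g) (C k)).symm.toEquiv
    rw [e1, hcard (C k) (hCiso k)]
  refine ⟨?_, C 0, C 11, hCiso 0, hCiso 11, ?_, ?_⟩
  · let f : Fin 22 → {H : Subgroup G // Nonempty (↥H ≃* A5)} := fun k => ⟨C k, hCiso k⟩
    have hf : Function.Bijective f := by
      constructor
      · intro k k' h
        exact hCinj (congrArg Subtype.val h)
      · rintro ⟨H, hH⟩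
        obtain ⟨k, rfl⟩ := hcls H hH
        exact ⟨k, rfl⟩
    rw [← Nat.card_congr (Equiv.ofBijective f hf), Nat.card_fin]
  · intro g h
    apply hnc g
    constructor
    · rw [← SetLike.mem_coe]
      have : g * ga 0 * g⁻¹ ∈ MulAut.conj g • C 0 := by
        rw [Subgroup.mem_pointwise_smul_iff_inv_smul_mem]
        have : (MulAut.conj g)⁻¹ • (g * ga 0 * g⁻¹) = ga 0 := by
          simp [MulAut.smul_def, mul_assoc]
        rw [this]
        exact Subgroup.subset_closure (by simp)
      rw [h] at this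
      exact this
    · have : g * gb 0 * g⁻¹ ∈ MulAut.conj g • C 0 := by
        rw [Subgroup.mem_pointwise_smul_iff_inv_smul_mem]
        have : (MulAut.conj g)⁻¹ • (g * gb 0 * g⁻¹) = gb 0 := by
          simp [MulAut.smul_def, mul_assoc]
        rw [this]
        exact Subgroup.subset_closure (by simp)
      rw [h] at this
      exact this
  · intro L hL
    obtain ⟨k, rfl⟩ := hcls L hL
    obtain ⟨g, hg⟩ := hconj k
    refine ⟨g, ?_⟩
    rcases hg with ⟨h1, h2⟩ | ⟨h1, h2⟩
    · exact Or.inl (hconjC g k 0 h1 h2)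
    · exact Or.inr (hconjC g k 11 h1 h2)

end main

section transport
variable {G G' : Type*} [Group G] [Group G']

theorem map_conj_smul (e : G ≃* G') (g : G) (H : Subgroup G) :
    (MulAut.conj g • H).map e.toMonoidHom = MulAut.conj (e g) • H.map e.toMonoidHom := by
  ext x
  constructor
  · rintro ⟨y, hy, rfl⟩
    obtain ⟨z, hz, rfl⟩ := hy
    refine ⟨e z, ⟨z, hz, rfl⟩, ?_⟩
    simp [MulAut.smul_def]
  · rintro ⟨y, ⟨z, hz, rfl⟩, rfl⟩
    refine ⟨MulAut.conj g • z, ⟨z, hz, rfl⟩, ?_⟩
    simp [MulAut.smul_def]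

theorem iso_map_iff (e : G ≃* G') (H : Subgroup G) :
    Nonempty (↥(H.map e.toMonoidHom) ≃* A5) ↔ Nonempty (↥H ≃* A5) := by
  constructor
  · rintro ⟨φ⟩
    exact ⟨(e.subgroupMap H).trans φ⟩
  · rintro ⟨φ⟩
    exact ⟨(e.subgroupMap H).symm.trans φ⟩

theorem st_transport (e : G ≃* G') (h : St G) : St G' := by
  obtain ⟨h22, H, K, hH, hK, hnc, hall⟩ := h
  have hmap_inj : Function.Injective (Subgroup.map e.toMonoidHom) :=
    Subgroup.map_injective e.injective
  have hsurj : ∀ L' : Subgroup G', ∃ L : Subgroup G, L.map e.toMonoidHom = L' := by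
    intro L'
    refine ⟨L'.comap e.toMonoidHom, ?_⟩
    exact Subgroup.map_comap_eq_self_of_surjective e.surjective L'
  refine ⟨?_, H.map e.toMonoidHom, K.map e.toMonoidHom, (iso_map_iff e H).mpr hH,
    (iso_map_iff e K).mpr hK, ?_, ?_⟩
  · rw [← h22]
    symm
    let f : {H : Subgroup G // Nonempty (↥H ≃* A5)} → {H : Subgroup G' // Nonempty (↥H ≃* A5)} :=
      fun H => ⟨H.1.map e.toMonoidHom, (iso_map_iff e H.1).mpr H.2⟩
    have hf : Function.Bijective f := by
      constructor
      · intro A B hAB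
        exact Subtype.ext (hmap_inj (congrArg Subtype.val hAB))
      · rintro ⟨L', hL'⟩
        obtain ⟨L, rfl⟩ := hsurj L'
        exact ⟨⟨L, (iso_map_iff e L).mp hL'⟩, rfl⟩
    exact Nat.card_congr (Equiv.ofBijective f hf)
  · intro g' h1
    obtain ⟨g, rfl⟩ := e.surjective g'
    rw [← map_conj_smul] at h1
    exact hnc g (hmap_inj h1)
  · intro L' hL'
    obtain ⟨L, rfl⟩ := hsurj L'
    obtain ⟨g, hg⟩ := hall L ((iso_map_iff e L).mp hL')
    refine ⟨e g, ?_⟩
    rw [← map_conj_smul]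
    rcases hg with hg | hg
    · exact Or.inl (by rw [hg])
    · exact Or.inr (by rw [hg])

end transport

end Cfsg.Agent.Lib.Helper9.P11
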