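import Mathlib
import Cfsg.Agent.Lib.Helper9.P11B

set_option autoImplicit false

/-! The concrete `PSL₂(11)` has exactly 22 subgroups isomorphic to `A₅`, in two classes. -/

namespace Cfsg.Agent.Lib.Helper9.P11

open Cfsg.Agent.Lib.Helper7.PSLp Cfsg.Agent.Lib.Helper9.SyT

noncomputable def ga (k : Fin 22) : ↥G0 := el (gaF k)

noncomputable def gb (k : Fin 22) : ↥G0 := el (gbF k)

theorem el_pow3 (i : Fin 660) : el i ^ 3 = el (pow3 i) := by
  rw [pow_succ, pow_two, el_mul, el_mul]; rfl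

theorem el_pow5 (i : Fin 660) : el i ^ 5 = el (pow5 i) := by
  rw [pow_succ, pow_succ, pow_succ, pow_two, el_mul, el_mul, el_mul, el_mul]; rfl

theorem el_sq (i : Fin 660) : el i ^ 2 = el (mF i i) := by rw [pow_two, el_mul]

theorem el_eq_one_iff (i : Fin 660) : el i = 1 ↔ i = 0 := by
  rw [← el_zero]; exact el_inj.eq_iff

theorem el_conj (g i : Fin 660) : el g * el i * (el g)⁻¹ = el (cjF g i) := by
  rw [el_inv, el_mul, el_mul]; rfl

theorem gens_spec (k : Fin 22) : memL k (gaF k) = true ∧ memL k (gbF k) = true ∧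
    pow3 (gaF k) = 0 ∧ gaF k ≠ 0 ∧ pow5 (gbF k) = 0 ∧
    mF (mF (gaF k) (gbF k)) (mF (gaF k) (gbF k)) = 0 := by
  have h := (allF_iff _).mp gens_b k
  simp only [Bool.and_eq_true, decide_eq_true_eq] at h
  obtain ⟨⟨⟨⟨⟨h1, h2⟩, h3⟩, h4⟩, h5⟩, h6⟩ := h
  exact ⟨h1, h2, h3, h4, h5, h6⟩

theorem rel (k : Fin 22) :
    ga k ^ 3 = 1 ∧ gb k ^ 5 = 1 ∧ (ga k * gb k) ^ 2 = 1 ∧ ga k ≠ 1 := by
  obtain ⟨-, -, h3, h4, h5, h6⟩ := gens_spec k
  refine ⟨?_, ?_, ?_, ?_⟩
  · show el (gaF k) ^ 3 = 1
    rw [el_pow3, h3, el_zero]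
  · show el (gbF k) ^ 5 = 1
    rw [el_pow5, h5, el_zero]
  · show (el (gaF k) * el (gbF k)) ^ 2 = 1
    rw [el_mul, el_sq, h6, el_zero]
  · show el (gaF k) ≠ 1
    rw [Ne, el_eq_one_iff]
    exact h4

/-- the `k`-th subgroup -/
noncomputable def C (k : Fin 22) : Subgroup ↥G0 := Subgroup.closure {ga k, gb k}

theorem card_C (k : Fin 22) : Nat.card ↥(C k) = 60 := by
  obtain ⟨φ⟩ := closure_iso_A5 (ga k) (gb k) (rel k).1 (rel k).2.1 (rel k).2.2.1 (rel k).2.2.2
  show Nat.card ↥(Subgroup.closure {ga k, gb k}) = 60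
  rw [Nat.card_congr φ.toEquiv, card_A5]

theorem mem_gen_spec (k : Fin 22) (i : Fin 660) (h : memL k i = true) :
    memL k (mF i (gaF k)) = true ∧ memL k (mF i (gbF k)) = true ∧
      memL k (mF i (ivF (gaF k))) = true ∧ memL k (mF i (ivF (gbF k))) = true := by
  have h1 := (allF_iff _).mp ((allF_iff _).mp mem_gen_b k) i
  rw [h] at h1
  simp only [Bool.not_true, Bool.false_or, Bool.and_eq_true] at h1
  obtain ⟨⟨⟨a, b⟩, c⟩, d⟩ := h1
  exact ⟨a, b, c, d⟩

theorem C_le (k : Fin 22) (x : ↥G0) (hx : x ∈ C k) : ∃ i, memL k i = true ∧ el i = x := by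
  induction hx using Subgroup.closure_induction_right with
  | one => exact ⟨0, (allF_iff _).mp mem_zero_b k, el_zero⟩
  | mul_right y z _ hz ih =>
    obtain ⟨i, hi, rfl⟩ := ih
    obtain ⟨h1, h2, -, -⟩ := mem_gen_spec k i hi
    rcases hz with rfl | rfl
    · exact ⟨_, h1, (el_mul _ _).symm⟩
    · exact ⟨_, h2, (el_mul _ _).symm⟩
  | mul_inv_cancel y z _ hz ih =>
    obtain ⟨i, hi, rfl⟩ := ih
    obtain ⟨-, -, h3, h4⟩ := mem_gen_spec k i hi
    rcases hz with rfl | rfl
    · refine ⟨_, h3, ?_⟩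
      show el (mF i (ivF (gaF k))) = el i * (el (gaF k))⁻¹
      rw [el_inv, el_mul]
    · refine ⟨_, h4, ?_⟩
      show el (mF i (ivF (gbF k))) = el i * (el (gbF k))⁻¹
      rw [el_inv, el_mul]

theorem mem_C_iff (k : Fin 22) (i : Fin 660) : el i ∈ C k ↔ memL k i = true := by
  constructor
  · intro h
    obtain ⟨j, hj, hji⟩ := C_le k _ h
    rw [← el_inj hji]; exact hj
  · intro h
    let S : Set ↥G0 := el '' {i | memL k i = true}
    have hsub : (C k : Set ↥G0) ⊆ S := by
      intro x hx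
      obtain ⟨j, hj, rfl⟩ := C_le k x hx
      exact ⟨j, hj, rfl⟩
    have hS : S.ncard = 60 := by
      rw [Set.ncard_image_of_injective _ el_inj]
      have : {i : Fin 660 | memL k i = true} =
          ((Finset.univ.filter fun i : Fin 660 => memL k i = true : Finset (Fin 660)) :
            Set (Fin 660)) := by
        ext i; simp
      rw [this, Set.ncard_coe_finset, card_mem k]
    have hC : (C k : Set ↥G0).ncard = 60 := by
      rw [← card_C k]
      exact (Nat.card_coe_set_eq _).symm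
    have heq : (C k : Set ↥G0) = S :=
      Set.eq_of_subset_of_ncard_le hsub (by rw [hS, hC]) (Set.toFinite S)
    have : el i ∈ S := ⟨i, h, rfl⟩
    rw [← heq] at this
    exact this

theorem st_G0 : St ↥G0 := by
  haveI : Finite ↥G0 := Nat.finite_of_card_ne_zero (by rw [card_G0]; norm_num)
  apply st_of_data ga gb rel
  · intro a b ha hb hab ha1
    obtain ⟨i, rfl⟩ := el_surj a
    obtain ⟨j, rfl⟩ := el_surj b
    rw [el_pow3, el_eq_one_iff] at ha
    rw [el_pow5, el_eq_one_iff] at hb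
    rw [el_mul, el_sq, el_eq_one_iff] at hab
    rw [Ne, el_eq_one_iff] at ha1
    have h3 : O3M.testBit i.val = true := by
      have := (allF_iff _).mp o3_b i
      simpa [ha, ha1] using this
    have h5 : O5M.testBit j.val = true := by
      have := (allF_iff _).mp o5_b j
      simpa [hb] using this
    have h := (allF_iff _).mp all_b i
    rw [h3] at h
    simp only [Bool.not_true, Bool.false_or] at h
    have h' := (allF_iff _).mp h j
    rw [h5] at h'
    simp only [Bool.not_true, Bool.false_or, hab, decide_true] at h'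
    obtain ⟨k, hk⟩ := (anyF_iff _).mp h'
    rw [Bool.and_eq_true] at hk
    exact ⟨k, (mem_C_iff k i).mpr hk.1, (mem_C_iff k j).mpr hk.2⟩
  · intro k k' h1 h2
    have h1' := (mem_C_iff k' (gaF k)).mp h1
    have h2' := (mem_C_iff k' (gbF k)).mp h2
    have h := (allF_iff _).mp ((allF_iff _).mp distinct_b k) k'
    rw [h1', h2'] at h
    simpa using h
  · intro k
    refine ⟨el (witF k), ?_⟩
    have h := (allF_iff _).mp conj_b k
    rw [Bool.and_eq_true] at h
    by_cases hk : k.val < 11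
    · left
      have ht : tgtF k = 0 := by unfold tgtF; rw [if_pos hk]
      rw [ht] at h
      exact ⟨by show el (witF k) * el (gaF k) * (el (witF k))⁻¹ ∈ C 0
                rw [el_conj, mem_C_iff]; exact h.1,
             by show el (witF k) * el (gbF k) * (el (witF k))⁻¹ ∈ C 0
                rw [el_conj, mem_C_iff]; exact h.2⟩
    · right
      have ht : tgtF k = 11 := by unfold tgtF; rw [if_neg hk]
      rw [ht] at h
      exact ⟨by show el (witF k) * el (gaF k) * (el (witF k))⁻¹ ∈ C 11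
                rw [el_conj, mem_C_iff]; exact h.1,
             by show el (witF k) * el (gbF k) * (el (witF k))⁻¹ ∈ C 11
                rw [el_conj, mem_C_iff]; exact h.2⟩
  · intro g
    obtain ⟨i, rfl⟩ := el_surj g
    rintro ⟨h1, h2⟩
    have h1' : el i * el (gaF 0) * (el i)⁻¹ ∈ C 11 := h1
    have h2' : el i * el (gbF 0) * (el i)⁻¹ ∈ C 11 := h2
    rw [el_conj, mem_C_iff] at h1' h2'
    have h := (allF_iff _).mp nonconj_b i
    rw [h1', h2'] at h
    simp at h

end Cfsg.Agent.Lib.Helper9.P11
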