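import Cfsg.Agent.Lib.Helper9.HyperfocalGroup2

set_option autoImplicit false

universe u

namespace Cfsg.Agent.Lib.Helper9

open Cfsg Cfsg.FusionSystem

variable {Ω : Type*} [Group Ω] {S : Subgroup Ω}

theorem le_of_isSubsystemOf {T : Subgroup Ω} (E : FusionSystem T) (F : FusionSystem S)
    (h : E.IsSubsystemOf F) : T ≤ S :=
  (F.le_of_mem (h T (E.conj_mem le_rfl T.one_mem))).1

/-- a saturated subsystem of `p`-power index lies in every subsystem of `p`-power index over the
same subgroup -/
theorem le_of_hasPPowerIndexIn [Finite S] (p : ℕ) [Fact p.Prime] (hS : IsPGroup p S)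
    (F : FusionSystem S) {T : Subgroup Ω} (E E' : FusionSystem T) (hEs : E.IsSaturated p)
    (hE : E.HasPPowerIndexIn F p) (hE' : E'.HasPPowerIndexIn F p) : E ≤ E' := by
  have hTS : T ≤ S := le_of_isSubsystemOf E F hE.1
  have hfinT : Finite T := finite_of_le hTS
  have hTp : IsPGroup p T := isPGroup_of_le hS hTS
  apply alperin p hTp E hEs E'
  intro P hP
  have hfn : E.IsFullyNormalized P := by
    rcases hP with rfl | hess
    · exact fullyNormalized_top E
    · exact hess.2.1
  have hPT : P ≤ T := hfn.1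
  have hfinP : Finite P := finite_of_le hPT
  obtain ⟨-, R, hR⟩ := fullyAutomized_of_fullyNormalized hTp E hEs hfn
  intro α hα
  obtain ⟨t, ht, r, hr, h⟩ := exists_sylow_mul_pResidual R ⟨α, hα⟩
  have hα' : α = (t : MulAut P) * (r : MulAut P) := congrArg Subtype.val h
  rw [hα']
  apply Subgroup.mul_mem
  · rw [hR] at ht
    exact autInducedBy_le_autGroup E' hPT (Subgroup.mem_subgroupOf.mp ht)
  · have hle : E.autGroup P ≤ F.autGroup P := Subgroup.closure_mono (fun a ha => hE.1 P ha)
    have h1 : Subgroup.inclusion hle r ∈ pResidual p (F.autGroup P) :=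
      map_pResidual_le p (Subgroup.inclusion hle) (Subgroup.inclusion_injective hle) ⟨r, hr, rfl⟩
    exact hE'.2.2 P hPT ⟨Subgroup.inclusion hle r, h1, rfl⟩

/-- uniqueness of the saturated subsystem of `p`-power index over a given subgroup -/
theorem hom_eq_of_hasPPowerIndexIn [Finite S] (p : ℕ) [Fact p.Prime] (hS : IsPGroup p S)
    (F : FusionSystem S) {T T' : Subgroup Ω} (hTT' : T = T') (E : FusionSystem T)
    (E' : FusionSystem T') (hEs : E.IsSaturated p) (hE's : E'.IsSaturated p)
    (hE : E.HasPPowerIndexIn F p) (hE' : E'.HasPPowerIndexIn F p) (P : Subgroup Ω) :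
    E.Hom P = E'.Hom P := by
  subst hTT'
  exact Set.Subset.antisymm (le_of_hasPPowerIndexIn p hS F E E' hEs hE hE' P)
    (le_of_hasPPowerIndexIn p hS F E' E hE's hE' hE P)

variable {G : Type u} [Group G]

/-- an automorphism of order prime to `p` induced by conjugation is induced by an element of order
prime to `p` -/
theorem exists_pPrime_conj [Finite G] (p : ℕ) [Fact p.Prime] {P : Subgroup G} (a : MulAut P)
    (ha : Nat.Coprime (orderOf a) p) (g : G)
    (hg : ∀ x : P, ((a x : P) : G) = g * (x : G) * g⁻¹) :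
    ∃ g' : G, Nat.Coprime (orderOf g') p ∧ ∀ x : P, ((a x : P) : G) = g' * (x : G) * g'⁻¹ := by
  obtain ⟨k, hk1, hk2⟩ := exists_pow_pPrime p g (orderOf a) ha
  have h2 : a ^ k = a := by
    have := (pow_eq_pow_iff_modEq (x := a) (n := k) (m := 1)).mpr hk1
    rwa [pow_one] at this
  refine ⟨g ^ k, hk2, fun x => ?_⟩
  have h4 := pow_apply_of_conj a g hg k x
  rw [h2] at h4
  exact h4

/-- the fusion system of `O^p(G)` has `p`-power index in that of `G` -/
theorem pResidual_system_hasPPowerIndexIn [Finite G] (p : ℕ) [Fact p.Prime] (S : Subgroup G) :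
    (fusionSystemOfSubgroup (pResidual p G) (S ⊓ pResidual p G) inf_le_right).HasPPowerIndexIn
      (groupFusionSystem S) p := by
  refine ⟨fusionSystemOfSubgroup_isSubsystemOf S _, hyperfocal_groupFusion_le p S, ?_⟩
  intro P hP
  have hPS : P ≤ S := hP.trans inf_le_left
  rw [Subgroup.map_le_iff_le_comap]
  unfold pResidual
  rw [Subgroup.closure_le]
  intro a ha
  have ha' : Nat.Coprime (orderOf a) p := ha
  show (a : MulAut P) ∈
    (fusionSystemOfSubgroup (pResidual p G) (S ⊓ pResidual p G) inf_le_right).autGroup P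
  have h1 : (a : MulAut P) ∈ autInducedBy ⊤ P := by
    rw [← groupFusion_autGroup_eq hPS]
    exact a.2
  obtain ⟨g, -, hg⟩ := (mem_autInducedBy_iff ⊤ P _).mp h1
  have ha'' : Nat.Coprime (orderOf (a : MulAut P)) p := by
    rw [Subgroup.orderOf_coe]
    exact ha'
  obtain ⟨g', hg'1, hg'2⟩ := exists_pPrime_conj p (a : MulAut P) ha'' g hg
  apply Subgroup.subset_closure
  refine ⟨hP, fun x => hP ((a : MulAut P) x).2, g', Subgroup.subset_closure hg'1, fun x => ?_⟩
  exact hg'2 x

/-- S5139 -/
theorem pResidual_subsystem_groupFusion [Finite G] (p : ℕ) [Fact p.Prime] (S : Sylow p G)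
    (E : FusionSystem ((groupFusionSystem (S : Subgroup G)).hyperfocalSubgroup p))
    (hE : (groupFusionSystem (S : Subgroup G)).IsPResidual p E) (P : Subgroup G) :
    E.Hom P = (fusionSystemOfSubgroup (pResidual p G) ((S : Subgroup G) ⊓ pResidual p G)
      inf_le_right).Hom P := by
  have hN : (pResidual p G).Normal := pResidual_normal p G
  obtain ⟨R, hR⟩ := Cfsg.Agent.Lib.Helper2.exists_sylow_eq_inf_normal S (pResidual p G)
  have hsat := fusionSystemOfSubgroup_saturated p (pResidual p G)
    ((S : Subgroup G) ⊓ pResidual p G) inf_le_right R hR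
  exact hom_eq_of_hasPPowerIndexIn p S.isPGroup' _ (hyperfocal_groupFusion_eq p S) E _ hE.1 hsat
    hE.2 (pResidual_system_hasPPowerIndexIn p (S : Subgroup G)) P

end Cfsg.Agent.Lib.Helper9
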