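import Mathlib
import Cfsg.Agent.Lib.Helper8.PRDefs
import Cfsg.Agent.Lib.Helper4.PRB3b

/-!
# S4033 piece B4: first conclusion (`m` a power of `p`)
-/

set_option autoImplicit false
set_option linter.unusedVariables false
set_option linter.unusedSectionVars false
set_option linter.style.longLine false
set_option linter.style.haveILetI false

namespace Cfsg.Agent.Lib.Helper8.PR

variable {G : Type*} [Group G]

theorem concl_one [Finite G] {p m : ℕ} (H : Hyp G p m) (h2 : TwoRho G p)
    (hm : ∀ r : ℕ, r.Prime → r ≠ p → ¬ r ∣ m) :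
    ∃ Hs : Subgroup G, IsMulCommutative Hs ∧ ¬ p ∣ Nat.card Hs ∧ ∃ k : ℕ, Hs.index = p ^ k := by
  have hp := H.hp
  have h2' : TwoRho G p := h2
  obtain ⟨q, r, hqr, ⟨hq, hqp, g, hgz, kq, hkq⟩, -⟩ := h2
  have hg : PReg p g := by
    unfold PReg
    rw [hkq]
    exact Nat.Coprime.pow_left _ ((Nat.coprime_primes hq hp).mpr hqp)
  obtain ⟨hco, k, hk⟩ := card_BB H h2' hg hgz
  refine ⟨BB p g, ⟨⟨fun a b => Subtype.ext (BB_comm a.2 b.2)⟩⟩, ?_, ?_⟩
  · exact (Nat.Prime.coprime_iff_not_dvd hp).mp hco.symm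
  · have hm0 : m ≠ 0 := by have := H.hm; omega
    have hmp : m = p ^ m.primeFactorsList.length := by
      apply Nat.eq_prime_pow_of_unique_prime_dvd hm0
      intro d hd hdm
      by_contra hdp
      exact hm d hd hdp hdm
    have hidx : idx g = m := (H.cls g hg).resolve_left hgz
    unfold idx at hidx
    have h3 := Subgroup.card_mul_index (Subgroup.centralizer ({g} : Set G))
    have h4 := Subgroup.card_mul_index (BB p g)
    rw [hidx, hk] at h3
    have hB0 : Nat.card (BB p g) ≠ 0 := Nat.card_pos.ne'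
    refine ⟨k + m.primeFactorsList.length, ?_⟩
    have h5 : Nat.card (BB p g) * (BB p g).index
        = Nat.card (BB p g) * p ^ (k + m.primeFactorsList.length) := by
      rw [h4, ← h3, pow_add, ← hmp]; ring
    exact Nat.eq_of_mul_eq_mul_left (Nat.pos_of_ne_zero hB0) h5

end Cfsg.Agent.Lib.Helper8.PR
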