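import Mathlib
import Cfsg.Agent.Lib.Helper9.PRB7
import Cfsg.Agent.Lib.Helper6.PRB6

/-!
# S4033 piece B7 (final form): the index of `N(BB p g)` is a power of `p`
-/

set_option autoImplicit false
set_option linter.unusedVariables false
set_option linter.style.longLine false

namespace Cfsg.Agent.Lib.Helper8.PR

variable {G : Type*} [Group G]

theorem index_normalizer_BB [Finite G] {p m : ℕ} (H : Hyp G p m) (h2 : TwoRho G p) {g : G}
    (hg : PReg p g) (hgz : g ∉ Subgroup.center G) :
    ∃ a : ℕ, (Subgroup.normalizer ((BB p g : Subgroup G) : Set G)).index = p ^ a :=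
  h9_index_normalizer_BB_aux H h2 hg hgz (fun x hx hxz => conj_into_BB H h2 hg hgz hx hxz)

end Cfsg.Agent.Lib.Helper8.PR
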