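import Mathlib
import Cfsg.Agent.Lib.Helper9.PRB9
import Cfsg.Agent.Lib.Helper9.PRB7b
import Cfsg.Agent.Lib.Helper4.PRB8b

/-!
# S4033 piece B9 (final form): the index of `C(g) ⊔ S` is a power of `p`
-/

set_option autoImplicit false
set_option linter.unusedVariables false
set_option linter.style.longLine false

namespace Cfsg.Agent.Lib.Helper8.PR

variable {G : Type*} [Group G]

theorem pow_index_CS [Finite G] {p m : ℕ} (H : Hyp G p m) (h2 : TwoRho G p) {g : G} (hg : PReg p g)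
    (hgz : g ∉ Subgroup.center G) {s : ℕ} [Fact s.Prime] (hsp : s ≠ p) (S : Sylow s G)
    (hS : (S : Subgroup G) ≤ Subgroup.normalizer ((BB p g : Subgroup G) : Set G))
    (hSC : ¬ (S : Subgroup G) ≤ Subgroup.centralizer ({g} : Set G)) :
    ∃ k : ℕ, (Subgroup.centralizer ({g} : Set G) ⊔ (S : Subgroup G)).index = p ^ k :=
  h9_pow_index_CS_aux H h2 hg hgz hsp S hS hSC (index_normalizer_BB H h2 hg hgz)
    (fun r₁ r₂ h1 h2' h1p h2p hd1 hd2 => one_prime H h2 hg hgz r₁ r₂ h1 h2' h1p h2p hd1 hd2)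

end Cfsg.Agent.Lib.Helper8.PR
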