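import Cfsg.Agent.Lib.Helper9.FusionSat3
import Cfsg.Agent.Lib.Helper9.FusionSat1

set_option autoImplicit false

namespace Cfsg.Agent.Lib.Helper9

open Cfsg Cfsg.FusionSystem

variable {Ω : Type*} [Group Ω] {S : Subgroup Ω}

/-- A `p`-subgroup `B` of `Aut_F(P)` can be transported, along a map of the system from `P` onto a
fully normalized subgroup `P'`, into `Aut_S(P')`. -/
theorem exists_hom_conj_pSubgroup [Finite S] {p : ℕ} [Fact p.Prime] (hS : IsPGroup p S)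
    (F : FusionSystem S) (hF : F.IsSaturated p) {P : Subgroup Ω} (hPS : P ≤ S)
    (B : Subgroup (MulAut P)) (hBA : B ≤ F.autGroup P) (hB : IsPGroup p B) :
    ∃ (P' : Subgroup Ω) (χ : P →* Ω), F.IsFullyNormalized P' ∧ χ ∈ F.Hom P ∧ χ.range = P' ∧
      ∀ β ∈ B, ∃ g ∈ S, ∀ y : P, χ (β y) = g * χ y * g⁻¹ := by
  obtain ⟨P', hPP', hP'n⟩ := exists_isConj_fullyNormalized F hPS
  obtain ⟨ψ, hψ, hψr⟩ := hPP'
  have hP'S := hP'n.1
  obtain ⟨-, R, hR⟩ := fullyAutomized_of_fullyNormalized hS F hF hP'n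
  have hfinP' : Finite P' := finite_of_le hP'S
  set e := equivOfRange ψ (F.injective_of_mem hψ) hψr with he
  set B₂ : Subgroup (MulAut P') := B.map (MulAut.congr e).toMonoidHom with hB₂
  have hB₂A : B₂ ≤ F.autGroup P' := by
    rintro _ ⟨α, hα, rfl⟩
    exact congr_mem_autGroup F hψ hψr (hBA hα)
  have hB₂p : IsPGroup p B₂ := hB.map _
  have hB₂'p : IsPGroup p (B₂.subgroupOf (F.autGroup P')) := hB₂p.comap_subtype
  obtain ⟨a, ha⟩ := exists_cj_le_sylow R hB₂'p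
  have hconj : ∀ β ∈ B₂, (a : MulAut P') * β * (a : MulAut P')⁻¹ ∈ autInducedBy S P' := by
    intro β hβ
    have h1 : (MulAut.conj a).toMonoidHom ⟨β, hB₂A hβ⟩ ∈ (R : Subgroup (F.autGroup P')) :=
      ha ⟨⟨β, hB₂A hβ⟩, hβ, rfl⟩
    rw [hR] at h1
    exact h1
  have haP := hom_of_mem_autGroup F hP'S a.2
  have hψP : ∀ x : P, ψ x ∈ P' := fun x => hψr.le ⟨x, rfl⟩
  obtain ⟨χ, hχ, hχe⟩ := comp_hom F hψ haP hψP
  have hχe' : ∀ x : P, χ x = (((a : MulAut P') (e x) : P') : Ω) := fun x => hχe x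
  have hχr : χ.range = P' := by
    apply le_antisymm
    · rintro _ ⟨x, rfl⟩
      rw [hχe']
      exact ((a : MulAut P') (e x)).2
    · intro y hy
      refine ⟨e.symm ((a : MulAut P')⁻¹ ⟨y, hy⟩), ?_⟩
      rw [hχe', MulEquiv.apply_symm_apply, MulAut.apply_inv_self]
  refine ⟨P', χ, hP'n, hχ, hχr, ?_⟩
  intro β hβ
  have hβ₂ : MulAut.congr e β ∈ B₂ := ⟨β, hβ, rfl⟩
  obtain ⟨g, hgS, hg⟩ := (mem_autInducedBy_iff S P' _).mp (hconj _ hβ₂)
  refine ⟨g, hgS, fun y => ?_⟩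
  have h3 := hg ((a : MulAut P') (e y))
  rw [hχe', hχe', ← h3]
  show _ = (((a : MulAut P') ((MulAut.congr e β)
    ((a : MulAut P')⁻¹ ((a : MulAut P') (e y)))) : P') : Ω)
  rw [MulAut.inv_apply_self]
  show _ = (((a : MulAut P') (e (β (e.symm (e y)))) : P') : Ω)
  rw [MulEquiv.symm_apply_apply]

end Cfsg.Agent.Lib.Helper9
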