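import Cfsg.Agent.Lib.Helper8.SQ4
import Cfsg.Agent.Lib.Helper8.SS8

set_option autoImplicit false
set_option linter.unusedSectionVars false
set_option linter.unusedVariables false

/-! Words in packed tables (13 bits per entry) that are realised by the elements of a permutation
group: evaluation that the kernel does quickly, the element of a word, equality of the elements of
two words from equality on the base points of a stabiliser chain. -/

namespace Cfsg.Agent.Lib.Helper9.PW

open Cfsg.Agent.Lib.Helper8.SQ Cfsg.Agent.Lib.Helper8.FastDec Cfsg.Agent.Lib.Helper8.MatN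

/-- entry `x` of a packed table with entries of 13 bits -/
def g13 (T x : ℕ) : ℕ := Nat.land (Nat.shiftRight T (Nat.mul 13 x)) 8191

/-- apply a list of codes, the last one first -/
noncomputable def evC (c : List ℕ) (x : ℕ) : ℕ :=
  List.rec (motive := fun _ => ℕ) x (fun T _ ih => g13 T ih) c

theorem evC_nil (x : ℕ) : evC [] x = x := rfl

theorem evC_cons (T : ℕ) (c : List ℕ) (x : ℕ) : evC (T :: c) x = g13 T (evC c x) := rfl

theorem evC_append (c c' : List ℕ) (x : ℕ) : evC (c ++ c') x = evC c (evC c' x) := by
  induction c with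
  | nil => rfl
  | cons T c ih => rw [List.cons_append, evC_cons, evC_cons, ih]

/-- packed images of the points of a list under a list of codes -/
noncomputable def fpC (c : List ℕ) (pts : List ℕ) : ℕ :=
  List.rec (motive := fun _ => ℕ) 0 (fun b _ ih => Nat.add (evC c b) (Nat.mul 8192 ih)) pts

theorem fpC_congr {c c' : List ℕ} {pts : List ℕ} (h : ∀ b ∈ pts, evC c b = evC c' b) :
    fpC c pts = fpC c' pts := by
  induction pts with
  | nil => rfl
  | cons b pts ih =>
    show Nat.add (evC c b) (Nat.mul 8192 (fpC c pts)) =
      Nat.add (evC c' b) (Nat.mul 8192 (fpC c' pts))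
    rw [h b (List.mem_cons_self ..), ih (fun x hx => h x (List.mem_cons_of_mem _ hx))]

section words

variable (tabN : ℕ → ℕ)

/-- apply a word of table indices, the last letter first -/
noncomputable def evW (w : List ℕ) (x : ℕ) : ℕ := evC (w.map tabN) x

theorem evW_nil (x : ℕ) : evW tabN [] x = x := rfl

theorem evW_cons (k : ℕ) (w : List ℕ) (x : ℕ) :
    evW tabN (k :: w) x = g13 (tabN k) (evW tabN w x) := rfl

theorem evW_append (w w' : List ℕ) (x : ℕ) :
    evW tabN (w ++ w') x = evW tabN w (evW tabN w' x) := by
  unfold evW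
  rw [List.map_append, evC_append]

/-- the fingerprint of a word on a list of points -/
noncomputable def fpW (pts : List ℕ) (w : List ℕ) : ℕ :=
  forceList (w.map tabN) (fun c => fpC c pts)

theorem fpW_congr {pts : List ℕ} {w w' : List ℕ}
    (h : ∀ b ∈ pts, evW tabN w b = evW tabN w' b) : fpW tabN pts w = fpW tabN pts w' := by
  unfold fpW
  rw [forceList_eq, forceList_eq]
  exact fpC_congr h

/-- equality of two lists of codes on a list of points (boolean) -/
noncomputable def eqC (pts : List ℕ) (c c' : List ℕ) : Bool :=
  List.rec (motive := fun _ => Bool) true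
    (fun b _ ih => Nat.beq (evC c b) (evC c' b) && ih) pts

theorem eqC_spec {pts : List ℕ} {c c' : List ℕ} (h : eqC pts c c' = true) :
    ∀ b ∈ pts, evC c b = evC c' b := by
  induction pts with
  | nil => intro b hb; simp at hb
  | cons a pts ih =>
    have e : eqC (a :: pts) c c' = (Nat.beq (evC c a) (evC c' a) && eqC pts c c') := rfl
    rw [e, Bool.and_eq_true] at h
    intro b hb
    rcases List.mem_cons.mp hb with rfl | hb
    · exact Nat.eq_of_beq_eq_true h.1
    · exact ih h.2 b hb

/-- equality of two words on a list of points (boolean) -/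
noncomputable def eqW (pts : List ℕ) (w w' : List ℕ) : Bool :=
  forceList (w.map tabN) (fun c => forceList (w'.map tabN) (fun c' => eqC pts c c'))

theorem eqW_spec {pts : List ℕ} {w w' : List ℕ} (h : eqW tabN pts w w' = true) :
    ∀ b ∈ pts, evW tabN w b = evW tabN w' b := by
  unfold eqW at h
  rw [forceList_eq, forceList_eq] at h
  exact eqC_spec h

/-- equality of two words on all points below `n` (boolean) -/
noncomputable def eqAll (n : ℕ) (w w' : List ℕ) : Bool :=
  forceList (w.map tabN) (fun c => forceList (w'.map tabN) (fun c' =>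
    allLt n (fun x => Nat.beq (evC c x) (evC c' x))))

theorem eqAll_spec {n : ℕ} {w w' : List ℕ} (h : eqAll tabN n w w' = true) :
    ∀ x < n, evW tabN w x = evW tabN w' x := by
  unfold eqAll at h
  rw [forceList_eq, forceList_eq, allLt_iff] at h
  intro x hx
  exact Nat.eq_of_beq_eq_true (h x hx)

end words

section group

variable {N : ℕ} [NeZero N] (K : Subgroup (Equiv.Perm (Fin N))) (tabN : ℕ → ℕ)

/-- all tables are realised in `K` -/
def AllReal : Prop := ∀ k, Real K (g13 (tabN k))

variable {K tabN}

theorem real_evW (h : AllReal K tabN) : ∀ w : List ℕ, Real K (evW tabN w) := by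
  intro w
  induction w with
  | nil => exact ⟨1, K.one_mem, fun x _ => gN_one x⟩
  | cons k w ih => exact (h k).comp ih

variable (K tabN)

open Classical in
/-- the element of a word -/
noncomputable def KW (w : List ℕ) : Equiv.Perm (Fin N) :=
  if h : AllReal K tabN then Classical.choose (real_evW h w) else 1

theorem KW_mem (w : List ℕ) : KW K tabN w ∈ K := by
  unfold KW
  split
  · next h => exact (Classical.choose_spec (real_evW h w)).1
  · exact K.one_mem

/-- the element of a word, in the group -/
noncomputable def KWs (w : List ℕ) : ↥K := ⟨KW K tabN w, KW_mem K tabN w⟩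

theorem KWs_val (w : List ℕ) : (KWs K tabN w).1 = KW K tabN w := rfl

variable {K tabN}

theorem KW_apply (h : AllReal K tabN) (w : List ℕ) {x : ℕ} (hx : x < N) :
    gN (KW K tabN w) x = evW tabN w x := by
  unfold KW
  rw [dif_pos h]
  exact (Classical.choose_spec (real_evW h w)).2 x hx

theorem evW_lt (h : AllReal K tabN) (w : List ℕ) {x : ℕ} (hx : x < N) : evW tabN w x < N := by
  rw [← KW_apply h w hx]
  exact gN_lt _ hx

theorem KW_eq_of_ev (h : AllReal K tabN) {w w' : List ℕ}
    (e : ∀ x, x < N → evW tabN w x = evW tabN w' x) : KW K tabN w = KW K tabN w' := by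
  apply ext_gN
  intro x hx
  rw [KW_apply h w hx, KW_apply h w' hx, e x hx]

theorem ev_eq_of_KW (h : AllReal K tabN) {w w' : List ℕ} (e : KW K tabN w = KW K tabN w') :
    ∀ x, x < N → evW tabN w x = evW tabN w' x := by
  intro x hx
  rw [← KW_apply h w hx, ← KW_apply h w' hx, e]

theorem KW_nil (h : AllReal K tabN) : KW K tabN [] = 1 := by
  apply ext_gN
  intro x hx
  rw [KW_apply h [] hx, gN_one]
  rfl

theorem KW_append (h : AllReal K tabN) (w w' : List ℕ) :
    KW K tabN (w ++ w') = KW K tabN w * KW K tabN w' := by
  apply ext_gN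
  intro x hx
  rw [KW_apply h _ hx, gN_mul, KW_apply h w' hx, KW_apply h w (evW_lt h w' hx), evW_append]

theorem KW_cons (h : AllReal K tabN) (k : ℕ) (w : List ℕ) :
    KW K tabN (k :: w) = KW K tabN [k] * KW K tabN w := KW_append h [k] w

theorem KWs_nil (h : AllReal K tabN) : KWs K tabN [] = 1 := Subtype.ext (KW_nil h)

theorem KWs_append (h : AllReal K tabN) (w w' : List ℕ) :
    KWs K tabN (w ++ w') = KWs K tabN w * KWs K tabN w' := Subtype.ext (KW_append h w w')

/-- two words that agree on the base points of a chain have the same element -/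
theorem KW_eq_of_base (h : AllReal K tabN) {Ls : List Lv} (hc : ChainOK K Ls)
    {w w' : List ℕ} (e : ∀ L ∈ Ls, evW tabN w L.b = evW tabN w' L.b) :
    KW K tabN w = KW K tabN w' := by
  apply hc.eq_of_base (KW_mem K tabN w) (KW_mem K tabN w')
  intro L hL
  rw [KW_apply h w (hc.b_lt hL), KW_apply h w' (hc.b_lt hL)]
  exact e L hL

/-- two words that agree (boolean check) on the base points of a chain have the same element -/
theorem KW_eq_of_eqW (h : AllReal K tabN) {Ls : List Lv} (hc : ChainOK K Ls) {pts : List ℕ}
    (hp : Ls.map (fun L => L.b) = pts) {w w' : List ℕ} (e : eqW tabN pts w w' = true) :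
    KW K tabN w = KW K tabN w' := by
  apply KW_eq_of_base h hc
  intro L hL
  apply eqW_spec tabN e
  rw [← hp]
  exact List.mem_map.mpr ⟨L, hL, rfl⟩

theorem KWs_eq_of_eqW (h : AllReal K tabN) {Ls : List Lv} (hc : ChainOK K Ls) {pts : List ℕ}
    (hp : Ls.map (fun L => L.b) = pts) {w w' : List ℕ} (e : eqW tabN pts w w' = true) :
    KWs K tabN w = KWs K tabN w' := Subtype.ext (KW_eq_of_eqW h hc hp e)

/-- equal elements have equal fingerprints -/
theorem fpW_eq_of_KW (h : AllReal K tabN) {pts : List ℕ} (hp : ∀ x ∈ pts, x < N)
    {w w' : List ℕ} (e : KW K tabN w = KW K tabN w') : fpW tabN pts w = fpW tabN pts w' :=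
  fpW_congr tabN (fun b hb => ev_eq_of_KW h e b (hp b hb))

/-- an element commuting with the letters of a word commutes with the word on the points -/
theorem commute_evW (h : AllReal K tabN) {g : Equiv.Perm (Fin N)} :
    ∀ w : List ℕ, (∀ k ∈ w, g * KW K tabN [k] = KW K tabN [k] * g) →
      ∀ x, x < N → gN g (evW tabN w x) = evW tabN w (gN g x) := by
  intro w
  induction w with
  | nil => intro _ x _; rfl
  | cons k w ih =>
    intro hc x hx
    have hy : evW tabN w x < N := evW_lt h w hx
    have e1 : g13 (tabN k) (evW tabN w x) = gN (KW K tabN [k]) (evW tabN w x) := by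
      rw [KW_apply h [k] hy]
      rfl
    rw [evW_cons, e1, ← gN_mul, hc k List.mem_cons_self, gN_mul,
      ih (fun k' hk' => hc k' (List.mem_cons_of_mem _ hk')) x hx, evW_cons,
      KW_apply h [k] (evW_lt h w (gN_lt g hx))]
    rfl

/-- the sifting test for an element commuting with the letters of words that move a point to
the base points: sifting the images of the candidate for the image of the point succeeds and
returns the images of the extra points under the inverse -/
theorem cent_test (h : AllReal K tabN) {Ls : List Lv} (hc : ChainOK K Ls)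
    (Ws : List (List ℕ)) (b0 : ℕ) (hb0 : b0 < N)
    (hbase : Ls.map (fun L => L.b) = Ws.map (fun w => evW tabN w b0))
    {g : Equiv.Perm (Fin N)} (hg : g ∈ K)
    (hcomm : ∀ w ∈ Ws, ∀ k ∈ w, g * KW K tabN [k] = KW K tabN [k] * g)
    (e : List ℕ) (he : ∀ x ∈ e, x < N) :
    sift Ls (Ws.map (fun w => evW tabN w (gN g b0)) ++ e) = some (e.map (gN g⁻¹)) := by
  have e1 : (Ls.map fun L => gN g L.b) = Ws.map (fun w => evW tabN w (gN g b0)) := by
    have : (Ls.map fun L => gN g L.b) = (Ls.map fun L => L.b).map (gN g) := by
      rw [List.map_map]; rfl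
    rw [this, hbase, List.map_map]
    apply List.map_congr_left
    intro w hw
    exact commute_evW h w (hcomm w hw) b0 hb0
  rw [← e1]
  exact hc.sift_eq hg e he

end group

end Cfsg.Agent.Lib.Helper9.PW
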