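import Cfsg.Agent.Lib.Helper9.PW1
import Cfsg.Agent.Lib.Helper9.OutG

set_option autoImplicit false
set_option linter.unusedSectionVars false
set_option linter.unusedVariables false

/-! Words in packed tables, continued: certificates that tables are realised, levels of a
stabiliser chain from packed data, the lower bound for the order, inverse words, substitution in
words in two generators, elements commuting with a regular subgroup. -/

namespace Cfsg.Agent.Lib.Helper9.PW

open Cfsg.Agent.Lib.Helper8.SQ Cfsg.Agent.Lib.Helper8.FastDec Cfsg.Agent.Lib.Helper8.MatN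
  Cfsg.Agent.Lib.Helper9.OutG

section certs

variable {N : ℕ} [NeZero N] (K : Subgroup (Equiv.Perm (Fin N))) (tabN : ℕ → ℕ)

/-- the tables below `n` are realised -/
def RealTo (n : ℕ) : Prop := ∀ k < n, Real K (g13 (tabN k))

variable {K}

theorem real_evW_to {n : ℕ} (h : RealTo K tabN n) :
    ∀ w : List ℕ, (∀ k ∈ w, k < n) → Real K (evW tabN w) := by
  intro w
  induction w with
  | nil => intro _; exact ⟨1, K.one_mem, fun x _ => gN_one x⟩
  | cons k w ih =>
    intro hw
    exact (h k (hw k List.mem_cons_self)).comp (ih fun k' hk' => hw k' (List.mem_cons_of_mem _ hk'))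

/-- the certificate of the table `n` (boolean): the letters of the two words are smaller and
the word on the left is the table after the word on the right -/
noncomputable def certB (N n : ℕ) (wL wR : List ℕ) : Bool :=
  wL.all (fun k => Nat.blt k n) && wR.all (fun k => Nat.blt k n) &&
  forceList (wL.map tabN) (fun cL => forceList (wR.map tabN) (fun cR =>
    withVal (tabN n) (fun T => allLt N (fun x => Nat.beq (evC cL x) (g13 T (evC cR x))))))

theorem realTo_succ {n : ℕ} (h : RealTo K tabN n) (wL wR : List ℕ)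
    (hc : certB tabN N n wL wR = true) : RealTo K tabN (n + 1) := by
  unfold certB at hc
  rw [Bool.and_eq_true, Bool.and_eq_true, forceList_eq, forceList_eq, withVal_eq, allLt_iff,
    List.all_eq_true, List.all_eq_true] at hc
  obtain ⟨⟨h1, h2⟩, h3⟩ := hc
  have hL : ∀ k ∈ wL, k < n := fun k hk => by
    have := h1 k hk
    rwa [Nat.blt_eq] at this
  have hR : ∀ k ∈ wR, k < n := fun k hk => by
    have := h2 k hk
    rwa [Nat.blt_eq] at this
  intro k hk
  rcases Nat.lt_succ_iff_lt_or_eq.mp hk with h' | rfl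
  · exact h k h'
  · exact real_of_eq (real_evW_to tabN h wL hL) (real_evW_to tabN h wR hR)
      (fun x hx => Nat.eq_of_beq_eq_true (h3 x hx))

/-- the table `n` acts as a word in the tables of another list (boolean) -/
noncomputable def certG (gtabN : ℕ → ℕ) (N n : ℕ) (w : List ℕ) : Bool :=
  forceList (w.map gtabN) (fun c => withVal (tabN n) (fun T =>
    allLt N (fun x => Nat.beq (g13 T x) (evC c x))))

theorem certG_spec {gtabN : ℕ → ℕ} {N n : ℕ} {w : List ℕ} (h : certG tabN gtabN N n w = true) :
    ∀ x < N, g13 (tabN n) x = evW gtabN w x := by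
  unfold certG at h
  rw [forceList_eq, withVal_eq, allLt_iff] at h
  intro x hx
  exact Nat.eq_of_beq_eq_true (h x hx)

theorem RealTo.mono {K K' : Subgroup (Equiv.Perm (Fin N))} (hK : K ≤ K') {n : ℕ}
    (h : RealTo K tabN n) : RealTo K' tabN n := fun k hk => (h k hk).mono hK

/-- all tables are realised when those below `n` are and the others are the table `0` -/
theorem allReal_of_realTo {n : ℕ} (hn : 0 < n) (h : RealTo K tabN n)
    (hd : ∀ k, n ≤ k → tabN k = tabN 0) : AllReal K tabN := by
  intro k
  rcases Nat.lt_or_ge k n with hk | hk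
  · exact h k hk
  · rw [hd k hk]
    exact h 0 hn

end certs

section levels

variable {N : ℕ} [NeZero N] {K : Subgroup (Equiv.Perm (Fin N))} (tabN : ℕ → ℕ)

/-- a level from packed data: base point, generators (indices of tables), labels (5 bits per
entry), ranks (4 bits per entry) -/
noncomputable def mkLv (b : ℕ) (gens : List ℕ) (LAB RK : ℕ) : Lv where
  b := b
  ng := gens.length
  step := fun l x => g13 (tabN (nthR gens (Nat.sub l 2) 0)) x
  lab := fun p => Nat.land (Nat.shiftRight LAB (Nat.mul 5 p)) 31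
  rk := fun p => Nat.land (Nat.shiftRight RK (Nat.mul 4 p)) 15

theorem mkLv_real (h : AllReal K tabN) (b : ℕ) (gens : List ℕ) (LAB RK : ℕ) (l : ℕ) :
    Real K ((mkLv tabN b gens LAB RK).step l) := h _

/-- the lower bound for the order of the group from the checks of a chain -/
theorem card_ge_of_checks (K : Subgroup (Equiv.Perm (Fin N))) (Ls : List Lv)
    (hm : ∀ L ∈ Ls, ∀ l, 2 ≤ l → l < L.ng + 2 → Real K (L.step l))
    (hok : ∀ L ∈ Ls, lvOK N L = true) (hfix : fixOK [] Ls = true) :
    sizesN N Ls ≤ Nat.card K := by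
  have gf : GensFix K [] Ls := gensFix_of_checks Ls [] hm hok hfix
  have := card_ge K _ [] (good_of_gensFix Ls [] gf)
  rwa [fixG_nil, sizes_eq] at this

end levels

section words

variable {N : ℕ} [NeZero N] {K : Subgroup (Equiv.Perm (Fin N))} {tabN : ℕ → ℕ}

theorem KW_single_apply (h : AllReal K tabN) (k : ℕ) {x : ℕ} (hx : x < N) :
    gN (KW K tabN [k]) x = g13 (tabN k) x := KW_apply h [k] hx

/-- the inverse word, for an inversion of the letters -/
def invW (ι : ℕ → ℕ) (w : List ℕ) : List ℕ := (w.map ι).reverse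

theorem invW_cons (ι : ℕ → ℕ) (k : ℕ) (w : List ℕ) : invW ι (k :: w) = invW ι w ++ [ι k] := by
  unfold invW
  rw [List.map_cons, List.reverse_cons]

theorem KW_invW_mul (h : AllReal K tabN) {ι : ℕ → ℕ} {m : ℕ}
    (hι : ∀ k < m, KW K tabN [ι k] * KW K tabN [k] = 1) :
    ∀ w : List ℕ, (∀ k ∈ w, k < m) → KW K tabN (invW ι w) * KW K tabN w = 1 := by
  intro w
  induction w with
  | nil =>
    intro _
    show KW K tabN [] * KW K tabN [] = 1
    rw [KW_nil h, mul_one]
  | cons k w ih =>
    intro hw
    rw [invW_cons, KW_append h, KW_cons h k w]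
    calc KW K tabN (invW ι w) * KW K tabN [ι k] * (KW K tabN [k] * KW K tabN w)
        = KW K tabN (invW ι w) * (KW K tabN [ι k] * KW K tabN [k]) * KW K tabN w := by group
      _ = 1 := by
        rw [hι k (hw k List.mem_cons_self), mul_one,
          ih fun k' hk' => hw k' (List.mem_cons_of_mem _ hk')]

theorem KW_invW (h : AllReal K tabN) {ι : ℕ → ℕ} {m : ℕ}
    (hι : ∀ k < m, KW K tabN [ι k] * KW K tabN [k] = 1) (w : List ℕ) (hw : ∀ k ∈ w, k < m) :
    KW K tabN (invW ι w) = (KW K tabN w)⁻¹ :=
  eq_inv_of_mul_eq_one_left (KW_invW_mul h hι w hw)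

/-- the conjugate of a word by a word -/
def conjW (ι : ℕ → ℕ) (u w : List ℕ) : List ℕ := u ++ (w ++ invW ι u)

theorem KW_conjW (h : AllReal K tabN) {ι : ℕ → ℕ} {m : ℕ}
    (hι : ∀ k < m, KW K tabN [ι k] * KW K tabN [k] = 1) (u w : List ℕ) (hu : ∀ k ∈ u, k < m) :
    KW K tabN (conjW ι u w) = KW K tabN u * KW K tabN w * (KW K tabN u)⁻¹ := by
  unfold conjW
  rw [KW_append h, KW_append h, KW_invW h hι u hu, mul_assoc]

/-- substitute words for the letters of a word in two generators: letter `0` is the first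
generator, letter `1` its inverse, any other letter the second generator -/
def expandW (wx wxi wr : List ℕ) : List ℕ → List ℕ
  | [] => []
  | c :: w => (bif Nat.beq c 0 then wx else bif Nat.beq c 1 then wxi else wr) ++
      expandW wx wxi wr w

theorem KW_expandW (h : AllReal K tabN) (wx wxi wr : List ℕ)
    (hxi : KW K tabN wxi = (KW K tabN wx)⁻¹) (w : List ℕ) :
    KW K tabN (expandW wx wxi wr w) = evalG (KW K tabN wx) (KW K tabN wr) w := by
  induction w with
  | nil => exact KW_nil h
  | cons c w ih =>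
    show KW K tabN (_ ++ expandW wx wxi wr w) = _
    rw [KW_append h, ih, evalG_cons]
    congr 1
    cases h0 : Nat.beq c 0
    · cases h1 : Nat.beq c 1
      · rfl
      · exact hxi
    · rfl

/-- all letters of a word are below a bound (boolean) -/
def ltB (m : ℕ) (w : List ℕ) : Bool := w.all (fun k => Nat.blt k m)

theorem lt_of_ltB {m : ℕ} {w : List ℕ} (h : ltB m w = true) : ∀ k ∈ w, k < m := by
  intro k hk
  unfold ltB at h
  rw [List.all_eq_true] at h
  have := h k hk
  rwa [Nat.blt_eq] at this

end words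

section cent

variable {N : ℕ} [NeZero N] {K : Subgroup (Equiv.Perm (Fin N))} {tabN : ℕ → ℕ}

/-- comparison of the result of a sifting with a list (boolean) -/
def optEqB (o : Option (List ℕ)) (l : List ℕ) : Bool :=
  match o with
  | some l' => decide (l' = l)
  | none => false

theorem optEqB_of_eq {o : Option (List ℕ)} {l : List ℕ} (h : o = some l) : optEqB o l = true := by
  rw [h]
  show decide (l = l) = true
  exact decide_eq_true rfl

theorem commute_inv {G : Type*} [Group G] {g a : G} (h : g * a = a * g) : g⁻¹ * a = a * g⁻¹ := by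
  calc g⁻¹ * a = g⁻¹ * (a * g) * g⁻¹ := by group
    _ = g⁻¹ * (g * a) * g⁻¹ := by rw [h]
    _ = a * g⁻¹ := by group

/-- the test for the image of a point under an element commuting with tables that move the
point to the base points -/
noncomputable def centB (Ls : List Lv) (Ws : List (List ℕ)) (E : List ℕ) (b0 c : ℕ) : Bool :=
  optEqB (sift Ls (Ws.map (fun w => evW tabN w c) ++ E.map (fun k => g13 (tabN k) c)))
    (E.map (fun k => g13 (tabN k) b0))

theorem cent_cases (h : AllReal K tabN) {Ls : List Lv} (hc : ChainOK K Ls)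
    (Ws : List (List ℕ)) (E : List ℕ) (b0 : ℕ) (hb0 : b0 < N)
    (hbase : Ls.map (fun L => L.b) = Ws.map (fun w => evW tabN w b0))
    {g : Equiv.Perm (Fin N)} (hg : g ∈ K) (QL : List ℕ)
    (hcomm : ∀ k ∈ QL, g * KW K tabN [k] = KW K tabN [k] * g)
    (hWs : ∀ w ∈ Ws, ∀ k ∈ w, k ∈ QL) (hE : ∀ k ∈ E, k ∈ QL) :
    centB (tabN := tabN) Ls Ws E b0 (gN g b0) = true := by
  apply optEqB_of_eq
  have hc0 : gN g b0 < N := gN_lt g hb0
  have he : ∀ x ∈ E.map (fun k => g13 (tabN k) (gN g b0)), x < N := by
    intro x hx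
    obtain ⟨k, -, rfl⟩ := List.mem_map.mp hx
    exact (h k).lt hc0
  rw [cent_test h hc Ws b0 hb0 hbase hg (fun w hw k hk => hcomm k (hWs w hw k hk)) _ he,
    List.map_map]
  congr 1
  apply List.map_congr_left
  intro k hk
  have h1 := commute_evW (K := K) (tabN := tabN) h (g := g⁻¹) [k] (by
    intro k' hk'
    rw [List.mem_singleton] at hk'
    rw [hk']
    exact commute_inv (hcomm k (hE k hk))) (gN g b0) hc0
  show gN g⁻¹ (g13 (tabN k) (gN g b0)) = g13 (tabN k) b0
  have e1 : evW tabN [k] (gN g b0) = g13 (tabN k) (gN g b0) := rfl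
  have e2 : evW tabN [k] (gN g⁻¹ (gN g b0)) = g13 (tabN k) (gN g⁻¹ (gN g b0)) := rfl
  rw [e1, e2, gN_inv_gN] at h1
  exact h1

/-- two elements commuting with tables that move a point to the base points are equal when they
agree on the point -/
theorem eq_of_cent (h : AllReal K tabN) {Ls : List Lv} (hc : ChainOK K Ls)
    (Ws : List (List ℕ)) (b0 : ℕ) (hb0 : b0 < N)
    (hbase : Ls.map (fun L => L.b) = Ws.map (fun w => evW tabN w b0))
    {g g' : Equiv.Perm (Fin N)} (hg : g ∈ K) (hg' : g' ∈ K)
    (hcomm : ∀ w ∈ Ws, ∀ k ∈ w, g * KW K tabN [k] = KW K tabN [k] * g)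
    (hcomm' : ∀ w ∈ Ws, ∀ k ∈ w, g' * KW K tabN [k] = KW K tabN [k] * g')
    (e : gN g b0 = gN g' b0) : g = g' := by
  apply hc.eq_of_base hg hg'
  intro L hL
  have hm : L.b ∈ Ws.map (fun w => evW tabN w b0) := by
    rw [← hbase]
    exact List.mem_map.mpr ⟨L, hL, rfl⟩
  obtain ⟨w, hw, hwb⟩ := List.mem_map.mp hm
  rw [← hwb, commute_evW h w (hcomm w hw) b0 hb0, commute_evW h w (hcomm' w hw) b0 hb0, e]

end cent

end Cfsg.Agent.Lib.Helper9.PW
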