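import Mathlib
import Cfsg.Prelude.Def_Blocks
import Cfsg.Agent.Lib.Helper6.TdG
import Cfsg.Agent.Lib.Helper6.TdH

set_option linter.unusedSimpArgs false

namespace Cfsg.Agent.Lib.Helper9.Par9

open Cfsg Cfsg.Agent.Lib.Helper6 Cfsg.Agent.Lib.Helper6.Td
open Matrix

variable {G : Type*} [Group G] {n : ℕ}

theorem char_conj (ρ : Representation ℂ G (Fin n → ℂ)) (g h : G) :
    ρ.character (g * h * g⁻¹) = ρ.character h := by
  rw [character_eq_trace_repMat, character_eq_trace_repMat, repMat_mul, repMat_mul,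
    Matrix.trace_mul_comm, ← mul_assoc, repMat_inv_mul, one_mul]

/-- quasi-idempotent attached to an involution and a sign -/
theorem inv_factor (ρ : Representation ℂ G (Fin n → ℂ)) {X : Matrix (Fin n) (Fin n) ℂ}
    (hX : IsInvForm ρ X) (s : G) (hs : s * s = 1) (l : ℂ) (hl : l * l = 1) :
    (1 + l • repMat ρ s) * (1 + l • repMat ρ s) = ((2 : ℕ) : ℂ) • (1 + l • repMat ρ s) ∧
      (1 + l • repMat ρ s) * X = X * (1 + l • repMat ρ s)ᵀ := by
  have hss : repMat ρ s * repMat ρ s = 1 := by rw [← repMat_mul, hs, repMat_one]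
  have hsinv : s⁻¹ = s := inv_eq_of_mul_eq_one_left hs
  constructor
  · simp only [mul_add, add_mul, mul_one, one_mul, Matrix.smul_mul, Matrix.mul_smul, smul_smul,
      hss, hl, one_smul, Nat.cast_smul_eq_nsmul]
    abel
  · rw [add_mul, one_mul, Matrix.smul_mul, hX.mul_eq s, hsinv, Matrix.transpose_add,
      Matrix.transpose_one, Matrix.transpose_smul, mul_add, mul_one, Matrix.mul_smul]

theorem trace_one_eq (ρ : Representation ℂ G (Fin n → ℂ)) :
    (1 : Matrix (Fin n) (Fin n) ℂ).trace = ρ.character 1 := by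
  rw [character_eq_trace_repMat, repMat_one]

theorem v4_parity [Fintype G] (ρ : Representation ℂ G (Fin n → ℂ)) [ρ.IsIrreducible]
    (hq : ∑ g : G, ρ.character (g * g) = -(Nat.card G : ℂ)) (s t : G) (hs : s * s = 1)
    (ht : t * t = 1) (hst : s * t = t * s) :
    ∃ k : ℕ, ρ.character 1 + ρ.character s + ρ.character t + ρ.character (s * t) =
      8 * (k : ℂ) := by
  obtain ⟨X, hXinv, hXu, hXt⟩ := exists_altForm ρ hq
  obtain ⟨h2a, h2b⟩ := inv_factor ρ hXinv s hs 1 (by norm_num)
  obtain ⟨h3a, h3b⟩ := inv_factor ρ hXinv t ht 1 (by norm_num)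
  have h1a : (1 : Matrix (Fin n) (Fin n) ℂ) * 1 = ((1 : ℕ) : ℂ) • 1 := by simp
  have h1b : (1 : Matrix (Fin n) (Fin n) ℂ) * X = X * (1 : Matrix (Fin n) (Fin n) ℂ)ᵀ := by simp
  have hcomm : (1 + (1 : ℂ) • repMat ρ s) * (1 + (1 : ℂ) • repMat ρ t) =
      (1 + (1 : ℂ) • repMat ρ t) * (1 + (1 : ℂ) • repMat ρ s) := by
    simp only [one_smul, mul_add, add_mul, mul_one, one_mul, ← repMat_mul, hst]
    abel
  obtain ⟨hE, hEX⟩ := three_factor 1 2 2 h1a h2a h3a (by simp) (by simp) hcomm h1b h2b h3b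
  obtain ⟨k, hk⟩ := trace_even_of_sq hXt hXu (1 * 2 * 2) (by norm_num) hE hEX
  refine ⟨k, ?_⟩
  have htr : (1 * (1 + (1 : ℂ) • repMat ρ s) * (1 + (1 : ℂ) • repMat ρ t)).trace =
      ρ.character 1 + ρ.character s + ρ.character t + ρ.character (s * t) := by
    simp only [one_smul, one_mul, mul_add, add_mul, mul_one, Matrix.trace_add, ← repMat_mul,
      ← character_eq_trace_repMat, trace_one_eq ρ]
    ring
  rw [htr] at hk
  rw [hk]
  push_cast
  ring

theorem d12_parity [Fintype G] (ρ : Representation ℂ G (Fin n → ℂ)) [ρ.IsIrreducible]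
    (hq : ∑ g : G, ρ.character (g * g) = -(Nat.card G : ℂ)) (x s t : G) (hx : x * x * x = 1)
    (hs : s * s = 1) (ht : t * t = 1) (hxs : x * s = s * x) (hst : s * t = t * s)
    (htx : t * x = x * x * t) (ls lt : ℤ) (hls : ls = 1 ∨ ls = -1) (hlt : lt = 1 ∨ lt = -1) :
    ∃ k : ℕ, ρ.character 1 + 2 * ρ.character x +
      (ls : ℂ) * (ρ.character s + 2 * ρ.character (x * s)) + (lt : ℂ) * (3 * ρ.character t) +
      (ls : ℂ) * (lt : ℂ) * (3 * ρ.character (s * t)) = 24 * (k : ℂ) := by
  obtain ⟨X, hXinv, hXu, hXt⟩ := exists_altForm ρ hq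
  have hls' : (ls : ℂ) * (ls : ℂ) = 1 := by
    rcases hls with h | h <;> rw [h] <;> norm_num
  have hlt' : (lt : ℂ) * (lt : ℂ) = 1 := by
    rcases hlt with h | h <;> rw [h] <;> norm_num
  -- rewriting system for words in x, s, t
  have T1' : t * x = x * (x * t) := by rw [htx, mul_assoc]
  have T1 : ∀ w, t * (x * w) = x * (x * (t * w)) := by
    intro w
    rw [← mul_assoc, T1', mul_assoc, mul_assoc]
  have S1' : s * x = x * s := hxs.symm
  have S1 : ∀ w, s * (x * w) = x * (s * w) := by
    intro w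
    rw [← mul_assoc, S1', mul_assoc]
  have T2' : t * s = s * t := hst.symm
  have T2 : ∀ w, t * (s * w) = s * (t * w) := by
    intro w
    rw [← mul_assoc, T2', mul_assoc]
  have X3' : x * (x * x) = 1 := by rw [← mul_assoc, hx]
  have X3 : ∀ w, x * (x * (x * w)) = w := by
    intro w
    rw [← mul_assoc, ← mul_assoc, hx, one_mul]
  -- the three quasi-idempotents
  obtain ⟨h2a, h2b⟩ := inv_factor ρ hXinv s hs (ls : ℂ) hls'
  obtain ⟨h3a, h3b⟩ := inv_factor ρ hXinv t ht (lt : ℂ) hlt'
  have haa : repMat ρ x * repMat ρ x = repMat ρ (x * x) := (repMat_mul ρ x x).symm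
  have hab : repMat ρ x * repMat ρ (x * x) = 1 := by rw [← repMat_mul, X3', repMat_one]
  have hba : repMat ρ (x * x) * repMat ρ x = 1 := by rw [← repMat_mul, hx, repMat_one]
  have hbb : repMat ρ (x * x) * repMat ρ (x * x) = repMat ρ x := by
    rw [← repMat_mul]
    congr 1
    simp only [mul_assoc, X3']
    rw [mul_one]
  have hxinv : x⁻¹ = x * x := inv_eq_of_mul_eq_one_right X3'
  have hxxinv : (x * x)⁻¹ = x := inv_eq_of_mul_eq_one_right hx
  have h1a : (1 + repMat ρ x + repMat ρ (x * x)) * (1 + repMat ρ x + repMat ρ (x * x)) =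
      ((3 : ℕ) : ℂ) • (1 + repMat ρ x + repMat ρ (x * x)) := by
    simp only [mul_add, add_mul, mul_one, one_mul, haa, hab, hba, hbb, Nat.cast_smul_eq_nsmul]
    abel
  have h1b : (1 + repMat ρ x + repMat ρ (x * x)) * X =
      X * (1 + repMat ρ x + repMat ρ (x * x))ᵀ := by
    rw [add_mul, add_mul, one_mul, hXinv.mul_eq x, hXinv.mul_eq (x * x), hxinv, hxxinv,
      Matrix.transpose_add, Matrix.transpose_add, Matrix.transpose_one, mul_add, mul_add, mul_one]
    abel
  -- commutation
  have hSa : repMat ρ s * repMat ρ x = repMat ρ x * repMat ρ s := by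
    rw [← repMat_mul, ← repMat_mul, hxs]
  have hSb : repMat ρ s * repMat ρ (x * x) = repMat ρ (x * x) * repMat ρ s := by
    rw [← repMat_mul, ← repMat_mul]
    congr 1
    simp only [mul_assoc, S1, S1']
  have hTa : repMat ρ t * repMat ρ x = repMat ρ (x * x) * repMat ρ t := by
    rw [← repMat_mul, ← repMat_mul, htx]
  have hTb : repMat ρ t * repMat ρ (x * x) = repMat ρ x * repMat ρ t := by
    rw [← repMat_mul, ← repMat_mul]
    congr 1
    simp only [mul_assoc, T1, T1', X3, X3']
  have hTS : repMat ρ t * repMat ρ s = repMat ρ s * repMat ρ t := by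
    rw [← repMat_mul, ← repMat_mul, hst]
  have h12 : (1 + repMat ρ x + repMat ρ (x * x)) * (1 + (ls : ℂ) • repMat ρ s) =
      (1 + (ls : ℂ) • repMat ρ s) * (1 + repMat ρ x + repMat ρ (x * x)) := by
    simp only [mul_add, add_mul, mul_one, one_mul, Matrix.smul_mul, Matrix.mul_smul, hSa, hSb]
    abel
  have h13 : (1 + repMat ρ x + repMat ρ (x * x)) * (1 + (lt : ℂ) • repMat ρ t) =
      (1 + (lt : ℂ) • repMat ρ t) * (1 + repMat ρ x + repMat ρ (x * x)) := by
    simp only [mul_add, add_mul, mul_one, one_mul, Matrix.smul_mul, Matrix.mul_smul, hTa, hTb]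
    abel
  have h23 : (1 + (ls : ℂ) • repMat ρ s) * (1 + (lt : ℂ) • repMat ρ t) =
      (1 + (lt : ℂ) • repMat ρ t) * (1 + (ls : ℂ) • repMat ρ s) := by
    simp only [mul_add, add_mul, mul_one, one_mul, Matrix.smul_mul, Matrix.mul_smul, hTS,
      smul_smul, mul_comm (lt : ℂ) (ls : ℂ)]
    abel
  obtain ⟨hE, hEX⟩ := three_factor 3 2 2 h1a h2a h3a h12 h13 h23 h1b h2b h3b
  obtain ⟨k, hk⟩ := trace_even_of_sq hXt hXu (3 * 2 * 2) (by norm_num) hE hEX
  refine ⟨k, ?_⟩
  -- conjugacy of the twelve elements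
  have c1 : ρ.character (x * x) = ρ.character x := by
    rw [← mul_inv_eq_of_eq_mul htx]
    exact char_conj ρ t x
  have c2 : ρ.character (x * x * s) = ρ.character (x * s) := by
    have h : t * (x * s) = x * x * s * t := by simp only [mul_assoc, T1, T1', T2, T2']
    rw [← mul_inv_eq_of_eq_mul h]
    exact char_conj ρ t (x * s)
  have c3 : ρ.character (x * t) = ρ.character t := by
    have h : x * x * t = x * t * (x * x) := by simp only [mul_assoc, T1, T1', X3, X3', mul_one]
    rw [← mul_inv_eq_of_eq_mul h]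
    exact char_conj ρ (x * x) t
  have c4 : ρ.character (x * x * t) = ρ.character t := by
    have h : x * t = x * x * t * x := by simp only [mul_assoc, T1, T1', X3, X3', mul_one]
    rw [← mul_inv_eq_of_eq_mul h]
    exact char_conj ρ x t
  have c5 : ρ.character (x * s * t) = ρ.character (s * t) := by
    have h : x * x * (s * t) = x * s * t * (x * x) := by
      simp only [mul_assoc, T1, T1', S1, S1', T2, T2', X3, X3', mul_one]
    rw [← mul_inv_eq_of_eq_mul h]
    exact char_conj ρ (x * x) (s * t)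
  have c6 : ρ.character (x * x * s * t) = ρ.character (s * t) := by
    have h : x * (s * t) = x * x * s * t * x := by
      simp only [mul_assoc, T1, T1', S1, S1', T2, T2', X3, X3', mul_one]
    rw [← mul_inv_eq_of_eq_mul h]
    exact char_conj ρ x (s * t)
  have htr : ((1 + repMat ρ x + repMat ρ (x * x)) * (1 + (ls : ℂ) • repMat ρ s) *
      (1 + (lt : ℂ) • repMat ρ t)).trace =
      ρ.character 1 + ρ.character x + ρ.character (x * x) +
      (ls : ℂ) * (ρ.character s + ρ.character (x * s) + ρ.character (x * x * s)) +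
      (lt : ℂ) * (ρ.character t + ρ.character (x * t) + ρ.character (x * x * t)) +
      (ls : ℂ) * (lt : ℂ) * (ρ.character (s * t) + ρ.character (x * s * t) +
        ρ.character (x * x * s * t)) := by
    simp only [mul_add, add_mul, mul_one, one_mul, Matrix.smul_mul, Matrix.mul_smul, smul_smul,
      Matrix.trace_add, Matrix.trace_smul, smul_eq_mul, ← repMat_mul, ← character_eq_trace_repMat,
      trace_one_eq ρ]
    ring
  rw [htr, c1, c2, c3, c4, c5, c6] at hk
  have : ρ.character 1 + 2 * ρ.character x +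
      (ls : ℂ) * (ρ.character s + 2 * ρ.character (x * s)) + (lt : ℂ) * (3 * ρ.character t) +
      (ls : ℂ) * (lt : ℂ) * (3 * ρ.character (s * t)) =
      ρ.character 1 + ρ.character x + ρ.character x +
      (ls : ℂ) * (ρ.character s + ρ.character (x * s) + ρ.character (x * s)) +
      (lt : ℂ) * (ρ.character t + ρ.character t + ρ.character t) +
      (ls : ℂ) * (lt : ℂ) * (ρ.character (s * t) + ρ.character (s * t) +
        ρ.character (s * t)) := by ring
  rw [this, hk]
  push_cast
  ring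

end Cfsg.Agent.Lib.Helper9.Par9
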