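import Mathlib
import Cfsg.Agent.Lib.Helper9.AltFormPar

set_option autoImplicit false

universe u

namespace Cfsg.Agent.Lib.Helper9.ParRel

open Cfsg.Agent.Lib.Helper9.AltFormPar

/-- **Relative PAR.** `Z₀` central containing all commutators, `K ≤ Z₀` of relative index 2:
the subgroup `{x | [x, X] ⊆ K}` has index `4 ^ m`. -/
theorem par_relative {X : Type u} [Group X] [Finite X] (Z₀ K : Subgroup X)
    (hZ₀ : Z₀ ≤ Subgroup.center X) (hcomm : ∀ x y : X, x * y * x⁻¹ * y⁻¹ ∈ Z₀)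
    (hK : K ≤ Z₀) (hidx : K.relIndex Z₀ = 2) :
    ∃ m : ℕ, ∃ R : Subgroup X, (∀ x, x ∈ R ↔ ∀ y, x * y * x⁻¹ * y⁻¹ ∈ K) ∧ R.index = 4 ^ m := by
  classical
  let β : X → X → ZMod 2 := fun x y => if x * y * x⁻¹ * y⁻¹ ∈ K then 0 else 1
  have hβ0 : ∀ x y, β x y = 0 ↔ x * y * x⁻¹ * y⁻¹ ∈ K := by
    intro x y
    show (if x * y * x⁻¹ * y⁻¹ ∈ K then (0 : ZMod 2) else 1) = 0 ↔ _
    split_ifs with h
    · simp [h]
    · simp [h]
  -- χ additive on Z₀
  have hχ : ∀ a ∈ Z₀, ∀ b ∈ Z₀,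
      (if a * b ∈ K then (0 : ZMod 2) else 1) =
        (if a ∈ K then (0 : ZMod 2) else 1) + (if b ∈ K then (0 : ZMod 2) else 1) := by
    intro a ha b hb
    have hidx' : (K.subgroupOf Z₀).index = 2 := hidx
    have h := Subgroup.mul_mem_iff_of_index_two hidx' (a := (⟨a, ha⟩ : ↥Z₀)) (b := ⟨b, hb⟩)
    simp only [Subgroup.mem_subgroupOf, Subgroup.coe_mul] at h
    by_cases h1 : a ∈ K <;> by_cases h2 : b ∈ K
    · have : a * b ∈ K := h.mpr (by simp [h1, h2])
      simp [h1, h2, this]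
    · have : a * b ∉ K := fun h3 => h2 ((h.mp h3).mp h1)
      simp [h1, h2, this]
    · have : a * b ∉ K := fun h3 => h1 ((h.mp h3).mpr h2)
      simp [h1, h2, this]
    · have : a * b ∈ K := h.mpr (by simp [h1, h2])
      simp only [h1, h2, this, if_true, if_false]
      decide
  have hcen : ∀ c ∈ Z₀, ∀ g : X, g * c = c * g := fun c hc g =>
    (Subgroup.mem_center_iff.mp (hZ₀ hc) g)
  have hl : ∀ x y w, β (x * y) w = β x w + β y w := by
    intro x y w
    have e : x * y * w * (x * y)⁻¹ * w⁻¹ = (y * w * y⁻¹ * w⁻¹) * (x * w * x⁻¹ * w⁻¹) := by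
      have h1 := hcen _ (hcomm y w) x
      calc x * y * w * (x * y)⁻¹ * w⁻¹ = (x * (y * w * y⁻¹ * w⁻¹)) * (w * x⁻¹ * w⁻¹) := by group
        _ = ((y * w * y⁻¹ * w⁻¹) * x) * (w * x⁻¹ * w⁻¹) := by rw [h1]
        _ = (y * w * y⁻¹ * w⁻¹) * (x * w * x⁻¹ * w⁻¹) := by group
    show (if x * y * w * (x * y)⁻¹ * w⁻¹ ∈ K then (0 : ZMod 2) else 1) = _
    rw [e, hχ _ (hcomm y w) _ (hcomm x w), add_comm]
  have hsymm : ∀ x y, β x y = β y x := by
    intro x y
    have e : y * x * y⁻¹ * x⁻¹ = (x * y * x⁻¹ * y⁻¹)⁻¹ := by group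
    show (if x * y * x⁻¹ * y⁻¹ ∈ K then (0 : ZMod 2) else 1) =
      (if y * x * y⁻¹ * x⁻¹ ∈ K then (0 : ZMod 2) else 1)
    rw [e]
    simp only [inv_mem_iff]
  have hr : ∀ w x y, β w (x * y) = β w x + β w y := by
    intro w x y
    rw [hsymm w (x * y), hl, hsymm x w, hsymm y w]
  have ha : ∀ x, β x x = 0 := by
    intro x
    rw [hβ0]
    have : x * x * x⁻¹ * x⁻¹ = 1 := by group
    rw [this]; exact K.one_mem
  obtain ⟨m, R, hR, hRi⟩ := index_radical_eq_four_pow β hl hr ha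
  refine ⟨m, R, ?_, hRi⟩
  intro x
  rw [hR]
  constructor
  · intro h y; exact (hβ0 x y).mp (h y)
  · intro h y; exact (hβ0 x y).mpr (h y)

/-- **PAR.** A finite group whose commutators all lie in `{1, z}` with `z` central: the centre
has index `4 ^ m`. -/
theorem par_center {X : Type u} [Group X] [Finite X] (z : X) (hz1 : z ≠ 1) (hz2 : z * z = 1)
    (hzc : z ∈ Subgroup.center X) (hcomm : ∀ x y : X, x * y * x⁻¹ * y⁻¹ = 1 ∨ x * y * x⁻¹ * y⁻¹ = z) :
    ∃ m : ℕ, (Subgroup.center X).index = 4 ^ m := by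
  have hzp : Subgroup.zpowers z ≤ Subgroup.center X := by
    rw [Subgroup.zpowers_le]; exact hzc
  have hord : orderOf z = 2 := orderOf_eq_prime (by rw [sq]; exact hz2) hz1
  have hrel : (⊥ : Subgroup X).relIndex (Subgroup.zpowers z) = 2 := by
    rw [Subgroup.relIndex_bot_left, Nat.card_zpowers, hord]
  obtain ⟨m, R, hR, hRi⟩ := par_relative (Subgroup.zpowers z) ⊥ hzp
    (fun x y => by
      rcases hcomm x y with h | h
      · rw [h]; exact Subgroup.one_mem _
      · rw [h]; exact Subgroup.mem_zpowers z) bot_le hrel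
  refine ⟨m, ?_⟩
  have : R = Subgroup.center X := by
    ext x
    rw [hR, Subgroup.mem_center_iff]
    constructor
    · intro h g
      have := h g
      rw [Subgroup.mem_bot] at this
      calc g * x = (x * g * x⁻¹ * g⁻¹)⁻¹ * (x * g) := by group
        _ = x * g := by rw [this, inv_one, one_mul]
    · intro h y
      rw [Subgroup.mem_bot]
      have := h y
      calc x * y * x⁻¹ * y⁻¹ = (y * x) * x⁻¹ * y⁻¹ := by rw [this]
        _ = 1 := by group
  rw [← this]; exact hRi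

end Cfsg.Agent.Lib.Helper9.ParRel
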