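import Cfsg.Agent.Lib.Helper9.FusionSat4
import Cfsg.Agent.Lib.Helper9.FusionSat1

set_option autoImplicit false

namespace Cfsg.Agent.Lib.Helper9

open Cfsg Cfsg.FusionSystem

variable {Ω : Type*} [Group Ω] {S : Subgroup Ω}

theorem isConj_of_subsystem {T : Subgroup Ω} (F : FusionSystem S) (F' : FusionSystem T)
    (hsub : F'.IsSubsystemOf F) {P Q : Subgroup Ω} (h : F'.IsConj P Q) : F.IsConj P Q := by
  obtain ⟨φ, hφ, hr⟩ := h
  exact ⟨φ, hsub P hφ, hr⟩

/-- S5341, centralizer part -/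
theorem fullyCentralized_of_subsystem [Finite S] (p : ℕ) [Fact p.Prime] (hS : IsPGroup p S)
    (F : FusionSystem S) (hF : F.IsSaturated p) (T : Subgroup Ω) (hT : F.StronglyClosed T)
    (F' : FusionSystem T) (hsub : F'.IsSubsystemOf F) (Q : Subgroup Ω) (hQT : Q ≤ T)
    (hQ : F.IsFullyCentralized Q) : F'.IsFullyCentralized Q := by
  refine ⟨hQT, fun Q' hconj => ?_⟩
  have hconj' := isConj_symm F (isConj_of_subsystem F F' hsub hconj)
  obtain ⟨ψ, hψ, hψr⟩ := hconj'
  have hrec := receptive_of_fullyCentralized hS F hF hQ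
  obtain ⟨ρ, hρ, hρψ⟩ := hrec.2 Q' ψ hψ hψr
  have hTS := hT.1
  have hle : centralizerIn T Q' ≤ extender S Q' ψ := by
    intro c hc
    exact centralizerIn_le_extender Q' ψ ⟨hTS hc.1, hc.2⟩
  have hres := restrict_mem F hρ hle
  have hfin : Finite (centralizerIn T Q) :=
    Finite.of_injective (fun x : centralizerIn T Q => (⟨x, hTS x.2.1⟩ : S))
      (fun a b h => Subtype.ext (congrArg (fun z : S => (z : Ω)) h))
  have hmem : ∀ c : centralizerIn T Q', ρ ⟨c, hle c.2⟩ ∈ centralizerIn T Q := by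
    intro c
    have h1 : ρ ⟨c, hle c.2⟩ ∈ T := hT.2 _ inf_le_left _ hres c
    have h2 := extension_centralizer_mem F hψ hψr hρ hρψ c ⟨hTS c.2.1, c.2.2⟩
    exact ⟨h1, h2.2⟩
  apply Nat.card_le_card_of_injective (fun c : centralizerIn T Q' =>
    (⟨ρ ⟨c, hle c.2⟩, hmem c⟩ : centralizerIn T Q))
  intro a b hab
  have h1 : ρ ⟨a, hle a.2⟩ = ρ ⟨b, hle b.2⟩ := congrArg Subtype.val hab
  have h2 := F.injective_of_mem hρ h1
  exact Subtype.ext (congrArg (fun z : extender S Q' ψ => (z : Ω)) h2)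

/-- S5341, normalizer part -/
theorem fullyNormalized_of_subsystem [Finite S] (p : ℕ) [Fact p.Prime] (hS : IsPGroup p S)
    (F : FusionSystem S) (hF : F.IsSaturated p) (T : Subgroup Ω) (hT : F.StronglyClosed T)
    (F' : FusionSystem T) (hsub : F'.IsSubsystemOf F) (Q : Subgroup Ω) (hQT : Q ≤ T)
    (hQ : F.IsFullyNormalized Q) : F'.IsFullyNormalized Q := by
  refine ⟨hQT, fun Q' hconj => ?_⟩
  have hconj' := isConj_symm F (isConj_of_subsystem F F' hsub hconj)
  have hfa := fullyAutomized_of_fullyNormalized hS F hF hQ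
  have hrec := receptive_of_fullyCentralized hS F hF
    (fullyCentralized_of_fullyNormalized hS F hF hQ)
  obtain ⟨χ, hχ, hχN, -⟩ := exists_normalizer_hom hS F Q Q' hfa hrec hconj'
  have hTS := hT.1
  have hle : normalizerIn T Q' ≤ normalizerIn S Q' := fun n hn => ⟨hTS hn.1, hn.2⟩
  have hres := restrict_mem F hχ hle
  have hfin : Finite (normalizerIn T Q) :=
    Finite.of_injective (fun x : normalizerIn T Q => (⟨x, hTS x.2.1⟩ : S))
      (fun a b h => Subtype.ext (congrArg (fun z : S => (z : Ω)) h))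
  have hmem : ∀ n : normalizerIn T Q', χ ⟨n, hle n.2⟩ ∈ normalizerIn T Q := by
    intro n
    have h1 : χ ⟨n, hle n.2⟩ ∈ T := hT.2 _ inf_le_left _ hres n
    exact ⟨h1, (hχN _).2⟩
  apply Nat.card_le_card_of_injective (fun n : normalizerIn T Q' =>
    (⟨χ ⟨n, hle n.2⟩, hmem n⟩ : normalizerIn T Q))
  intro a b hab
  have h1 : χ ⟨a, hle a.2⟩ = χ ⟨b, hle b.2⟩ := congrArg Subtype.val hab
  have h2 := F.injective_of_mem hχ h1
  exact Subtype.ext (congrArg (fun z : normalizerIn S Q' => (z : Ω)) h2)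

end Cfsg.Agent.Lib.Helper9
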