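import Mathlib
import Cfsg.Agent.Lib.Helper4.SLCenter
import Cfsg.Agent.Lib.Helper4.SLCard

set_option autoImplicit false

/-! The `ε = +1` endgame of S0997: a noncyclic simple group `G` with `G / Z(G) ≃ PSL₂(p)` and
`|G| = p q^b g₀`, `g₀ < p - 1`, has `p = 2^m ± 1`. -/

namespace Cfsg.Agent.Lib.Helper9.PlusEnd

theorem pow_dvd_left {q : ℕ} (hq : q.Prime) (k : ℕ) {m n : ℕ} (hn : ¬ q ∣ n)
    (h : q ^ k ∣ m * n) : q ^ k ∣ m :=
  (Nat.Coprime.pow_left k ((Nat.Prime.coprime_iff_not_dvd hq).mpr hn)).dvd_of_dvd_mul_right h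

theorem pow_dvd_right {q : ℕ} (hq : q.Prime) (k : ℕ) {m n : ℕ} (hm : ¬ q ∣ m)
    (h : q ^ k ∣ m * n) : q ^ k ∣ n :=
  (Nat.Coprime.pow_left k ((Nat.Prime.coprime_iff_not_dvd hq).mpr hm)).dvd_of_dvd_mul_left h

theorem arith (a q b g₀ : ℕ) (ha : 1 ≤ a) (hq : q.Prime)
    (h : q ^ b * g₀ = 2 * a * (a + 1)) (hg : g₀ < 2 * a) :
    ∃ m : ℕ, 2 * a + 1 = 2 ^ m + 1 ∨ 2 * a + 1 = 2 ^ m - 1 := by
  have hqb : 1 ≤ q ^ b := Nat.one_le_pow _ _ hq.pos
  have hbig : a + 1 < q ^ b := by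
    by_contra hcon
    push Not at hcon
    have h1 : q ^ b * g₀ ≤ (a + 1) * g₀ := Nat.mul_le_mul_right _ hcon
    have h2 : (a + 1) * g₀ < (a + 1) * (2 * a) := Nat.mul_lt_mul_of_pos_left hg (by omega)
    nlinarith
  have hcop : Nat.Coprime a (a + 1) := by simp
  rcases hq.eq_two_or_odd with rfl | hodd
  · -- q = 2
    have hb : 1 ≤ b := by
      rcases Nat.eq_zero_or_pos b with rfl | hb
      · simp at hbig
      · exact hb
    obtain ⟨c, rfl⟩ : ∃ c, b = c + 1 := ⟨b - 1, by omega⟩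
    have h3 : 2 ^ c * g₀ = a * (a + 1) := by
      have : 2 * (2 ^ c * g₀) = 2 * (a * (a + 1)) := by
        rw [pow_succ] at h; nlinarith
      exact Nat.eq_of_mul_eq_mul_left (by norm_num) this
    have hdvd : 2 ^ c ∣ a * (a + 1) := ⟨g₀, h3.symm⟩
    have hcases : 2 ^ c ∣ a ∨ 2 ^ c ∣ a + 1 := by
      by_cases h2a : 2 ∣ a
      · left
        have : ¬ 2 ∣ a + 1 := by omega
        exact pow_dvd_left Nat.prime_two c this hdvd
      · right
        exact pow_dvd_right Nat.prime_two c h2a hdvd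
    have hbig' : a + 1 < 2 * 2 ^ c := by rw [pow_succ] at hbig; omega
    refine ⟨c + 1, ?_⟩
    rcases hcases with ⟨k, hk⟩ | ⟨k, hk⟩
    · left
      have hk1 : k = 1 := by
        rcases Nat.lt_or_ge k 2 with h | h
        · rcases Nat.eq_zero_or_pos k with rfl | h'
          · omega
          · omega
        · exfalso
          have : 2 ^ c * 2 ≤ 2 ^ c * k := Nat.mul_le_mul_left _ h
          omega
      subst hk1
      rw [pow_succ]; omega
    · right
      have hk1 : k = 1 := by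
        rcases Nat.lt_or_ge k 2 with h | h
        · rcases Nat.eq_zero_or_pos k with rfl | h'
          · omega
          · omega
        · exfalso
          have : 2 ^ c * 2 ≤ 2 ^ c * k := Nat.mul_le_mul_left _ h
          omega
      subst hk1
      rw [pow_succ]; omega
  · -- q odd
    exfalso
    have hq2 : ¬ q ∣ 2 := by
      intro h2
      have h3 := (Nat.prime_dvd_prime_iff_eq hq Nat.prime_two).mp h2
      rw [h3] at hodd
      omega
    have hdvd : q ^ b ∣ 2 * (a * (a + 1)) := ⟨g₀, by rw [h]; ring⟩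
    clear h
    have hdvd' : q ^ b ∣ a * (a + 1) := pow_dvd_right hq b hq2 hdvd
    have hcases : q ^ b ∣ a ∨ q ^ b ∣ a + 1 := by
      by_cases hqa : q ∣ a
      · left
        have : ¬ q ∣ a + 1 := by
          intro h1
          have : q ∣ 1 := (Nat.dvd_add_right hqa).mp h1
          exact hq.one_lt.ne' (Nat.dvd_one.mp this)
        exact pow_dvd_left hq b this hdvd'
      · right
        exact pow_dvd_right hq b hqa hdvd'
    rcases hcases with h1 | h1
    · have := Nat.le_of_dvd (by omega) h1; omega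
    · have := Nat.le_of_dvd (by omega) h1; omega

theorem center_eq_bot {G : Type*} [Group G] [IsSimpleGroup G] (hG : ¬ IsCyclic G) :
    Subgroup.center G = ⊥ := by
  rcases (Subgroup.Normal.eq_bot_or_eq_top (inferInstance : (Subgroup.center G).Normal)) with h | h
  · exact h
  · exfalso
    apply hG
    let _ : CommGroup G := Group.commGroupOfCenterEqTop h
    exact IsSimpleGroup.isCyclic

theorem plus_end {G : Type*} [Group G] [Finite G] [IsSimpleGroup G] (hG : ¬ IsCyclic G)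
    (p q b g₀ : ℕ) (hp : p.Prime) (hq : q.Prime) (hpq : p ≠ q)
    (hG' : Nat.card G = p * q ^ b * g₀) (hg : g₀ < p - 1)
    (hiso : Nonempty ((G ⧸ Subgroup.center G) ≃*
      Matrix.ProjectiveSpecialLinearGroup (Fin 2) (ZMod p))) :
    ∃ (m : ℕ) (F : Type) (_ : Field F) (_ : Fintype F), Fintype.card F = p ∧
      (p = 2 ^ m + 1 ∨ p = 2 ^ m - 1) ∧
      Nonempty (G ≃* Matrix.ProjectiveSpecialLinearGroup (Fin 2) F) := by
  have : Fact p.Prime := ⟨hp⟩
  have hZ := center_eq_bot hG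
  obtain ⟨e⟩ := hiso
  have e' : G ≃* Matrix.ProjectiveSpecialLinearGroup (Fin 2) (ZMod p) :=
    (QuotientGroup.quotientBot.symm.trans (QuotientGroup.quotientMulEquivOfEq hZ.symm)).trans e
  have hcardG : Nat.card G = Nat.card (Matrix.ProjectiveSpecialLinearGroup (Fin 2) (ZMod p)) :=
    Nat.card_congr e'.toEquiv
  have hGpos : 0 < Nat.card G := Nat.card_pos
  have hg0 : g₀ ≠ 0 := by
    rintro rfl
    rw [hG'] at hGpos; simp at hGpos
  have hp2 : p ≠ 2 := by
    rintro rfl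
    omega
  have hodd : p % 2 = 1 := by
    rcases hp.eq_two_or_odd with h | h
    · exact absurd h hp2
    · exact h
  obtain ⟨a, rfl⟩ : ∃ a, p = 2 * a + 1 := ⟨p / 2, by omega⟩
  have ha : 1 ≤ a := by
    have := hp.two_le; omega
  have h1 := Cfsg.Agent.Lib.Helper4.card_PSL_mul (F := ZMod (2 * a + 1)) 2 (by norm_num)
  rw [Cfsg.Agent.Lib.Helper4.card_SL2, ZMod.card] at h1
  have e1 : 2 * a + 1 - 1 = 2 * a := by omega
  have e2 : Nat.gcd 2 (2 * a) = 2 := Nat.gcd_eq_left (dvd_mul_right 2 a)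
  have e3 : (2 * a + 1) ^ 2 - 1 = 4 * (a * (a + 1)) := by
    have : (2 * a + 1) ^ 2 = 4 * (a * (a + 1)) + 1 := by ring
    omega
  rw [e1, e2, e3, ← hcardG, hG'] at h1
  have hpp : 0 < 2 * a + 1 := by omega
  have h2 : q ^ b * g₀ = 2 * a * (a + 1) := by
    have : (2 * a + 1) * (2 * (q ^ b * g₀)) = (2 * a + 1) * (2 * (2 * a * (a + 1))) := by
      nlinarith
    have := Nat.eq_of_mul_eq_mul_left hpp this
    omega
  obtain ⟨m, hm⟩ := arith a q b g₀ ha hq h2 (by omega)
  exact ⟨m, ZMod (2 * a + 1), inferInstance, inferInstance, ZMod.card _, hm, ⟨e'⟩⟩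

end Cfsg.Agent.Lib.Helper9.PlusEnd
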