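import Cfsg.Agent.Lib.Helper2.R4C3a
import Cfsg.Agent.Lib.Helper2.R4A3
import Cfsg.Agent.Lib.Helper2.R4A5
import Cfsg.Agent.Lib.Helper2.R4A9
import Cfsg.Agent.Lib.Helper2.R4B1
import Cfsg.Agent.Lib.Helper1.R4A10

/-! S3814 farm, unit C3g: `CaseIb.caseE_false` (both cores of `L` lack `E2`). -/

set_option autoImplicit false

namespace Cfsg.Agent.Lib.Helper2.R4

variable {G : Type*} [Group G]

/-- an element `f` with `f ^ w = 1` normalizing an abelian `v`-group `P` (`v ≠ w` primes) and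
commuting with all `x ∈ P`, `x ^ v = 1`, commutes with every `x ∈ P` with `x ^ (v ^ n) = 1`. -/
theorem h9_r4_centralizes_of_omega {P : Subgroup G} {v w : ℕ} (hv : v.Prime) (hw : w.Prime)
    (hvw : v ≠ w) (hab : ∀ x ∈ P, ∀ y ∈ P, x * y = y * x) {f : G}
    (hfn : f ∈ Subgroup.normalizer (P : Set G)) (hfo : f ^ w = 1)
    (hΩ : ∀ x ∈ P, x ^ v = 1 → f * x = x * f) :
    ∀ n : ℕ, ∀ x ∈ P, x ^ (v ^ n) = 1 → f * x = x * f := by
  intro n
  induction n with
  | zero =>
    intro x _ hx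
    rw [pow_zero, pow_one] at hx
    rw [hx, mul_one, one_mul]
  | succ n ih =>
    intro x hxP hx
    have hxv : f * x ^ v = x ^ v * f := by
      apply ih (x ^ v) (P.pow_mem hxP v)
      rw [← pow_mul, ← pow_succ']; exact hx
    have hfx : f * x * f⁻¹ ∈ P := (Subgroup.mem_normalizer_iff.mp hfn x).mp hxP
    set c := x⁻¹ * (f * x * f⁻¹) with hc
    have hcP : c ∈ P := P.mul_mem (P.inv_mem hxP) hfx
    have hxc : f * x * f⁻¹ = x * c := by rw [hc]; group
    have hcv : c ^ v = 1 := by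
      have h1 : (x * c) ^ v = x ^ v * c ^ v := (show Commute x c from hab x hxP c hcP).mul_pow v
      have h2 : (f * x * f⁻¹) ^ v = x ^ v := by
        rw [conj_pow, hxv]; group
      rw [← hxc, h2] at h1
      exact (mul_eq_left.mp h1.symm)
    have hfc : f * c = c * f := hΩ c hcP hcv
    have hfx' : f * x = x * c * f := by
      have : f * x = (f * x * f⁻¹) * f := by group
      rw [this, hxc]
    have hpow : ∀ m : ℕ, f ^ m * x = x * c ^ m * f ^ m := by
      intro m
      induction m with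
      | zero => simp
      | succ m ihm =>
        have hfcm : f * c ^ m = c ^ m * f := (show Commute f c from hfc).pow_right m
        calc f ^ (m + 1) * x = f * (f ^ m * x) := by rw [pow_succ']; group
          _ = f * (x * c ^ m * f ^ m) := by rw [ihm]
          _ = (f * x) * c ^ m * f ^ m := by group
          _ = x * c * (f * c ^ m) * f ^ m := by rw [hfx']; group
          _ = x * c * (c ^ m * f) * f ^ m := by rw [hfcm]
          _ = x * c ^ (m + 1) * f ^ (m + 1) := by rw [pow_succ' c m, pow_succ' f m]; group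
    have hcw : c ^ w = 1 := by
      have := hpow w
      rw [hfo, one_mul, mul_one] at this
      exact (mul_eq_left.mp this.symm)
    have hc1 : c = 1 := by
      have h1 : orderOf c ∣ v := orderOf_dvd_of_pow_eq_one hcv
      have h2 : orderOf c ∣ w := orderOf_dvd_of_pow_eq_one hcw
      have h3 : orderOf c ∣ Nat.gcd v w := Nat.dvd_gcd h1 h2
      rw [(Nat.coprime_primes hv hw).mpr hvw] at h3
      exact orderOf_eq_one_iff.mp (Nat.dvd_one.mp h3)
    rw [hfx', hc1, mul_one]

/-- an element `z` of order `p` of a core `P = O_p(L)` without `E2`: `⟨z⟩` is normalized by `L`. -/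
theorem h9_r4_core_zpowers_normal [Finite G] {p : ℕ} (hp : p.Prime) {P L : Subgroup G}
    (hP : IsCoreIn p P L) (hE : ¬ E2 p P) (hP1 : P ≠ ⊥) :
    ∃ z ∈ P, orderOf z = p ∧
      (∀ g ∈ L, g ∈ Subgroup.normalizer ((Subgroup.zpowers z : Subgroup G) : Set G)) ∧
      ∀ x ∈ P, x ^ p = 1 → x ∈ Subgroup.zpowers z := by
  obtain ⟨z, hzP, hzo, -⟩ := h2_r4_exists_central hp hP.2.2.1 hP1
  have hpF : Fact p.Prime := ⟨hp⟩
  have hconj : ∀ g ∈ L, ∀ x ∈ Subgroup.zpowers z, g * x * g⁻¹ ∈ Subgroup.zpowers z := by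
    intro g hg x hx
    have hgz : g * z * g⁻¹ ∈ P := (Subgroup.mem_normalizer_iff.mp (hP.2.1 hg) z).mp hzP
    have hgo : orderOf (g * z * g⁻¹) = p := by
      rw [← hzo]
      exact (SemiconjBy.orderOf_eq g (x := z) (y := g * z * g⁻¹)
        (by unfold SemiconjBy; group)).symm
    have heq := zpowers_eq_of_not_E2 hp hP.2.2.1 hE hgz hzP hgo hzo
    obtain ⟨k, rfl⟩ := Subgroup.mem_zpowers_iff.mp hx
    rw [← heq, ← conj_zpow]
    exact Subgroup.zpow_mem_zpowers _ k
  refine ⟨z, hzP, hzo, ?_, ?_⟩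
  · intro g hg
    rw [Subgroup.mem_normalizer_iff]
    intro x
    refine ⟨hconj g hg x, fun hx => ?_⟩
    have := hconj g⁻¹ (L.inv_mem hg) _ hx
    have h2 : g⁻¹ * (g * x * g⁻¹) * g⁻¹⁻¹ = x := by group
    rwa [h2] at this
  · intro x hxP hx
    by_cases hx1 : x = 1
    · rw [hx1]; exact Subgroup.one_mem _
    · have hxo : orderOf x = p := orderOf_eq_prime hx hx1
      rw [← zpowers_eq_of_not_E2 hp hP.2.2.1 hE hxP hzP hxo hzo]
      exact Subgroup.mem_zpowers x

/-- the asymmetric half of `caseE_false`: `O_r(L) = 1`, `O_q(L) ≠ 1` without `E2`. -/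
theorem CaseIb.h9_caseE_aux [Finite G] {σ : Finset ℕ} {a u : ℕ} {V H Q L : Subgroup G}
    (h : CaseIb σ a u V H Q L) {q r : ℕ} (hq : q ∈ σ) (hr : r ∈ σ) (hqa : q ≠ a) (hqu : q ≠ u)
    (hra : r ≠ a) (hru : r ≠ u) (hqr : q ≠ r)
    (hLp : ∀ s : ℕ, s.Prime → s ∣ Nat.card L → s = r ∨ s = q)
    {Pq Pr : Subgroup G} (hPq : IsCoreIn q Pq L)
    (hPr : IsCoreIn r Pr L) (hEq : ¬ E2 q Pq) (hPr1 : Pr = ⊥) (hPq1 : Pq ≠ ⊥) : False := by
  have mc := h.c1.mc
  have hqp : q.Prime := mc.prime q hq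
  have hrp : r.Prime := mc.prime r hr
  have hqF : Fact q.Prime := ⟨hqp⟩
  have hsolv := mc.solv
  have hLsol : Group.IsSolvable L := inferInstance
  obtain ⟨z, hzP, hzo, hzn, hzΩ⟩ := h9_r4_core_zpowers_normal hqp hPq hEq hPq1
  have hzL : z ∈ L := hPq.1 hzP
  obtain ⟨E, hEL, hE⟩ := h.E2L hr hra hru
  by_cases hq2 : q = 2
  · -- the involution `z` is central in `L`
    have hcent : ∀ g ∈ L, g * z = z * g := by
      intro g hg
      have h1 : g * z * g⁻¹ ∈ Subgroup.zpowers z :=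
        (Subgroup.mem_normalizer_iff.mp (hzn g hg) z).mp (Subgroup.mem_zpowers z)
      obtain ⟨k, hk⟩ := Subgroup.mem_zpowers_iff.mp h1
      have h2 : z ^ k = z ^ (k % 2) := by
        have := zpow_mod_orderOf z k
        rw [hzo, hq2] at this
        exact_mod_cast this.symm
      have h3 : g * z * g⁻¹ = z := by
        rcases Int.emod_two_eq_zero_or_one k with h0 | h1'
        · rw [h0, zpow_zero] at h2
          have : g * z * g⁻¹ = 1 := by rw [← hk, h2]
          have hz1 : z = 1 := by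
            have h4 : z = g⁻¹ * (g * z * g⁻¹) * g := by group
            rw [h4, this]; group
          rw [hz1, orderOf_one] at hzo
          exact absurd hzo.symm hqp.ne_one
        · rw [h1', zpow_one] at h2
          rw [← hk, h2]
      calc g * z = (g * z * g⁻¹) * g := by group
        _ = z * g := by rw [h3]
    exact h.F12 hq hr hqa hqu hra hru hqr hzL hzo hEL hE (fun b hb => hcent b (hEL hb))
  · -- `Pq` is cyclic, hence abelian
    have hcyc : IsCyclic Pq := isCyclic_of_not_E2 hqp hq2 hPq.2.2.1 hEq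
    have hab : ∀ x ∈ Pq, ∀ y ∈ Pq, x * y = y * x := by
      intro x hx y hy
      have hcm : IsMulCommutative Pq := IsCyclic.isMulCommutative
      have := isMulCommutative_iff.mp hcm ⟨x, hx⟩ ⟨y, hy⟩
      exact congrArg Subtype.val this
    have hW1 : Subgroup.zpowers z ≠ ⊥ := by
      intro h0
      have : z = 1 := Subgroup.zpowers_eq_bot.mp h0
      rw [this, orderOf_one] at hzo
      exact hqp.ne_one hzo.symm
    obtain ⟨f, hfE, hf1, w', hw'W, hw'1, hfw'⟩ :=
      exists_commute_of_sq hrp hE hW1 (fun e he => hzn e (hEL he))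
    have hfo : orderOf f = r := hE.orderOf_eq hrp hfE hf1
    have hfL : f ∈ L := hEL hfE
    -- `f` commutes with `z`
    have hw'o : orderOf w' = q := by
      obtain ⟨k, rfl⟩ := Subgroup.mem_zpowers_iff.mp hw'W
      apply orderOf_eq_prime
      · rw [← zpow_natCast, ← zpow_mul, mul_comm, zpow_mul, zpow_natCast, ← hzo, pow_orderOf_eq_one,
          one_zpow]
      · exact hw'1
    have hzw' : z ∈ Subgroup.zpowers w' := by
      rw [h2_r4_zpowers_eq_of_mem hqp hw'o hzo hw'W]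
      exact Subgroup.mem_zpowers z
    have hfz : ∀ x ∈ Subgroup.zpowers z, f * x = x * f := by
      intro x hx
      rw [← h2_r4_zpowers_eq_of_mem hqp hw'o hzo hw'W] at hx
      obtain ⟨k, rfl⟩ := Subgroup.mem_zpowers_iff.mp hx
      exact ((show Commute f w' from hfw').zpow_right k)
    have hΩ : ∀ x ∈ Pq, x ^ q = 1 → f * x = x * f := fun x hx hxq => hfz x (hzΩ x hx hxq)
    have hall := h9_r4_centralizes_of_omega hqp hrp hqr hab (hPq.2.1 hfL)
      (by rw [← hfo]; exact pow_orderOf_eq_one f) hΩ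
    have hc2 : ∀ x ∈ Pq, f * x = x * f := by
      intro x hx
      obtain ⟨n, hn⟩ := (hPq.2.2.1) ⟨x, hx⟩
      apply hall n x hx
      have := congrArg Subtype.val hn
      simpa using this
    have hc1 : ∀ x ∈ Pr, f * x = x * f := by
      intro x hx
      rw [hPr1, Subgroup.mem_bot] at hx
      rw [hx, mul_one, one_mul]
    have hfPr := mem_core_of_centralizes hLsol hrp hqp (Ne.symm hqr) hLp hPr hPq hfL hfo hc1 hc2
    rw [hPr1, Subgroup.mem_bot] at hfPr
    exact hf1 hfPr

/-- (I.8d) both cores of `L` lack `E2`.  Both nontrivial: the subgroups `⟨z_v⟩`, `⟨z_w⟩` of order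
`v`, `w` are normal in `L`; by F12 an `E_{w^2}` does not centralize `z_v`, so `w ∣ v - 1` (A9), and
symmetrically `v ∣ w - 1`.  One trivial, `F := O_q(L) ≠ 1` (A10): `q = 2`: the involution of `F` is
central, F12; `q` odd: some `f ≠ 1` in an `E_{r^2}` centralizes `⟨z_q⟩ = Ω₁(F)` (A5), hence `F`
(`Helper1.coprime_aut_trivial_of_fix_omega`), hence `f ∈ O_r(L) = 1` (A10). -/
theorem CaseIb.caseE_false [Finite G] {σ : Finset ℕ} {a u : ℕ} {V H Q L : Subgroup G}
    (h : CaseIb σ a u V H Q L) {v w : ℕ} (hv : v ∈ σ) (hw : w ∈ σ) (hva : v ≠ a) (hvu : v ≠ u)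
    (hwa : w ≠ a) (hwu : w ≠ u) (hvw : v ≠ w) {Pv Pw : Subgroup G} (hPv : IsCoreIn v Pv L)
    (hPw : IsCoreIn w Pw L) (hEv : ¬ E2 v Pv) (hEw : ¬ E2 w Pw) : False := by
  have mc := h.c1.mc
  have hvp : v.Prime := mc.prime v hv
  have hwp : w.Prime := mc.prime w hw
  have hsolv := mc.solv
  have hLsol : Group.IsSolvable L := inferInstance
  -- `σ = {a, u, v, w}`
  have hσ : ∀ s ∈ σ, s = a ∨ s = u ∨ s = v ∨ s = w := by
    intro s hs
    have hsub : ({a, u, v, w} : Finset ℕ) ⊆ σ := by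
      intro x hx
      simp only [Finset.mem_insert, Finset.mem_singleton] at hx
      rcases hx with rfl | rfl | rfl | rfl
      · exact h.c1.ha
      · exact h.hu
      · exact hv
      · exact hw
    have hcard : ({a, u, v, w} : Finset ℕ).card = 4 := by
      rw [Finset.card_insert_of_notMem, Finset.card_insert_of_notMem, Finset.card_insert_of_notMem,
        Finset.card_singleton]
      · simpa using hvw
      · simp only [Finset.mem_insert, Finset.mem_singleton, not_or]
        exact ⟨Ne.symm hvu, Ne.symm hwu⟩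
      · simp only [Finset.mem_insert, Finset.mem_singleton, not_or]
        exact ⟨Ne.symm h.hua, Ne.symm hva, Ne.symm hwa⟩
    have heq : ({a, u, v, w} : Finset ℕ) = σ :=
      Finset.eq_of_subset_of_card_le hsub (by rw [hcard, mc.card4])
    rw [← heq] at hs
    simpa using hs
  have hLp : ∀ s : ℕ, s.Prime → s ∣ Nat.card L → s = v ∨ s = w := by
    intro s hs hsL
    obtain ⟨hsσ, hsa, hsu⟩ := h.prime_mem hs hsL
    rcases hσ s hsσ with h1 | h1 | h1 | h1
    · exact absurd h1 hsa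
    · exact absurd h1 hsu
    · exact Or.inl h1
    · exact Or.inr h1
  have hLp' : ∀ s : ℕ, s.Prime → s ∣ Nat.card L → s = w ∨ s = v := fun s hs hsL =>
    (hLp s hs hsL).symm
  have hL1 : L ≠ ⊥ := by
    obtain ⟨E, hEL, hE⟩ := h.E2L hv hva hvu
    intro h0
    rw [h0, le_bot_iff] at hEL
    exact hE.ne_bot hvp hEL
  by_cases hPv1 : Pv = ⊥
  · have hPw1 : Pw ≠ ⊥ := by
      rcases core_ne_bot_of_two_primes hLsol hL1 hvp hwp hvw hLp hPv hPw with h1 | h1
      · exact absurd hPv1 h1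
      · exact h1
    exact h.h9_caseE_aux hw hv hwa hwu hva hvu (Ne.symm hvw) hLp hPw hPv hEw hPv1 hPw1
  by_cases hPw1 : Pw = ⊥
  · exact h.h9_caseE_aux hv hw hva hvu hwa hwu hvw hLp' hPv hPw hEv hPw1 hPv1
  -- both nontrivial
  obtain ⟨zv, hzvP, hzvo, hzvn, -⟩ := h9_r4_core_zpowers_normal hvp hPv hEv hPv1
  obtain ⟨zw, hzwP, hzwo, hzwn, -⟩ := h9_r4_core_zpowers_normal hwp hPw hEw hPw1
  have key : ∀ {p q : ℕ}, p ∈ σ → q ∈ σ → p ≠ a → p ≠ u → q ≠ a → q ≠ u → p ≠ q → p.Prime →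
      q.Prime → ∀ z ∈ L, orderOf z = p →
      (∀ g ∈ L, g ∈ Subgroup.normalizer ((Subgroup.zpowers z : Subgroup G) : Set G)) →
      q ∣ p - 1 := by
    intro p q hp hq hpa hpu hqa hqu hpq hpp hqp z hzL hzo hzn
    obtain ⟨B, hBL, hB⟩ := h.E2L hq hqa hqu
    by_contra hnd
    apply h.F12 hp hq hpa hpu hqa hqu hpq hzL hzo hBL hB
    intro b hb
    by_contra hne
    have hb1 : b ≠ 1 := by
      rintro rfl
      exact hne (by rw [one_mul, mul_one])
    exact hnd (dvd_pred_of_normalizes hpp hqp hzo (hB.orderOf_eq hqp hb hb1) (hzn b (hBL hb)) hne)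
  have h1 : w ∣ v - 1 := key hv hw hva hvu hwa hwu hvw hvp hwp zv (hPv.1 hzvP) hzvo hzvn
  have h2 : v ∣ w - 1 := key hw hv hwa hwu hva hvu (Ne.symm hvw) hwp hvp zw (hPw.1 hzwP) hzwo hzwn
  have h3 : w ≤ v - 1 := Nat.le_of_dvd (by have := hvp.two_le; omega) h1
  have h4 : v ≤ w - 1 := Nat.le_of_dvd (by have := hwp.two_le; omega) h2
  have := hvp.two_le
  omega

end Cfsg.Agent.Lib.Helper2.R4
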