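import Mathlib
import Cfsg.Agent.Lib.Helper3.RIBasic
import Cfsg.Agent.Lib.Helper3.RIG1

set_option autoImplicit false
set_option maxHeartbeats 4000000
set_option maxRecDepth 100000
set_option linter.unusedVariables false
set_option linter.unusedSectionVars false
set_option linter.style.longLine false
set_option linter.style.haveILetI false
set_option linter.unusedSimpArgs false
set_option linter.unnecessarySimpa false

/-! Root involutions: the `S₄`-configuration forces order 3 (final step of S5047, helper9). -/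

namespace Cfsg.Agent.Lib.Helper3.RootInv

open Cfsg

universe u

variable {G : Type u} [Group G] {D : Set G}

/-- If `a, b ∈ D` commute with `b a ∈ D`, `q ∈ D` with `(a q)^2 = b` (order 4) and `x ∈ D` with `(b x)^2 = q`
(order 4), then `a x` has order 3. -/
theorem h9_order_three (hD : IsRootInvolutionSet D) {a b q x : G} (ha : a ∈ D) (hb : b ∈ D)
    (hba : b * a = a * b) (hbaD : b * a ∈ D) (hq : q ∈ D) (hx : x ∈ D)
    (h1 : orderOf (a * q) = 4) (h1' : (a * q) ^ 2 = b) (h2 : orderOf (b * x) = 4) (h2' : (b * x) ^ 2 = q) :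
    orderOf (a * x) = 3 := by
  have aa := sq_one hD ha
  have bb := sq_one hD hb
  have qq := sq_one hD hq
  have xx := sq_one hD hx
  obtain ⟨_, _, hbq0, _, haqa0, _, hne1⟩ := four_facts hD ha hq h1
  rw [h1'] at hbq0 haqa0
  -- hbq0 : b * q = q * b ; haqa0 : a * q * a = q * b
  obtain ⟨_, _, hqx0, hxbx0, _, _, _⟩ := four_facts hD hb hx h2
  rw [h2'] at hqx0 hxbx0
  -- hqx0 : q * x = x * q ; hxbx0 : x * b * x = b * q
  have ainv := inv_eq hD ha
  have xinv := inv_eq hD hx
  -- conjugation by r = a x
  have hrb : a * x * b * (a * x)⁻¹ = q := by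
    rw [mul_inv_rev, ainv, xinv]
    calc a * x * b * (x * a) = a * (x * b * x) * a := by simp only [mul_assoc]
      _ = a * (b * q) * a := by rw [hxbx0]
      _ = (a * b * a) * (a * q * a) := by
          simp only [mul_assoc]; rw [← mul_assoc a a, aa, one_mul]
      _ = b * (q * b) := by
          rw [haqa0, ← hba]; simp only [mul_assoc]; rw [← mul_assoc a a, aa, one_mul]
      _ = q := by rw [← hbq0, ← mul_assoc, bb, one_mul]
  have hrq : a * x * q * (a * x)⁻¹ = q * b := by
    rw [mul_inv_rev, ainv, xinv]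
    calc a * x * q * (x * a) = a * (x * q * x) * a := by simp only [mul_assoc]
      _ = a * q * a := by rw [← hqx0, mul_assoc q x x, xx, mul_one]
      _ = q * b := haqa0
  have hconj : ∀ (g y z : G), g * (y * z) * g⁻¹ = (g * y * g⁻¹) * (g * z * g⁻¹) := by
    intro g y z; group
  have hrqb : a * x * (q * b) * (a * x)⁻¹ = b := by
    rw [hconj, hrq, hrb, mul_assoc, hbq0, ← mul_assoc q, qq, one_mul]
  -- r^3 centralizes b
  have hs : (a * x) ^ 3 * b * ((a * x) ^ 3)⁻¹ = b := by
    have e3 : ∀ r c : G, r ^ 3 * c * (r ^ 3)⁻¹ = r * (r * (r * c * r⁻¹) * r⁻¹) * r⁻¹ := by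
      intro r c; simp only [pow_succ, pow_zero, one_mul, mul_inv_rev, mul_assoc]
    rw [e3, hrb, hrq, hrqb]
  have hsb : (a * x) ^ 3 * b = b * (a * x) ^ 3 := by
    have := congrArg (fun t => t * (a * x) ^ 3) hs
    simpa [mul_assoc] using this
  have hqne : q ≠ 1 := ne_one hD hq
  have hbq_ne : b ≠ q := by
    intro h
    apply hne1
    rw [← h, hba]
  rcases tri hD ha hx with hcomm | hodd | h4
  · -- a x = x a : then r^2 = 1
    exfalso
    have hr2 : a * x * (a * x) = 1 := by
      calc a * x * (a * x) = a * x * (x * a) := by rw [← hcomm]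
        _ = 1 := by simp only [mul_assoc]; rw [← mul_assoc x x, xx, one_mul, aa]
    have hrinv : (a * x)⁻¹ = a * x := inv_eq_of_mul_eq_one_left hr2
    have h5 : a * x * (a * x * b * (a * x)⁻¹) * (a * x)⁻¹ = b := by
      rw [hrinv]
      calc a * x * (a * x * b * (a * x)) * (a * x)
          = (a * x * (a * x)) * b * ((a * x) * (a * x)) := by simp only [mul_assoc]
        _ = b := by rw [hr2, one_mul, mul_one]
    rw [hrb, hrq] at h5
    -- q * b = b
    apply hqne
    have := congrArg (fun t => t * b) h5
    simpa [mul_assoc, bb] using this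
  · -- odd case
    obtain ⟨_, _, hne, ho⟩ := hodd
    by_cases hs1 : (a * x) ^ 3 = 1
    · have hdvd : orderOf (a * x) ∣ 3 := orderOf_dvd_of_pow_eq_one hs1
      rcases (Nat.dvd_prime Nat.prime_three).1 hdvd with h | h
      · exfalso
        rw [orderOf_eq_one_iff] at h
        apply hne
        have h3 : a * x * x = x := by rw [h, one_mul]
        rwa [mul_assoc, xx, mul_one] at h3
      · exact h
    · exfalso
      -- z = x a x a x is a member of D commuting with b and odd to a
      have hz : (x * a) * x * (x * a)⁻¹ ∈ D := conj_mem hD hx (x * a)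
      have hzeq : (x * a) * x * (x * a)⁻¹ = a * (a * x) ^ 3 := by
        rw [mul_inv_rev, ainv, xinv]
        simp only [pow_succ, pow_zero, one_mul, mul_assoc]
        rw [← mul_assoc a a, aa, one_mul]
      rw [hzeq] at hz
      have hzb : a * (a * x) ^ 3 * b = b * (a * (a * x) ^ 3) := by
        rw [mul_assoc, hsb, ← mul_assoc, ← hba, mul_assoc]
      have hzne : a * (a * x) ^ 3 ≠ a := by
        intro h
        apply hs1
        have := congrArg (fun t => a * t) h
        simpa [← mul_assoc, aa] using this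
      have hzodd : Odd (orderOf (a * (a * x) ^ 3 * a)) := by
        rw [orderOf_mul_comm', ← mul_assoc, aa, one_mul]
        exact Odd.of_dvd_nat ho (orderOf_pow_dvd 3)
      exact g1 hD hb ha hba hbaD hz hzb ⟨hz, ha, hzne, hzodd⟩
  · -- order 4: r^3 = r⁻¹ centralizes b so r does
    exfalso
    have hr4 : (a * x) ^ 4 = 1 := by rw [← h4]; exact pow_orderOf_eq_one _
    have hr3 : (a * x) ^ 3 = (a * x)⁻¹ := by
      apply eq_inv_of_mul_eq_one_left
      rw [← pow_succ]; exact hr4
    rw [hr3] at hsb
    -- (a x)⁻¹ b = b (a x)⁻¹  =>  b = r b r⁻¹ = q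
    apply hbq_ne
    rw [← hrb]
    have : a * x * b * (a * x)⁻¹ = a * x * ((a * x)⁻¹ * b) := by rw [hsb]; simp only [mul_assoc]
    rw [this, ← mul_assoc, mul_inv_cancel, one_mul]

end Cfsg.Agent.Lib.Helper3.RootInv
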