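import Mathlib
import Cfsg.Agent.Lib.Helper9.RK3HBasic
import Cfsg.Agent.Lib.Helper8.RK3HU1
import Cfsg.Agent.Lib.Helper3.RK3HCore
import Cfsg.Agent.Lib.Helper6.RK3HX
import Cfsg.Agent.Lib.Helper1.RK3TR

/-! Farm RK3 (S4404): LEMMA HHc, final assembly.
Units: `B` (helper9), `U1` (helper8), `U2` + `coreX_of_U1` (helper3), `U3–U5` (helper7, helper4),
`HX` (helper6), `TR` (helper1). -/

set_option autoImplicit false

open scoped commutatorElement

namespace Cfsg.Agent.Lib.Helper9.RK3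

universe u

/-- the core: in a faithful configuration with `R = [R, x]`, `|R| ≤ r`. -/
theorem coreX {G : Type u} [Group G] [Finite G] {M R : Subgroup G} {x : G} {r : ℕ}
    (c : Cfg M R x r) (hRx : ⁅R, Subgroup.zpowers x⁆ = R) : Nat.card R ≤ r :=
  Cfsg.Agent.Lib.Helper3.RK3.coreX_of_U1
    (fun c' hRx' hlt IH =>
      Cfsg.Agent.Lib.Helper8.RK3.U1_of c'
        (fun _ hN hxN => card_comm_ne_two hN hxN c'.hx3) hRx' hlt IH)
    c hRx

/-- HHc in the faithful setting. -/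
theorem hhcX {G : Type u} [Group G] [Finite G] {M P : Subgroup G} {x : G} {r : ℕ}
    (c : Cfg M P x r) :
    (P ⊓ Subgroup.centralizer ((⁅M, Subgroup.zpowers x⁆ : Subgroup G) : Set G)).relIndex P
      ≤ r :=
  Cfsg.Agent.Lib.Helper6.RK3.hhcX_of_coreX (fun c' h => coreX c' h) c

/-- LEMMA HHc of lead's proof of S4404. -/
theorem hhc {S : Type u} [Group S] [Finite S]
    (M : Subgroup S) [M.Normal] (hM : Cfsg.IsElementaryAbelian 2 M)
    (Q : Subgroup S) (hQc : IsCyclic Q) (hQ3 : IsPGroup 3 Q)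
    (hQ1 : ∀ x ∈ Q, x ^ 3 ∈ Subgroup.centralizer (M : Set S))
    (hQM : Nat.card (⁅Q, M⁆ : Subgroup S) = 4)
    (r : ℕ) (hr : r.Prime) (hr5 : 5 ≤ r) (P : Subgroup S) (hP : IsPGroup r P)
    (hQP : Q ≤ Subgroup.normalizer (P : Set S)) :
    (P ⊓ Subgroup.centralizer ((⁅Q, M⁆ : Subgroup S) : Set S)).relIndex P ≤ r :=
  Cfsg.Agent.Lib.Helper1.RK3TR.hhc_of_hhcX (fun c => hhcX c) M hM Q hQc hQ3 hQ1 hQM r hr hr5 P
    hP hQP

end Cfsg.Agent.Lib.Helper9.RK3
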