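import Mathlib
import Cfsg.Agent.Lib.Helper9.RK3HDefs

/-! Farm RK3 (S4404), LEMMA HHc: BLUEPRINT (statements only, `sorry` bodies).
NEVER import this file.  Each unit is proved in its own file, importing `RK3HDefs`
(and the files of the units it uses, once landed).

Plan.  HHc is transferred to the holomorph `M ⋊ Aut M` (unit `TR`), where the action on `M`
is faithful; there `hhcX` (unit `HX`) follows from `coreX` (|R| ≤ r when R = [R,x]), which is
proved by induction on |M| (`U1`), reducing to the irreducible case (`U2`–`U5`). -/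

set_option autoImplicit false

open scoped commutatorElement

namespace Cfsg.Agent.Lib.Helper9.RK3.Stubs

universe u

variable {G : Type u} [Group G]

/-! ### Basic lemmas (unit `B`, helper9) -/

/-- TS: three subgroups remark. -/
theorem ts {M2 R : Subgroup G} {x : G} (hRM2 : R ≤ Subgroup.normalizer (M2 : Set G))
    (hx : ∀ m ∈ M2, x * m = m * x) (hRx : ⁅R, Subgroup.zpowers x⁆ = R) :
    R ≤ Subgroup.centralizer (M2 : Set G) := sorry

/-- An `r`-group, `r ≥ 5`, normalizing a subgroup of order at most `4` centralizes it. -/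
theorem centralizes_of_card_le_four [Finite G] {r : ℕ} (hr : r.Prime) (hr5 : 5 ≤ r)
    {A N : Subgroup G} (hA : IsPGroup r A) (hAN : A ≤ Subgroup.normalizer (N : Set G))
    (hN : Nat.card N ≤ 4) : A ≤ Subgroup.centralizer (N : Set G) := sorry

/-- An element of prime order `r` acting freely on `N` forces `|N| ≡ 1 mod r`. -/
theorem card_modEq_one_of_free [Finite G] {r : ℕ} (hr : r.Prime) (N : Subgroup G) (a : G)
    (haN : a ∈ Subgroup.normalizer (N : Set G)) (har : a ^ r = 1)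
    (hfree : ∀ n ∈ N, a * n = n * a → n = 1) : Nat.card N ≡ 1 [MOD r] := sorry

/-- For an `x`-invariant subgroup `N` of an elementary abelian 2-group (x^3 = 1),
`[N, ⟨x⟩]` has no nontrivial `x`-fixed point; in particular its order is not `2`. -/
theorem comm_inf_centralizer_eq_bot [Finite G] {N : Subgroup G} {x : G}
    (hN : Cfsg.IsElementaryAbelian 2 N) (hxN : x ∈ Subgroup.normalizer (N : Set G))
    (hx3 : x ^ 3 = 1) :
    ⁅N, Subgroup.zpowers x⁆ ⊓ Subgroup.centralizer {x} = ⊥ := sorry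

theorem card_comm_ne_two [Finite G] {N : Subgroup G} {x : G}
    (hN : Cfsg.IsElementaryAbelian 2 N) (hxN : x ∈ Subgroup.normalizer (N : Set G))
    (hx3 : x ^ 3 = 1) :
    Nat.card (⁅N, Subgroup.zpowers x⁆ : Subgroup G) ≠ 2 := sorry

/-- sub-configuration -/
theorem Cfg.sub {M R : Subgroup G} {x : G} {r : ℕ} (c : Cfg M R x r) {M' : Subgroup G}
    (hM' : M' ≤ M) (hRM' : R ≤ Subgroup.normalizer (M' : Set G))
    (hxM' : x ∈ Subgroup.normalizer (M' : Set G))
    (hfaith : R ⊓ Subgroup.centralizer (M' : Set G) = ⊥) : Cfg M' R x r := sorry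

/-! ### The core: `|R| ≤ r` when `R = [R, x]` -/

/-- U1 (induction step): a minimal counterexample `M` is `⟨R, x⟩`-irreducible.
Maschke (`Helper1.coprime_invariant_complement` with `A = R ⊔ ⟨x⟩`) + TS + `card_comm_ne_two`. -/
theorem U1 [Finite G] {M R : Subgroup G} {x : G} {r : ℕ} (c : Cfg M R x r)
    (hRx : ⁅R, Subgroup.zpowers x⁆ = R) (hlt : r < Nat.card R)
    (IH : ∀ M' : Subgroup G, Nat.card M' < Nat.card M → Cfg M' R x r → Nat.card R ≤ r) :
    ∀ M' : Subgroup G, M' ≤ M → R ≤ Subgroup.normalizer (M' : Set G) →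
      x ∈ Subgroup.normalizer (M' : Set G) → M' = ⊥ ∨ M' = M := sorry

/-- U2 (Clifford step): `⟨R,x⟩`-irreducible implies `R`-irreducible. -/
theorem U2 [Finite G] {M R : Subgroup G} {x : G} {r : ℕ} (c : Cfg M R x r)
    (hR1 : R ≠ ⊥)
    (hirr : ∀ M' : Subgroup G, M' ≤ M → R ≤ Subgroup.normalizer (M' : Set G) →
      x ∈ Subgroup.normalizer (M' : Set G) → M' = ⊥ ∨ M' = M) :
    ∀ N : Subgroup G, N ≤ M → R ≤ Subgroup.normalizer (N : Set G) → N = ⊥ ∨ N = M := sorry

/-- U3: a central element of order `r`, acting freely, inverted-like by `x`. -/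
theorem U3 [Finite G] {M R : Subgroup G} {x : G} {r : ℕ} (c : Cfg M R x r)
    (hRx : ⁅R, Subgroup.zpowers x⁆ = R) (hR1 : R ≠ ⊥)
    (hRirr : ∀ N : Subgroup G, N ≤ M → R ≤ Subgroup.normalizer (N : Set G) → N = ⊥ ∨ N = M) :
    ∃ a ∈ R, (∀ g ∈ R, g * a = a * g) ∧ orderOf a = r ∧
      x * a * x⁻¹ ∈ Subgroup.zpowers a ∧ x * a * x⁻¹ ≠ a ∧
      (∀ d ∈ Subgroup.zpowers a, d ≠ 1 → ∀ m ∈ M, d * m = m * d → m = 1) := sorry

/-- U4 (KEY IDENTITY): `|M| ≤ 16`. -/
theorem U4 [Finite G] {M R : Subgroup G} {x : G} {r : ℕ} (c : Cfg M R x r)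
    {a : G} (haR : a ∈ R) (hxa : x * a * x⁻¹ ∈ Subgroup.zpowers a) (hne : x * a * x⁻¹ ≠ a)
    (hfree : ∀ d ∈ Subgroup.zpowers a, d ≠ 1 → ∀ m ∈ M, d * m = m * d → m = 1) :
    Nat.card M ≤ 16 := sorry

/-- U5 (arithmetic + stabilizer). -/
theorem U5 [Finite G] {M R : Subgroup G} {x : G} {r : ℕ} (c : Cfg M R x r)
    (hlt : r < Nat.card R) {a : G} (haR : a ∈ R) (hcent : ∀ g ∈ R, g * a = a * g)
    (hord : orderOf a = r)
    (hfree : ∀ d ∈ Subgroup.zpowers a, d ≠ 1 → ∀ m ∈ M, d * m = m * d → m = 1)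
    (h16 : Nat.card M ≤ 16) : False := sorry

/-- U6: assembly of the core by strong induction on `|M|`. -/
theorem coreX [Finite G] {M R : Subgroup G} {x : G} {r : ℕ} (c : Cfg M R x r)
    (hRx : ⁅R, Subgroup.zpowers x⁆ = R) : Nat.card R ≤ r := sorry

/-! ### HHc in the faithful setting (unit `HX`) -/

/-- `P = C_P(x) [P,x]`, `[P,x,x] = [P,x]` (coprime, Helper1.Coprime), `C_P(x)` centralizes
`V` (`centralizes_of_card_le_four`), `|[P,x]| ≤ r` by `coreX`. -/
theorem hhcX [Finite G] {M P : Subgroup G} {x : G} {r : ℕ} (c : Cfg M P x r) :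
    (P ⊓ Subgroup.centralizer ((⁅M, Subgroup.zpowers x⁆ : Subgroup G) : Set G)).relIndex P
      ≤ r := sorry

/-! ### Transfer to the holomorph (unit `TR`) -/

/-- LEMMA HHc of lead's proof of S4404. Proof: `G := M ⋊[id] MulAut M`, `ι = inl`,
`ρ = inr ∘ MulAut.conjNormal`, apply `hX` to `range ι`, `P.map ρ`, `ρ x` (x a generator of Q). -/
theorem hhc_of_hhcX {S : Type u} [Group S] [Finite S]
    (hX : ∀ {G : Type u} [Group G] [Finite G] {M P : Subgroup G} {x : G} {r : ℕ},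
      Cfg M P x r →
      (P ⊓ Subgroup.centralizer ((⁅M, Subgroup.zpowers x⁆ : Subgroup G) : Set G)).relIndex P
        ≤ r)
    (M : Subgroup S) [M.Normal] (hM : Cfsg.IsElementaryAbelian 2 M)
    (Q : Subgroup S) (hQc : IsCyclic Q) (hQ3 : IsPGroup 3 Q)
    (hQ1 : ∀ x ∈ Q, x ^ 3 ∈ Subgroup.centralizer (M : Set S))
    (hQM : Nat.card (⁅Q, M⁆ : Subgroup S) = 4)
    (r : ℕ) (hr : r.Prime) (hr5 : 5 ≤ r) (P : Subgroup S) (hP : IsPGroup r P)
    (hQP : Q ≤ Subgroup.normalizer (P : Set S)) :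
    (P ⊓ Subgroup.centralizer ((⁅Q, M⁆ : Subgroup S) : Set S)).relIndex P ≤ r := sorry

/-- final form (helper9's claimed shape) -/
theorem hhc {S : Type u} [Group S] [Finite S]
    (M : Subgroup S) [M.Normal] (hM : Cfsg.IsElementaryAbelian 2 M)
    (Q : Subgroup S) (hQc : IsCyclic Q) (hQ3 : IsPGroup 3 Q)
    (hQ1 : ∀ x ∈ Q, x ^ 3 ∈ Subgroup.centralizer (M : Set S))
    (hQM : Nat.card (⁅Q, M⁆ : Subgroup S) = 4)
    (r : ℕ) (hr : r.Prime) (hr5 : 5 ≤ r) (P : Subgroup S) (hP : IsPGroup r P)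
    (hQP : Q ≤ Subgroup.normalizer (P : Set S)) :
    (P ⊓ Subgroup.centralizer ((⁅Q, M⁆ : Subgroup S) : Set S)).relIndex P ≤ r := sorry

end Cfsg.Agent.Lib.Helper9.RK3.Stubs
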