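import Cfsg.Agent.Lib.Helper9.PSubTransport
import Cfsg.Agent.Lib.Helper9.Alperin1

set_option autoImplicit false

namespace Cfsg.Agent.Lib.Helper9

open Cfsg Cfsg.FusionSystem

variable {Ω : Type*} [Group Ω] {S : Subgroup Ω}

/-- A `p`-subgroup `B` of `Aut_F(P)` can be transported, along a map of the system from `P` onto a
fully automized subgroup `P'`, into `Aut_S(P')`. -/
theorem exists_hom_conj_pSubgroup_of_fullyAutomized [Finite S] {p : ℕ} [Fact p.Prime]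
    (F : FusionSystem S) {P P' : Subgroup Ω}
    (hP'a : F.IsFullyAutomized p P') {ψ : P →* Ω} (hψ : ψ ∈ F.Hom P) (hψr : ψ.range = P')
    (B : Subgroup (MulAut P)) (hBA : B ≤ F.autGroup P) (hB : IsPGroup p B) :
    ∃ (χ : P →* Ω), χ ∈ F.Hom P ∧ χ.range = P' ∧
      ∀ β ∈ B, ∃ g ∈ S, ∀ y : P, χ (β y) = g * χ y * g⁻¹ := by
  obtain ⟨hP'S, R, hR⟩ := hP'a
  have hfinP' : Finite P' := finite_of_le hP'S
  set e := equivOfRange ψ (F.injective_of_mem hψ) hψr with he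
  set B₂ : Subgroup (MulAut P') := B.map (MulAut.congr e).toMonoidHom with hB₂
  have hB₂A : B₂ ≤ F.autGroup P' := by
    rintro _ ⟨α, hα, rfl⟩
    exact congr_mem_autGroup F hψ hψr (hBA hα)
  have hB₂p : IsPGroup p B₂ := hB.map _
  have hB₂'p : IsPGroup p (B₂.subgroupOf (F.autGroup P')) := hB₂p.comap_subtype
  obtain ⟨a, ha⟩ := exists_cj_le_sylow R hB₂'p
  have hconj : ∀ β ∈ B₂, (a : MulAut P') * β * (a : MulAut P')⁻¹ ∈ autInducedBy S P' := by
    intro β hβ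
    have h1 : (MulAut.conj a).toMonoidHom ⟨β, hB₂A hβ⟩ ∈ (R : Subgroup (F.autGroup P')) :=
      ha ⟨⟨β, hB₂A hβ⟩, hβ, rfl⟩
    rw [hR] at h1
    exact h1
  have haP := hom_of_mem_autGroup F hP'S a.2
  have hψP : ∀ x : P, ψ x ∈ P' := fun x => hψr.le ⟨x, rfl⟩
  obtain ⟨χ, hχ, hχe⟩ := comp_hom F hψ haP hψP
  have hχe' : ∀ x : P, χ x = (((a : MulAut P') (e x) : P') : Ω) := fun x => hχe x
  have hχr : χ.range = P' := by
    apply le_antisymm
    · rintro _ ⟨x, rfl⟩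
      rw [hχe']
      exact ((a : MulAut P') (e x)).2
    · intro y hy
      refine ⟨e.symm ((a : MulAut P')⁻¹ ⟨y, hy⟩), ?_⟩
      rw [hχe', MulEquiv.apply_symm_apply, MulAut.apply_inv_self]
  refine ⟨χ, hχ, hχr, ?_⟩
  intro β hβ
  have hβ₂ : MulAut.congr e β ∈ B₂ := ⟨β, hβ, rfl⟩
  obtain ⟨g, hgS, hg⟩ := (mem_autInducedBy_iff S P' _).mp (hconj _ hβ₂)
  refine ⟨g, hgS, fun y => ?_⟩
  have h3 := hg ((a : MulAut P') (e y))
  rw [hχe', hχe', ← h3]
  show _ = (((a : MulAut P') ((MulAut.congr e β)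
    ((a : MulAut P')⁻¹ ((a : MulAut P') (e y)))) : P') : Ω)
  rw [MulAut.inv_apply_self]
  show _ = (((a : MulAut P') (e (β (e.symm (e y)))) : P') : Ω)
  rw [MulEquiv.symm_apply_apply]

/-- An automorphism `a ∈ Aut_F(Q)` of a receptive subgroup `Q` that normalizes `Aut_S(Q)`
lifts to an automorphism of `N_S(Q)` in the system. -/
theorem exists_lift_normalizerIn [Finite S] (F : FusionSystem S) {Q : Subgroup Ω}
    (hQr : F.IsReceptive Q) {a : MulAut Q} (ha : a ∈ F.autGroup Q)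
    (hnorm : ∀ α ∈ autInducedBy S Q, a * α * a⁻¹ ∈ autInducedBy S Q) :
    ∃ b ∈ F.autGroup (normalizerIn S Q), ∀ (x : Q),
      ((b ⟨x, self_le_normalizerIn' hQr.1 x.2⟩ : normalizerIn S Q) : Ω) = ((a x : Q) : Ω) := by
  obtain ⟨hQS, hrec⟩ := hQr
  have hφ := hom_of_mem_autGroup F hQS ha
  set φ : Q →* Ω := Q.subtype.comp a.toMonoidHom with hφdef
  have hφr : φ.range = Q := by
    apply le_antisymm
    · rintro _ ⟨x, rfl⟩
      exact (a x).2
    · intro y hy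
      refine ⟨a⁻¹ ⟨y, hy⟩, ?_⟩
      show ((a (a⁻¹ ⟨y, hy⟩) : Q) : Ω) = y
      rw [MulAut.apply_inv_self]
  obtain ⟨ψ, hψ, hψe⟩ := hrec Q φ hφ hφr
  have hNle : normalizerIn S Q ≤ extender S Q φ := by
    intro g hg
    apply Subgroup.subset_closure
    refine ⟨hg.1, hg.2, ?_⟩
    have hcg : conjAut Q ⟨g, hg.2⟩ ∈ autInducedBy S Q :=
      (mem_autInducedBy_iff S Q _).mpr ⟨g, hg.1, fun x => rfl⟩
    obtain ⟨h, hhS, hh⟩ := (mem_autInducedBy_iff S Q _).mp (hnorm _ hcg)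
    refine ⟨h, hhS, fun x hx => ?_⟩
    have h1 := hh (a x)
    show ((a ⟨g * x * g⁻¹, hx⟩ : Q) : Ω) = h * ((a x : Q) : Ω) * h⁻¹
    rw [← h1]
    show _ = ((a (conjAut Q ⟨g, hg.2⟩ (a⁻¹ (a x))) : Q) : Ω)
    rw [MulAut.inv_apply_self]
    rfl
  have hψ' := restrict_mem F hψ hNle
  set ψ' : (normalizerIn S Q : Subgroup Ω) →* Ω := ψ.comp (Subgroup.inclusion hNle) with hψ'def
  have hQN : Q ≤ normalizerIn S Q := self_le_normalizerIn' hQS
  have hψ'e : ∀ x : Q, ψ' ⟨x, hQN x.2⟩ = ((a x : Q) : Ω) := by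
    intro x
    exact hψe x x.2 (hNle (hQN x.2))
  have hfinN : Finite (normalizerIn S Q) := finite_normalizerIn Q
  have hfinQ : Finite Q := finite_of_le hQS
  have hψ'N : ∀ n : normalizerIn S Q, ψ' n ∈ normalizerIn S Q := by
    intro n
    refine ⟨hom_mem F hψ' n, ?_⟩
    have : Finite ((Q : Set Ω)) := hfinQ
    apply Subgroup.mem_normalizer_fintype
    intro y hy
    obtain ⟨x, rfl⟩ : ∃ x : Q, ((a x : Q) : Ω) = y := ⟨a⁻¹ ⟨y, hy⟩, by
      rw [MulAut.apply_inv_self]⟩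
    rw [← hψ'e x, ← map_inv, ← map_mul, ← map_mul]
    have hmem : (n : Ω) * x * (n : Ω)⁻¹ ∈ Q := conj_mem_of_mem_normalizer n.2.2 x.2
    have : n * ⟨x, hQN x.2⟩ * n⁻¹ = (⟨(⟨_, hmem⟩ : Q), hQN hmem⟩ : normalizerIn S Q) :=
      Subtype.ext rfl
    rw [this, hψ'e]
    exact (a _).2
  have hψ'r : ψ'.range = normalizerIn S Q := by
    have hle : ψ'.range ≤ normalizerIn S Q := by
      rintro _ ⟨n, rfl⟩
      exact hψ'N n
    apply Subgroup.eq_of_le_of_card_ge hle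
    rw [Nat.card_congr (MonoidHom.ofInjective (F.injective_of_mem hψ')).toEquiv.symm]
  obtain ⟨b, hb, hbe⟩ := exists_aut_of_hom F hψ' hψ'r
  refine ⟨b, hb, fun x => ?_⟩
  rw [hbe]
  exact hψ'e x

end Cfsg.Agent.Lib.Helper9
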