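import Mathlib

set_option autoImplicit false

/-! Scott's lemma for three operators with product one. -/

namespace Cfsg.Agent.Lib.Helper9.Ree

open Module LinearMap

variable {K V : Type*} [Field K] [AddCommGroup V] [Module K V] [FiniteDimensional K V]

/-- Scott's lemma for three operators with product one -/
theorem scott (A B C : Module.End K V) (h : A * B * C = 1) :
    (finrank K V - finrank K ↥(ker (1 - A) ⊓ ker (1 - B) ⊓ ker (1 - C)))
      + finrank K ↥(range (1 - A) ⊔ range (1 - B) ⊔ range (1 - C))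
      ≤ finrank K ↥(range (1 - A)) + finrank K ↥(range (1 - B)) +
        finrank K ↥(range (1 - C)) := by
  let δ : (↥(range (1 - A)) × ↥(range (1 - B)) × ↥(range (1 - C))) →ₗ[K] V :=
    (range (1 - A)).subtype ∘ₗ LinearMap.fst K _ _ +
    A ∘ₗ (range (1 - B)).subtype ∘ₗ LinearMap.fst K _ _ ∘ₗ LinearMap.snd K _ _ +
    (A * B) ∘ₗ (range (1 - C)).subtype ∘ₗ LinearMap.snd K _ _ ∘ₗ LinearMap.snd K _ _
  let β : V →ₗ[K] (↥(range (1 - A)) × ↥(range (1 - B)) × ↥(range (1 - C))) :=
    (1 - A).rangeRestrict.prod ((1 - B).rangeRestrict.prod (1 - C).rangeRestrict)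
  have hδ : ∀ u : ↥(range (1 - A)) × ↥(range (1 - B)) × ↥(range (1 - C)),
      δ u = (u.1 : V) + A (u.2.1 : V) + A (B (u.2.2 : V)) := fun u => rfl
  have hβ : ∀ v : V, β v = (⟨(1 - A) v, mem_range_self _ v⟩, ⟨(1 - B) v, mem_range_self _ v⟩,
      ⟨(1 - C) v, mem_range_self _ v⟩) := fun v => rfl
  have hABC : ∀ v : V, A (B (C v)) = v := by
    intro v
    have := congrArg (fun T : Module.End K V => T v) h
    simpa [Module.End.mul_apply] using this
  -- the composite vanishes
  have hcomp : range β ≤ ker δ := by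
    rintro _ ⟨v, rfl⟩
    rw [mem_ker, hδ, hβ]
    simp only [LinearMap.sub_apply, Module.End.one_apply, map_sub, hABC]
    abel
  -- the kernel of β
  have hker : ker β = ker (1 - A) ⊓ ker (1 - B) ⊓ ker (1 - C) := by
    ext v
    simp only [mem_ker, Submodule.mem_inf, hβ, Prod.mk_eq_zero, Submodule.mk_eq_zero]
    tauto
  -- the range of δ
  have hrange : range (1 - A) ⊔ range (1 - B) ⊔ range (1 - C) ≤ range δ := by
    have hA : range (1 - A) ≤ range δ := by
      rintro _ ⟨v, rfl⟩
      exact ⟨(⟨(1 - A) v, mem_range_self _ v⟩, 0, 0), by simp [hδ]⟩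
    have hB : range (1 - B) ≤ range δ := by
      rintro _ ⟨v, rfl⟩
      have h1 : A ((1 - B) v) ∈ range δ :=
        ⟨(0, ⟨(1 - B) v, mem_range_self _ v⟩, 0), by simp [hδ]⟩
      have h2 : (1 - A) ((1 - B) v) ∈ range δ := hA (mem_range_self _ _)
      have h3 : (1 - B) v = A ((1 - B) v) + (1 - A) ((1 - B) v) := by
        simp only [LinearMap.sub_apply, Module.End.one_apply, map_sub]
        abel
      rw [h3]
      exact (range δ).add_mem h1 h2
    have hC : range (1 - C) ≤ range δ := by
      rintro _ ⟨v, rfl⟩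
      have h1 : A (B ((1 - C) v)) ∈ range δ :=
        ⟨(0, 0, ⟨(1 - C) v, mem_range_self _ v⟩), by simp [hδ]⟩
      have h2 : (1 - A) ((1 - C) v) ∈ range δ := hA (mem_range_self _ _)
      have h3 : (1 - B) ((1 - C) v) ∈ range δ := hB (mem_range_self _ _)
      have h4 : A ((1 - B) ((1 - C) v)) ∈ range δ := by
        have h5 : (1 - A) ((1 - B) ((1 - C) v)) ∈ range δ := hA (mem_range_self _ _)
        have h6 : A ((1 - B) ((1 - C) v)) =
            (1 - B) ((1 - C) v) - (1 - A) ((1 - B) ((1 - C) v)) := by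
          simp only [LinearMap.sub_apply, Module.End.one_apply, map_sub]
          abel
        rw [h6]
        exact (range δ).sub_mem h3 h5
      have h7 : (1 - C) v = A (B ((1 - C) v)) + (1 - A) ((1 - C) v) +
          A ((1 - B) ((1 - C) v)) := by
        simp only [LinearMap.sub_apply, Module.End.one_apply, map_sub]
        abel
      rw [h7]
      exact (range δ).add_mem ((range δ).add_mem h1 h2) h4
    exact sup_le (sup_le hA hB) hC
  -- dimension count
  have e1 := LinearMap.finrank_range_add_finrank_ker δ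
  have e2 := LinearMap.finrank_range_add_finrank_ker β
  have e3 : finrank K (↥(range (1 - A)) × ↥(range (1 - B)) × ↥(range (1 - C))) =
      finrank K ↥(range (1 - A)) + (finrank K ↥(range (1 - B)) + finrank K ↥(range (1 - C))) := by
    rw [Module.finrank_prod, Module.finrank_prod]
  have e4 : finrank K ↥(range β) ≤ finrank K ↥(ker δ) := Submodule.finrank_mono hcomp
  have e5 : finrank K ↥(range (1 - A) ⊔ range (1 - B) ⊔ range (1 - C)) ≤ finrank K ↥(range δ) :=
    Submodule.finrank_mono hrange
  rw [hker] at e2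
  omega

end Cfsg.Agent.Lib.Helper9.Ree
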