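import Cfsg.Agent.Lib.Helper9.Ree1

set_option autoImplicit false
set_option linter.unusedVariables false
set_option linter.unusedSectionVars false

/-! The inequality of Ree for three permutations with product one, through Scott's lemma on the
permutation module, and the rank of `1 - g` for a permutation of prime order. -/

namespace Cfsg.Agent.Lib.Helper9.Ree

open Module LinearMap

variable {α : Type*} [Fintype α] [DecidableEq α]

theorem perm_inv_apply (u : Equiv.Perm α) (b : α) : u⁻¹ (u b) = b := u.symm_apply_apply b

theorem perm_apply_inv (u : Equiv.Perm α) (b : α) : u (u⁻¹ b) = b := u.apply_symm_apply b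

/-- the permutation operator on functions -/
noncomputable def L (g : Equiv.Perm α) : Module.End ℚ (α → ℚ) := LinearMap.funLeft ℚ ℚ ⇑g⁻¹

theorem L_apply (g : Equiv.Perm α) (f : α → ℚ) (a : α) : L g f a = f (g⁻¹ a) := rfl

theorem L_one : L (1 : Equiv.Perm α) = 1 := by
  apply LinearMap.ext
  intro f
  funext a
  rw [L_apply, inv_one, Equiv.Perm.one_apply, Module.End.one_apply]

theorem L_mul (g h : Equiv.Perm α) : L (g * h) = L g * L h := by
  apply LinearMap.ext
  intro f
  funext a
  rw [Module.End.mul_apply, L_apply, L_apply, L_apply, mul_inv_rev, Equiv.Perm.mul_apply]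

theorem L_pow (g : Equiv.Perm α) (i : ℕ) : L (g ^ i) = L g ^ i := by
  induction i with
  | zero => rw [pow_zero, pow_zero, L_one]
  | succ i ih => rw [pow_succ, pow_succ, L_mul, ih]

/-- the basis vectors -/
noncomputable def e (a : α) : α → ℚ := Pi.single a 1

theorem L_e (g : Equiv.Perm α) (a : α) : L g (e a) = e (g a) := by
  funext b
  rw [L_apply]
  unfold e
  by_cases h : b = g a
  · subst h
    rw [perm_inv_apply, Pi.single_eq_same, Pi.single_eq_same]
  · rw [Pi.single_eq_of_ne h, Pi.single_eq_of_ne]
    intro h2
    apply h
    rw [← h2, perm_apply_inv]

/-- the rank of `1 - g` on the permutation module -/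
noncomputable def rk (g : Equiv.Perm α) : ℕ := finrank ℚ ↥(range (1 - L g))

theorem mem_ker_iff (g : Equiv.Perm α) (f : α → ℚ) :
    f ∈ ker (1 - L g) ↔ ∀ a, f (g a) = f a := by
  rw [mem_ker, LinearMap.sub_apply, Module.End.one_apply, sub_eq_zero]
  constructor
  · intro h a
    have := congrFun h (g a)
    rw [L_apply, perm_inv_apply] at this
    exact this
  · intro h
    funext a
    rw [L_apply]
    have := h (g⁻¹ a)
    rw [perm_apply_inv] at this
    exact this

/-- Ree's inequality: `c` is a function whose fibres lie in orbits -/
theorem ree {m : ℕ} (x y z : Equiv.Perm α) (hxyz : x * y * z = 1) (c : α → Fin m)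
    (hc : ∀ a b, c a = c b → ∃ g ∈ Subgroup.closure {x, y}, g a = b) :
    2 * (Fintype.card α - m) ≤ rk x + rk y + rk z := by
  classical
  have hs := scott (L x) (L y) (L z) (by rw [← L_mul, ← L_mul, hxyz, L_one])
  have hV : finrank ℚ (α → ℚ) = Fintype.card α := Module.finrank_fintype_fun_eq_card ℚ
  have hz : z = (x * y)⁻¹ := by
    rw [eq_comm, inv_eq_iff_mul_eq_one]
    exact hxyz
  -- the fixed space
  have hfix : finrank ℚ ↥(ker (1 - L x) ⊓ ker (1 - L y) ⊓ ker (1 - L z)) ≤ m := by
    let ψ : ↥(ker (1 - L x) ⊓ ker (1 - L y) ⊓ ker (1 - L z)) →ₗ[ℚ] (Fin m → ℚ) :=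
      { toFun := fun f i => if h : ∃ a, c a = i then f.1 (Classical.choose h) else 0
        map_add' := by
          intro f f'
          funext i
          by_cases h : ∃ a, c a = i
          · simp [h]
          · simp [h]
        map_smul' := by
          intro r f
          funext i
          by_cases h : ∃ a, c a = i
          · simp [h]
          · simp [h] }
    have hinj : Function.Injective ψ := by
      rw [← LinearMap.ker_eq_bot, LinearMap.ker_eq_bot']
      intro f hf
      obtain ⟨f, hfm⟩ := f
      apply Subtype.ext
      show f = 0
      rw [Submodule.mem_inf, Submodule.mem_inf, mem_ker_iff, mem_ker_iff, mem_ker_iff] at hfm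
      obtain ⟨⟨hfx, hfy⟩, -⟩ := hfm
      have hinv : ∀ g ∈ Subgroup.closure {x, y}, ∀ a, f (g a) = f a := by
        intro g hg
        induction hg using Subgroup.closure_induction with
        | mem g hg =>
          rcases hg with rfl | rfl
          · exact hfx
          · exact hfy
        | one => intro a; rfl
        | mul g h _ _ ihg ihh => intro a; rw [Equiv.Perm.mul_apply, ihg, ihh]
        | inv g _ ih =>
          intro a
          have := ih (g⁻¹ a)
          rw [perm_apply_inv] at this
          exact this.symm
      funext a
      have hex : ∃ b, c b = c a := ⟨a, rfl⟩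
      have h1 := congrFun hf (c a)
      have h2 : ψ ⟨f, by
          rw [Submodule.mem_inf, Submodule.mem_inf, mem_ker_iff, mem_ker_iff, mem_ker_iff]
          refine ⟨⟨hfx, hfy⟩, ?_⟩
          rw [hz]
          exact hinv _ (Subgroup.inv_mem _ (Subgroup.mul_mem _
            (Subgroup.subset_closure (Or.inl rfl)) (Subgroup.subset_closure (Or.inr rfl))))⟩ (c a) =
          f (Classical.choose hex) := by
        show (if h : ∃ b, c b = c a then f (Classical.choose h) else 0) = _
        rw [dif_pos hex]
      rw [h2] at h1
      obtain ⟨g, hg, hga⟩ := hc _ _ (Classical.choose_spec hex)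
      have h3 : f a = f (Classical.choose hex) := (congrArg f hga.symm).trans (hinv g hg _)
      rw [h3, h1]
      rfl
    have := LinearMap.finrank_le_finrank_of_injective hinj
    rwa [Module.finrank_fintype_fun_eq_card, Fintype.card_fin] at this
  -- the span of the ranges
  have hW : Fintype.card α - m ≤
      finrank ℚ ↥(range (1 - L x) ⊔ range (1 - L y) ⊔ range (1 - L z)) := by
    set W := range (1 - L x) ⊔ range (1 - L y) ⊔ range (1 - L z) with hWdef
    have hWx : ∀ b, e b - e (x b) ∈ W := by
      intro b
      have h1 : (1 - L x) (e b) ∈ range (1 - L x) := mem_range_self _ _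
      rw [LinearMap.sub_apply, Module.End.one_apply, L_e] at h1
      exact (le_sup_left.trans le_sup_left : range (1 - L x) ≤ W) h1
    have hWy : ∀ b, e b - e (y b) ∈ W := by
      intro b
      have h1 : (1 - L y) (e b) ∈ range (1 - L y) := mem_range_self _ _
      rw [LinearMap.sub_apply, Module.End.one_apply, L_e] at h1
      exact (le_sup_right.trans le_sup_left : range (1 - L y) ≤ W) h1
    have hWg : ∀ g ∈ Subgroup.closure {x, y}, ∀ b, e b - e (g b) ∈ W := by
      intro g hg
      induction hg using Subgroup.closure_induction with
      | mem g hg =>
        rcases hg with rfl | rfl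
        · exact hWx
        · exact hWy
      | one => intro b; rw [Equiv.Perm.one_apply, sub_self]; exact W.zero_mem
      | mul g h _ _ ihg ihh =>
        intro b
        have : e b - e ((g * h) b) = (e b - e (h b)) + (e (h b) - e (g (h b))) := by
          rw [Equiv.Perm.mul_apply]; abel
        rw [this]
        exact W.add_mem (ihh b) (ihg (h b))
      | inv g _ ih =>
        intro b
        have := ih (g⁻¹ b)
        rw [perm_apply_inv] at this
        have h2 : e b - e (g⁻¹ b) = -(e (g⁻¹ b) - e b) := by abel
        rw [h2]
        exact W.neg_mem this
    have hWab : ∀ a b, c a = c b → e a - e b ∈ W := by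
      intro a b hab
      obtain ⟨g, hg, rfl⟩ := hc a b hab
      exact hWg g hg a
    -- the sums over the fibres
    let φ : (α → ℚ) →ₗ[ℚ] (Fin m → ℚ) :=
      { toFun := fun f i => ∑ a, if c a = i then f a else 0
        map_add' := by
          intro f f'
          funext i
          simp only [Pi.add_apply]
          rw [← Finset.sum_add_distrib]
          apply Finset.sum_congr rfl
          intro a _
          split_ifs <;> simp
        map_smul' := by
          intro r f
          funext i
          simp only [Pi.smul_apply, smul_eq_mul, RingHom.id_apply]
          rw [Finset.mul_sum]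
          apply Finset.sum_congr rfl
          intro a _
          split_ifs <;> simp }
    have hφ : ∀ f i, φ f i = ∑ a, if c a = i then f a else 0 := fun f i => rfl
    have hker : ker φ ≤ W := by
      intro f hf
      rw [mem_ker] at hf
      -- decompose along the fibres
      have hdec : f = ∑ i : Fin m, fun a => if c a = i then f a else 0 := by
        funext a
        rw [Finset.sum_apply]
        rw [Finset.sum_eq_single (c a)]
        · rw [if_pos rfl]
        · intro i _ hi
          rw [if_neg (Ne.symm hi)]
        · intro h; exact absurd (Finset.mem_univ _) h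
      rw [hdec]
      apply Submodule.sum_mem
      intro i _
      by_cases hex : ∃ a0, c a0 = i
      · obtain ⟨a0, ha0⟩ := hex
        have h1 : (fun a => if c a = i then f a else 0) =
            ∑ a, (if c a = i then f a else 0) • (e a - e a0) := by
          have h2 : ∑ a, (if c a = i then f a else 0) • (e a - e a0) =
              (∑ a, (if c a = i then f a else 0) • e a) -
                (∑ a, if c a = i then f a else 0) • e a0 := by
            rw [Finset.sum_smul, ← Finset.sum_sub_distrib]
            apply Finset.sum_congr rfl
            intro a _
            rw [smul_sub]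
          rw [h2]
          have h3 : (∑ a, if c a = i then f a else 0) = 0 := by
            have := congrFun hf i
            rw [hφ] at this
            exact this
          rw [h3, zero_smul, sub_zero]
          funext b
          rw [Finset.sum_apply]
          rw [Finset.sum_eq_single b]
          · unfold e
            rw [Pi.smul_apply, Pi.single_eq_same, smul_eq_mul, mul_one]
          · intro a _ hab
            unfold e
            rw [Pi.smul_apply, Pi.single_eq_of_ne (Ne.symm hab), smul_zero]
          · intro h; exact absurd (Finset.mem_univ _) h
        rw [h1]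
        apply Submodule.sum_mem
        intro a _
        by_cases hca : c a = i
        · rw [if_pos hca]
          exact W.smul_mem _ (hWab a a0 (hca.trans ha0.symm))
        · rw [if_neg hca, zero_smul]
          exact W.zero_mem
      · have h1 : (fun a => if c a = i then f a else 0) = 0 := by
          funext a
          rw [if_neg (fun h => hex ⟨a, h⟩)]
          rfl
        rw [h1]
        exact W.zero_mem
    have h1 := LinearMap.finrank_range_add_finrank_ker φ
    have h2 : finrank ℚ ↥(range φ) ≤ m := by
      have := Submodule.finrank_le (range φ)
      rwa [Module.finrank_fintype_fun_eq_card, Fintype.card_fin] at this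
    have h3 : finrank ℚ ↥(ker φ) ≤ finrank ℚ ↥W := Submodule.finrank_mono hker
    rw [hV] at h1
    omega
  unfold rk
  rw [hV] at hs
  omega

end Cfsg.Agent.Lib.Helper9.Ree
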