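import Cfsg.Agent.Lib.Helper9.Ree2

set_option autoImplicit false
set_option linter.unusedVariables false
set_option linter.unusedSectionVars false

/-! The rank of `1 - g` on the permutation module for a permutation of prime order. -/

namespace Cfsg.Agent.Lib.Helper9.Ree

open Module LinearMap

variable {α : Type*} [Fintype α] [DecidableEq α]

theorem fixedPoints_inv (h : Equiv.Perm α) :
    Function.fixedPoints ⇑h⁻¹ = Function.fixedPoints ⇑h := by
  ext a
  rw [Function.mem_fixedPoints, Function.mem_fixedPoints, Function.IsFixedPt, Function.IsFixedPt]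
  constructor
  · intro h1
    have := congrArg h h1
    rw [perm_apply_inv] at this
    exact this.symm
  · intro h1
    have := congrArg (⇑h⁻¹) h1
    rw [perm_inv_apply] at this
    exact this.symm

theorem trace_L (h : Equiv.Perm α) :
    LinearMap.trace ℚ (α → ℚ) (L h) = ((Function.fixedPoints ⇑h).ncard : ℚ) := by
  have h1 : L h = Matrix.toLin' (Equiv.Perm.permMatrix ℚ h⁻¹) := by
    apply LinearMap.ext
    intro f
    rw [Matrix.toLin'_apply, Matrix.permMatrix_mulVec]
    rfl
  rw [h1, Matrix.trace_toLin'_eq, Matrix.trace_permutation, fixedPoints_inv]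

theorem fixed_pow (g : Equiv.Perm α) (a : α) (h : g a = a) (i : ℕ) : (g ^ i) a = a := by
  induction i with
  | zero => rfl
  | succ i ih => rw [pow_succ, Equiv.Perm.mul_apply, h, ih]

theorem fixedPoints_pow (g : Equiv.Perm α) (p : ℕ) (hp : p.Prime) (hg : g ^ p = 1) (i : ℕ)
    (hi : ¬ p ∣ i) : Function.fixedPoints ⇑(g ^ i) = Function.fixedPoints ⇑g := by
  ext a
  rw [Function.mem_fixedPoints, Function.mem_fixedPoints, Function.IsFixedPt, Function.IsFixedPt]
  constructor
  · intro h1
    have hcop : Nat.Coprime i p := ((Nat.Prime.coprime_iff_not_dvd hp).mpr hi).symm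
    obtain ⟨j, -, hj⟩ := Nat.exists_mul_mod_eq_one_of_coprime hcop hp.one_lt
    have h2 := fixed_pow (g ^ i) a h1 j
    rw [← pow_mul, pow_eq_pow_mod (i * j) hg, hj, pow_one] at h2
    exact h2
  · intro h1
    exact fixed_pow g a h1 i

/-- the rank of `1 - g` for `g` of prime order -/
theorem rk_prime (g : Equiv.Perm α) (p : ℕ) (hp : p.Prime) (hg : g ^ p = 1) :
    p * rk g = (p - 1) * (Fintype.card α - (Function.fixedPoints ⇑g).ncard) := by
  classical
  have hp0 : (p : ℚ) ≠ 0 := Nat.cast_ne_zero.mpr hp.ne_zero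
  let P : Module.End ℚ (α → ℚ) := (p : ℚ)⁻¹ • ∑ i ∈ Finset.range p, L (g ^ i)
  have hproj : LinearMap.IsProj (ker (1 - L g)) P := by
    constructor
    · intro v
      rw [mem_ker]
      have h1 : (1 - L g) * ∑ i ∈ Finset.range p, L (g ^ i) = 0 := by
        rw [Finset.mul_sum]
        have h2 : ∀ i ∈ Finset.range p, (1 - L g) * L (g ^ i) = L (g ^ i) - L (g ^ (i + 1)) := by
          intro i _
          rw [sub_mul, one_mul, ← L_mul, pow_succ']
        rw [Finset.sum_congr rfl h2, Finset.sum_range_sub', pow_zero, hg, sub_self]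
      have h3 : (1 - L g) (P v) = ((1 - L g) * P) v := rfl
      rw [h3]
      have h4 : (1 - L g) * P = 0 := by
        show (1 - L g) * ((p : ℚ)⁻¹ • ∑ i ∈ Finset.range p, L (g ^ i)) = 0
        rw [mul_smul_comm, h1, smul_zero]
      rw [h4]
      rfl
    · intro v hv
      have h1 : ∀ i : ℕ, L (g ^ i) v = v := by
        intro i
        rw [mem_ker_iff] at hv
        funext a
        rw [L_apply]
        have h2 : ∀ j : ℕ, ∀ b, v ((g ^ j) b) = v b := by
          intro j
          induction j with
          | zero => intro b; rfl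
          | succ j ih => intro b; rw [pow_succ, Equiv.Perm.mul_apply, ih, hv]
        have := h2 i ((g ^ i)⁻¹ a)
        rw [perm_apply_inv] at this
        exact this.symm
      show ((p : ℚ)⁻¹ • ∑ i ∈ Finset.range p, L (g ^ i)) v = v
      rw [LinearMap.smul_apply, LinearMap.sum_apply, Finset.sum_congr rfl (fun i _ => h1 i),
        Finset.sum_const, Finset.card_range, ← Nat.cast_smul_eq_nsmul ℚ, smul_smul,
        inv_mul_cancel₀ hp0, one_smul]
  have htr := hproj.trace
  have hsum : ∑ i ∈ Finset.range p, ((Function.fixedPoints ⇑(g ^ i)).ncard : ℚ) =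
      (Fintype.card α : ℚ) + ((p : ℚ) - 1) * ((Function.fixedPoints ⇑g).ncard : ℚ) := by
    obtain ⟨q, rfl⟩ : ∃ q, p = q + 1 := ⟨p - 1, (Nat.sub_add_cancel hp.one_le).symm⟩
    rw [Finset.sum_range_succ']
    have h1 : ∀ i ∈ Finset.range q, ((Function.fixedPoints ⇑(g ^ (i + 1))).ncard : ℚ) =
        ((Function.fixedPoints ⇑g).ncard : ℚ) := by
      intro i hi
      rw [Finset.mem_range] at hi
      rw [fixedPoints_pow g (q + 1) hp hg (i + 1) (by
        intro hd
        have := Nat.le_of_dvd (by omega) hd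
        omega)]
    rw [Finset.sum_congr rfl h1, Finset.sum_const, Finset.card_range, pow_zero]
    have h2 : (Function.fixedPoints ⇑(1 : Equiv.Perm α)).ncard = Fintype.card α := by
      have : Function.fixedPoints ⇑(1 : Equiv.Perm α) = Set.univ := by
        ext a
        simp [Function.mem_fixedPoints_iff]
      rw [this, Set.ncard_univ, Nat.card_eq_fintype_card]
    rw [h2]
    push_cast
    ring
  have htr2 : LinearMap.trace ℚ (α → ℚ) P =
      (p : ℚ)⁻¹ * ((Fintype.card α : ℚ) + ((p : ℚ) - 1) * ((Function.fixedPoints ⇑g).ncard : ℚ)) := by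
    show LinearMap.trace ℚ (α → ℚ) ((p : ℚ)⁻¹ • ∑ i ∈ Finset.range p, L (g ^ i)) = _
    rw [map_smul, map_sum, Finset.sum_congr rfl (fun i _ => trace_L (g ^ i)), hsum, smul_eq_mul]
  rw [htr2] at htr
  have e1 : (p : ℚ) * (finrank ℚ ↥(ker (1 - L g)) : ℚ) =
      (Fintype.card α : ℚ) + ((p : ℚ) - 1) * ((Function.fixedPoints ⇑g).ncard : ℚ) := by
    rw [← htr]
    field_simp
  have e2 := LinearMap.finrank_range_add_finrank_ker (1 - L g)
  rw [Module.finrank_fintype_fun_eq_card] at e2
  have hle : (Function.fixedPoints ⇑g).ncard ≤ Fintype.card α := by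
    have := Set.ncard_le_card (Function.fixedPoints ⇑g)
    rwa [Nat.card_eq_fintype_card] at this
  have e2' : ((rk g : ℕ) : ℚ) + (finrank ℚ ↥(ker (1 - L g)) : ℚ) = (Fintype.card α : ℚ) := by
    unfold rk
    exact_mod_cast e2
  have goalQ : ((p * rk g : ℕ) : ℚ) =
      (((p - 1) * (Fintype.card α - (Function.fixedPoints ⇑g).ncard) : ℕ) : ℚ) := by
    rw [Nat.cast_mul, Nat.cast_mul, Nat.cast_sub hp.one_le, Nat.cast_sub hle, Nat.cast_one]
    linear_combination (p : ℚ) * e2' - e1
  exact_mod_cast goalQ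

end Cfsg.Agent.Lib.Helper9.Ree
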