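import Mathlib
import Cfsg.Prelude
import Cfsg.Agent.Lib.Helper3.TT19

set_option maxHeartbeats 1600000
set_option autoImplicit false
set_option linter.unusedVariables false
set_option linter.unusedSimpArgs false
set_option linter.unusedSectionVars false
set_option linter.style.longLine false

namespace Cfsg.Agent.Lib.Helper9.Rk3

open Cfsg Cfsg.Agent.Lib.Helper3.TT

variable {G : Type*} [Group G] {D : Set G}

/-- common commuting neighbours of `d` and `c` in `D` -/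
def Cn (D : Set G) (d c : G) : Set G := {u : G | u ∈ D ∧ u ≠ d ∧ u ≠ c ∧ Commute d u ∧ Commute c u}

theorem commute_conj_iff {g a b : G} : Commute (g * a * g⁻¹) (g * b * g⁻¹) ↔ Commute a b := by
  constructor
  · intro h
    have h1 : g * (a * b) * g⁻¹ = g * (b * a) * g⁻¹ := by
      calc g * (a * b) * g⁻¹ = (g * a * g⁻¹) * (g * b * g⁻¹) := by group
        _ = (g * b * g⁻¹) * (g * a * g⁻¹) := h.eq
        _ = g * (b * a) * g⁻¹ := by group
    have h2 : a * b = b * a := by simpa using h1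
    exact h2
  · intro h
    show g * a * g⁻¹ * (g * b * g⁻¹) = g * b * g⁻¹ * (g * a * g⁻¹)
    calc g * a * g⁻¹ * (g * b * g⁻¹) = g * (a * b) * g⁻¹ := by group
      _ = g * (b * a) * g⁻¹ := by rw [h.eq]
      _ = g * b * g⁻¹ * (g * a * g⁻¹) := by group

theorem conj_ne_iff {g a b : G} : g * a * g⁻¹ ≠ g * b * g⁻¹ ↔ a ≠ b := by
  constructor
  · intro h hab; exact h (by rw [hab])
  · intro h hab; apply h; simpa using hab

theorem image_Cn (h : TSet D) (g d c : G) :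
    (fun u => g * u * g⁻¹) '' (Cn D d c) = Cn D (g * d * g⁻¹) (g * c * g⁻¹) := by
  ext v
  constructor
  · rintro ⟨u, hu, rfl⟩
    exact ⟨h.conj g u hu.1, conj_ne_iff.mpr hu.2.1, conj_ne_iff.mpr hu.2.2.1,
      commute_conj_iff.mpr hu.2.2.2.1, commute_conj_iff.mpr hu.2.2.2.2⟩
  · intro hv
    refine ⟨g⁻¹ * v * g, ?_, by group⟩
    have e : v = g * (g⁻¹ * v * g) * g⁻¹ := by group
    refine ⟨h.conj' hv.1 g, ?_, ?_, ?_, ?_⟩
    · have := hv.2.1; rw [e] at this; exact conj_ne_iff.mp this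
    · have := hv.2.2.1; rw [e] at this; exact conj_ne_iff.mp this
    · have := hv.2.2.2.1; rw [e] at this; exact commute_conj_iff.mp this
    · have := hv.2.2.2.2; rw [e] at this; exact commute_conj_iff.mp this

theorem ncard_Cn_conj [Finite G] (h : TSet D) (g d c : G) :
    (Cn D (g * d * g⁻¹) (g * c * g⁻¹)).ncard = (Cn D d c).ncard := by
  rw [← image_Cn h g d c]
  apply Set.ncard_image_of_injective
  intro a b hab
  simpa using hab

/-- `μ` is constant: all non-commuting pairs have the same number of common neighbours. -/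
theorem exists_mu [Finite G] (hG : IsThreeTranspositionGroup D)
    (hprim : IsPrimitiveUnderConj D) (hw : ∃ a ∈ D, ∃ b ∈ D, a ≠ b ∧ Commute a b) :
    ∃ mu : ℕ, ∀ d ∈ D, ∀ c ∈ D, ¬ Commute d c → (Cn D d c).ncard = mu := by
  have h := TSet.of_group hG
  by_cases hex : ∃ d ∈ D, ∃ c ∈ D, ¬ Commute d c
  · obtain ⟨d0, hd0, c0, hc0, hdc0⟩ := hex
    refine ⟨(Cn D d0 c0).ncard, ?_⟩
    intro d hd c hc hdc
    obtain ⟨g, hg1, hg2⟩ := pair_trans_A h hG hprim hw ⟨d0, hd0⟩ ⟨c0, hc0⟩ ⟨d, hd⟩ ⟨c, hc⟩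
      (fun e => hdc0 e) (fun e => hdc e)
    have e1 : g * d0 * g⁻¹ = d := congrArg Subtype.val hg1
    have e2 : g * c0 * g⁻¹ = c := congrArg Subtype.val hg2
    rw [← e1, ← e2]
    exact ncard_Cn_conj h g d0 c0
  · push Not at hex
    exact ⟨0, fun d hd c hc hdc => absurd (hex d hd c hc) hdc⟩

/-- `λ` is constant. -/
theorem exists_lam [Finite G] (hG : IsThreeTranspositionGroup D)
    (hprim : IsPrimitiveUnderConj D) (hw : ∃ a ∈ D, ∃ b ∈ D, a ≠ b ∧ Commute a b) :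
    ∃ lam : ℕ, ∀ d ∈ D, ∀ c ∈ D, d ≠ c → Commute d c → (Cn D d c).ncard = lam := by
  have h := TSet.of_group hG
  obtain ⟨d0, hd0, c0, hc0, hne0, hdc0⟩ := hw
  refine ⟨(Cn D d0 c0).ncard, ?_⟩
  intro d hd c hc hne hdc
  obtain ⟨g, hg1, hg2⟩ := pair_trans_D h hG hprim ⟨d0, hd0, c0, hc0, hne0, hdc0⟩ ⟨d0, hd0⟩ ⟨c0, hc0⟩ ⟨d, hd⟩ ⟨c, hc⟩
    (fun e => hne0 (congrArg Subtype.val e)) (fun e => e hdc0.eq)
    (fun e => hne (congrArg Subtype.val e)) (fun e => e hdc.eq)
  have e1 : g * d0 * g⁻¹ = d := congrArg Subtype.val hg1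
  have e2 : g * c0 * g⁻¹ = c := congrArg Subtype.val hg2
  rw [← e1, ← e2]
  exact ncard_Cn_conj h g d0 c0

/-- the commuting neighbours -/
def Nb (D : Set G) (d : G) : Set G := {y : G | y ∈ D ∧ y ≠ d ∧ Commute d y}

theorem image_Nb (h : TSet D) (g d : G) :
    (fun u => g * u * g⁻¹) '' (Nb D d) = Nb D (g * d * g⁻¹) := by
  ext v
  constructor
  · rintro ⟨u, hu, rfl⟩
    exact ⟨h.conj g u hu.1, conj_ne_iff.mpr hu.2.1, commute_conj_iff.mpr hu.2.2⟩
  · intro hv
    refine ⟨g⁻¹ * v * g, ?_, by group⟩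
    have e : v = g * (g⁻¹ * v * g) * g⁻¹ := by group
    refine ⟨h.conj' hv.1 g, ?_, ?_⟩
    · have := hv.2.1; rw [e] at this; exact conj_ne_iff.mp this
    · have := hv.2.2; rw [e] at this; exact commute_conj_iff.mp this

/-- `k` is constant. -/
theorem exists_k [Finite G] (hG : IsThreeTranspositionGroup D) (hprim : IsPrimitiveUnderConj D) :
    ∃ k : ℕ, ∀ d ∈ D, (Nb D d).ncard = k := by
  have h := TSet.of_group hG
  obtain ⟨d0, hd0, -⟩ := hprim.2.1
  refine ⟨(Nb D d0).ncard, ?_⟩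
  intro d hd
  obtain ⟨g, hg⟩ := hprim.1 d0 hd0 d hd
  rw [← hg, ← image_Nb h g d0]
  apply Set.ncard_image_of_injective
  intro a b hab
  simpa using hab

end Cfsg.Agent.Lib.Helper9.Rk3
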