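import Mathlib
import Cfsg.Prelude.Def_Spor_Ru

/-!
Data for the Rudvalis lattice `ruLattice` (S1628): an explicit `ℤ[i]`-basis `Bv j = π^(ae j) • Wv j`
adapted to the `π`-adic filtration (`π = 1 + i`), the matrices of the monomial generators in this basis,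
coordinates of the generating table, and the parity-check code data.  All generated by computer; every
property used is re-verified in Lean by `decide`.
-/

set_option autoImplicit false

namespace Cfsg.Agent.Lib.Helper9.Ru

open Cfsg.Spor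

/-- Flattened index `4 n + t`. -/
def idx (p : RuIdx) : Fin 28 := ⟨4 * p.1.val + p.2.val, by omega⟩

/-- The prime `π = 1 + i` of `ℤ[i]`. -/
def piG : GaussianInt := ⟨1, 1⟩

/-- Rows: a `ℤ[i]`-basis of `ℤ[i]²⁸` adapted to the lattice. -/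
def Wm : Fin 28 → Fin 28 → GaussianInt := ![
  ![⟨-1, 0⟩, ⟨0, 0⟩, ⟨0, 0⟩, ⟨0, -1⟩, ⟨0, 0⟩, ⟨-1, 0⟩, ⟨0, 0⟩, ⟨1, 0⟩, ⟨0, 0⟩, ⟨0, 0⟩, ⟨-1, -1⟩, ⟨0, -2⟩, ⟨0, 1⟩, ⟨0, 0⟩, ⟨0, 0⟩, ⟨0, 1⟩, ⟨0, 0⟩, ⟨1, 1⟩, ⟨1, 0⟩, ⟨1, -2⟩, ⟨0, 1⟩, ⟨0, 1⟩, ⟨0, 2⟩, ⟨1, 1⟩, ⟨0, 1⟩, ⟨1, 1⟩, ⟨1, 0⟩, ⟨-2, -2⟩],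
  ![⟨0, 0⟩, ⟨-1, 0⟩, ⟨0, 0⟩, ⟨0, -1⟩, ⟨0, 0⟩, ⟨-1, 0⟩, ⟨-1, 0⟩, ⟨0, 0⟩, ⟨0, 0⟩, ⟨0, -1⟩, ⟨-1, -1⟩, ⟨1, 0⟩, ⟨0, 1⟩, ⟨-1, 0⟩, ⟨-1, 0⟩, ⟨0, -1⟩, ⟨0, -1⟩, ⟨1, 1⟩, ⟨0, 0⟩, ⟨-1, 0⟩, ⟨0, 0⟩, ⟨-1, -1⟩, ⟨0, -1⟩, ⟨2, 1⟩, ⟨0, 0⟩, ⟨1, -1⟩, ⟨1, 0⟩, ⟨-2, 1⟩],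
  ![⟨0, 0⟩, ⟨0, 0⟩, ⟨-1, 0⟩, ⟨0, -1⟩, ⟨0, 0⟩, ⟨0, 0⟩, ⟨-1, 0⟩, ⟨1, 0⟩, ⟨0, 0⟩, ⟨0, -1⟩, ⟨-1, -1⟩, ⟨0, 1⟩, ⟨0, 0⟩, ⟨0, 1⟩, ⟨0, -1⟩, ⟨0, 2⟩, ⟨0, 0⟩, ⟨0, 1⟩, ⟨1, 1⟩, ⟨1, 0⟩, ⟨1, 1⟩, ⟨1, -1⟩, ⟨1, 1⟩, ⟨2, 0⟩, ⟨0, 0⟩, ⟨-2, 1⟩, ⟨2, -1⟩, ⟨-1, 1⟩],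
  ![⟨0, 0⟩, ⟨0, 0⟩, ⟨0, 0⟩, ⟨1, 1⟩, ⟨0, 0⟩, ⟨-1, 0⟩, ⟨-1, 0⟩, ⟨1, 1⟩, ⟨0, 0⟩, ⟨0, 0⟩, ⟨-1, 0⟩, ⟨0, -1⟩, ⟨0, 0⟩, ⟨0, 0⟩, ⟨0, -1⟩, ⟨0, -1⟩, ⟨0, -1⟩, ⟨1, -1⟩, ⟨1, 0⟩, ⟨-2, 0⟩, ⟨1, 0⟩, ⟨-1, -1⟩, ⟨1, 1⟩, ⟨2, 1⟩, ⟨2, 0⟩, ⟨-2, -1⟩, ⟨-1, -1⟩, ⟨-1, 0⟩],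
  ![⟨0, 0⟩, ⟨0, 0⟩, ⟨0, 0⟩, ⟨0, 0⟩, ⟨1, 0⟩, ⟨-1, 0⟩, ⟨-1, 0⟩, ⟨0, 1⟩, ⟨0, 0⟩, ⟨0, 0⟩, ⟨-1, -1⟩, ⟨1, -1⟩, ⟨0, 0⟩, ⟨-1, 1⟩, ⟨0, 0⟩, ⟨1, 1⟩, ⟨0, -1⟩, ⟨1, 0⟩, ⟨1, 0⟩, ⟨1, -2⟩, ⟨1, 1⟩, ⟨0, 0⟩, ⟨1, 1⟩, ⟨0, -2⟩, ⟨2, 0⟩, ⟨1, -1⟩, ⟨2, 0⟩, ⟨-1, -1⟩],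
  ![⟨0, 0⟩, ⟨0, 0⟩, ⟨0, 0⟩, ⟨0, 0⟩, ⟨0, 0⟩, ⟨1, -1⟩, ⟨0, 0⟩, ⟨1, 1⟩, ⟨0, 0⟩, ⟨0, 0⟩, ⟨0, 0⟩, ⟨0, -2⟩, ⟨0, 1⟩, ⟨0, 1⟩, ⟨-1, 0⟩, ⟨0, -1⟩, ⟨0, 0⟩, ⟨0, 0⟩, ⟨1, 1⟩, ⟨1, 1⟩, ⟨0, 1⟩, ⟨-1, 0⟩, ⟨0, -1⟩, ⟨2, -1⟩, ⟨2, 0⟩, ⟨-2, -2⟩, ⟨0, 2⟩, ⟨-2, -2⟩],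
  ![⟨0, 0⟩, ⟨0, 0⟩, ⟨0, 0⟩, ⟨0, 0⟩, ⟨0, 0⟩, ⟨0, 1⟩, ⟨0, -1⟩, ⟨0, 0⟩, ⟨0, 0⟩, ⟨0, 0⟩, ⟨-1, 0⟩, ⟨1, 0⟩, ⟨0, 0⟩, ⟨0, 0⟩, ⟨0, -1⟩, ⟨1, 0⟩, ⟨0, 0⟩, ⟨0, -1⟩, ⟨0, 0⟩, ⟨-2, -1⟩, ⟨0, -1⟩, ⟨0, 0⟩, ⟨1, 1⟩, ⟨-1, 2⟩, ⟨-1, 1⟩, ⟨2, -1⟩, ⟨0, 0⟩, ⟨2, -1⟩],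
  ![⟨0, 0⟩, ⟨0, 0⟩, ⟨0, 0⟩, ⟨0, 0⟩, ⟨0, 0⟩, ⟨0, 0⟩, ⟨0, 0⟩, ⟨-2, 0⟩, ⟨0, 0⟩, ⟨0, 0⟩, ⟨-1, -1⟩, ⟨1, -1⟩, ⟨0, 0⟩, ⟨0, 0⟩, ⟨0, 0⟩, ⟨0, 2⟩, ⟨0, -1⟩, ⟨0, -1⟩, ⟨0, 1⟩, ⟨-1, 0⟩, ⟨1, 0⟩, ⟨0, 1⟩, ⟨0, 1⟩, ⟨2, 1⟩, ⟨1, 1⟩, ⟨-2, 0⟩, ⟨1, 1⟩, ⟨0, 0⟩],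
  ![⟨0, 0⟩, ⟨0, 0⟩, ⟨0, 0⟩, ⟨0, 0⟩, ⟨0, 0⟩, ⟨0, 0⟩, ⟨0, 0⟩, ⟨0, 0⟩, ⟨0, 1⟩, ⟨0, -1⟩, ⟨-1, 0⟩, ⟨0, 1⟩, ⟨0, 0⟩, ⟨0, 0⟩, ⟨0, 0⟩, ⟨0, 0⟩, ⟨0, -1⟩, ⟨-1, 0⟩, ⟨0, 1⟩, ⟨0, 1⟩, ⟨1, 0⟩, ⟨1, 0⟩, ⟨1, 0⟩, ⟨0, -1⟩, ⟨0, 1⟩, ⟨-1, 0⟩, ⟨-1, 0⟩, ⟨-1, 0⟩],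
  ![⟨0, 0⟩, ⟨0, 0⟩, ⟨0, 0⟩, ⟨0, 0⟩, ⟨0, 0⟩, ⟨0, 0⟩, ⟨0, 0⟩, ⟨0, 0⟩, ⟨0, 0⟩, ⟨1, 1⟩, ⟨0, 0⟩, ⟨1, -1⟩, ⟨0, 0⟩, ⟨0, 0⟩, ⟨0, 0⟩, ⟨0, 2⟩, ⟨0, -1⟩, ⟨0, 1⟩, ⟨1, 0⟩, ⟨-2, 1⟩, ⟨0, 0⟩, ⟨0, -2⟩, ⟨-1, 1⟩, ⟨-1, -1⟩, ⟨0, 1⟩, ⟨-1, 0⟩, ⟨2, -1⟩, ⟨0, -1⟩],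
  ![⟨0, 0⟩, ⟨0, 0⟩, ⟨0, 0⟩, ⟨0, 0⟩, ⟨0, 0⟩, ⟨0, 0⟩, ⟨0, 0⟩, ⟨0, 0⟩, ⟨0, 0⟩, ⟨0, 0⟩, ⟨0, -1⟩, ⟨-1, 0⟩, ⟨0, 0⟩, ⟨0, 0⟩, ⟨0, 0⟩, ⟨0, 0⟩, ⟨0, 0⟩, ⟨0, -1⟩, ⟨0, 0⟩, ⟨-1, 0⟩, ⟨0, 0⟩, ⟨-1, 0⟩, ⟨1, 0⟩, ⟨0, 0⟩, ⟨0, 0⟩, ⟨-1, 0⟩, ⟨0, 0⟩, ⟨-1, 0⟩],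
  ![⟨0, 0⟩, ⟨0, 0⟩, ⟨0, 0⟩, ⟨0, 0⟩, ⟨0, 0⟩, ⟨0, 0⟩, ⟨0, 0⟩, ⟨1, -1⟩, ⟨0, 0⟩, ⟨-1, 0⟩, ⟨1, 0⟩, ⟨1, 1⟩, ⟨0, 0⟩, ⟨0, 0⟩, ⟨0, 0⟩, ⟨-2, -2⟩, ⟨1, 1⟩, ⟨0, 0⟩, ⟨-1, 0⟩, ⟨0, -1⟩, ⟨0, 0⟩, ⟨0, 0⟩, ⟨0, -2⟩, ⟨0, 0⟩, ⟨-2, -1⟩, ⟨2, -1⟩, ⟨-1, 2⟩, ⟨0, 1⟩],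
  ![⟨0, 0⟩, ⟨0, 0⟩, ⟨0, 0⟩, ⟨0, 0⟩, ⟨0, 0⟩, ⟨0, 1⟩, ⟨0, 0⟩, ⟨0, -1⟩, ⟨0, 0⟩, ⟨-1, 0⟩, ⟨1, 0⟩, ⟨1, 3⟩, ⟨-1, 0⟩, ⟨0, 0⟩, ⟨0, 0⟩, ⟨-1, -2⟩, ⟨1, 1⟩, ⟨0, 0⟩, ⟨-2, 0⟩, ⟨0, -2⟩, ⟨-1, 0⟩, ⟨0, 0⟩, ⟨1, -1⟩, ⟨-2, 1⟩, ⟨-3, 0⟩, ⟨4, -2⟩, ⟨-2, 0⟩, ⟨2, 1⟩],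
  ![⟨0, 0⟩, ⟨0, 0⟩, ⟨0, 0⟩, ⟨0, 0⟩, ⟨0, 0⟩, ⟨0, 0⟩, ⟨0, 0⟩, ⟨0, 0⟩, ⟨0, 0⟩, ⟨0, 0⟩, ⟨0, 0⟩, ⟨0, 0⟩, ⟨0, 0⟩, ⟨-1, 0⟩, ⟨0, 0⟩, ⟨1, 0⟩, ⟨0, 0⟩, ⟨0, 0⟩, ⟨0, 0⟩, ⟨-1, 1⟩, ⟨0, 0⟩, ⟨0, 0⟩, ⟨0, 0⟩, ⟨0, 0⟩, ⟨0, -1⟩, ⟨-1, 0⟩, ⟨1, -1⟩, ⟨0, 0⟩],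
  ![⟨0, 0⟩, ⟨0, 0⟩, ⟨0, 0⟩, ⟨0, 0⟩, ⟨0, 0⟩, ⟨0, 0⟩, ⟨0, 0⟩, ⟨1, -1⟩, ⟨0, 0⟩, ⟨-1, 0⟩, ⟨1, 0⟩, ⟨0, 2⟩, ⟨0, 0⟩, ⟨0, 0⟩, ⟨0, -1⟩, ⟨-1, -2⟩, ⟨1, 1⟩, ⟨0, 0⟩, ⟨-1, 0⟩, ⟨1, -2⟩, ⟨0, 0⟩, ⟨0, 0⟩, ⟨0, -1⟩, ⟨0, 1⟩, ⟨-2, -1⟩, ⟨2, -1⟩, ⟨-1, 1⟩, ⟨1, 1⟩],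
  ![⟨0, 0⟩, ⟨0, 0⟩, ⟨0, 0⟩, ⟨0, 0⟩, ⟨0, 0⟩, ⟨0, 0⟩, ⟨0, 0⟩, ⟨1, -1⟩, ⟨0, 0⟩, ⟨-1, 0⟩, ⟨1, 0⟩, ⟨0, 2⟩, ⟨0, 0⟩, ⟨0, 0⟩, ⟨0, 0⟩, ⟨-3, -1⟩, ⟨1, 1⟩, ⟨0, -1⟩, ⟨-1, 0⟩, ⟨0, -2⟩, ⟨0, 0⟩, ⟨0, 0⟩, ⟨0, -1⟩, ⟨0, 1⟩, ⟨-2, -1⟩, ⟨1, -1⟩, ⟨-1, 1⟩, ⟨0, 1⟩],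
  ![⟨0, 0⟩, ⟨0, 0⟩, ⟨0, 0⟩, ⟨0, 0⟩, ⟨0, 0⟩, ⟨0, 0⟩, ⟨0, 0⟩, ⟨0, 0⟩, ⟨0, 0⟩, ⟨-1, 0⟩, ⟨0, 0⟩, ⟨0, 1⟩, ⟨0, 0⟩, ⟨0, 0⟩, ⟨0, 0⟩, ⟨-1, -1⟩, ⟨1, 0⟩, ⟨0, -1⟩, ⟨0, 0⟩, ⟨1, -1⟩, ⟨0, 0⟩, ⟨1, 1⟩, ⟨1, -1⟩, ⟨1, -1⟩, ⟨0, -1⟩, ⟨1, -1⟩, ⟨-1, 2⟩, ⟨0, 0⟩],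
  ![⟨0, 0⟩, ⟨0, 0⟩, ⟨0, 0⟩, ⟨-1, 0⟩, ⟨0, 0⟩, ⟨0, -1⟩, ⟨1, 0⟩, ⟨-1, 0⟩, ⟨0, 0⟩, ⟨-1, 0⟩, ⟨1, -1⟩, ⟨0, 2⟩, ⟨0, 0⟩, ⟨0, 0⟩, ⟨1, 1⟩, ⟨-1, 0⟩, ⟨1, 1⟩, ⟨1, 1⟩, ⟨-1, 1⟩, ⟨3, -2⟩, ⟨0, 1⟩, ⟨2, 1⟩, ⟨-2, -1⟩, ⟨-1, -1⟩, ⟨-2, -1⟩, ⟨2, 1⟩, ⟨1, 1⟩, ⟨1, 2⟩],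
  ![⟨0, 0⟩, ⟨0, 0⟩, ⟨0, 0⟩, ⟨0, 0⟩, ⟨0, 0⟩, ⟨0, 0⟩, ⟨0, 0⟩, ⟨1, -1⟩, ⟨0, 0⟩, ⟨-1, 0⟩, ⟨1, 0⟩, ⟨0, 2⟩, ⟨0, 0⟩, ⟨0, 0⟩, ⟨0, 0⟩, ⟨-2, -2⟩, ⟨1, 1⟩, ⟨0, 0⟩, ⟨-1, 1⟩, ⟨1, -1⟩, ⟨0, 0⟩, ⟨0, 0⟩, ⟨0, -1⟩, ⟨0, 1⟩, ⟨-2, -1⟩, ⟨1, -1⟩, ⟨-2, 1⟩, ⟨1, 1⟩],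
  ![⟨0, 0⟩, ⟨0, 0⟩, ⟨0, 0⟩, ⟨0, 0⟩, ⟨0, 0⟩, ⟨0, 0⟩, ⟨0, 0⟩, ⟨0, 0⟩, ⟨0, 0⟩, ⟨0, 0⟩, ⟨0, 0⟩, ⟨0, 0⟩, ⟨0, 0⟩, ⟨0, 0⟩, ⟨0, 0⟩, ⟨0, 0⟩, ⟨0, 0⟩, ⟨0, 0⟩, ⟨0, 0⟩, ⟨-1, 0⟩, ⟨0, 0⟩, ⟨0, 0⟩, ⟨0, 0⟩, ⟨0, 0⟩, ⟨0, 0⟩, ⟨0, 0⟩, ⟨0, 0⟩, ⟨0, 0⟩],
  ![⟨0, 0⟩, ⟨0, 0⟩, ⟨0, 0⟩, ⟨-1, 0⟩, ⟨0, 0⟩, ⟨0, -1⟩, ⟨1, 0⟩, ⟨0, -1⟩, ⟨0, 0⟩, ⟨1, -1⟩, ⟨2, -1⟩, ⟨-1, 1⟩, ⟨0, 0⟩, ⟨0, 0⟩, ⟨1, 1⟩, ⟨1, -1⟩, ⟨0, 1⟩, ⟨2, 3⟩, ⟨-1, -1⟩, ⟨4, -1⟩, ⟨0, 2⟩, ⟨-1, 0⟩, ⟨-2, 0⟩, ⟨-5, 1⟩, ⟨0, 0⟩, ⟨2, 1⟩, ⟨-1, -1⟩, ⟨-1,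 1⟩],
  ![⟨0, 0⟩, ⟨0, 0⟩, ⟨0, 0⟩, ⟨-1, 0⟩, ⟨0, 0⟩, ⟨0, -1⟩, ⟨1, 0⟩, ⟨-1, 1⟩, ⟨0, 0⟩, ⟨1, -1⟩, ⟨1, 0⟩, ⟨-1, -1⟩, ⟨0, 0⟩, ⟨0, 0⟩, ⟨1, 1⟩, ⟨3, 0⟩, ⟨-1, 1⟩, ⟨2, 3⟩, ⟨0, 0⟩, ⟨4, 0⟩, ⟨0, 1⟩, ⟨0, -1⟩, ⟨-2, 2⟩, ⟨-3, 0⟩, ⟨1, 0⟩, ⟨2, 3⟩, ⟨0, -3⟩, ⟨0, 0⟩],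
  ![⟨0, 0⟩, ⟨0, 0⟩, ⟨0, 0⟩, ⟨0, 0⟩, ⟨0, 0⟩, ⟨0, 0⟩, ⟨0, 0⟩, ⟨0, 2⟩, ⟨0, 0⟩, ⟨1, -1⟩, ⟨-1, 1⟩, ⟨-2, -1⟩, ⟨0, 0⟩, ⟨0, 0⟩, ⟨0, 0⟩, ⟨4, -1⟩, ⟨-2, 0⟩, ⟨0, 1⟩, ⟨1, -1⟩, ⟨1, 1⟩, ⟨0, 0⟩, ⟨0, 0⟩, ⟨2, 2⟩, ⟨-1, 0⟩, ⟨3, -1⟩, ⟨-1, 3⟩, ⟨-1, -2⟩, ⟨-1, -1⟩],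
  ![⟨0, 0⟩, ⟨0, 0⟩, ⟨0, 0⟩, ⟨0, 0⟩, ⟨0, 0⟩, ⟨0, 0⟩, ⟨0, 0⟩, ⟨0, 0⟩, ⟨0, 0⟩, ⟨0, 0⟩, ⟨0, 0⟩, ⟨0, 0⟩, ⟨0, 0⟩, ⟨0, 0⟩, ⟨0, 0⟩, ⟨0, 0⟩, ⟨0, 0⟩, ⟨0, 0⟩, ⟨0, 0⟩, ⟨0, 0⟩, ⟨0, 0⟩, ⟨0, 0⟩, ⟨0, 0⟩, ⟨0, -1⟩, ⟨0, 0⟩, ⟨0, 0⟩, ⟨0, 0⟩, ⟨0, 0⟩],
  ![⟨0, 0⟩, ⟨0, 0⟩, ⟨0, 0⟩, ⟨-1, 0⟩, ⟨0, 0⟩, ⟨0, -1⟩, ⟨1, 0⟩, ⟨-1, 0⟩, ⟨0, 0⟩, ⟨-1, 0⟩, ⟨1, -1⟩, ⟨0, 2⟩, ⟨0, 0⟩, ⟨0, 0⟩, ⟨1, 1⟩, ⟨-1, 0⟩, ⟨1, 1⟩, ⟨0, 1⟩, ⟨-1, 1⟩, ⟨3, -3⟩, ⟨0, 1⟩, ⟨2, 1⟩, ⟨-2, -1⟩, ⟨-1, -1⟩, ⟨-1, -1⟩, ⟨2, 1⟩, ⟨0, 1⟩, ⟨1,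 2⟩],
  ![⟨0, 0⟩, ⟨0, 0⟩, ⟨0, 0⟩, ⟨0, 0⟩, ⟨0, 0⟩, ⟨0, 0⟩, ⟨0, 0⟩, ⟨0, 0⟩, ⟨0, 0⟩, ⟨0, 0⟩, ⟨0, 0⟩, ⟨0, 0⟩, ⟨0, 0⟩, ⟨0, 0⟩, ⟨0, 0⟩, ⟨0, 0⟩, ⟨0, 0⟩, ⟨0, 0⟩, ⟨0, 0⟩, ⟨0, 0⟩, ⟨0, 0⟩, ⟨0, 0⟩, ⟨0, 0⟩, ⟨0, 0⟩, ⟨0, 0⟩, ⟨-1, 0⟩, ⟨0, 0⟩, ⟨0, 0⟩],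
  ![⟨0, 0⟩, ⟨0, 0⟩, ⟨0, 0⟩, ⟨0, 0⟩, ⟨0, 0⟩, ⟨0, 0⟩, ⟨0, 0⟩, ⟨0, 0⟩, ⟨0, 0⟩, ⟨0, 0⟩, ⟨0, 0⟩, ⟨0, 0⟩, ⟨0, 0⟩, ⟨0, 0⟩, ⟨0, 0⟩, ⟨0, 0⟩, ⟨0, 0⟩, ⟨0, 0⟩, ⟨0, 0⟩, ⟨0, 0⟩, ⟨0, 0⟩, ⟨0, 0⟩, ⟨0, 0⟩, ⟨0, 0⟩, ⟨0, 0⟩, ⟨0, 0⟩, ⟨1, 0⟩, ⟨0, 0⟩],
  ![⟨0, 0⟩, ⟨0, 0⟩, ⟨0, 0⟩, ⟨0, 0⟩, ⟨0, 0⟩, ⟨0, 0⟩, ⟨0, 0⟩, ⟨0, 0⟩, ⟨0, 0⟩, ⟨0, 0⟩, ⟨0, 0⟩, ⟨0, 0⟩, ⟨0, 0⟩, ⟨0, 0⟩, ⟨0, 0⟩, ⟨0, 0⟩, ⟨0, 0⟩, ⟨0, 0⟩, ⟨0, 0⟩, ⟨0, 0⟩, ⟨0, 0⟩, ⟨0, 0⟩, ⟨0, 0⟩, ⟨0, 0⟩, ⟨0, 0⟩, ⟨0, 0⟩, ⟨0, 0⟩, ⟨-1, 0⟩]]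

/-- Rows: the lattice basis `π^(ae j) • Wm j`. -/
def Bm : Fin 28 → Fin 28 → GaussianInt := ![
  ![⟨-1, 0⟩, ⟨0, 0⟩, ⟨0, 0⟩, ⟨0, -1⟩, ⟨0, 0⟩, ⟨-1, 0⟩, ⟨0, 0⟩, ⟨1, 0⟩, ⟨0, 0⟩, ⟨0, 0⟩, ⟨-1, -1⟩, ⟨0, -2⟩, ⟨0, 1⟩, ⟨0, 0⟩, ⟨0, 0⟩, ⟨0, 1⟩, ⟨0, 0⟩, ⟨1, 1⟩, ⟨1, 0⟩, ⟨1, -2⟩, ⟨0, 1⟩, ⟨0, 1⟩, ⟨0, 2⟩, ⟨1, 1⟩, ⟨0, 1⟩, ⟨1, 1⟩, ⟨1, 0⟩, ⟨-2, -2⟩],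
  ![⟨0, 0⟩, ⟨-1, 0⟩, ⟨0, 0⟩, ⟨0, -1⟩, ⟨0, 0⟩, ⟨-1, 0⟩, ⟨-1, 0⟩, ⟨0, 0⟩, ⟨0, 0⟩, ⟨0, -1⟩, ⟨-1, -1⟩, ⟨1, 0⟩, ⟨0, 1⟩, ⟨-1, 0⟩, ⟨-1, 0⟩, ⟨0, -1⟩, ⟨0, -1⟩, ⟨1, 1⟩, ⟨0, 0⟩, ⟨-1, 0⟩, ⟨0, 0⟩, ⟨-1, -1⟩, ⟨0, -1⟩, ⟨2, 1⟩, ⟨0, 0⟩, ⟨1, -1⟩, ⟨1, 0⟩, ⟨-2, 1⟩],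
  ![⟨0, 0⟩, ⟨0, 0⟩, ⟨-1, 0⟩, ⟨0, -1⟩, ⟨0, 0⟩, ⟨0, 0⟩, ⟨-1, 0⟩, ⟨1, 0⟩, ⟨0, 0⟩, ⟨0, -1⟩, ⟨-1, -1⟩, ⟨0, 1⟩, ⟨0, 0⟩, ⟨0, 1⟩, ⟨0, -1⟩, ⟨0, 2⟩, ⟨0, 0⟩, ⟨0, 1⟩, ⟨1, 1⟩, ⟨1, 0⟩, ⟨1, 1⟩, ⟨1, -1⟩, ⟨1, 1⟩, ⟨2, 0⟩, ⟨0, 0⟩, ⟨-2, 1⟩, ⟨2, -1⟩, ⟨-1, 1⟩],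
  ![⟨0, 0⟩, ⟨0, 0⟩, ⟨0, 0⟩, ⟨1, 1⟩, ⟨0, 0⟩, ⟨-1, 0⟩, ⟨-1, 0⟩, ⟨1, 1⟩, ⟨0, 0⟩, ⟨0, 0⟩, ⟨-1, 0⟩, ⟨0, -1⟩, ⟨0, 0⟩, ⟨0, 0⟩, ⟨0, -1⟩, ⟨0, -1⟩, ⟨0, -1⟩, ⟨1, -1⟩, ⟨1, 0⟩, ⟨-2, 0⟩, ⟨1, 0⟩, ⟨-1, -1⟩, ⟨1, 1⟩, ⟨2, 1⟩, ⟨2, 0⟩, ⟨-2, -1⟩, ⟨-1, -1⟩, ⟨-1, 0⟩],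
  ![⟨0, 0⟩, ⟨0, 0⟩, ⟨0, 0⟩, ⟨0, 0⟩, ⟨1, 0⟩, ⟨-1, 0⟩, ⟨-1, 0⟩, ⟨0, 1⟩, ⟨0, 0⟩, ⟨0, 0⟩, ⟨-1, -1⟩, ⟨1, -1⟩, ⟨0, 0⟩, ⟨-1, 1⟩, ⟨0, 0⟩, ⟨1, 1⟩, ⟨0, -1⟩, ⟨1, 0⟩, ⟨1, 0⟩, ⟨1, -2⟩, ⟨1, 1⟩, ⟨0, 0⟩, ⟨1, 1⟩, ⟨0, -2⟩, ⟨2, 0⟩, ⟨1, -1⟩, ⟨2, 0⟩, ⟨-1, -1⟩],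
  ![⟨0, 0⟩, ⟨0, 0⟩, ⟨0, 0⟩, ⟨0, 0⟩, ⟨0, 0⟩, ⟨1, -1⟩, ⟨0, 0⟩, ⟨1, 1⟩, ⟨0, 0⟩, ⟨0, 0⟩, ⟨0, 0⟩, ⟨0, -2⟩, ⟨0, 1⟩, ⟨0, 1⟩, ⟨-1, 0⟩, ⟨0, -1⟩, ⟨0, 0⟩, ⟨0, 0⟩, ⟨1, 1⟩, ⟨1, 1⟩, ⟨0, 1⟩, ⟨-1, 0⟩, ⟨0, -1⟩, ⟨2, -1⟩, ⟨2, 0⟩, ⟨-2, -2⟩, ⟨0, 2⟩, ⟨-2, -2⟩],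
  ![⟨0, 0⟩, ⟨0, 0⟩, ⟨0, 0⟩, ⟨0, 0⟩, ⟨0, 0⟩, ⟨-1, 1⟩, ⟨1, -1⟩, ⟨0, 0⟩, ⟨0, 0⟩, ⟨0, 0⟩, ⟨-1, -1⟩, ⟨1, 1⟩, ⟨0, 0⟩, ⟨0, 0⟩, ⟨1, -1⟩, ⟨1, 1⟩, ⟨0, 0⟩, ⟨1, -1⟩, ⟨0, 0⟩, ⟨-1, -3⟩, ⟨1, -1⟩, ⟨0, 0⟩, ⟨0, 2⟩, ⟨-3, 1⟩, ⟨-2, 0⟩, ⟨3, 1⟩, ⟨0, 0⟩, ⟨3, 1⟩],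
  ![⟨0, 0⟩, ⟨0, 0⟩, ⟨0, 0⟩, ⟨0, 0⟩, ⟨0, 0⟩, ⟨0, 0⟩, ⟨0, 0⟩, ⟨-2, 0⟩, ⟨0, 0⟩, ⟨0, 0⟩, ⟨-1, -1⟩, ⟨1, -1⟩, ⟨0, 0⟩, ⟨0, 0⟩, ⟨0, 0⟩, ⟨0, 2⟩, ⟨0, -1⟩, ⟨0, -1⟩, ⟨0, 1⟩, ⟨-1, 0⟩, ⟨1, 0⟩, ⟨0, 1⟩, ⟨0, 1⟩, ⟨2, 1⟩, ⟨1, 1⟩, ⟨-2, 0⟩, ⟨1, 1⟩, ⟨0, 0⟩],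
  ![⟨0, 0⟩, ⟨0, 0⟩, ⟨0, 0⟩, ⟨0, 0⟩, ⟨0, 0⟩, ⟨0, 0⟩, ⟨0, 0⟩, ⟨0, 0⟩, ⟨0, 1⟩, ⟨0, -1⟩, ⟨-1, 0⟩, ⟨0, 1⟩, ⟨0, 0⟩, ⟨0, 0⟩, ⟨0, 0⟩, ⟨0, 0⟩, ⟨0, -1⟩, ⟨-1, 0⟩, ⟨0, 1⟩, ⟨0, 1⟩, ⟨1, 0⟩, ⟨1, 0⟩, ⟨1, 0⟩, ⟨0, -1⟩, ⟨0, 1⟩, ⟨-1, 0⟩, ⟨-1, 0⟩, ⟨-1, 0⟩],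
  ![⟨0, 0⟩, ⟨0, 0⟩, ⟨0, 0⟩, ⟨0, 0⟩, ⟨0, 0⟩, ⟨0, 0⟩, ⟨0, 0⟩, ⟨0, 0⟩, ⟨0, 0⟩, ⟨1, 1⟩, ⟨0, 0⟩, ⟨1, -1⟩, ⟨0, 0⟩, ⟨0, 0⟩, ⟨0, 0⟩, ⟨0, 2⟩, ⟨0, -1⟩, ⟨0, 1⟩, ⟨1, 0⟩, ⟨-2, 1⟩, ⟨0, 0⟩, ⟨0, -2⟩, ⟨-1, 1⟩, ⟨-1, -1⟩, ⟨0, 1⟩, ⟨-1, 0⟩, ⟨2, -1⟩, ⟨0, -1⟩],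
  ![⟨0, 0⟩, ⟨0, 0⟩, ⟨0, 0⟩, ⟨0, 0⟩, ⟨0, 0⟩, ⟨0, 0⟩, ⟨0, 0⟩, ⟨0, 0⟩, ⟨0, 0⟩, ⟨0, 0⟩, ⟨2, 0⟩, ⟨0, -2⟩, ⟨0, 0⟩, ⟨0, 0⟩, ⟨0, 0⟩, ⟨0, 0⟩, ⟨0, 0⟩, ⟨2, 0⟩, ⟨0, 0⟩, ⟨0, -2⟩, ⟨0, 0⟩, ⟨0, -2⟩, ⟨0, 2⟩, ⟨0, 0⟩, ⟨0, 0⟩, ⟨0, -2⟩, ⟨0, 0⟩, ⟨0, -2⟩],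
  ![⟨0, 0⟩, ⟨0, 0⟩, ⟨0, 0⟩, ⟨0, 0⟩, ⟨0, 0⟩, ⟨0, 0⟩, ⟨0, 0⟩, ⟨2, 2⟩, ⟨0, 0⟩, ⟨0, -2⟩, ⟨0, 2⟩, ⟨-2, 2⟩, ⟨0, 0⟩, ⟨0, 0⟩, ⟨0, 0⟩, ⟨4, -4⟩, ⟨-2, 2⟩, ⟨0, 0⟩, ⟨0, -2⟩, ⟨2, 0⟩, ⟨0, 0⟩, ⟨0, 0⟩, ⟨4, 0⟩, ⟨0, 0⟩, ⟨2, -4⟩, ⟨2, 4⟩, ⟨-4, -2⟩, ⟨-2, 0⟩],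
  ![⟨0, 0⟩, ⟨0, 0⟩, ⟨0, 0⟩, ⟨0, 0⟩, ⟨0, 0⟩, ⟨-2, 0⟩, ⟨0, 0⟩, ⟨2, 0⟩, ⟨0, 0⟩, ⟨0, -2⟩, ⟨0, 2⟩, ⟨-6, 2⟩, ⟨0, -2⟩, ⟨0, 0⟩, ⟨0, 0⟩, ⟨4, -2⟩, ⟨-2, 2⟩, ⟨0, 0⟩, ⟨0, -4⟩, ⟨4, 0⟩, ⟨0, -2⟩, ⟨0, 0⟩, ⟨2, 2⟩, ⟨-2, -4⟩, ⟨0, -6⟩, ⟨4, 8⟩, ⟨0, -4⟩, ⟨-2, 4⟩],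
  ![⟨0, 0⟩, ⟨0, 0⟩, ⟨0, 0⟩, ⟨0, 0⟩, ⟨0, 0⟩, ⟨0, 0⟩, ⟨0, 0⟩, ⟨0, 0⟩, ⟨0, 0⟩, ⟨0, 0⟩, ⟨0, 0⟩, ⟨0, 0⟩, ⟨0, 0⟩, ⟨0, -2⟩, ⟨0, 0⟩, ⟨0, 2⟩, ⟨0, 0⟩, ⟨0, 0⟩, ⟨0, 0⟩, ⟨-2, -2⟩, ⟨0, 0⟩, ⟨0, 0⟩, ⟨0, 0⟩, ⟨0, 0⟩, ⟨2, 0⟩, ⟨0, -2⟩, ⟨2, 2⟩, ⟨0, 0⟩],
  ![⟨0, 0⟩, ⟨0, 0⟩, ⟨0, 0⟩, ⟨0, 0⟩, ⟨0, 0⟩, ⟨0, 0⟩, ⟨0, 0⟩, ⟨2, 2⟩, ⟨0, 0⟩, ⟨0, -2⟩, ⟨0, 2⟩, ⟨-4, 0⟩, ⟨0, 0⟩, ⟨0, 0⟩, ⟨2, 0⟩, ⟨4, -2⟩, ⟨-2, 2⟩, ⟨0, 0⟩, ⟨0, -2⟩, ⟨4, 2⟩, ⟨0, 0⟩, ⟨0, 0⟩, ⟨2, 0⟩, ⟨-2, 0⟩, ⟨2, -4⟩, ⟨2, 4⟩, ⟨-2, -2⟩, ⟨-2, 2⟩],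
  ![⟨0, 0⟩, ⟨0, 0⟩, ⟨0, 0⟩, ⟨0, 0⟩, ⟨0, 0⟩, ⟨0, 0⟩, ⟨0, 0⟩, ⟨2, 2⟩, ⟨0, 0⟩, ⟨0, -2⟩, ⟨0, 2⟩, ⟨-4, 0⟩, ⟨0, 0⟩, ⟨0, 0⟩, ⟨0, 0⟩, ⟨2, -6⟩, ⟨-2, 2⟩, ⟨2, 0⟩, ⟨0, -2⟩, ⟨4, 0⟩, ⟨0, 0⟩, ⟨0, 0⟩, ⟨2, 0⟩, ⟨-2, 0⟩, ⟨2, -4⟩, ⟨2, 2⟩, ⟨-2, -2⟩, ⟨-2, 0⟩],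
  ![⟨0, 0⟩, ⟨0, 0⟩, ⟨0, 0⟩, ⟨0, 0⟩, ⟨0, 0⟩, ⟨0, 0⟩, ⟨0, 0⟩, ⟨0, 0⟩, ⟨0, 0⟩, ⟨0, -2⟩, ⟨0, 0⟩, ⟨-2, 0⟩, ⟨0, 0⟩, ⟨0, 0⟩, ⟨0, 0⟩, ⟨2, -2⟩, ⟨0, 2⟩, ⟨2, 0⟩, ⟨0, 0⟩, ⟨2, 2⟩, ⟨0, 0⟩, ⟨-2, 2⟩, ⟨2, 2⟩, ⟨2, 2⟩, ⟨2, 0⟩, ⟨2, 2⟩, ⟨-4, -2⟩, ⟨0, 0⟩],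
  ![⟨0, 0⟩, ⟨0, 0⟩, ⟨0, 0⟩, ⟨2, -2⟩, ⟨0, 0⟩, ⟨2, 2⟩, ⟨-2, 2⟩, ⟨2, -2⟩, ⟨0, 0⟩, ⟨2, -2⟩, ⟨0, 4⟩, ⟨-4, -4⟩, ⟨0, 0⟩, ⟨0, 0⟩, ⟨-4, 0⟩, ⟨2, -2⟩, ⟨-4, 0⟩, ⟨-4, 0⟩, ⟨0, -4⟩, ⟨-2, 10⟩, ⟨-2, -2⟩, ⟨-6, 2⟩, ⟨6, -2⟩, ⟨4, 0⟩, ⟨6, -2⟩, ⟨-6, 2⟩, ⟨-4, 0⟩, ⟨-6, -2⟩],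
  ![⟨0, 0⟩, ⟨0, 0⟩, ⟨0, 0⟩, ⟨0, 0⟩, ⟨0, 0⟩, ⟨0, 0⟩, ⟨0, 0⟩, ⟨2, 2⟩, ⟨0, 0⟩, ⟨0, -2⟩, ⟨0, 2⟩, ⟨-4, 0⟩, ⟨0, 0⟩, ⟨0, 0⟩, ⟨0, 0⟩, ⟨4, -4⟩, ⟨-2, 2⟩, ⟨0, 0⟩, ⟨-2, -2⟩, ⟨2, 2⟩, ⟨0, 0⟩, ⟨0, 0⟩, ⟨2, 0⟩, ⟨-2, 0⟩, ⟨2, -4⟩, ⟨2, 2⟩, ⟨-2, -4⟩, ⟨-2, 2⟩],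
  ![⟨0, 0⟩, ⟨0, 0⟩, ⟨0, 0⟩, ⟨0, 0⟩, ⟨0, 0⟩, ⟨0, 0⟩, ⟨0, 0⟩, ⟨0, 0⟩, ⟨0, 0⟩, ⟨0, 0⟩, ⟨0, 0⟩, ⟨0, 0⟩, ⟨0, 0⟩, ⟨0, 0⟩, ⟨0, 0⟩, ⟨0, 0⟩, ⟨0, 0⟩, ⟨0, 0⟩, ⟨0, 0⟩, ⟨4, 0⟩, ⟨0, 0⟩, ⟨0, 0⟩, ⟨0, 0⟩, ⟨0, 0⟩, ⟨0, 0⟩, ⟨0, 0⟩, ⟨0, 0⟩, ⟨0, 0⟩],
  ![⟨0, 0⟩, ⟨0, 0⟩, ⟨0, 0⟩, ⟨4, 0⟩, ⟨0, 0⟩, ⟨0, 4⟩, ⟨-4, 0⟩, ⟨0, 4⟩, ⟨0, 0⟩, ⟨-4, 4⟩, ⟨-8, 4⟩, ⟨4, -4⟩, ⟨0, 0⟩, ⟨0, 0⟩, ⟨-4, -4⟩, ⟨-4, 4⟩, ⟨0, -4⟩, ⟨-8, -12⟩, ⟨4, 4⟩, ⟨-16, 4⟩, ⟨0, -8⟩, ⟨4, 0⟩, ⟨8, 0⟩, ⟨20, -4⟩, ⟨0, 0⟩, ⟨-8, -4⟩, ⟨4, 4⟩, ⟨4,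 -4⟩],
  ![⟨0, 0⟩, ⟨0, 0⟩, ⟨0, 0⟩, ⟨4, 0⟩, ⟨0, 0⟩, ⟨0, 4⟩, ⟨-4, 0⟩, ⟨4, -4⟩, ⟨0, 0⟩, ⟨-4, 4⟩, ⟨-4, 0⟩, ⟨4, 4⟩, ⟨0, 0⟩, ⟨0, 0⟩, ⟨-4, -4⟩, ⟨-12, 0⟩, ⟨4, -4⟩, ⟨-8, -12⟩, ⟨0, 0⟩, ⟨-16, 0⟩, ⟨0, -4⟩, ⟨0, 4⟩, ⟨8, -8⟩, ⟨12, 0⟩, ⟨-4, 0⟩, ⟨-8, -12⟩, ⟨0, 12⟩, ⟨0, 0⟩],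
  ![⟨0, 0⟩, ⟨0, 0⟩, ⟨0, 0⟩, ⟨0, 0⟩, ⟨0, 0⟩, ⟨0, 0⟩, ⟨0, 0⟩, ⟨0, -8⟩, ⟨0, 0⟩, ⟨-4, 4⟩, ⟨4, -4⟩, ⟨8, 4⟩, ⟨0, 0⟩, ⟨0, 0⟩, ⟨0, 0⟩, ⟨-16, 4⟩, ⟨8, 0⟩, ⟨0, -4⟩, ⟨-4, 4⟩, ⟨-4, -4⟩, ⟨0, 0⟩, ⟨0, 0⟩, ⟨-8, -8⟩, ⟨4, 0⟩, ⟨-12, 4⟩, ⟨4, -12⟩, ⟨4, 8⟩, ⟨4, 4⟩],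
  ![⟨0, 0⟩, ⟨0, 0⟩, ⟨0, 0⟩, ⟨0, 0⟩, ⟨0, 0⟩, ⟨0, 0⟩, ⟨0, 0⟩, ⟨0, 0⟩, ⟨0, 0⟩, ⟨0, 0⟩, ⟨0, 0⟩, ⟨0, 0⟩, ⟨0, 0⟩, ⟨0, 0⟩, ⟨0, 0⟩, ⟨0, 0⟩, ⟨0, 0⟩, ⟨0, 0⟩, ⟨0, 0⟩, ⟨0, 0⟩, ⟨0, 0⟩, ⟨0, 0⟩, ⟨0, 0⟩, ⟨0, 4⟩, ⟨0, 0⟩, ⟨0, 0⟩, ⟨0, 0⟩, ⟨0, 0⟩],
  ![⟨0, 0⟩, ⟨0, 0⟩, ⟨0, 0⟩, ⟨4, 0⟩, ⟨0, 0⟩, ⟨0, 4⟩, ⟨-4, 0⟩, ⟨4, 0⟩, ⟨0, 0⟩, ⟨4, 0⟩, ⟨-4, 4⟩, ⟨0, -8⟩, ⟨0, 0⟩, ⟨0, 0⟩, ⟨-4, -4⟩, ⟨4, 0⟩, ⟨-4, -4⟩, ⟨0, -4⟩, ⟨4, -4⟩, ⟨-12, 12⟩, ⟨0, -4⟩, ⟨-8, -4⟩, ⟨8, 4⟩, ⟨4, 4⟩, ⟨4, 4⟩, ⟨-8, -4⟩, ⟨0, -4⟩, ⟨-4,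 -8⟩],
  ![⟨0, 0⟩, ⟨0, 0⟩, ⟨0, 0⟩, ⟨0, 0⟩, ⟨0, 0⟩, ⟨0, 0⟩, ⟨0, 0⟩, ⟨0, 0⟩, ⟨0, 0⟩, ⟨0, 0⟩, ⟨0, 0⟩, ⟨0, 0⟩, ⟨0, 0⟩, ⟨0, 0⟩, ⟨0, 0⟩, ⟨0, 0⟩, ⟨0, 0⟩, ⟨0, 0⟩, ⟨0, 0⟩, ⟨0, 0⟩, ⟨0, 0⟩, ⟨0, 0⟩, ⟨0, 0⟩, ⟨0, 0⟩, ⟨0, 0⟩, ⟨4, 0⟩, ⟨0, 0⟩, ⟨0, 0⟩],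
  ![⟨0, 0⟩, ⟨0, 0⟩, ⟨0, 0⟩, ⟨0, 0⟩, ⟨0, 0⟩, ⟨0, 0⟩, ⟨0, 0⟩, ⟨0, 0⟩, ⟨0, 0⟩, ⟨0, 0⟩, ⟨0, 0⟩, ⟨0, 0⟩, ⟨0, 0⟩, ⟨0, 0⟩, ⟨0, 0⟩, ⟨0, 0⟩, ⟨0, 0⟩, ⟨0, 0⟩, ⟨0, 0⟩, ⟨0, 0⟩, ⟨0, 0⟩, ⟨0, 0⟩, ⟨0, 0⟩, ⟨0, 0⟩, ⟨0, 0⟩, ⟨0, 0⟩, ⟨-4, 0⟩, ⟨0, 0⟩],
  ![⟨0, 0⟩, ⟨0, 0⟩, ⟨0, 0⟩, ⟨0, 0⟩, ⟨0, 0⟩, ⟨0, 0⟩, ⟨0, 0⟩, ⟨0, 0⟩, ⟨0, 0⟩, ⟨0, 0⟩, ⟨0, 0⟩, ⟨0, 0⟩, ⟨0, 0⟩, ⟨0, 0⟩, ⟨0, 0⟩, ⟨0, 0⟩, ⟨0, 0⟩, ⟨0, 0⟩, ⟨0, 0⟩, ⟨0, 0⟩, ⟨0, 0⟩, ⟨0, 0⟩, ⟨0, 0⟩, ⟨0, 0⟩, ⟨0, 0⟩, ⟨0, 0⟩, ⟨0, 0⟩, ⟨4, 0⟩]]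

/-- Exponents of the adapted basis. -/
def ae : Fin 28 → ℕ := ![0, 0, 0, 0, 0, 0, 1, 0, 0, 0, 2, 2, 2, 2, 2, 2, 2, 3, 2, 4, 4, 4, 4, 4, 4, 4, 4, 4]

/-- Matrix of `ruRj` in the basis `Bv`. -/
def cRj : Fin 28 → Fin 28 → GaussianInt := ![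
  ![⟨0, 0⟩, ⟨0, 1⟩, ⟨0, 1⟩, ⟨171, 111⟩, ⟨0, -1⟩, ⟨-4, -1⟩, ⟨140, -30⟩, ⟨47, -15⟩, ⟨0, 0⟩, ⟨91, 27⟩, ⟨18, -10⟩, ⟨20, -25⟩, ⟨-2, 0⟩, ⟨-2, -1⟩, ⟨-3, -1⟩, ⟨48, -48⟩, ⟨18, -9⟩, ⟨-5, -40⟩, ⟨-5, -1⟩, ⟨1, -12⟩, ⟨-3, -12⟩, ⟨6, -15⟩, ⟨1, -21⟩, ⟨21, -20⟩, ⟨4, -26⟩, ⟨35, -31⟩, ⟨29, -30⟩, ⟨17, -38⟩],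
  ![⟨0, 1⟩, ⟨0, 0⟩, ⟨0, 1⟩, ⟨89, 85⟩, ⟨0, -1⟩, ⟨-3, -1⟩, ⟨86, -3⟩, ⟨35, -5⟩, ⟨0, -1⟩, ⟨57, 23⟩, ⟨13, -2⟩, ⟨13, -11⟩, ⟨-1, 0⟩, ⟨-1, -1⟩, ⟨-2, -2⟩, ⟨34, -21⟩, ⟨14, -2⟩, ⟨0, -23⟩, ⟨-1, -2⟩, ⟨2, -9⟩, ⟨-1, -8⟩, ⟨7, -8⟩, ⟨3, -11⟩, ⟨14, -9⟩, ⟨4, -16⟩, ⟨24, -15⟩, ⟨22, -17⟩, ⟨13, -22⟩],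
  ![⟨0, 0⟩, ⟨0, 0⟩, ⟨0, 1⟩, ⟨94, -24⟩, ⟨0, 0⟩, ⟨0, 1⟩, ⟨35, -58⟩, ⟨14, -24⟩, ⟨0, -1⟩, ⟨38, -24⟩, ⟨3, -10⟩, ⟨-1, -16⟩, ⟨0, 0⟩, ⟨0, 1⟩, ⟨-1, 1⟩, ⟨0, -34⟩, ⟨4, -11⟩, ⟨-17, -12⟩, ⟨-2, 0⟩, ⟨-6, -6⟩, ⟨-6, -3⟩, ⟨-3, -8⟩, ⟨-7, -8⟩, ⟨2, -15⟩, ⟨-6, -9⟩, ⟨1, -22⟩, ⟨-1, -18⟩, ⟨-8, -18⟩],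
  ![⟨0, 0⟩, ⟨0, 0⟩, ⟨-1, -1⟩, ⟨-222, 5⟩, ⟨0, -1⟩, ⟨4, 0⟩, ⟨-107, 113⟩, ⟨-36, 49⟩, ⟨0, 0⟩, ⟨-93, 36⟩, ⟨-12, 21⟩, ⟨-4, 32⟩, ⟨2, 0⟩, ⟨2, -1⟩, ⟨3, 0⟩, ⟨-18, 73⟩, ⟨-11, 22⟩, ⟨28, 32⟩, ⟨6, 0⟩, ⟨11, 12⟩, ⟨11, 9⟩, ⟨4, 19⟩, ⟨10, 20⟩, ⟨-10, 32⟩, ⟨12, 24⟩, ⟨-12, 48⟩, ⟨-7, 45⟩, ⟨10, 44⟩],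
  ![⟨0, 0⟩, ⟨0, 0⟩, ⟨0, 0⟩, ⟨-46, -16⟩, ⟨0, -1⟩, ⟨1, 1⟩, ⟨-31, 15⟩, ⟨-12, 6⟩, ⟨0, 0⟩, ⟨-21, 7⟩, ⟨-5, 3⟩, ⟨-1, 5⟩, ⟨1, 0⟩, ⟨1, 0⟩, ⟨1, 1⟩, ⟨-10, 14⟩, ⟨-5, 4⟩, ⟨3, 8⟩, ⟨0, 1⟩, ⟨2, 4⟩, ⟨1, 3⟩, ⟨-1, 5⟩, ⟨1, 4⟩, ⟨-4, 6⟩, ⟨2, 5⟩, ⟨-6, 10⟩, ⟨-4, 10⟩, ⟨0, 10⟩],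
  ![⟨0, 0⟩, ⟨0, 0⟩, ⟨0, 0⟩, ⟨152, -40⟩, ⟨1, 1⟩, ⟨-2, 3⟩, ⟨56, -94⟩, ⟨15, -41⟩, ⟨0, 0⟩, ⟨62, -48⟩, ⟨7, -17⟩, ⟨-4, -24⟩, ⟨-1, 1⟩, ⟨-1, 2⟩, ⟨-2, 0⟩, ⟨2, -53⟩, ⟨8, -17⟩, ⟨-25, -17⟩, ⟨-4, 0⟩, ⟨-11, -8⟩, ⟨-9, -4⟩, ⟨-4, -14⟩, ⟨-11, -12⟩, ⟨4, -23⟩, ⟨-14, -14⟩, ⟨-1, -36⟩, ⟨-4, -31⟩, ⟨-16, -30⟩],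
  ![⟨0, 0⟩, ⟨0, 0⟩, ⟨0, 0⟩, ⟨-158, 16⟩, ⟨-1, -1⟩, ⟨2, -2⟩, ⟨-71, 86⟩, ⟨-23, 35⟩, ⟨0, 0⟩, ⟨-65, 41⟩, ⟨-10, 16⟩, ⟨1, 23⟩, ⟨1, -1⟩, ⟨1, -2⟩, ⟨2, 0⟩, ⟨-11, 52⟩, ⟨-10, 16⟩, ⟨22, 21⟩, ⟨4, 2⟩, ⟨10, 9⟩, ⟨8, 6⟩, ⟨2, 15⟩, ⟨9, 13⟩, ⟨-7, 23⟩, ⟨12, 15⟩, ⟨-5, 35⟩, ⟨-1, 31⟩, ⟨12, 31⟩],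
  ![⟨0, 0⟩, ⟨0, 0⟩, ⟨0, 0⟩, ⟨-64, 42⟩, ⟨0, 0⟩, ⟨0, -2⟩, ⟨-12, 52⟩, ⟨-3, 20⟩, ⟨0, 0⟩, ⟨-15, 29⟩, ⟨0, 9⟩, ⟨7, 9⟩, ⟨0, -1⟩, ⟨0, -1⟩, ⟨1, 0⟩, ⟨8, 26⟩, ⟨0, 10⟩, ⟨14, 3⟩, ⟨2, -1⟩, ⟨7, 0⟩, ⟨5, 1⟩, ⟨5, 6⟩, ⟨7, 3⟩, ⟨3, 12⟩, ⟨8, 4⟩, ⟨6, 17⟩, ⟨7, 13⟩, ⟨12, 10⟩],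
  ![⟨0, 0⟩, ⟨0, 0⟩, ⟨0, 0⟩, ⟨-10, 14⟩, ⟨0, 0⟩, ⟨0, 0⟩, ⟨2, 12⟩, ⟨4, 6⟩, ⟨0, -1⟩, ⟨-3, 5⟩, ⟨1, 3⟩, ⟨2, 2⟩, ⟨0, 0⟩, ⟨0, 0⟩, ⟨0, 0⟩, ⟨5, 5⟩, ⟨1, 2⟩, ⟨3, -1⟩, ⟨1, -1⟩, ⟨0, -1⟩, ⟨1, -1⟩, ⟨2, 1⟩, ⟨2, 0⟩, ⟨2, 2⟩, ⟨2, 1⟩, ⟨2, 4⟩, ⟨2, 3⟩, ⟨3, 1⟩],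
  ![⟨0, 0⟩, ⟨0, 0⟩, ⟨0, 0⟩, ⟨32, -36⟩, ⟨0, 0⟩, ⟨0, 0⟩, ⟨-2, -34⟩, ⟨-3, -13⟩, ⟨1, 1⟩, ⟨12, -13⟩, ⟨-2, -5⟩, ⟨-3, -5⟩, ⟨0, 0⟩, ⟨0, 0⟩, ⟨0, 1⟩, ⟨-11, -11⟩, ⟨-4, -3⟩, ⟨-9, -1⟩, ⟨-1, 1⟩, ⟨-1, 0⟩, ⟨-3, 1⟩, ⟨-4, -1⟩, ⟨-4, -1⟩, ⟨-4, -5⟩, ⟨-5, -3⟩, ⟨-5, -9⟩, ⟨-4, -7⟩, ⟨-7, -5⟩],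
  ![⟨0, 0⟩, ⟨0, 0⟩, ⟨0, 0⟩, ⟨10, -20⟩, ⟨0, 0⟩, ⟨0, 0⟩, ⟨-5, -15⟩, ⟨-2, -8⟩, ⟨0, 0⟩, ⟨2, -4⟩, ⟨-1, -4⟩, ⟨-2, -2⟩, ⟨0, 0⟩, ⟨0, 0⟩, ⟨0, 0⟩, ⟨-6, -6⟩, ⟨0, -2⟩, ⟨-4, 1⟩, ⟨0, 2⟩, ⟨1, 1⟩, ⟨-2, 1⟩, ⟨-2, -1⟩, ⟨-2, 0⟩, ⟨-3, -2⟩, ⟨-2, 0⟩, ⟨-3, -4⟩, ⟨-2, -2⟩, ⟨-3, -1⟩],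
  ![⟨0, 0⟩, ⟨0, 0⟩, ⟨0, 0⟩, ⟨30, 0⟩, ⟨0, 0⟩, ⟨-2, 2⟩, ⟨15, -13⟩, ⟨10, -4⟩, ⟨0, -2⟩, ⟨12, -22⟩, ⟨3, -1⟩, ⟨-4, -7⟩, ⟨-1, 1⟩, ⟨-1, 1⟩, ⟨0, -2⟩, ⟨8, -12⟩, ⟨7, -3⟩, ⟨-6, -3⟩, ⟨0, 0⟩, ⟨-7, -4⟩, ⟨-1, -3⟩, ⟨2, -4⟩, ⟨-3, -3⟩, ⟨3, -6⟩, ⟨-4, -2⟩, ⟨1, -8⟩, ⟨-2, -8⟩, ⟨-4, -8⟩],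
  ![⟨0, 0⟩, ⟨0, 0⟩, ⟨0, 0⟩, ⟨-160, -122⟩, ⟨0, -2⟩, ⟨4, 2⟩, ⟨-139, 19⟩, ⟨-48, 18⟩, ⟨0, -2⟩, ⟨-98, -38⟩, ⟨-22, 6⟩, ⟨-25, 19⟩, ⟨2, 1⟩, ⟨3, 1⟩, ⟨3, 1⟩, ⟨-50, 38⟩, ⟨-18, 4⟩, ⟨-1, 40⟩, ⟨3, 3⟩, ⟨-5, 14⟩, ⟨3, 11⟩, ⟨-9, 13⟩, ⟨-5, 20⟩, ⟨-24, 12⟩, ⟨-4, 26⟩, ⟨-36, 27⟩, ⟨-30, 28⟩, ⟨-20, 38⟩],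
  ![⟨0, 0⟩, ⟨0, 0⟩, ⟨0, 0⟩, ⟨32, -18⟩, ⟨0, 0⟩, ⟨-2, 0⟩, ⟨7, -25⟩, ⟨-2, -8⟩, ⟨0, 0⟩, ⟨12, -8⟩, ⟨-1, -5⟩, ⟨-1, -5⟩, ⟨-1, 1⟩, ⟨-1, 0⟩, ⟨-1, 1⟩, ⟨-6, -12⟩, ⟨-1, -5⟩, ⟨-6, -3⟩, ⟨1, 1⟩, ⟨0, -2⟩, ⟨-2, 0⟩, ⟨-3, -2⟩, ⟨-3, -2⟩, ⟨-2, -5⟩, ⟨-3, -3⟩, ⟨-1, -8⟩, ⟨-3, -8⟩, ⟨-4, -6⟩],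
  ![⟨0, 0⟩, ⟨0, 0⟩, ⟨0, 0⟩, ⟨44, 18⟩, ⟨0, 0⟩, ⟨-2, 2⟩, ⟨31, -11⟩, ⟨14, -4⟩, ⟨0, -2⟩, ⟨20, -14⟩, ⟨5, -3⟩, ⟨0, -10⟩, ⟨-1, 1⟩, ⟨-1, 1⟩, ⟨0, -1⟩, ⟨16, -16⟩, ⟨10, -4⟩, ⟨-5, -8⟩, ⟨-1, -1⟩, ⟨-6, -6⟩, ⟨-1, -4⟩, ⟨3, -6⟩, ⟨-2, -6⟩, ⟨7, -8⟩, ⟨-2, -4⟩, ⟨7, -10⟩, ⟨2, -10⟩, ⟨-1, -11⟩],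
  ![⟨0, 0⟩, ⟨0, 0⟩, ⟨0, 0⟩, ⟨50, 24⟩, ⟨0, 0⟩, ⟨-2, 2⟩, ⟨37, -11⟩, ⟨18, -4⟩, ⟨0, -2⟩, ⟨22, -14⟩, ⟨7, -3⟩, ⟨1, -9⟩, ⟨-1, 1⟩, ⟨-1, 1⟩, ⟨-1, -3⟩, ⟨20, -17⟩, ⟨13, -3⟩, ⟨-4, -9⟩, ⟨-1, 1⟩, ⟨-5, -5⟩, ⟨-1, -5⟩, ⟨4, -7⟩, ⟨-1, -6⟩, ⟨8, -7⟩, ⟨-3, -4⟩, ⟨7, -11⟩, ⟨4, -11⟩, ⟨-1, -12⟩],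
  ![⟨0, 0⟩, ⟨0, 0⟩, ⟨0, 0⟩, ⟨-68, 0⟩, ⟨0, 0⟩, ⟨0, 0⟩, ⟨-34, 34⟩, ⟨-10, 16⟩, ⟨0, -2⟩, ⟨-26, -2⟩, ⟨-3, 7⟩, ⟨-4, 8⟩, ⟨0, 0⟩, ⟨0, 0⟩, ⟨1, -1⟩, ⟨-2, 22⟩, ⟨1, 8⟩, ⟨7, 11⟩, ⟨2, 0⟩, ⟨1, 1⟩, ⟨4, 2⟩, ⟨3, 5⟩, ⟨2, 6⟩, ⟨-3, 9⟩, ⟨1, 8⟩, ⟨-5, 13⟩, ⟨-4, 11⟩, ⟨1, 12⟩],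
  ![⟨0, 0⟩, ⟨0, 0⟩, ⟨-2, 2⟩, ⟨120, 524⟩, ⟨-2, 2⟩, ⟨-4, -8⟩, ⟨320, 200⟩, ⟨130, 66⟩, ⟨2, -2⟩, ⟨158, 186⟩, ⟨58, 22⟩, ⟨76, -12⟩, ⟨-2, -4⟩, ⟨-5, -3⟩, ⟨0, -8⟩, ⟨187, 15⟩, ⟨62, 24⟩, ⟨60, -83⟩, ⟨0, -16⟩, ⟨23, -39⟩, ⟨18, -30⟩, ⟨49, -17⟩, ⟨41, -35⟩, ⟨84, 10⟩, ⟨45, -43⟩, ⟨120, 3⟩, ⟨110, -9⟩, ⟨98, -52⟩],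
  ![⟨0, 0⟩, ⟨0, 0⟩, ⟨0, 0⟩, ⟨36, 24⟩, ⟨0, 0⟩, ⟨-2, 2⟩, ⟨30, -4⟩, ⟨14, 0⟩, ⟨0, -2⟩, ⟨20, -12⟩, ⟨5, -1⟩, ⟨0, -8⟩, ⟨-1, 1⟩, ⟨-1, 1⟩, ⟨0, -2⟩, ⟨17, -11⟩, ⟨10, -2⟩, ⟨-3, -7⟩, ⟨0, -1⟩, ⟨-5, -6⟩, ⟨0, -4⟩, ⟨4, -5⟩, ⟨-1, -5⟩, ⟨7, -6⟩, ⟨-2, -4⟩, ⟨7, -8⟩, ⟨3, -9⟩, ⟨0, -10⟩],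
  ![⟨0, 0⟩, ⟨0, 0⟩, ⟨0, 0⟩, ⟨16, 4⟩, ⟨0, 0⟩, ⟨0, 0⟩, ⟨10, -6⟩, ⟨4, -4⟩, ⟨0, 0⟩, ⟨4, 0⟩, ⟨2, -2⟩, ⟨2, -2⟩, ⟨0, 0⟩, ⟨0, 0⟩, ⟨0, 0⟩, ⟨4, -6⟩, ⟨2, -2⟩, ⟨-1, -3⟩, ⟨-2, 0⟩, ⟨-1, 0⟩, ⟨-1, -1⟩, ⟨0, -2⟩, ⟨0, -2⟩, ⟨2, -2⟩, ⟨0, -1⟩, ⟨2, -3⟩, ⟨1, -2⟩, ⟨0, -2⟩],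
  ![⟨0, 0⟩, ⟨0, 0⟩, ⟨-4, 0⟩, ⟨-316, 1092⟩, ⟨-4, 0⟩, ⟨0, -16⟩, ⟨384, 700⟩, ⟨176, 244⟩, ⟨-4, 4⟩, ⟨40, 520⟩, ⟨86, 94⟩, ⟨152, 64⟩, ⟨0, -8⟩, ⟨-4, -10⟩, ⟨4, -10⟩, ⟨318, 198⟩, ⟨86, 86⟩, ⟨199, -89⟩, ⟨16, -32⟩, ⟨78, -38⟩, ⟨59, -38⟩, ⟨100, 12⟩, ⟨110, -20⟩, ⟨138, 102⟩, ⟨138, -25⟩, ⟨219, 133⟩, ⟨201, 103⟩, ⟨231, 17⟩],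
  ![⟨0, 0⟩, ⟨0, 0⟩, ⟨-4, 0⟩, ⟨-392, 780⟩, ⟨-4, 0⟩, ⟨8, -12⟩, ⟨196, 580⟩, ⟨96, 212⟩, ⟨-4, 4⟩, ⟨-52, 408⟩, ⟨48, 84⟩, ⟨104, 80⟩, ⟨4, -6⟩, ⟨0, -8⟩, ⟨2, -6⟩, ⟨204, 196⟩, ⟨44, 70⟩, ⟨168, -38⟩, ⟨18, -24⟩, ⟨64, -12⟩, ⟨50, -20⟩, ⟨69, 24⟩, ⟨88, 4⟩, ⟨89, 97⟩, ⟨109, 1⟩, ⟨141, 134⟩, ⟨138, 111⟩, ⟨172, 48⟩],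
  ![⟨0, 0⟩, ⟨0, 0⟩, ⟨0, 0⟩, ⟨-64, -108⟩, ⟨0, 0⟩, ⟨8, 0⟩, ⟨-82, -26⟩, ⟨-36, -20⟩, ⟨-4, 4⟩, ⟨-76, 0⟩, ⟨-14, -6⟩, ⟨-14, 22⟩, ⟨4, 0⟩, ⟨4, 0⟩, ⟨-4, 6⟩, ⟨-58, 4⟩, ⟨-24, -14⟩, ⟨-1, 25⟩, ⟨2, 0⟩, ⟨3, 21⟩, ⟨-6, 10⟩, ⟨-17, 5⟩, ⟨-4, 15⟩, ⟨-24, 4⟩, ⟨0, 15⟩, ⟨-30, 12⟩, ⟨-23, 18⟩, ⟨-17, 28⟩],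
  ![⟨0, 0⟩, ⟨0, 0⟩, ⟨0, 0⟩, ⟨4, 0⟩, ⟨0, 0⟩, ⟨0, 0⟩, ⟨2, -2⟩, ⟨0, 0⟩, ⟨0, 0⟩, ⟨4, 0⟩, ⟨0, 0⟩, ⟨0, -2⟩, ⟨0, 0⟩, ⟨0, 0⟩, ⟨0, 0⟩, ⟨0, -2⟩, ⟨0, 0⟩, ⟨-1, -1⟩, ⟨0, 0⟩, ⟨0, 0⟩, ⟨0, 0⟩, ⟨0, 0⟩, ⟨-1, -1⟩, ⟨0, -1⟩, ⟨0, -1⟩, ⟨1, -1⟩, ⟨0, -1⟩, ⟨0, -1⟩],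
  ![⟨0, 0⟩, ⟨0, 0⟩, ⟨-4, 0⟩, ⟨-408, 632⟩, ⟨-4, 0⟩, ⟨4, -12⟩, ⟨112, 516⟩, ⟨64, 196⟩, ⟨4, 0⟩, ⟨-32, 336⟩, ⟨36, 80⟩, ⟨86, 66⟩, ⟨2, -6⟩, ⟨-2, -8⟩, ⟨8, -8⟩, ⟨170, 204⟩, ⟨40, 88⟩, ⟨142, -20⟩, ⟨16, -16⟩, ⟨62, -16⟩, ⟨48, -12⟩, ⟨66, 32⟩, ⟨76, 8⟩, ⟨72, 96⟩, ⟨85, 4⟩, ⟨113, 121⟩, ⟨116, 100⟩, ⟨145, 47⟩],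
  ![⟨0, 0⟩, ⟨0, 0⟩, ⟨0, 0⟩, ⟨0, 4⟩, ⟨0, 0⟩, ⟨0, 0⟩, ⟨2, 2⟩, ⟨0, 0⟩, ⟨0, 0⟩, ⟨0, 4⟩, ⟨0, 0⟩, ⟨0, 0⟩, ⟨0, 0⟩, ⟨0, 0⟩, ⟨0, 0⟩, ⟨0, 0⟩, ⟨0, 0⟩, ⟨0, 0⟩, ⟨0, 0⟩, ⟨0, 0⟩, ⟨0, 0⟩, ⟨0, 0⟩, ⟨0, 0⟩, ⟨0, 0⟩, ⟨1, -1⟩, ⟨1, 0⟩, ⟨1, 0⟩, ⟨1, 0⟩],
  ![⟨0, 0⟩, ⟨0, 0⟩, ⟨0, 0⟩, ⟨0, 0⟩, ⟨0, 0⟩, ⟨0, 0⟩, ⟨0, 0⟩, ⟨0, 0⟩, ⟨0, 0⟩, ⟨0, 0⟩, ⟨0, 0⟩, ⟨0, 0⟩, ⟨0, 0⟩, ⟨0, 0⟩, ⟨0, 0⟩, ⟨0, 0⟩, ⟨0, 0⟩, ⟨0, 0⟩, ⟨0, 0⟩, ⟨0, 0⟩, ⟨0, 0⟩, ⟨0, 0⟩, ⟨0, 0⟩, ⟨0, 0⟩, ⟨0, 0⟩, ⟨0, 0⟩, ⟨0, 0⟩, ⟨1, 0⟩],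
  ![⟨0, 0⟩, ⟨0, 0⟩, ⟨0, 0⟩, ⟨0, 0⟩, ⟨0, 0⟩, ⟨0, 0⟩, ⟨0, 0⟩, ⟨0, 0⟩, ⟨0, 0⟩, ⟨0, 0⟩, ⟨0, 0⟩, ⟨0, 0⟩, ⟨0, 0⟩, ⟨0, 0⟩, ⟨0, 0⟩, ⟨0, 0⟩, ⟨0, 0⟩, ⟨0, 0⟩, ⟨0, 0⟩, ⟨0, 0⟩, ⟨0, 0⟩, ⟨0, 0⟩, ⟨0, 0⟩, ⟨0, 0⟩, ⟨0, 0⟩, ⟨0, 0⟩, ⟨-1, 0⟩, ⟨0, 0⟩]]

/-- Matrix of `ruRk` in the basis `Bv`. -/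
def cRk : Fin 28 → Fin 28 → GaussianInt := ![
  ![⟨0, 0⟩, ⟨0, -1⟩, ⟨0, 1⟩, ⟨-66, -30⟩, ⟨0, 0⟩, ⟨2, -1⟩, ⟨-48, 18⟩, ⟨-15, 8⟩, ⟨-1, -1⟩, ⟨-33, -6⟩, ⟨-7, 3⟩, ⟨-7, 9⟩, ⟨1, -1⟩, ⟨2, 0⟩, ⟨0, -1⟩, ⟨-15, 19⟩, ⟨-5, 3⟩, ⟨3, 15⟩, ⟨2, 1⟩, ⟨1, 5⟩, ⟨2, 4⟩, ⟨-2, 5⟩, ⟨0, 8⟩, ⟨-6, 7⟩, ⟨0, 9⟩, ⟨-11, 13⟩, ⟨-6, 12⟩, ⟨-4, 14⟩],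
  ![⟨0, 0⟩, ⟨0, -1⟩, ⟨0, 0⟩, ⟨-186, -72⟩, ⟨0, -1⟩, ⟨5, 1⟩, ⟨-128, 56⟩, ⟨-42, 25⟩, ⟨-1, -1⟩, ⟨-97, 0⟩, ⟨-18, 11⟩, ⟨-14, 26⟩, ⟨3, 0⟩, ⟨3, 0⟩, ⟨2, 1⟩, ⟨-40, 52⟩, ⟨-18, 10⟩, ⟨12, 37⟩, ⟨4, 1⟩, ⟨3, 15⟩, ⟨5, 11⟩, ⟨-5, 16⟩, ⟨2, 20⟩, ⟨-19, 22⟩, ⟨4, 25⟩, ⟨-26, 37⟩, ⟨-20, 37⟩, ⟨-6, 41⟩],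
  ![⟨0, 1⟩, ⟨0, -1⟩, ⟨0, 0⟩, ⟨-148, -16⟩, ⟨0, -1⟩, ⟨2, -1⟩, ⟨-81, 65⟩, ⟨-25, 29⟩, ⟨-1, -1⟩, ⟨-77, 11⟩, ⟨-9, 11⟩, ⟨-7, 23⟩, ⟨1, 0⟩, ⟨3, -1⟩, ⟨1, 0⟩, ⟨-17, 44⟩, ⟨-8, 10⟩, ⟨16, 26⟩, ⟨4, 0⟩, ⟨4, 11⟩, ⟨6, 6⟩, ⟨0, 11⟩, ⟨5, 15⟩, ⟨-11, 17⟩, ⟨6, 19⟩, ⟨-12, 32⟩, ⟨-9, 29⟩, ⟨0, 32⟩],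
  ![⟨0, 0⟩, ⟨1, 1⟩, ⟨0, 0⟩, ⟨126, -47⟩, ⟨0, -1⟩, ⟨-3, 2⟩, ⟨39, -86⟩, ⟨12, -27⟩, ⟨-1, 0⟩, ⟨45, -40⟩, ⟨2, -13⟩, ⟨-5, -17⟩, ⟨-1, 2⟩, ⟨-2, 1⟩, ⟨-2, 1⟩, ⟨-6, -44⟩, ⟨2, -13⟩, ⟨-22, -13⟩, ⟨-3, 1⟩, ⟨-7, -4⟩, ⟨-7, -4⟩, ⟨-6, -9⟩, ⟨-10, -8⟩, ⟨-4, -18⟩, ⟨-13, -11⟩, ⟨-3, -31⟩, ⟨-7, -28⟩, ⟨-15, -23⟩],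
  ![⟨0, 0⟩, ⟨0, 0⟩, ⟨0, 0⟩, ⟨-102, -22⟩, ⟨0, -1⟩, ⟨2, 0⟩, ⟨-62, 40⟩, ⟨-21, 19⟩, ⟨-1, -1⟩, ⟨-51, 7⟩, ⟨-9, 8⟩, ⟨-7, 13⟩, ⟨1, 0⟩, ⟨2, -1⟩, ⟨1, 0⟩, ⟨-17, 29⟩, ⟨-8, 8⟩, ⟨8, 18⟩, ⟨2, 1⟩, ⟨3, 8⟩, ⟨4, 5⟩, ⟨-1, 9⟩, ⟨1, 10⟩, ⟨-9, 12⟩, ⟨4, 12⟩, ⟨-9, 21⟩, ⟨-7, 20⟩, ⟨0, 21⟩],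
  ![⟨0, 0⟩, ⟨0, 0⟩, ⟨0, 0⟩, ⟨0, -32⟩, ⟨0, 0⟩, ⟨1, 0⟩, ⟨-16, -16⟩, ⟨-3, -3⟩, ⟨0, 0⟩, ⟨0, -12⟩, ⟨-4, 0⟩, ⟨-5, -1⟩, ⟨1, 0⟩, ⟨0, 0⟩, ⟨0, 0⟩, ⟨-11, 0⟩, ⟨-4, 2⟩, ⟨-6, 4⟩, ⟨0, 1⟩, ⟨-1, 1⟩, ⟨-1, 1⟩, ⟨-2, 2⟩, ⟨-3, 2⟩, ⟨-4, 0⟩, ⟨-4, 0⟩, ⟨-6, -3⟩, ⟨-4, -2⟩, ⟨-6, -1⟩],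
  ![⟨0, 0⟩, ⟨0, 0⟩, ⟨0, 0⟩, ⟨90, 14⟩, ⟨1, 1⟩, ⟨-3, 1⟩, ⟨52, -37⟩, ⟨13, -19⟩, ⟨-1, -1⟩, ⟨33, -15⟩, ⟨9, -10⟩, ⟨2, -13⟩, ⟨-2, 1⟩, ⟨-1, 1⟩, ⟨-2, 0⟩, ⟨13, -33⟩, ⟨10, -12⟩, ⟨-9, -15⟩, ⟨-1, -1⟩, ⟨-5, -6⟩, ⟨-4, -4⟩, ⟨0, -11⟩, ⟨-4, -9⟩, ⟨6, -14⟩, ⟨-3, -8⟩, ⟨7, -19⟩, ⟨3, -17⟩, ⟨-3, -17⟩],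
  ![⟨0, 0⟩, ⟨0, 0⟩, ⟨0, 0⟩, ⟨38, -44⟩, ⟨0, 0⟩, ⟨0, 2⟩, ⟨-3, -41⟩, ⟨-4, -15⟩, ⟨-1, -1⟩, ⟨9, -21⟩, ⟨-3, -8⟩, ⟨-5, -9⟩, ⟨0, 1⟩, ⟨1, 1⟩, ⟨0, 1⟩, ⟨-12, -19⟩, ⟨-3, -8⟩, ⟨-13, -2⟩, ⟨-1, 0⟩, ⟨-4, -1⟩, ⟨-4, 1⟩, ⟨-5, -3⟩, ⟨-7, -3⟩, ⟨-5, -9⟩, ⟨-4, -2⟩, ⟨-5, -10⟩, ⟨-7, -7⟩, ⟨-10, -5⟩],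
  ![⟨0, 0⟩, ⟨0, 0⟩, ⟨0, 0⟩, ⟨14, 48⟩, ⟨0, 0⟩, ⟨0, 0⟩, ⟨31, 17⟩, ⟨13, 5⟩, ⟨-1, 0⟩, ⟨8, 16⟩, ⟨6, 1⟩, ⟨7, -2⟩, ⟨0, 0⟩, ⟨0, 0⟩, ⟨0, 0⟩, ⟨18, -3⟩, ⟨6, 0⟩, ⟨5, -8⟩, ⟨-1, -2⟩, ⟨0, -2⟩, ⟨1, -3⟩, ⟨4, -3⟩, ⟨3, -4⟩, ⟨7, -1⟩, ⟨5, -3⟩, ⟨12, 0⟩, ⟨9, 0⟩, ⟨8, -4⟩],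
  ![⟨0, 0⟩, ⟨0, 0⟩, ⟨0, 0⟩, ⟨12, -22⟩, ⟨0, 0⟩, ⟨0, 0⟩, ⟨-5, -17⟩, ⟨-5, -5⟩, ⟨0, 0⟩, ⟨6, -9⟩, ⟨-2, -2⟩, ⟨-3, -3⟩, ⟨0, 0⟩, ⟨1, 0⟩, ⟨0, 0⟩, ⟨-7, -4⟩, ⟨-2, -1⟩, ⟨-6, 1⟩, ⟨-1, 1⟩, ⟨-1, 1⟩, ⟨-1, 1⟩, ⟨-2, 0⟩, ⟨-3, 0⟩, ⟨-3, -2⟩, ⟨-3, -2⟩, ⟨-4, -4⟩, ⟨-2, -3⟩, ⟨-5, -2⟩],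
  ![⟨0, 0⟩, ⟨0, 0⟩, ⟨0, 0⟩, ⟨6, -78⟩, ⟨0, 0⟩, ⟨0, 0⟩, ⟨-36, -42⟩, ⟨-16, -8⟩, ⟨2, 0⟩, ⟨0, -34⟩, ⟨-8, -3⟩, ⟨-12, -2⟩, ⟨0, 0⟩, ⟨0, 0⟩, ⟨0, 0⟩, ⟨-25, -3⟩, ⟨-8, 0⟩, ⟨-12, 8⟩, ⟨0, 4⟩, ⟨-1, 2⟩, ⟨-2, 3⟩, ⟨-6, 3⟩, ⟨-7, 4⟩, ⟨-10, -3⟩, ⟨-11, 2⟩, ⟨-17, -6⟩, ⟨-13, -5⟩, ⟨-15, 0⟩],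
  ![⟨0, 0⟩, ⟨0, 0⟩, ⟨0, 0⟩, ⟨-92, 64⟩, ⟨0, 0⟩, ⟨2, -2⟩, ⟨-14, 78⟩, ⟨0, 34⟩, ⟨0, 2⟩, ⟨-34, 36⟩, ⟨0, 14⟩, ⟨4, 17⟩, ⟨1, -1⟩, ⟨-1, -3⟩, ⟨1, -1⟩, ⟨12, 36⟩, ⟨0, 12⟩, ⟨23, 9⟩, ⟨2, 0⟩, ⟨6, 3⟩, ⟨8, 0⟩, ⟨6, 7⟩, ⟨10, 8⟩, ⟨4, 17⟩, ⟨9, 7⟩, ⟨7, 22⟩, ⟨8, 18⟩, ⟨17, 17⟩],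
  ![⟨0, 0⟩, ⟨0, 0⟩, ⟨0, 0⟩, ⟨-158, 46⟩, ⟨0, 0⟩, ⟨0, -2⟩, ⟨-56, 102⟩, ⟨-14, 40⟩, ⟨0, 2⟩, ⟨-62, 26⟩, ⟨-3, 21⟩, ⟨-1, 27⟩, ⟨0, -1⟩, ⟨-1, -3⟩, ⟨1, -1⟩, ⟨5, 57⟩, ⟨0, 18⟩, ⟨29, 23⟩, ⟨4, 0⟩, ⟨7, 5⟩, ⟨10, 3⟩, ⟨8, 12⟩, ⟨12, 15⟩, ⟨-1, 25⟩, ⟨7, 16⟩, ⟨-3, 34⟩, ⟨-1, 27⟩, ⟨13, 31⟩],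
  ![⟨0, 0⟩, ⟨0, 0⟩, ⟨0, 0⟩, ⟨-10, -8⟩, ⟨0, 0⟩, ⟨0, 0⟩, ⟨-9, 1⟩, ⟨-4, 0⟩, ⟨0, 0⟩, ⟨-6, 0⟩, ⟨-2, 0⟩, ⟨-2, 0⟩, ⟨0, 0⟩, ⟨1, 0⟩, ⟨0, 0⟩, ⟨-4, 2⟩, ⟨-2, 0⟩, ⟨-1, 2⟩, ⟨0, 0⟩, ⟨0, 1⟩, ⟨0, 1⟩, ⟨-1, 1⟩, ⟨-1, 1⟩, ⟨-2, 0⟩, ⟨1, 1⟩, ⟨-2, 2⟩, ⟨-1, 2⟩, ⟨-1, 2⟩],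
  ![⟨0, 0⟩, ⟨0, 0⟩, ⟨0, 0⟩, ⟨-130, 40⟩, ⟨0, 0⟩, ⟨2, -4⟩, ⟨-45, 85⟩, ⟨-12, 34⟩, ⟨0, 2⟩, ⟨-48, 24⟩, ⟨-3, 17⟩, ⟨-2, 22⟩, ⟨0, -2⟩, ⟨0, -4⟩, ⟨1, -2⟩, ⟨3, 47⟩, ⟨-2, 16⟩, ⟨23, 20⟩, ⟨3, 1⟩, ⟨7, 6⟩, ⟨9, 3⟩, ⟨6, 10⟩, ⟨9, 13⟩, ⟨-1, 20⟩, ⟨6, 11⟩, ⟨0, 28⟩, ⟨4, 21⟩, ⟨12, 24⟩],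
  ![⟨0, 0⟩, ⟨0, 0⟩, ⟨0, 0⟩, ⟨-108, 20⟩, ⟨0, 0⟩, ⟨2, -2⟩, ⟨-44, 64⟩, ⟨-12, 28⟩, ⟨0, 2⟩, ⟨-40, 16⟩, ⟨-4, 14⟩, ⟨-3, 19⟩, ⟨1, -1⟩, ⟨-2, -2⟩, ⟨1, -1⟩, ⟨-3, 40⟩, ⟨-3, 13⟩, ⟨18, 18⟩, ⟨3, 1⟩, ⟨5, 4⟩, ⟨7, 3⟩, ⟨4, 9⟩, ⟨7, 12⟩, ⟨-2, 18⟩, ⟨3, 10⟩, ⟨-4, 21⟩, ⟨-1, 17⟩, ⟨8, 20⟩],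
  ![⟨0, 0⟩, ⟨0, 0⟩, ⟨0, 0⟩, ⟨-36, 6⟩, ⟨0, 0⟩, ⟨0, 0⟩, ⟨-15, 21⟩, ⟨-2, 14⟩, ⟨0, 0⟩, ⟨-14, -2⟩, ⟨-1, 5⟩, ⟨-1, 7⟩, ⟨0, 0⟩, ⟨-1, -1⟩, ⟨0, 0⟩, ⟨2, 14⟩, ⟨0, 5⟩, ⟨7, 6⟩, ⟨2, 0⟩, ⟨2, 0⟩, ⟨3, 0⟩, ⟨2, 3⟩, ⟨3, 4⟩, ⟨0, 6⟩, ⟨-1, 5⟩, ⟨-2, 8⟩, ⟨-2, 4⟩, ⟨2, 7⟩],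
  ![⟨0, 0⟩, ⟨2, -2⟩, ⟨0, 0⟩, ⟨-214, -378⟩, ⟨-2, -2⟩, ⟨8, 8⟩, ⟨-294, -82⟩, ⟨-96, -8⟩, ⟨0, 4⟩, ⟨-146, -118⟩, ⟨-49, 1⟩, ⟨-55, 27⟩, ⟨7, 3⟩, ⟨4, 2⟩, ⟨4, 6⟩, ⟨-142, 46⟩, ⟨-50, 2⟩, ⟨-30, 79⟩, ⟨4, 10⟩, ⟨-7, 27⟩, ⟨-6, 24⟩, ⟨-29, 27⟩, ⟨-21, 39⟩, ⟨-60, 22⟩, ⟨-30, 43⟩, ⟨-95, 26⟩, ⟨-81, 32⟩, ⟨-64, 60⟩],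
  ![⟨0, 0⟩, ⟨0, 0⟩, ⟨0, 0⟩, ⟨-116, 32⟩, ⟨0, 0⟩, ⟨2, -2⟩, ⟨-42, 74⟩, ⟨-12, 32⟩, ⟨0, 2⟩, ⟨-40, 22⟩, ⟨-4, 16⟩, ⟨-2, 20⟩, ⟨1, -1⟩, ⟨-1, -3⟩, ⟨1, -1⟩, ⟨0, 44⟩, ⟨-4, 14⟩, ⟨20, 18⟩, ⟨3, 0⟩, ⟨5, 4⟩, ⟨8, 3⟩, ⟨5, 10⟩, ⟨8, 12⟩, ⟨-1, 19⟩, ⟨5, 9⟩, ⟨-1, 24⟩, ⟨2, 19⟩, ⟨11, 21⟩],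
  ![⟨0, 0⟩, ⟨0, 0⟩, ⟨0, 0⟩, ⟨-4, 0⟩, ⟨0, 0⟩, ⟨0, 0⟩, ⟨-2, 2⟩, ⟨0, 0⟩, ⟨0, 0⟩, ⟨-4, 0⟩, ⟨0, 0⟩, ⟨0, 0⟩, ⟨0, 0⟩, ⟨0, 0⟩, ⟨0, 0⟩, ⟨0, 0⟩, ⟨0, 0⟩, ⟨1, 1⟩, ⟨0, 0⟩, ⟨0, 1⟩, ⟨0, 0⟩, ⟨0, 0⟩, ⟨0, 0⟩, ⟨0, 0⟩, ⟨0, 1⟩, ⟨0, 1⟩, ⟨-1, 1⟩, ⟨0, 1⟩],
  ![⟨0, 0⟩, ⟨4, 0⟩, ⟨0, 0⟩, ⟨248, -652⟩, ⟨0, -4⟩, ⟨4, 20⟩, ⟨-200, -448⟩, ⟨-88, -140⟩, ⟨-8, 4⟩, ⟨-16, -280⟩, ⟨-58, -64⟩, ⟨-88, -46⟩, ⟨6, 12⟩, ⟨6, 12⟩, ⟨0, 12⟩, ⟨-214, -138⟩, ⟨-66, -66⟩, ⟨-134, 38⟩, ⟨-12, 8⟩, ⟨-49, 19⟩, ⟨-39, 20⟩, ⟨-68,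 -8⟩, ⟨-74, 10⟩, ⟨-94, -58⟩, ⟨-70, 4⟩, ⟨-124, -92⟩, ⟨-123, -52⟩, ⟨-134, -17⟩],
  ![⟨0, 0⟩, ⟨4, 0⟩, ⟨0, 0⟩, ⟨268, -336⟩, ⟨0, -4⟩, ⟨-4, 16⟩, ⟨-32, -300⟩, ⟨-4, -108⟩, ⟨-4, 0⟩, ⟨12, -160⟩, ⟨-14, -50⟩, ⟨-30, -36⟩, ⟨2, 10⟩, ⟨0, 14⟩, ⟨-4, 10⟩, ⟨-90, -126⟩, ⟨-18, -56⟩, ⟨-81, -9⟩, ⟨-6, 0⟩, ⟨-34, 4⟩, ⟨-32, 0⟩, ⟨-37, -20⟩, ⟨-37, -11⟩, ⟨-39, -49⟩, ⟨-37, 2⟩, ⟨-60, -69⟩, ⟨-72, -47⟩, ⟨-78, -32⟩],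
  ![⟨0, 0⟩, ⟨0, 0⟩, ⟨0, 0⟩, ⟨284, 104⟩, ⟨0, 0⟩, ⟨-8, 0⟩, ⟨194, -90⟩, ⟨72, -56⟩, ⟨4, -4⟩, ⟨128, 20⟩, ⟨30, -24⟩, ⟨34, -38⟩, ⟨-4, 0⟩, ⟨-2, 8⟩, ⟨-4, 0⟩, ⟨62, -86⟩, ⟨26, -22⟩, ⟨-16, -66⟩, ⟨-4, -6⟩, ⟨-4, -18⟩, ⟨-13, -17⟩, ⟨5, -25⟩, ⟨2, -37⟩, ⟨31, -37⟩, ⟨4, -30⟩, ⟨38, -47⟩, ⟨26, -43⟩, ⟨11, -63⟩],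
  ![⟨0, 0⟩, ⟨0, 0⟩, ⟨0, 0⟩, ⟨4, 0⟩, ⟨0, 0⟩, ⟨0, 0⟩, ⟨2, -2⟩, ⟨0, 0⟩, ⟨0, 0⟩, ⟨0, 0⟩, ⟨0, -2⟩, ⟨0, 0⟩, ⟨0, 0⟩, ⟨0, 0⟩, ⟨0, 0⟩, ⟨0, -2⟩, ⟨0, -2⟩, ⟨0, 0⟩, ⟨0, 0⟩, ⟨0, 0⟩, ⟨0, 0⟩, ⟨-1, -1⟩, ⟨0, 0⟩, ⟨0, -1⟩, ⟨0, 0⟩, ⟨0, -1⟩, ⟨0, -1⟩, ⟨0, 0⟩],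
  ![⟨0, 0⟩, ⟨4, 0⟩, ⟨0, 0⟩, ⟨164, -592⟩, ⟨0, -4⟩, ⟨0, 16⟩, ⟨-212, -376⟩, ⟨-88, -104⟩, ⟨-4, 4⟩, ⟨-28, -264⟩, ⟨-50, -48⟩, ⟨-82, -28⟩, ⟨4, 10⟩, ⟨2, 6⟩, ⟨-2, 10⟩, ⟨-188, -96⟩, ⟨-52, -48⟩, ⟨-110, 50⟩, ⟨-6, 14⟩, ⟨-34, 20⟩, ⟨-30, 18⟩, ⟨-56, -2⟩, ⟨-60, 18⟩, ⟨-82, -38⟩, ⟨-73, 12⟩, ⟨-121, -69⟩, ⟨-113, -49⟩, ⟨-124, -4⟩],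
  ![⟨0, 0⟩, ⟨0, 0⟩, ⟨0, 0⟩, ⟨0, 0⟩, ⟨0, 0⟩, ⟨0, 0⟩, ⟨0, 0⟩, ⟨0, 0⟩, ⟨0, 0⟩, ⟨0, 0⟩, ⟨0, 0⟩, ⟨0, 0⟩, ⟨0, 0⟩, ⟨0, 0⟩, ⟨0, 0⟩, ⟨0, 0⟩, ⟨0, 0⟩, ⟨0, 0⟩, ⟨0, 0⟩, ⟨0, 0⟩, ⟨0, 0⟩, ⟨0, 0⟩, ⟨0, 0⟩, ⟨0, 0⟩, ⟨0, 0⟩, ⟨0, 0⟩, ⟨0, 0⟩, ⟨1, 0⟩],
  ![⟨0, 0⟩, ⟨0, 0⟩, ⟨0, 0⟩, ⟨0, -4⟩, ⟨0, 0⟩, ⟨0, 0⟩, ⟨-2, -2⟩, ⟨0, 0⟩, ⟨0, 0⟩, ⟨0, -4⟩, ⟨0, 0⟩, ⟨0, 0⟩, ⟨0, 0⟩, ⟨0, 0⟩, ⟨0, 0⟩, ⟨0, 0⟩, ⟨0, 0⟩, ⟨0, 0⟩, ⟨0, 0⟩, ⟨0, 0⟩, ⟨0, 0⟩, ⟨0, 0⟩, ⟨0, 0⟩, ⟨0, 0⟩, ⟨-1, 1⟩, ⟨-1, 0⟩, ⟨-1, 0⟩, ⟨-1, 0⟩],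
  ![⟨0, 0⟩, ⟨0, 0⟩, ⟨0, 0⟩, ⟨0, 0⟩, ⟨0, 0⟩, ⟨0, 0⟩, ⟨0, 0⟩, ⟨0, 0⟩, ⟨0, 0⟩, ⟨0, 0⟩, ⟨0, 0⟩, ⟨0, 0⟩, ⟨0, 0⟩, ⟨0, 0⟩, ⟨0, 0⟩, ⟨0, 0⟩, ⟨0, 0⟩, ⟨0, 0⟩, ⟨0, 0⟩, ⟨0, 0⟩, ⟨0, 0⟩, ⟨0, 0⟩, ⟨0, 0⟩, ⟨0, 0⟩, ⟨0, 0⟩, ⟨-1, 0⟩, ⟨0, 0⟩, ⟨0, 0⟩]]

/-- Matrix of `ruSign` in the basis `Bv`. -/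
def cSign : Fin 28 → Fin 28 → GaussianInt := ![
  ![⟨-1, 0⟩, ⟨0, 0⟩, ⟨0, 0⟩, ⟨-6, 106⟩, ⟨0, 0⟩, ⟨0, -2⟩, ⟨50, 56⟩, ⟨20, 20⟩, ⟨0, 0⟩, ⟨14, 44⟩, ⟨10, 7⟩, ⟨13, 1⟩, ⟨0, -1⟩, ⟨0, -1⟩, ⟨0, -1⟩, ⟨35, 12⟩, ⟨11, 8⟩, ⟨16, -12⟩, ⟨0, -2⟩, ⟨7, -5⟩, ⟨5, -5⟩, ⟨10, -1⟩, ⟨9, -4⟩, ⟨16, 5⟩, ⟨11, -5⟩, ⟨22, 7⟩, ⟨22, 5⟩, ⟨21, -4⟩],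
  ![⟨0, 0⟩, ⟨-1, 0⟩, ⟨0, 0⟩, ⟨-94, 174⟩, ⟨0, 0⟩, ⟨0, -4⟩, ⟨39, 133⟩, ⟨18, 48⟩, ⟨0, 0⟩, ⟨-14, 88⟩, ⟨10, 19⟩, ⟨24, 16⟩, ⟨0, -2⟩, ⟨0, -2⟩, ⟨1, -2⟩, ⟨49, 46⟩, ⟨10, 19⟩, ⟨38, -8⟩, ⟨2, -4⟩, ⟨13, -2⟩, ⟨12, -4⟩, ⟨16, 6⟩, ⟨20, 0⟩, ⟨20, 21⟩, ⟨24, 1⟩, ⟨32, 31⟩, ⟨32, 24⟩, ⟨39, 11⟩],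
  ![⟨0, 0⟩, ⟨0, 0⟩, ⟨-1, 0⟩, ⟨-40, 134⟩, ⟨0, 0⟩, ⟨0, -2⟩, ⟨46, 86⟩, ⟨18, 28⟩, ⟨0, 0⟩, ⟨2, 66⟩, ⟨10, 10⟩, ⟨21, 7⟩, ⟨0, -1⟩, ⟨0, -1⟩, ⟨1, -1⟩, ⟨41, 23⟩, ⟨11, 11⟩, ⟨25, -12⟩, ⟨0, -4⟩, ⟨10, -4⟩, ⟨7, -4⟩, ⟨12, 1⟩, ⟨14, -4⟩, ⟨17, 12⟩, ⟨18, -2⟩, ⟨28, 17⟩, ⟨25, 13⟩, ⟨29, 3⟩],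
  ![⟨0, 0⟩, ⟨0, 0⟩, ⟨0, 0⟩, ⟨-81, 166⟩, ⟨0, 0⟩, ⟨0, -4⟩, ⟨42, 122⟩, ⟨22, 44⟩, ⟨0, 0⟩, ⟨-6, 82⟩, ⟨10, 19⟩, ⟨23, 14⟩, ⟨0, -2⟩, ⟨0, -2⟩, ⟨1, -2⟩, ⟨49, 42⟩, ⟨10, 19⟩, ⟨34, -9⟩, ⟨2, -4⟩, ⟨11, -3⟩, ⟨11, -5⟩, ⟨16, 6⟩, ⟨19, -1⟩, ⟨21, 19⟩, ⟨22, -1⟩, ⟨31, 28⟩, ⟨32, 20⟩, ⟨37, 8⟩],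
  ![⟨0, 0⟩, ⟨0, 0⟩, ⟨0, 0⟩, ⟨-26, -14⟩, ⟨1, 0⟩, ⟨0, 0⟩, ⟨-20, 6⟩, ⟨-10, 2⟩, ⟨0, 0⟩, ⟨-14, -6⟩, ⟨-3, 1⟩, ⟨-2, 2⟩, ⟨0, 0⟩, ⟨1, 1⟩, ⟨0, 0⟩, ⟨-5, 7⟩, ⟨-3, 1⟩, ⟨1, 5⟩, ⟨0, 0⟩, ⟨-1, 2⟩, ⟨1, 2⟩, ⟨-1, 2⟩, ⟨0, 2⟩, ⟨-1, 2⟩, ⟨0, 4⟩, ⟨-6, 6⟩, ⟨-3, 5⟩, ⟨-2, 6⟩],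
  ![⟨0, 0⟩, ⟨0, 0⟩, ⟨0, 0⟩, ⟨-16, -40⟩, ⟨0, 0⟩, ⟨1, 2⟩, ⟨-28, -12⟩, ⟨-12, -4⟩, ⟨0, 0⟩, ⟨-10, -14⟩, ⟨-5, -1⟩, ⟨-6, -2⟩, ⟨1, 1⟩, ⟨1, 1⟩, ⟨1, 1⟩, ⟨-15, 1⟩, ⟨-5, -1⟩, ⟨-6, 6⟩, ⟨0, 0⟩, ⟨-2, 1⟩, ⟨-1, 3⟩, ⟨-3, 2⟩, ⟨-4, 2⟩, ⟨-5, 1⟩, ⟨-2, 3⟩, ⟨-8, 1⟩, ⟨-8, 4⟩, ⟨-6, 5⟩],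
  ![⟨0, 0⟩, ⟨0, 0⟩, ⟨0, 0⟩, ⟨8, 4⟩, ⟨0, 0⟩, ⟨0, 0⟩, ⟨7, -2⟩, ⟨2, 2⟩, ⟨0, 0⟩, ⟨0, 0⟩, ⟨1, -1⟩, ⟨1, 1⟩, ⟨0, 0⟩, ⟨0, 0⟩, ⟨-1, 1⟩, ⟨3, -1⟩, ⟨1, -1⟩, ⟨1, -1⟩, ⟨0, 0⟩, ⟨0, 0⟩, ⟨0, -1⟩, ⟨0, -1⟩, ⟨1, 0⟩, ⟨1, -2⟩, ⟨-1, 0⟩, ⟨-1, -1⟩, ⟨0, -1⟩, ⟨-1, -1⟩],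
  ![⟨0, 0⟩, ⟨0, 0⟩, ⟨0, 0⟩, ⟨-16, -10⟩, ⟨0, 0⟩, ⟨0, 0⟩, ⟨-13, 3⟩, ⟨-5, 4⟩, ⟨0, 0⟩, ⟨-10, -6⟩, ⟨-2, 0⟩, ⟨-2, 2⟩, ⟨0, 0⟩, ⟨0, 0⟩, ⟨0, 0⟩, ⟨-3, 5⟩, ⟨-2, 0⟩, ⟨1, 4⟩, ⟨0, 0⟩, ⟨-1, 1⟩, ⟨1, 1⟩, ⟨-1, 1⟩, ⟨0, 2⟩, ⟨-2, 2⟩, ⟨-1, 3⟩, ⟨-3, 3⟩, ⟨-3, 3⟩, ⟨-2, 4⟩],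
  ![⟨0, 0⟩, ⟨0, 0⟩, ⟨0, 0⟩, ⟨-6, 2⟩, ⟨0, 0⟩, ⟨0, 0⟩, ⟨-2, 4⟩, ⟨-2, 4⟩, ⟨1, 0⟩, ⟨-2, 0⟩, ⟨-1, 1⟩, ⟨1, 1⟩, ⟨0, 0⟩, ⟨0, 0⟩, ⟨0, 0⟩, ⟨1, 3⟩, ⟨-1, 1⟩, ⟨2, 0⟩, ⟨0, 0⟩, ⟨0, 0⟩, ⟨1, 0⟩, ⟨0, 1⟩, ⟨1, 0⟩, ⟨1, 1⟩, ⟨0, 1⟩, ⟨0, 2⟩, ⟨-1, 1⟩, ⟨1, 1⟩],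
  ![⟨0, 0⟩, ⟨0, 0⟩, ⟨0, 0⟩, ⟨-14, -16⟩, ⟨0, 0⟩, ⟨0, 0⟩, ⟨-15, -1⟩, ⟨-4, 0⟩, ⟨0, 0⟩, ⟨-5, -8⟩, ⟨-2, 2⟩, ⟨-3, 1⟩, ⟨0, 0⟩, ⟨0, 0⟩, ⟨0, 0⟩, ⟨-5, 5⟩, ⟨-2, 2⟩, ⟨-1, 4⟩, ⟨0, 0⟩, ⟨-1, 1⟩, ⟨0, 1⟩, ⟨0, 2⟩, ⟨-1, 2⟩, ⟨-2, 1⟩, ⟨-2, 2⟩, ⟨-4, 2⟩, ⟨-3, 2⟩, ⟨-3, 3⟩],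
  ![⟨0, 0⟩, ⟨0, 0⟩, ⟨0, 0⟩, ⟨-8, 0⟩, ⟨0, 0⟩, ⟨0, 0⟩, ⟨-4, 4⟩, ⟨0, 0⟩, ⟨0, 0⟩, ⟨-4, 0⟩, ⟨1, 2⟩, ⟨0, 2⟩, ⟨0, 0⟩, ⟨0, 0⟩, ⟨0, 0⟩, ⟨0, 4⟩, ⟨0, 2⟩, ⟨1, 1⟩, ⟨0, 0⟩, ⟨0, 0⟩, ⟨0, 0⟩, ⟨1, 1⟩, ⟨1, 1⟩, ⟨0, 2⟩, ⟨0, 1⟩, ⟨-1, 3⟩, ⟨0, 2⟩, ⟨0, 2⟩],
  ![⟨0, 0⟩, ⟨0, 0⟩, ⟨0, 0⟩, ⟨-12, 56⟩, ⟨0, 0⟩, ⟨0, 0⟩, ⟨22, 34⟩, ⟨8, 8⟩, ⟨0, 0⟩, ⟨-4, 32⟩, ⟨4, 4⟩, ⟨9, 4⟩, ⟨0, 0⟩, ⟨0, 0⟩, ⟨0, 0⟩, ⟨16, 4⟩, ⟨4, 4⟩, ⟨10, -6⟩, ⟨0, 0⟩, ⟨4, 0⟩, ⟨2, -2⟩, ⟨4, 0⟩, ⟨6, -2⟩, ⟨6, 4⟩, ⟨9, -1⟩, ⟨11, 5⟩, ⟨10, 4⟩,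 ⟨13, 1⟩],
  ![⟨0, 0⟩, ⟨0, 0⟩, ⟨0, 0⟩, ⟨-20, 112⟩, ⟨0, 0⟩, ⟨0, -4⟩, ⟨46, 66⟩, ⟨20, 20⟩, ⟨0, 0⟩, ⟨-4, 52⟩, ⟨10, 8⟩, ⟨12, 10⟩, ⟨-1, -2⟩, ⟨0, -2⟩, ⟨0, -2⟩, ⟨34, 12⟩, ⟨10, 8⟩, ⟨20, -8⟩, ⟨0, 0⟩, ⟨7, 1⟩, ⟨5, -5⟩, ⟨9, -1⟩, ⟨11, -1⟩, ⟨13, 5⟩, ⟨13, -3⟩, ⟨21, 9⟩, ⟨23, 5⟩, ⟨23, -1⟩],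
  ![⟨0, 0⟩, ⟨0, 0⟩, ⟨0, 0⟩, ⟨0, 0⟩, ⟨0, 0⟩, ⟨0, 0⟩, ⟨0, 0⟩, ⟨0, 0⟩, ⟨0, 0⟩, ⟨0, 0⟩, ⟨0, 0⟩, ⟨0, 0⟩, ⟨0, 0⟩, ⟨-1, 0⟩, ⟨0, 0⟩, ⟨0, 0⟩, ⟨0, 0⟩, ⟨0, 0⟩, ⟨0, 0⟩, ⟨-1, -1⟩, ⟨0, 0⟩, ⟨0, 0⟩, ⟨0, 0⟩, ⟨0, 0⟩, ⟨0, 0⟩, ⟨0, 0⟩, ⟨0, 0⟩, ⟨0, 0⟩],
  ![⟨0, 0⟩, ⟨0, 0⟩, ⟨0, 0⟩, ⟨4, 56⟩, ⟨0, 0⟩, ⟨0, 0⟩, ⟨30, 26⟩, ⟨12, 4⟩, ⟨0, 0⟩, ⟨0, 28⟩, ⟨6, 2⟩, ⟨8, 2⟩, ⟨0, 0⟩, ⟨0, 0⟩, ⟨-1, 0⟩, ⟨18, -2⟩, ⟨6, 2⟩, ⟨8, -8⟩, ⟨0, 0⟩, ⟨4, 0⟩, ⟨1, -3⟩, ⟨4, -2⟩, ⟨5, -3⟩, ⟨7, 1⟩, ⟨8, -2⟩, ⟨12, 2⟩, ⟨11, 1⟩, ⟨12,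 -2⟩],
  ![⟨0, 0⟩, ⟨0, 0⟩, ⟨0, 0⟩, ⟨8, 56⟩, ⟨0, 0⟩, ⟨0, 0⟩, ⟨32, 24⟩, ⟨12, 4⟩, ⟨0, 0⟩, ⟨4, 28⟩, ⟨6, 2⟩, ⟨8, 2⟩, ⟨0, 0⟩, ⟨0, 0⟩, ⟨0, 0⟩, ⟨17, -2⟩, ⟨6, 2⟩, ⟨7, -9⟩, ⟨0, 0⟩, ⟨4, -2⟩, ⟨1, -3⟩, ⟨4, -2⟩, ⟨5, -3⟩, ⟨7, 1⟩, ⟨8, -3⟩, ⟨12, 1⟩, ⟨12, 0⟩, ⟨12, -3⟩],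
  ![⟨0, 0⟩, ⟨0, 0⟩, ⟨0, 0⟩, ⟨-8, 28⟩, ⟨0, 0⟩, ⟨0, 0⟩, ⟨10, 18⟩, ⟨4, 4⟩, ⟨0, 0⟩, ⟨-8, 12⟩, ⟨4, 0⟩, ⟨4, 4⟩, ⟨0, 0⟩, ⟨0, 0⟩, ⟨0, 0⟩, ⟨10, 2⟩, ⟨5, 0⟩, ⟨6, -2⟩, ⟨0, 0⟩, ⟨2, 0⟩, ⟨1, -1⟩, ⟨2, -2⟩, ⟨4, 0⟩, ⟨3, 3⟩, ⟨4, 2⟩, ⟨4, 3⟩, ⟨4, 2⟩, ⟨5, 2⟩],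
  ![⟨0, 0⟩, ⟨0, 0⟩, ⟨0, 0⟩, ⟨292, 180⟩, ⟨0, 0⟩, ⟨-8, 0⟩, ⟨232, -56⟩, ⟨88, -40⟩, ⟨0, 0⟩, ⟨144, 24⟩, ⟨40, -16⟩, ⟨30, -42⟩, ⟨-4, 0⟩, ⟨-4, 0⟩, ⟨-2, -2⟩, ⟨90, -90⟩, ⟨40, -16⟩, ⟨-11, -66⟩, ⟨-8, -4⟩, ⟨-4, -20⟩, ⟨-9, -21⟩, ⟨15, -31⟩, ⟨1, -37⟩, ⟨37, -37⟩, ⟨4, -38⟩, ⟨61, -51⟩, ⟨43, -55⟩, ⟨23, -65⟩],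
  ![⟨0, 0⟩, ⟨0, 0⟩, ⟨0, 0⟩, ⟨-12, 52⟩, ⟨0, 0⟩, ⟨0, 0⟩, ⟨20, 32⟩, ⟨8, 8⟩, ⟨0, 0⟩, ⟨-4, 28⟩, ⟨4, 4⟩, ⟨6, 4⟩, ⟨0, 0⟩, ⟨0, 0⟩, ⟨0, 0⟩, ⟨14, 4⟩, ⟨4, 4⟩, ⟨9, -5⟩, ⟨1, 0⟩, ⟨4, 0⟩, ⟨2, -2⟩, ⟨4, 0⟩, ⟨5, -1⟩, ⟨5, 3⟩, ⟨8, -1⟩, ⟨10, 5⟩, ⟨10, 3⟩, ⟨12, 0⟩],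
  ![⟨0, 0⟩, ⟨0, 0⟩, ⟨0, 0⟩, ⟨0, 0⟩, ⟨0, 0⟩, ⟨0, 0⟩, ⟨0, 0⟩, ⟨0, 0⟩, ⟨0, 0⟩, ⟨0, 0⟩, ⟨0, 0⟩, ⟨0, 0⟩, ⟨0, 0⟩, ⟨0, 0⟩, ⟨0, 0⟩, ⟨0, 0⟩, ⟨0, 0⟩, ⟨0, 0⟩, ⟨0, 0⟩, ⟨1, 0⟩, ⟨0, 0⟩, ⟨0, 0⟩, ⟨0, 0⟩, ⟨0, 0⟩, ⟨0, 0⟩, ⟨0, 0⟩, ⟨0, 0⟩, ⟨0, 0⟩],
  ![⟨0, 0⟩, ⟨0, 0⟩, ⟨0, 0⟩, ⟨192, 424⟩, ⟨0, 0⟩, ⟨-8, -8⟩, ⟨304, 112⟩, ⟨136, 40⟩, ⟨0, 0⟩, ⟨152, 160⟩, ⟨44, 12⟩, ⟨72, -24⟩, ⟨-4, -4⟩, ⟨-4, -4⟩, ⟨0, -4⟩, ⟨164, -24⟩, ⟨44, 12⟩, ⟨40, -84⟩, ⟨-4, -12⟩, ⟨10, -26⟩, ⟨9, -32⟩, ⟨34, -16⟩, ⟨32, -42⟩, ⟨72,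 -6⟩, ⟨36, -44⟩, ⟨106, -8⟩, ⟨92, -26⟩, ⟨78, -56⟩],
  ![⟨0, 0⟩, ⟨0, 0⟩, ⟨0, 0⟩, ⟨272, 400⟩, ⟨0, 0⟩, ⟨-8, -8⟩, ⟨332, 60⟩, ⟨128, 16⟩, ⟨0, 0⟩, ⟨200, 144⟩, ⟨48, 0⟩, ⟨72, -40⟩, ⟨-4, -4⟩, ⟨-4, -4⟩, ⟨0, -4⟩, ⟨156, -52⟩, ⟨48, 0⟩, ⟨24, -92⟩, ⟨-4, -12⟩, ⟨8, -32⟩, ⟨4, -30⟩, ⟨31, -24⟩, ⟨24, -50⟩, ⟨72, -22⟩, ⟨30, -56⟩, ⟨108, -26⟩, ⟨90, -44⟩, ⟨72, -74⟩],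
  ![⟨0, 0⟩, ⟨0, 0⟩, ⟨0, 0⟩, ⟨120, -112⟩, ⟨0, 0⟩, ⟨0, 0⟩, ⟨4, -116⟩, ⟨-8, -32⟩, ⟨0, 0⟩, ⟨64, -64⟩, ⟨-4, -16⟩, ⟨-12, -24⟩, ⟨0, 0⟩, ⟨0, 0⟩, ⟨0, 0⟩, ⟨-32, -36⟩, ⟨-4, -16⟩, ⟨-34, -2⟩, ⟨0, 0⟩, ⟨-10, -6⟩, ⟨-8, 2⟩, ⟨-10, -6⟩, ⟨-17, -6⟩, ⟨-8, -18⟩, ⟨-22, -14⟩, ⟨-18, -30⟩, ⟨-18, -28⟩, ⟨-28, -24⟩],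
  ![⟨0, 0⟩, ⟨0, 0⟩, ⟨0, 0⟩, ⟨0, 0⟩, ⟨0, 0⟩, ⟨0, 0⟩, ⟨0, 0⟩, ⟨0, 0⟩, ⟨0, 0⟩, ⟨0, 0⟩, ⟨0, 0⟩, ⟨0, 0⟩, ⟨0, 0⟩, ⟨0, 0⟩, ⟨0, 0⟩, ⟨0, 0⟩, ⟨0, 0⟩, ⟨0, 0⟩, ⟨0, 0⟩, ⟨0, 0⟩, ⟨0, 0⟩, ⟨0, 0⟩, ⟨0, 0⟩, ⟨-1, 0⟩, ⟨0, 0⟩, ⟨0, 0⟩, ⟨0, 0⟩, ⟨0, 0⟩],
  ![⟨0, 0⟩, ⟨0, 0⟩, ⟨0, 0⟩, ⟨120, 472⟩, ⟨0, 0⟩, ⟨-8, -8⟩, ⟨292, 172⟩, ⟨128, 48⟩, ⟨0, 0⟩, ⟨128, 168⟩, ⟨56, 24⟩, ⟨72, -12⟩, ⟨-4, -4⟩, ⟨-4, -4⟩, ⟨0, -4⟩, ⟨180, 0⟩, ⟨56, 24⟩, ⟨54, -78⟩, ⟨-4, -12⟩, ⟨16, -24⟩, ⟨12, -30⟩, ⟨46, -16⟩, ⟨38, -36⟩, ⟨74,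 0⟩, ⟨41, -36⟩, ⟨112, 8⟩, ⟨100, -14⟩, ⟨88, -44⟩],
  ![⟨0, 0⟩, ⟨0, 0⟩, ⟨0, 0⟩, ⟨0, 0⟩, ⟨0, 0⟩, ⟨0, 0⟩, ⟨0, 0⟩, ⟨0, 0⟩, ⟨0, 0⟩, ⟨0, 0⟩, ⟨0, 0⟩, ⟨0, 0⟩, ⟨0, 0⟩, ⟨0, 0⟩, ⟨0, 0⟩, ⟨0, 0⟩, ⟨0, 0⟩, ⟨0, 0⟩, ⟨0, 0⟩, ⟨0, 0⟩, ⟨0, 0⟩, ⟨0, 0⟩, ⟨0, 0⟩, ⟨0, 0⟩, ⟨0, 0⟩, ⟨-1, 0⟩, ⟨0, 0⟩, ⟨0, 0⟩],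
  ![⟨0, 0⟩, ⟨0, 0⟩, ⟨0, 0⟩, ⟨0, 0⟩, ⟨0, 0⟩, ⟨0, 0⟩, ⟨0, 0⟩, ⟨0, 0⟩, ⟨0, 0⟩, ⟨0, 0⟩, ⟨0, 0⟩, ⟨0, 0⟩, ⟨0, 0⟩, ⟨0, 0⟩, ⟨0, 0⟩, ⟨0, 0⟩, ⟨0, 0⟩, ⟨0, 0⟩, ⟨0, 0⟩, ⟨0, 0⟩, ⟨0, 0⟩, ⟨0, 0⟩, ⟨0, 0⟩, ⟨0, 0⟩, ⟨0, 0⟩, ⟨0, 0⟩, ⟨-1, 0⟩, ⟨0, 0⟩],
  ![⟨0, 0⟩, ⟨0, 0⟩, ⟨0, 0⟩, ⟨0, 0⟩, ⟨0, 0⟩, ⟨0, 0⟩, ⟨0, 0⟩, ⟨0, 0⟩, ⟨0, 0⟩, ⟨0, 0⟩, ⟨0, 0⟩, ⟨0, 0⟩, ⟨0, 0⟩, ⟨0, 0⟩, ⟨0, 0⟩, ⟨0, 0⟩, ⟨0, 0⟩, ⟨0, 0⟩, ⟨0, 0⟩, ⟨0, 0⟩, ⟨0, 0⟩, ⟨0, 0⟩, ⟨0, 0⟩, ⟨0, 0⟩, ⟨0, 0⟩, ⟨0, 0⟩, ⟨0, 0⟩, ⟨-1, 0⟩]]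

/-- Matrix of `ruShift` in the basis `Bv`. -/
def cShift : Fin 28 → Fin 28 → GaussianInt := ![
  ![⟨0, 0⟩, ⟨1, 0⟩, ⟨0, 0⟩, ⟨59, -228⟩, ⟨0, 0⟩, ⟨1, 4⟩, ⟨-84, -143⟩, ⟨-35, -45⟩, ⟨1, 0⟩, ⟨-7, -107⟩, ⟨-16, -18⟩, ⟨-32, -12⟩, ⟨1, 2⟩, ⟨0, 3⟩, ⟨1, 3⟩, ⟨-69, -35⟩, ⟨-16, -16⟩, ⟨-42, 19⟩, ⟨-2, 5⟩, ⟨-14, 5⟩, ⟨-12, 8⟩, ⟨-19, -2⟩, ⟨-23, 6⟩, ⟨-30, -16⟩, ⟨-29, 6⟩, ⟨-46, -27⟩, ⟨-44, -18⟩, ⟨-48, -3⟩],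
  ![⟨0, 0⟩, ⟨1, 0⟩, ⟨1, 0⟩, ⟨137, -267⟩, ⟨0, 0⟩, ⟨0, 6⟩, ⟨-65, -201⟩, ⟨-33, -68⟩, ⟨1, 0⟩, ⟨24, -135⟩, ⟨-17, -27⟩, ⟨-37, -27⟩, ⟨1, 3⟩, ⟨0, 4⟩, ⟨-1, 4⟩, ⟨-77, -65⟩, ⟨-18, -26⟩, ⟨-58, 12⟩, ⟨-3, 7⟩, ⟨-19, 3⟩, ⟨-17, 7⟩, ⟨-24, -7⟩, ⟨-31, 0⟩, ⟨-30, -29⟩, ⟨-37, -2⟩, ⟨-50, -46⟩, ⟨-48, -35⟩, ⟨-57, -18⟩],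
  ![⟨0, 0⟩, ⟨0, 0⟩, ⟨1, 0⟩, ⟨-43, -208⟩, ⟨0, 0⟩, ⟨2, 2⟩, ⟨-125, -82⟩, ⟨-51, -24⟩, ⟨0, 0⟩, ⟨-45, -79⟩, ⟨-24, -8⟩, ⟨-30, 3⟩, ⟨1, 1⟩, ⟨1, 1⟩, ⟨1, 3⟩, ⟨-74, 0⟩, ⟨-24, -7⟩, ⟨-26, 32⟩, ⟨1, 5⟩, ⟨-8, 9⟩, ⟨-6, 12⟩, ⟨-18, 8⟩, ⟨-16, 14⟩, ⟨-31, -1⟩, ⟨-20, 14⟩, ⟨-47, -4⟩, ⟨-41, 1⟩, ⟨-38, 16⟩],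
  ![⟨0, 0⟩, ⟨1, 0⟩, ⟨1, 0⟩, ⟨200, -303⟩, ⟨0, 0⟩, ⟨-2, 8⟩, ⟨-52, -249⟩, ⟨-28, -93⟩, ⟨0, 0⟩, ⟨37, -161⟩, ⟨-15, -37⟩, ⟨-39, -36⟩, ⟨0, 4⟩, ⟨0, 5⟩, ⟨-2, 5⟩, ⟨-81, -92⟩, ⟨-15, -37⟩, ⟨-70, 7⟩, ⟨-5, 6⟩, ⟨-24, 1⟩, ⟨-23, 6⟩, ⟨-28, -14⟩, ⟨-36, -5⟩, ⟨-33, -40⟩, ⟨-43, -4⟩, ⟨-53, -60⟩, ⟨-56, -48⟩, ⟨-68, -27⟩],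
  ![⟨-1, 0⟩, ⟨1, 0⟩, ⟨1, 0⟩, ⟨165, -191⟩, ⟨0, 0⟩, ⟨-1, 4⟩, ⟨-13, -177⟩, ⟨-10, -64⟩, ⟨0, 0⟩, ⟨47, -106⟩, ⟨-7, -25⟩, ⟨-26, -30⟩, ⟨0, 2⟩, ⟨0, 3⟩, ⟨-1, 3⟩, ⟨-49, -68⟩, ⟨-7, -24⟩, ⟨-51, -1⟩, ⟨-4, 4⟩, ⟨-16, -2⟩, ⟨-16, 2⟩, ⟨-17, -11⟩, ⟨-26, -6⟩, ⟨-19, -31⟩, ⟨-30, -9⟩, ⟨-31, -47⟩, ⟨-32, -38⟩, ⟨-45, -27⟩],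
  ![⟨0, 0⟩, ⟨-1, 1⟩, ⟨0, 0⟩, ⟨108, 78⟩, ⟨0, 0⟩, ⟨-3, -3⟩, ⟨92, -15⟩, ⟨33, -6⟩, ⟨1, 0⟩, ⟨62, 23⟩, ⟨11, -6⟩, ⟨13, -15⟩, ⟨-2, -1⟩, ⟨-2, -2⟩, ⟨-1, -1⟩, ⟨33, -28⟩, ⟨12, -4⟩, ⟨-1, -26⟩, ⟨-2, 0⟩, ⟨4, -10⟩, ⟨-1, -8⟩, ⟨4, -9⟩, ⟨2, -13⟩, ⟨14, -12⟩, ⟨3, -17⟩, ⟨25, -20⟩, ⟨21, -21⟩, ⟨13, -25⟩],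
  ![⟨0, 0⟩, ⟨1, -1⟩, ⟨-1, 1⟩, ⟨-78, -26⟩, ⟨0, 0⟩, ⟨3, 1⟩, ⟨-52, 25⟩, ⟨-18, 10⟩, ⟨0, 0⟩, ⟨-34, 0⟩, ⟨-5, 5⟩, ⟨-3, 9⟩, ⟨2, 0⟩, ⟨2, 2⟩, ⟨2, 0⟩, ⟨-14, 24⟩, ⟨-5, 5⟩, ⟨4, 14⟩, ⟨1, -1⟩, ⟨0, 5⟩, ⟨2, 5⟩, ⟨0, 6⟩, ⟨1, 7⟩, ⟨-5, 10⟩, ⟨2, 10⟩, ⟨-11, 17⟩, ⟨-8, 18⟩, ⟨-2, 17⟩],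
  ![⟨0, 0⟩, ⟨0, 0⟩, ⟨0, 0⟩, ⟨3, 111⟩, ⟨0, 0⟩, ⟨-1, -2⟩, ⟨56, 52⟩, ⟨28, 17⟩, ⟨0, 0⟩, ⟨23, 49⟩, ⟨9, 8⟩, ⟨17, 1⟩, ⟨0, -1⟩, ⟨0, -1⟩, ⟨0, -1⟩, ⟨37, 9⟩, ⟨9, 8⟩, ⟨16, -15⟩, ⟨0, -4⟩, ⟨7, -4⟩, ⟨4, -6⟩, ⟨10, 0⟩, ⟨10, -6⟩, ⟨15, 4⟩, ⟨12, -7⟩, ⟨24, 7⟩, ⟨23, 3⟩, ⟨23, -6⟩],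
  ![⟨0, 0⟩, ⟨0, 0⟩, ⟨0, 0⟩, ⟨26, 38⟩, ⟨0, 1⟩, ⟨-1, 0⟩, ⟨31, 6⟩, ⟨14, 0⟩, ⟨0, 0⟩, ⟨20, 16⟩, ⟨4, 0⟩, ⟨8, -4⟩, ⟨0, 0⟩, ⟨-1, 0⟩, ⟨0, 0⟩, ⟨15, -5⟩, ⟨5, 0⟩, ⟨2, -10⟩, ⟨0, -1⟩, ⟨1, -6⟩, ⟨0, -3⟩, ⟨3, -2⟩, ⟨3, -5⟩, ⟨8, 0⟩, ⟨4, -5⟩, ⟨10, -4⟩, ⟨9, -4⟩, ⟨8, -7⟩],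
  ![⟨0, 0⟩, ⟨0, 0⟩, ⟨0, 0⟩, ⟨52, -10⟩, ⟨0, 0⟩, ⟨-1, 2⟩, ⟨21, -31⟩, ⟨8, -10⟩, ⟨0, 0⟩, ⟨22, -12⟩, ⟨2, -5⟩, ⟨0, -7⟩, ⟨0, 1⟩, ⟨-1, 1⟩, ⟨0, 1⟩, ⟨1, -17⟩, ⟨2, -5⟩, ⟨-8, -7⟩, ⟨-1, -1⟩, ⟨-3, -4⟩, ⟨-3, -2⟩, ⟨-1, -4⟩, ⟨-3, -4⟩, ⟨0, -7⟩, ⟨-4, -5⟩, ⟨1, -12⟩, ⟨-2, -10⟩, ⟨-4, -10⟩],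
  ![⟨0, 0⟩, ⟨0, 0⟩, ⟨0, 0⟩, ⟨76, -70⟩, ⟨0, 0⟩, ⟨0, 2⟩, ⟨4, -72⟩, ⟨-2, -24⟩, ⟨0, 0⟩, ⟨20, -48⟩, ⟨-1, -12⟩, ⟨-10, -12⟩, ⟨0, 1⟩, ⟨0, 2⟩, ⟨-1, 1⟩, ⟨-15, -30⟩, ⟨-1, -13⟩, ⟨-20, -1⟩, ⟨-2, 0⟩, ⟨-10, -1⟩, ⟨-6, 0⟩, ⟨-7, -7⟩, ⟨-10, -3⟩, ⟨-6, -15⟩, ⟨-13, -4⟩, ⟨-12, -21⟩, ⟨-14, -17⟩, ⟨-19, -12⟩],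
  ![⟨0, 0⟩, ⟨0, 0⟩, ⟨0, 0⟩, ⟨18, -130⟩, ⟨0, 0⟩, ⟨2, 2⟩, ⟨-57, -71⟩, ⟨-28, -36⟩, ⟨0, 0⟩, ⟨-12, -64⟩, ⟨-8, -9⟩, ⟨-18, -8⟩, ⟨0, 0⟩, ⟨1, 1⟩, ⟨0, 0⟩, ⟨-39, -19⟩, ⟨-7, -9⟩, ⟨-23, 14⟩, ⟨-3, 5⟩, ⟨-9, 4⟩, ⟨-7, 7⟩, ⟨-10, -2⟩, ⟨-13, 3⟩, ⟨-15, -6⟩, ⟨-15, 5⟩, ⟨-26, -12⟩, ⟨-24, -8⟩, ⟨-28, 1⟩],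
  ![⟨0, 0⟩, ⟨2, 0⟩, ⟨0, 0⟩, ⟨60, -318⟩, ⟨0, 0⟩, ⟨2, 8⟩, ⟨-129, -185⟩, ⟨-58, -76⟩, ⟨-2, 0⟩, ⟨-22, -160⟩, ⟨-21, -22⟩, ⟨-47, -16⟩, ⟨1, 3⟩, ⟨1, 5⟩, ⟨0, 2⟩, ⟨-98, -47⟩, ⟨-21, -25⟩, ⟨-58, 32⟩, ⟨-4, 6⟩, ⟨-26, 7⟩, ⟨-17, 14⟩, ⟨-25, -4⟩, ⟨-33, 9⟩, ⟨-40, -18⟩, ⟨-39, 10⟩, ⟨-66, -34⟩, ⟨-63, -21⟩, ⟨-70, -1⟩],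
  ![⟨0, 0⟩, ⟨0, 0⟩, ⟨0, 0⟩, ⟨-14, 20⟩, ⟨0, 0⟩, ⟨0, 0⟩, ⟨3, 17⟩, ⟨2, 4⟩, ⟨0, 0⟩, ⟨-6, 12⟩, ⟨1, 1⟩, ⟨3, 2⟩, ⟨0, 0⟩, ⟨0, 0⟩, ⟨0, 0⟩, ⟨5, 3⟩, ⟨1, 0⟩, ⟨5, 0⟩, ⟨0, -1⟩, ⟨1, 1⟩, ⟨1, 0⟩, ⟨1, 0⟩, ⟨2, 0⟩, ⟨1, 2⟩, ⟨4, 1⟩, ⟨4, 4⟩, ⟨2, 4⟩, ⟨5, 3⟩],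
  ![⟨0, 0⟩, ⟨0, 0⟩, ⟨0, 0⟩, ⟨22, -176⟩, ⟨0, 0⟩, ⟨2, 2⟩, ⟨-78, -96⟩, ⟨-36, -44⟩, ⟨0, 0⟩, ⟨-18, -86⟩, ⟨-11, -12⟩, ⟨-25, -7⟩, ⟨0, 0⟩, ⟨1, 1⟩, ⟨0, 0⟩, ⟨-55, -23⟩, ⟨-11, -12⟩, ⟨-30, 20⟩, ⟨-3, 6⟩, ⟨-12, 6⟩, ⟨-9, 9⟩, ⟨-14, -2⟩, ⟨-17, 6⟩, ⟨-22, -8⟩, ⟨-21, 7⟩, ⟨-36, -16⟩, ⟨-33, -11⟩, ⟨-38, 2⟩],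
  ![⟨0, 0⟩, ⟨0, 0⟩, ⟨0, 0⟩, ⟨48, -180⟩, ⟨0, 0⟩, ⟨2, 2⟩, ⟨-67, -111⟩, ⟨-32, -48⟩, ⟨0, 0⟩, ⟨-8, -94⟩, ⟨-10, -16⟩, ⟨-27, -12⟩, ⟨0, 0⟩, ⟨1, 2⟩, ⟨0, 0⟩, ⟨-53, -32⟩, ⟨-9, -16⟩, ⟨-34, 17⟩, ⟨-3, 6⟩, ⟨-14, 4⟩, ⟨-10, 8⟩, ⟨-15, -5⟩, ⟨-19, 4⟩, ⟨-21, -13⟩, ⟨-23, 5⟩, ⟨-36, -22⟩, ⟨-33, -16⟩, ⟨-40, -3⟩],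
  ![⟨0, 0⟩, ⟨0, 0⟩, ⟨0, 0⟩, ⟨-46, -20⟩, ⟨0, 0⟩, ⟨2, -2⟩, ⟨-33, 13⟩, ⟨-10, 2⟩, ⟨0, 0⟩, ⟨-26, -4⟩, ⟨-3, 3⟩, ⟨-3, 7⟩, ⟨0, -1⟩, ⟨1, 0⟩, ⟨1, -1⟩, ⟨-9, 13⟩, ⟨-3, 3⟩, ⟨3, 10⟩, ⟨0, 1⟩, ⟨0, 5⟩, ⟨1, 3⟩, ⟨-1, 3⟩, ⟨1, 5⟩, ⟨-4, 6⟩, ⟨0, 7⟩, ⟨-7, 9⟩, ⟨-4, 9⟩, ⟨-3, 10⟩],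
  ![⟨0, 0⟩, ⟨-2, -2⟩, ⟨2, -2⟩, ⟨-576, -396⟩, ⟨0, 0⟩, ⟨18, 2⟩, ⟨-482, 92⟩, ⟨-176, 48⟩, ⟨0, 0⟩, ⟨-310, -78⟩, ⟨-75, 27⟩, ⟨-74, 72⟩, ⟨8, -2⟩, ⟨11, -3⟩, ⟨10, 2⟩, ⟨-180, 150⟩, ⟨-75, 27⟩, ⟨11, 138⟩, ⟨8, 12⟩, ⟨0, 49⟩, ⟨11, 45⟩, ⟨-30, 53⟩, ⟨-12, 70⟩, ⟨-80, 62⟩, ⟨-9, 81⟩, ⟨-114, 98⟩, ⟨-89, 106⟩, ⟨-53, 129⟩],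
  ![⟨0, 0⟩, ⟨0, 0⟩, ⟨0, 0⟩, ⟨42, -156⟩, ⟨0, 0⟩, ⟨2, 2⟩, ⟨-58, -96⟩, ⟨-28, -44⟩, ⟨0, 0⟩, ⟨-10, -82⟩, ⟨-8, -14⟩, ⟨-23, -9⟩, ⟨0, 0⟩, ⟨1, 1⟩, ⟨-1, 0⟩, ⟨-46, -29⟩, ⟨-7, -14⟩, ⟨-29, 15⟩, ⟨-3, 6⟩, ⟨-11, 4⟩, ⟨-9, 7⟩, ⟨-13, -5⟩, ⟨-16, 4⟩, ⟨-18, -10⟩, ⟨-20, 5⟩, ⟨-31, -19⟩, ⟨-28, -14⟩, ⟨-35, -2⟩],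
  ![⟨0, 0⟩, ⟨0, 0⟩, ⟨0, 0⟩, ⟨12, -8⟩, ⟨0, 0⟩, ⟨0, 0⟩, ⟨2, -10⟩, ⟨0, -4⟩, ⟨0, 0⟩, ⟨4, -4⟩, ⟨0, -2⟩, ⟨0, -2⟩, ⟨0, 0⟩, ⟨0, 0⟩, ⟨0, 0⟩, ⟨-2, -4⟩, ⟨0, -2⟩, ⟨-3, -1⟩, ⟨0, 0⟩, ⟨-1, -1⟩, ⟨-1, 0⟩, ⟨-1, -1⟩, ⟨-1, -1⟩, ⟨0, -2⟩, ⟨-1, -1⟩, ⟨-1, -3⟩, ⟨-1, -3⟩, ⟨-2, -2⟩],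
  ![⟨0, 0⟩, ⟨0, -4⟩, ⟨4, 0⟩, ⟨0, -404⟩, ⟨0, 0⟩, ⟨0, 8⟩, ⟨-206, -198⟩, ⟨-92, -76⟩, ⟨0, 0⟩, ⟨-64, -184⟩, ⟨-38, -26⟩, ⟨-64, -16⟩, ⟨2, 2⟩, ⟨10, 0⟩, ⟨0, 8⟩, ⟨-130, -40⟩, ⟨-40, -26⟩, ⟨-63, 51⟩, ⟨-6, 6⟩, ⟨-14, 17⟩, ⟨-18, 21⟩, ⟨-34, 4⟩, ⟨-41, 16⟩, ⟨-57, -24⟩, ⟨-42, 21⟩, ⟨-78, -17⟩, ⟨-77, -12⟩, ⟨-79, 14⟩],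
  ![⟨0, 0⟩, ⟨0, -4⟩, ⟨4, 0⟩, ⟨-600, -660⟩, ⟨0, 0⟩, ⟨12, 8⟩, ⟨-624, -28⟩, ⟨-248, 20⟩, ⟨0, 0⟩, ⟨-376, -168⟩, ⟨-106, 4⟩, ⟨-110, 68⟩, ⟨8, 4⟩, ⟨16, 0⟩, ⟨6, 10⟩, ⟨-272, 130⟩, ⟨-108, 4⟩, ⟨-22, 170⟩, ⟨12, 18⟩, ⟨-3, 65⟩, ⟨2, 58⟩, ⟨-59, 60⟩, ⟨-35, 82⟩, ⟨-118, 48⟩, ⟨-30, 101⟩, ⟨-171, 95⟩, ⟨-145, 106⟩, ⟨-99, 152⟩],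
  ![⟨0, 0⟩, ⟨0, 0⟩, ⟨0, 0⟩, ⟨-372, 224⟩, ⟨0, 0⟩, ⟨0, -8⟩, ⟨-66, 294⟩, ⟨-28, 140⟩, ⟨0, 0⟩, ⟨-140, 168⟩, ⟨-8, 40⟩, ⟨22, 64⟩, ⟨0, 0⟩, ⟨2, -4⟩, ⟨0, 0⟩, ⟨34, 140⟩, ⟨-10, 38⟩, ⟨84, 28⟩, ⟨18, -4⟩, ⟨31, 15⟩, ⟨31, 3⟩, ⟨16, 31⟩, ⟨37, 26⟩, ⟨15, 53⟩, ⟨46, 29⟩, ⟨23, 94⟩, ⟨30, 80⟩, ⟨62, 70⟩],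
  ![⟨0, 0⟩, ⟨0, 0⟩, ⟨0, 0⟩, ⟨0, 0⟩, ⟨0, 0⟩, ⟨0, 0⟩, ⟨0, 0⟩, ⟨0, 0⟩, ⟨0, 0⟩, ⟨0, 0⟩, ⟨0, 0⟩, ⟨0, 0⟩, ⟨0, 0⟩, ⟨0, 0⟩, ⟨0, 0⟩, ⟨0, 0⟩, ⟨0, 0⟩, ⟨0, 0⟩, ⟨0, 0⟩, ⟨0, 1⟩, ⟨0, 0⟩, ⟨0, 0⟩, ⟨0, 0⟩, ⟨0, 0⟩, ⟨0, 0⟩, ⟨0, 0⟩, ⟨0, 0⟩, ⟨0, 0⟩],
  ![⟨0, 0⟩, ⟨0, -4⟩, ⟨4, 0⟩, ⟨-172, -968⟩, ⟨0, 0⟩, ⟨16, 20⟩, ⟨-568, -392⟩, ⟨-224, -124⟩, ⟨0, 0⟩, ⟨-228, -396⟩, ⟨-100, -48⟩, ⟨-146, -2⟩, ⟨10, 6⟩, ⟨14, 10⟩, ⟨8, 12⟩, ⟨-328, -30⟩, ⟨-100, -48⟩, ⟨-127, 147⟩, ⟨-4, 20⟩, ⟨-50, 48⟩, ⟨-33, 55⟩, ⟨-82,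 22⟩, ⟨-82, 58⟩, ⟨-140, -18⟩, ⟨-92, 72⟩, ⟨-213, -18⟩, ⟨-196, 16⟩, ⟨-183, 74⟩],
  ![⟨0, 0⟩, ⟨0, 0⟩, ⟨0, 0⟩, ⟨0, 4⟩, ⟨0, 0⟩, ⟨0, 0⟩, ⟨2, 2⟩, ⟨0, 0⟩, ⟨0, 0⟩, ⟨0, 0⟩, ⟨2, 0⟩, ⟨0, 0⟩, ⟨0, 0⟩, ⟨0, 0⟩, ⟨0, 0⟩, ⟨2, 0⟩, ⟨2, 0⟩, ⟨0, 0⟩, ⟨0, 0⟩, ⟨0, 0⟩, ⟨0, 0⟩, ⟨1, -1⟩, ⟨0, 0⟩, ⟨1, 0⟩, ⟨0, 0⟩, ⟨1, 0⟩, ⟨1, 0⟩, ⟨0, 0⟩],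
  ![⟨0, 0⟩, ⟨0, 0⟩, ⟨0, 0⟩, ⟨0, 4⟩, ⟨0, 0⟩, ⟨0, 0⟩, ⟨2, 2⟩, ⟨0, 0⟩, ⟨0, 0⟩, ⟨0, 4⟩, ⟨0, 0⟩, ⟨2, 0⟩, ⟨0, 0⟩, ⟨0, 0⟩, ⟨0, 0⟩, ⟨2, 0⟩, ⟨0, 0⟩, ⟨1, -1⟩, ⟨0, 0⟩, ⟨0, 0⟩, ⟨0, 0⟩, ⟨0, 0⟩, ⟨1, -1⟩, ⟨1, 0⟩, ⟨1, 0⟩, ⟨1, 1⟩, ⟨1, 0⟩, ⟨1, 0⟩],
  ![⟨0, 0⟩, ⟨0, 0⟩, ⟨0, 0⟩, ⟨0, 0⟩, ⟨0, 0⟩, ⟨0, 0⟩, ⟨0, 0⟩, ⟨0, 0⟩, ⟨0, 0⟩, ⟨0, 0⟩, ⟨0, 0⟩, ⟨0, 0⟩, ⟨0, 0⟩, ⟨0, 0⟩, ⟨0, 0⟩, ⟨0, 0⟩, ⟨0, 0⟩, ⟨0, 0⟩, ⟨0, 0⟩, ⟨0, 0⟩, ⟨0, 0⟩, ⟨0, 0⟩, ⟨0, 0⟩, ⟨0, -1⟩, ⟨0, 0⟩, ⟨0, 0⟩, ⟨0, 0⟩, ⟨0, 0⟩]]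

/-- Coordinates of the table vectors in the basis `Bv`. -/
def cT : Fin 20 → Fin 28 → GaussianInt := ![
  ![⟨-4, 0⟩, ⟨0, 0⟩, ⟨0, 0⟩, ⟨-244, 380⟩, ⟨0, 0⟩, ⟨4, -12⟩, ⟨70, 310⟩, ⟨40, 120⟩, ⟨0, 0⟩, ⟨-40, 200⟩, ⟨20, 48⟩, ⟨44, 38⟩, ⟨0, -6⟩, ⟨2, -6⟩, ⟨4, -6⟩, ⟨104, 114⟩, ⟨22, 50⟩, ⟨84, -10⟩, ⟨6, -6⟩, ⟨32, -2⟩, ⟨29, -9⟩, ⟨37, 18⟩, ⟨42, 5⟩, ⟨45, 47⟩, ⟨53, 3⟩, ⟨69, 75⟩, ⟨73, 61⟩, ⟨84, 28⟩],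
  ![⟨0, 1⟩, ⟨-1, 0⟩, ⟨-1, 0⟩, ⟨-85, 223⟩, ⟨0, 0⟩, ⟨-1, -6⟩, ⟨69, 152⟩, ⟨33, 54⟩, ⟨0, 0⟩, ⟨-5, 115⟩, ⟨15, 19⟩, ⟨32, 19⟩, ⟨-1, -2⟩, ⟨-1, -3⟩, ⟨1, -3⟩, ⟨65, 46⟩, ⟨16, 19⟩, ⟨45, -15⟩, ⟨3, -5⟩, ⟨17, -5⟩, ⟨13, -7⟩, ⟨19, 4⟩, ⟨25, -2⟩, ⟨26, 21⟩, ⟨30, -2⟩, ⟨44, 31⟩, ⟨42, 24⟩, ⟨48, 10⟩],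
  ![⟨0, 1⟩, ⟨-1, 0⟩, ⟨1, 0⟩, ⟨101, 137⟩, ⟨0, 0⟩, ⟨-5, -4⟩, ⟨118, 17⟩, ⟨45, 0⟩, ⟨0, 0⟩, ⟨65, 41⟩, ⟨18, -1⟩, ⟨20, -10⟩, ⟨-3, -1⟩, ⟨-2, -3⟩, ⟨-3, -2⟩, ⟨53, -21⟩, ⟨18, -2⟩, ⟨9, -30⟩, ⟨-1, -3⟩, ⟨4, -11⟩, ⟨1, -11⟩, ⟨10, -10⟩, ⟨8, -14⟩, ⟨22, -10⟩, ⟨8, -19⟩, ⟨36, -14⟩, ⟨32, -20⟩, ⟨22, -26⟩],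
  ![⟨0, 1⟩, ⟨1, 0⟩, ⟨-1, 0⟩, ⟨175, 103⟩, ⟨0, 0⟩, ⟨-5, 0⟩, ⟨138, -37⟩, ⟨55, -20⟩, ⟨0, 0⟩, ⟨91, 17⟩, ⟨22, -10⟩, ⟨19, -21⟩, ⟨-2, 1⟩, ⟨-3, 1⟩, ⟨-2, -2⟩, ⟨50, -49⟩, ⟨23, -10⟩, ⟨-6, -39⟩, ⟨-3, -3⟩, ⟨-1, -14⟩, ⟨-5, -13⟩, ⟨8, -17⟩, ⟨2, -20⟩, ⟨21, -19⟩, ⟨1, -23⟩, ⟨32, -32⟩, ⟨25, -32⟩, ⟨12, -38⟩],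
  ![⟨0, 1⟩, ⟨1, 0⟩, ⟨1, 0⟩, ⟨261, -219⟩, ⟨0, 0⟩, ⟨-5, 6⟩, ⟨21, -238⟩, ⟨-1, -90⟩, ⟨0, 0⟩, ⟨77, -137⟩, ⟨-3, -36⟩, ⟨-29, -40⟩, ⟨-2, 4⟩, ⟨-2, 3⟩, ⟨-4, 3⟩, ⟨-50, -104⟩, ⟨-3, -37⟩, ⟨-65, -11⟩, ⟨-5, 5⟩, ⟨-22, -6⟩, ⟨-22, -1⟩, ⟨-21, -20⟩, ⟨-32, -12⟩, ⟨-21, -45⟩, ⟨-39, -16⟩, ⟨-31, -70⟩, ⟨-37, -60⟩, ⟨-56, -43⟩],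
  ![⟨-1, 0⟩, ⟨-1, 0⟩, ⟨-1, 0⟩, ⟨-243, 168⟩, ⟨1, 0⟩, ⟨4, -6⟩, ⟨-36, 204⟩, ⟨-5, 80⟩, ⟨0, -1⟩, ⟨-82, 112⟩, ⟨0, 30⟩, ⟨19, 38⟩, ⟨1, -3⟩, ⟨2, -3⟩, ⟨3, -3⟩, ⟨34, 92⟩, ⟨2, 30⟩, ⟨55, 15⟩, ⟨7, -3⟩, ⟨19, 6⟩, ⟨19, 2⟩, ⟨16, 18⟩, ⟨26, 14⟩, ⟨14, 39⟩, ⟨33, 18⟩, ⟨22, 63⟩, ⟨27, 55⟩, ⟨43, 42⟩],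
  ![⟨-1, 0⟩, ⟨-1, 0⟩, ⟨-1, 0⟩, ⟨-267, 318⟩, ⟨0, 0⟩, ⟨4, -9⟩, ⟨26, 291⟩, ⟨21, 111⟩, ⟨0, 0⟩, ⟨-65, 179⟩, ⟨12, 43⟩, ⟨39, 44⟩, ⟨1, -5⟩, ⟨1, -5⟩, ⟨4, -5⟩, ⟨81, 115⟩, ⟨14, 44⟩, ⟨80, 1⟩, ⟨6, -6⟩, ⟨28, 1⟩, ⟨27, -4⟩, ⟨30, 19⟩, ⟨40, 10⟩, ⟨34, 50⟩, ⟨49, 11⟩, ⟨53, 75⟩, ⟨57, 63⟩, ⟨74, 39⟩],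
  ![⟨-1, 0⟩, ⟨-1, 0⟩, ⟨-1, 0⟩, ⟨-259, 324⟩, ⟨0, 0⟩, ⟨3, -10⟩, ⟨33, 289⟩, ⟨26, 108⟩, ⟨0, 0⟩, ⟨-66, 184⟩, ⟨14, 42⟩, ⟨41, 45⟩, ⟨0, -5⟩, ⟨1, -6⟩, ⟨4, -5⟩, ⟨84, 111⟩, ⟨15, 43⟩, ⟨81, -1⟩, ⟨6, -6⟩, ⟨30, 2⟩, ⟨26, -5⟩, ⟨30, 18⟩, ⟨41, 9⟩, ⟨33, 49⟩, ⟨50, 11⟩, ⟨56, 76⟩, ⟨59, 62⟩, ⟨75, 39⟩],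
  ![⟨-1, 0⟩, ⟨-1, 0⟩, ⟨1, 0⟩, ⟨-47, 168⟩, ⟨0, 0⟩, ⟨0, -5⟩, ⟨60, 107⟩, ⟨26, 37⟩, ⟨0, 0⟩, ⟨11, 75⟩, ⟨11, 16⟩, ⟨21, 7⟩, ⟨-1, -3⟩, ⟨1, -3⟩, ⟨0, -3⟩, ⟨52, 30⟩, ⟨11, 15⟩, ⟨30, -13⟩, ⟨1, -3⟩, ⟨10, -4⟩, ⟨10, -6⟩, ⟨15, 3⟩, ⟨16, -4⟩, ⟨23, 11⟩, ⟨20, -6⟩, ⟨34, 21⟩, ⟨35, 13⟩, ⟨35, 0⟩],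
  ![⟨-1, 0⟩, ⟨-1, 0⟩, ⟨1, 0⟩, ⟨-111, 202⟩, ⟨0, 0⟩, ⟨1, -8⟩, ⟨45, 155⟩, ⟨22, 57⟩, ⟨0, 0⟩, ⟨-12, 98⟩, ⟨11, 24⟩, ⟨24, 18⟩, ⟨-1, -4⟩, ⟨1, -4⟩, ⟨1, -4⟩, ⟨58, 55⟩, ⟨11, 25⟩, ⟨43, -7⟩, ⟨2, -3⟩, ⟨15, -1⟩, ⟨15, -5⟩, ⟨19, 8⟩, ⟨22, 1⟩, ⟨24, 22⟩, ⟨26, -1⟩, ⟨38, 36⟩, ⟨41, 26⟩, ⟨44, 11⟩],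
  ![⟨-1, 0⟩, ⟨-1, 0⟩, ⟨1, 0⟩, ⟨-35, 112⟩, ⟨1, 0⟩, ⟨0, -4⟩, ⟨39, 73⟩, ⟨16, 26⟩, ⟨-1, 0⟩, ⟨4, 48⟩, ⟨7, 11⟩, ⟨12, 5⟩, ⟨-1, -2⟩, ⟨1, -2⟩, ⟨0, -2⟩, ⟨34, 21⟩, ⟨7, 10⟩, ⟨20, -7⟩, ⟨1, -3⟩, ⟨5, -1⟩, ⟨7, -4⟩, ⟨10, 2⟩, ⟨10, -2⟩, ⟨15, 6⟩, ⟨13, -4⟩, ⟨22, 15⟩, ⟨23, 9⟩, ⟨22, 0⟩],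
  ![⟨-1, 0⟩, ⟨-1, 0⟩, ⟨1, 0⟩, ⟨-213, 128⟩, ⟨0, -1⟩, ⟨2, -6⟩, ⟨-42, 169⟩, ⟨-7, 65⟩, ⟨0, -1⟩, ⟨-69, 83⟩, ⟨-2, 29⟩, ⟨13, 32⟩, ⟨0, -3⟩, ⟨2, -4⟩, ⟨1, -2⟩, ⟨26, 81⟩, ⟨-1, 29⟩, ⟨45, 17⟩, ⟨6, -2⟩, ⟨16, 7⟩, ⟨16, 2⟩, ⟨14, 18⟩, ⟨21, 13⟩, ⟨9, 32⟩, ⟨24, 15⟩, ⟨16, 55⟩, ⟨21, 43⟩, ⟨34, 35⟩],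
  ![⟨-1, 0⟩, ⟨1, 0⟩, ⟨-1, 0⟩, ⟨-89, 90⟩, ⟨0, -1⟩, ⟨2, -2⟩, ⟨1, 88⟩, ⟨6, 35⟩, ⟨0, 0⟩, ⟨-22, 52⟩, ⟨4, 15⟩, ⟨10, 14⟩, ⟨1, -1⟩, ⟨1, -1⟩, ⟨2, -2⟩, ⟨22, 37⟩, ⟨4, 16⟩, ⟨23, 2⟩, ⟨1, -2⟩, ⟨9, 3⟩, ⟨8, -1⟩, ⟨10, 7⟩, ⟨11, 4⟩, ⟨8, 16⟩, ⟨14, 4⟩, ⟨14, 25⟩, ⟨16, 22⟩, ⟨21, 13⟩],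
  ![⟨-1, 0⟩, ⟨1, 0⟩, ⟨-1, 0⟩, ⟨-45, 236⟩, ⟨-1, 0⟩, ⟨0, -4⟩, ⟨95, 139⟩, ⟨44, 51⟩, ⟨0, 0⟩, ⟨23, 109⟩, ⟨20, 20⟩, ⟨32, 9⟩, ⟨0, -2⟩, ⟨-1, -2⟩, ⟨2, -3⟩, ⟨74, 36⟩, ⟨21, 22⟩, ⟨39, -23⟩, ⟨1, -5⟩, ⟨16, -8⟩, ⟨12, -10⟩, ⟨23, 2⟩, ⟨22, -7⟩, ⟨31, 17⟩, ⟨27, -9⟩, ⟨49, 23⟩, ⟨46, 17⟩, ⟨49, -3⟩],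
  ![⟨-1, 0⟩, ⟨1, 0⟩, ⟨-1, 0⟩, ⟨-45, 204⟩, ⟨0, 0⟩, ⟨-1, -4⟩, ⟨79, 123⟩, ⟨40, 42⟩, ⟨0, -1⟩, ⟨15, 89⟩, ⟨19, 18⟩, ⟨28, 10⟩, ⟨-1, -2⟩, ⟨-1, -2⟩, ⟨1, -3⟩, ⟨67, 31⟩, ⟨21, 19⟩, ⟨35, -19⟩, ⟨2, -5⟩, ⟨14, -7⟩, ⟨10, -9⟩, ⟨21, 1⟩, ⟨20, -6⟩, ⟨27, 14⟩, ⟨23, -5⟩, ⟨42, 23⟩, ⟨39, 14⟩, ⟨41, -1⟩],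
  ![⟨-1, 0⟩, ⟨1, 0⟩, ⟨-1, 0⟩, ⟨3, 94⟩, ⟨0, 0⟩, ⟨0, -1⟩, ⟨49, 44⟩, ⟨23, 15⟩, ⟨-1, 0⟩, ⟨16, 42⟩, ⟨10, 5⟩, ⟨13, 0⟩, ⟨0, 0⟩, ⟨0, 0⟩, ⟨1, -1⟩, ⟨31, 5⟩, ⟨11, 5⟩, ⟨12, -13⟩, ⟨0, -3⟩, ⟨6, -4⟩, ⟨3, -5⟩, ⟨9, -2⟩, ⟨7, -5⟩, ⟨13, 3⟩, ⟨11, -5⟩, ⟨21, 5⟩, ⟨19, 5⟩, ⟨18, -4⟩],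
  ![⟨-1, 0⟩, ⟨1, 0⟩, ⟨1, 0⟩, ⟨139, -168⟩, ⟨0, 0⟩, ⟨-1, 6⟩, ⟨-13, -151⟩, ⟨-14, -55⟩, ⟨-1, 0⟩, ⟨27, -95⟩, ⟨-6, -23⟩, ⟨-24, -25⟩, ⟨0, 3⟩, ⟨0, 3⟩, ⟨-2, 4⟩, ⟨-44, -62⟩, ⟨-6, -25⟩, ⟨-43, 0⟩, ⟨-3, 3⟩, ⟨-16, -1⟩, ⟨-14, 2⟩, ⟨-16, -11⟩, ⟨-23, -5⟩, ⟨-17, -28⟩, ⟨-25, -5⟩, ⟨-28, -40⟩, ⟨-32, -31⟩, ⟨-41, -21⟩],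
  ![⟨-1, 0⟩, ⟨1, 0⟩, ⟨1, 0⟩, ⟨45, -198⟩, ⟨0, 0⟩, ⟨2, 3⟩, ⟨-75, -120⟩, ⟨-32, -39⟩, ⟨0, 1⟩, ⟨-12, -94⟩, ⟨-15, -14⟩, ⟨-31, -11⟩, ⟨1, 1⟩, ⟨2, 2⟩, ⟨0, 3⟩, ⟨-61, -30⟩, ⟨-16, -14⟩, ⟨-36, 19⟩, ⟨-2, 5⟩, ⟨-13, 7⟩, ⟨-10, 7⟩, ⟨-17, -1⟩, ⟨-21, 6⟩, ⟨-25, -16⟩, ⟨-25, 5⟩, ⟨-41, -21⟩, ⟨-37, -14⟩, ⟨-42, -2⟩],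
  ![⟨-1, 0⟩, ⟨1, 0⟩, ⟨1, 0⟩, ⟨-1, -222⟩, ⟨0, -1⟩, ⟨2, 4⟩, ⟨-110, -109⟩, ⟨-46, -34⟩, ⟨0, 0⟩, ⟨-38, -96⟩, ⟨-20, -12⟩, ⟨-35, -4⟩, ⟨1, 2⟩, ⟨2, 2⟩, ⟨0, 3⟩, ⟨-74, -19⟩, ⟨-20, -13⟩, ⟨-34, 28⟩, ⟨0, 6⟩, ⟨-12, 10⟩, ⟨-9, 10⟩, ⟨-19, 3⟩, ⟨-21, 11⟩, ⟨-31, -10⟩, ⟨-24, 12⟩, ⟨-48, -12⟩, ⟨-44, -6⟩, ⟨-45, 9⟩],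
  ![⟨-1, 0⟩, ⟨1, 0⟩, ⟨1, 0⟩, ⟨131, -262⟩, ⟨1, 0⟩, ⟨0, 6⟩, ⟨-64, -194⟩, ⟨-35, -69⟩, ⟨0, 0⟩, ⟨17, -137⟩, ⟨-15, -26⟩, ⟨-38, -26⟩, ⟨0, 3⟩, ⟨1, 4⟩, ⟨-1, 4⟩, ⟨-75, -64⟩, ⟨-16, -27⟩, ⟨-57, 13⟩, ⟨-3, 5⟩, ⟨-22, 3⟩, ⟨-17, 7⟩, ⟨-23, -8⟩, ⟨-31, 0⟩, ⟨-29, -31⟩, ⟨-36, -1⟩, ⟨-49, -43⟩, ⟨-49, -33⟩, ⟨-59, -17⟩]]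

/-- Generator matrix of the level-1 code. -/
def G1 : Fin 28 → Fin 9 → ZMod 2 := ![
  ![1, 1, 1, 1, 0, 1, 1, 0, 0],
  ![1, 1, 1, 1, 1, 0, 0, 1, 0],
  ![1, 1, 1, 1, 1, 0, 1, 1, 1],
  ![1, 1, 1, 1, 0, 1, 0, 0, 1],
  ![1, 0, 0, 0, 1, 1, 0, 1, 1],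
  ![1, 0, 0, 0, 1, 1, 1, 0, 1],
  ![1, 0, 0, 0, 0, 0, 1, 1, 0],
  ![1, 0, 0, 0, 0, 0, 0, 0, 0],
  ![0, 1, 0, 0, 1, 1, 1, 0, 1],
  ![0, 1, 0, 0, 1, 1, 0, 0, 0],
  ![0, 1, 0, 0, 0, 0, 1, 0, 1],
  ![0, 1, 0, 0, 0, 0, 0, 0, 0],
  ![0, 0, 1, 0, 1, 1, 0, 0, 0],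
  ![0, 0, 1, 0, 0, 0, 0, 1, 1],
  ![0, 0, 1, 0, 1, 1, 0, 1, 1],
  ![0, 0, 1, 0, 0, 0, 0, 0, 0],
  ![0, 0, 0, 1, 0, 0, 0, 1, 1],
  ![0, 0, 0, 1, 1, 1, 1, 1, 0],
  ![0, 0, 0, 1, 1, 1, 1, 0, 1],
  ![0, 0, 0, 1, 0, 0, 0, 0, 0],
  ![0, 0, 0, 0, 1, 0, 1, 1, 0],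
  ![0, 0, 0, 0, 0, 1, 1, 1, 0],
  ![0, 0, 0, 0, 1, 0, 0, 0, 0],
  ![0, 0, 0, 0, 0, 1, 0, 0, 0],
  ![0, 0, 0, 0, 0, 0, 1, 1, 1],
  ![0, 0, 0, 0, 0, 0, 1, 0, 0],
  ![0, 0, 0, 0, 0, 0, 0, 1, 0],
  ![0, 0, 0, 0, 0, 0, 0, 0, 1]]

/-- Free coordinates of the level-1 code. -/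
def F1 : Fin 9 → Fin 28 := ![7, 11, 15, 19, 22, 23, 25, 26, 27]

/-- Certificate matrix of the level-1 code. -/
def K1 : Fin 28 → Fin 28 → ZMod 2 := ![
  ![1, 0, 0, 1, 0, 0, 0, 0, 0, 1, 0, 1, 1, 0, 1, 1, 0, 1, 1, 0, 0, 0, 0, 0, 0, 0, 0, 0],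
  ![0, 1, 0, 0, 0, 1, 0, 0, 0, 1, 0, 0, 0, 0, 0, 1, 0, 1, 1, 0, 0, 0, 0, 0, 0, 0, 0, 0],
  ![0, 0, 1, 1, 0, 1, 1, 1, 0, 1, 1, 1, 1, 0, 0, 0, 1, 1, 1, 0, 0, 0, 0, 0, 0, 0, 0, 0],
  ![0, 0, 0, 1, 0, 0, 0, 0, 0, 0, 1, 0, 0, 0, 1, 0, 1, 1, 1, 0, 0, 0, 0, 0, 0, 0, 0, 0],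
  ![0, 0, 0, 0, 1, 0, 1, 1, 0, 0, 1, 1, 0, 0, 1, 0, 0, 0, 0, 0, 0, 0, 0, 0, 0, 0, 0, 0],
  ![0, 0, 0, 0, 0, 1, 0, 0, 0, 1, 1, 1, 1, 1, 1, 1, 1, 0, 1, 0, 0, 0, 0, 0, 0, 0, 0, 0],
  ![0, 0, 0, 1, 0, 1, 0, 1, 0, 1, 0, 0, 1, 1, 0, 1, 1, 0, 1, 0, 0, 0, 0, 0, 0, 0, 0, 0],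
  ![0, 0, 0, 0, 0, 0, 0, 0, 0, 0, 0, 0, 0, 0, 0, 0, 0, 0, 0, 0, 0, 0, 0, 0, 0, 0, 0, 0],
  ![0, 0, 0, 0, 0, 0, 0, 1, 1, 0, 0, 0, 0, 0, 0, 0, 0, 0, 1, 0, 0, 0, 0, 0, 0, 0, 0, 0],
  ![0, 0, 0, 0, 0, 0, 0, 0, 0, 1, 0, 1, 0, 0, 0, 0, 1, 0, 1, 0, 0, 0, 0, 0, 0, 0, 0, 0],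
  ![0, 0, 0, 1, 0, 0, 1, 0, 0, 0, 0, 1, 0, 0, 0, 0, 1, 0, 0, 0, 0, 0, 0, 0, 0, 0, 0, 0],
  ![0, 0, 0, 0, 0, 0, 0, 0, 0, 0, 0, 0, 0, 0, 0, 0, 0, 0, 0, 0, 0, 0, 0, 0, 0, 0, 0, 0],
  ![0, 0, 0, 0, 0, 1, 0, 1, 0, 1, 0, 1, 0, 1, 1, 0, 0, 0, 0, 0, 0, 0, 0, 0, 0, 0, 0, 0],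
  ![0, 0, 0, 1, 0, 0, 1, 0, 0, 1, 0, 0, 0, 1, 0, 0, 0, 0, 0, 0, 0, 0, 0, 0, 0, 0, 0, 0],
  ![0, 0, 0, 0, 0, 0, 0, 0, 0, 0, 0, 1, 0, 0, 1, 0, 0, 0, 0, 0, 0, 0, 0, 0, 0, 0, 0, 0],
  ![0, 0, 0, 0, 0, 0, 0, 0, 0, 0, 0, 0, 0, 0, 0, 0, 0, 0, 0, 0, 0, 0, 0, 0, 0, 0, 0, 0],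
  ![0, 0, 0, 1, 0, 0, 1, 0, 0, 0, 0, 0, 0, 0, 0, 1, 0, 0, 1, 0, 0, 0, 0, 0, 0, 0, 0, 0],
  ![0, 0, 0, 0, 0, 0, 0, 0, 0, 0, 0, 1, 0, 0, 0, 1, 0, 0, 0, 0, 0, 0, 0, 0, 0, 0, 0, 0],
  ![0, 0, 0, 0, 0, 0, 0, 0, 0, 0, 0, 1, 0, 0, 0, 0, 0, 0, 1, 0, 0, 0, 0, 0, 0, 0, 0, 0],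
  ![0, 0, 0, 0, 0, 0, 0, 0, 0, 0, 0, 0, 0, 0, 0, 0, 0, 0, 0, 0, 0, 0, 0, 0, 0, 0, 0, 0],
  ![0, 0, 0, 0, 0, 0, 0, 1, 0, 0, 1, 0, 0, 0, 0, 1, 1, 0, 0, 0, 0, 0, 0, 0, 0, 0, 0, 0],
  ![0, 0, 0, 1, 0, 0, 1, 0, 0, 0, 1, 0, 0, 0, 0, 1, 1, 0, 0, 0, 0, 0, 0, 0, 0, 0, 0, 0],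
  ![0, 0, 0, 0, 0, 0, 0, 0, 0, 0, 0, 0, 0, 0, 0, 0, 0, 0, 0, 0, 0, 0, 0, 0, 0, 0, 0, 0],
  ![0, 0, 0, 0, 0, 0, 0, 0, 0, 0, 0, 0, 0, 0, 0, 0, 0, 0, 0, 0, 0, 0, 0, 0, 0, 0, 0, 0],
  ![0, 0, 0, 1, 0, 0, 1, 0, 0, 1, 0, 0, 0, 0, 0, 0, 0, 0, 0, 0, 0, 0, 0, 0, 0, 0, 0, 0],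
  ![0, 0, 0, 0, 0, 0, 0, 0, 0, 0, 0, 0, 0, 0, 0, 0, 0, 0, 0, 0, 0, 0, 0, 0, 0, 0, 0, 0],
  ![0, 0, 0, 0, 0, 0, 0, 0, 0, 0, 0, 0, 0, 0, 0, 0, 0, 0, 0, 0, 0, 0, 0, 0, 0, 0, 0, 0],
  ![0, 0, 0, 0, 0, 0, 0, 0, 0, 0, 0, 0, 0, 0, 0, 0, 0, 0, 0, 0, 0, 0, 0, 0, 0, 0, 0, 0]]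

/-- Generator matrix of the level-2 code. -/
def G2 : Fin 28 → Fin 10 → ZMod 2 := ![
  ![1, 0, 0, 0, 0, 0, 0, 1, 0, 1],
  ![1, 0, 0, 0, 0, 1, 1, 0, 1, 1],
  ![1, 0, 0, 0, 0, 1, 1, 1, 1, 0],
  ![1, 0, 0, 0, 0, 0, 0, 0, 0, 0],
  ![0, 1, 0, 0, 0, 1, 1, 0, 1, 1],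
  ![0, 1, 0, 0, 0, 1, 1, 1, 0, 1],
  ![0, 1, 0, 0, 0, 0, 0, 1, 1, 0],
  ![0, 1, 0, 0, 0, 0, 0, 0, 0, 0],
  ![0, 0, 1, 0, 0, 1, 1, 1, 0, 1],
  ![0, 0, 1, 0, 0, 1, 1, 0, 0, 0],
  ![0, 0, 1, 0, 0, 0, 0, 1, 0, 1],
  ![0, 0, 1, 0, 0, 0, 0, 0, 0, 0],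
  ![0, 0, 0, 1, 0, 1, 1, 0, 0, 0],
  ![0, 0, 0, 1, 0, 0, 0, 0, 1, 1],
  ![0, 0, 0, 1, 0, 1, 1, 0, 1, 1],
  ![0, 0, 0, 1, 0, 0, 0, 0, 0, 0],
  ![0, 0, 0, 0, 1, 0, 0, 0, 1, 1],
  ![0, 0, 0, 0, 1, 1, 1, 1, 1, 0],
  ![0, 0, 0, 0, 1, 1, 1, 1, 0, 1],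
  ![0, 0, 0, 0, 1, 0, 0, 0, 0, 0],
  ![0, 0, 0, 0, 0, 1, 0, 1, 1, 0],
  ![0, 0, 0, 0, 0, 0, 1, 1, 1, 0],
  ![0, 0, 0, 0, 0, 1, 0, 0, 0, 0],
  ![0, 0, 0, 0, 0, 0, 1, 0, 0, 0],
  ![0, 0, 0, 0, 0, 0, 0, 1, 1, 1],
  ![0, 0, 0, 0, 0, 0, 0, 1, 0, 0],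
  ![0, 0, 0, 0, 0, 0, 0, 0, 1, 0],
  ![0, 0, 0, 0, 0, 0, 0, 0, 0, 1]]

/-- Free coordinates of the level-2 code. -/
def F2 : Fin 10 → Fin 28 := ![3, 7, 11, 15, 19, 22, 23, 25, 26, 27]

/-- Certificate matrix of the level-2 code. -/
def K2 : Fin 28 → Fin 28 → ZMod 2 := ![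
  ![1, 0, 0, 0, 0, 0, 0, 0, 0, 1, 1, 1, 1, 0, 0, 1, 1, 0, 0, 0, 0, 0, 0, 0, 0, 0, 0, 0],
  ![0, 1, 0, 1, 0, 1, 0, 0, 0, 1, 1, 0, 0, 0, 1, 1, 1, 0, 0, 0, 0, 0, 0, 0, 0, 0, 0, 0],
  ![0, 0, 1, 0, 0, 1, 1, 1, 0, 1, 0, 1, 1, 0, 1, 0, 0, 0, 0, 0, 0, 0, 0, 0, 0, 0, 0, 0],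
  ![0, 0, 0, 0, 0, 0, 0, 0, 0, 0, 0, 0, 0, 0, 0, 0, 0, 0, 0, 0, 0, 0, 0, 0, 0, 0, 0, 0],
  ![0, 0, 0, 0, 1, 0, 1, 1, 0, 0, 1, 1, 0, 0, 1, 0, 0, 0, 0, 0, 0, 0, 0, 0, 0, 0, 0, 0],
  ![0, 0, 0, 0, 0, 1, 0, 0, 0, 1, 1, 1, 1, 1, 1, 1, 1, 0, 1, 0, 0, 0, 0, 0, 0, 0, 0, 0],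
  ![0, 0, 0, 1, 0, 1, 0, 1, 0, 1, 0, 0, 1, 1, 0, 1, 1, 0, 1, 0, 0, 0, 0, 0, 0, 0, 0, 0],
  ![0, 0, 0, 0, 0, 0, 0, 0, 0, 0, 0, 0, 0, 0, 0, 0, 0, 0, 0, 0, 0, 0, 0, 0, 0, 0, 0, 0],
  ![0, 0, 0, 0, 0, 0, 0, 1, 1, 0, 0, 0, 0, 0, 0, 0, 0, 0, 1, 0, 0, 0, 0, 0, 0, 0, 0, 0],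
  ![0, 0, 0, 0, 0, 0, 0, 0, 0, 1, 0, 1, 0, 0, 0, 0, 1, 0, 1, 0, 0, 0, 0, 0, 0, 0, 0, 0],
  ![0, 0, 0, 1, 0, 0, 1, 0, 0, 0, 0, 1, 0, 0, 0, 0, 1, 0, 0, 0, 0, 0, 0, 0, 0, 0, 0, 0],
  ![0, 0, 0, 0, 0, 0, 0, 0, 0, 0, 0, 0, 0, 0, 0, 0, 0, 0, 0, 0, 0, 0, 0, 0, 0, 0, 0, 0],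
  ![0, 0, 0, 0, 0, 1, 0, 1, 0, 1, 0, 1, 0, 1, 1, 0, 0, 0, 0, 0, 0, 0, 0, 0, 0, 0, 0, 0],
  ![0, 0, 0, 1, 0, 0, 1, 0, 0, 1, 0, 0, 0, 1, 0, 0, 0, 0, 0, 0, 0, 0, 0, 0, 0, 0, 0, 0],
  ![0, 0, 0, 0, 0, 0, 0, 0, 0, 0, 0, 1, 0, 0, 1, 0, 0, 0, 0, 0, 0, 0, 0, 0, 0, 0, 0, 0],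
  ![0, 0, 0, 0, 0, 0, 0, 0, 0, 0, 0, 0, 0, 0, 0, 0, 0, 0, 0, 0, 0, 0, 0, 0, 0, 0, 0, 0],
  ![0, 0, 0, 1, 0, 0, 1, 0, 0, 0, 0, 0, 0, 0, 0, 1, 0, 0, 1, 0, 0, 0, 0, 0, 0, 0, 0, 0],
  ![0, 0, 0, 0, 0, 0, 0, 0, 0, 0, 0, 1, 0, 0, 0, 1, 0, 0, 0, 0, 0, 0, 0, 0, 0, 0, 0, 0],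
  ![0, 0, 0, 0, 0, 0, 0, 0, 0, 0, 0, 1, 0, 0, 0, 0, 0, 0, 1, 0, 0, 0, 0, 0, 0, 0, 0, 0],
  ![0, 0, 0, 0, 0, 0, 0, 0, 0, 0, 0, 0, 0, 0, 0, 0, 0, 0, 0, 0, 0, 0, 0, 0, 0, 0, 0, 0],
  ![0, 0, 0, 0, 0, 0, 0, 1, 0, 0, 1, 0, 0, 0, 0, 1, 1, 0, 0, 0, 0, 0, 0, 0, 0, 0, 0, 0],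
  ![0, 0, 0, 1, 0, 0, 1, 0, 0, 0, 1, 0, 0, 0, 0, 1, 1, 0, 0, 0, 0, 0, 0, 0, 0, 0, 0, 0],
  ![0, 0, 0, 0, 0, 0, 0, 0, 0, 0, 0, 0, 0, 0, 0, 0, 0, 0, 0, 0, 0, 0, 0, 0, 0, 0, 0, 0],
  ![0, 0, 0, 0, 0, 0, 0, 0, 0, 0, 0, 0, 0, 0, 0, 0, 0, 0, 0, 0, 0, 0, 0, 0, 0, 0, 0, 0],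
  ![0, 0, 0, 1, 0, 0, 1, 0, 0, 1, 0, 0, 0, 0, 0, 0, 0, 0, 0, 0, 0, 0, 0, 0, 0, 0, 0, 0],
  ![0, 0, 0, 0, 0, 0, 0, 0, 0, 0, 0, 0, 0, 0, 0, 0, 0, 0, 0, 0, 0, 0, 0, 0, 0, 0, 0, 0],
  ![0, 0, 0, 0, 0, 0, 0, 0, 0, 0, 0, 0, 0, 0, 0, 0, 0, 0, 0, 0, 0, 0, 0, 0, 0, 0, 0, 0],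
  ![0, 0, 0, 0, 0, 0, 0, 0, 0, 0, 0, 0, 0, 0, 0, 0, 0, 0, 0, 0, 0, 0, 0, 0, 0, 0, 0, 0]]

/-- Coordinates of the two-block test vectors (row `7 n + n'`). -/
def cA : Fin 49 → Fin 28 → GaussianInt := ![
  ![⟨0, 0⟩, ⟨0, 0⟩, ⟨0, 0⟩, ⟨0, 0⟩, ⟨0, 0⟩, ⟨0, 0⟩, ⟨0, 0⟩, ⟨0, 0⟩, ⟨0, 0⟩, ⟨0, 0⟩, ⟨0, 0⟩, ⟨0, 0⟩, ⟨0, 0⟩, ⟨0, 0⟩, ⟨0, 0⟩, ⟨0, 0⟩, ⟨0, 0⟩, ⟨0, 0⟩, ⟨0, 0⟩, ⟨0, 0⟩, ⟨0, 0⟩, ⟨0, 0⟩, ⟨0, 0⟩, ⟨0, 0⟩, ⟨0, 0⟩, ⟨0, 0⟩, ⟨0, 0⟩, ⟨0, 0⟩],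
  ![⟨0, 0⟩, ⟨0, 0⟩, ⟨0, 0⟩, ⟨0, 0⟩, ⟨0, 0⟩, ⟨0, 0⟩, ⟨0, 0⟩, ⟨-1, 0⟩, ⟨0, 0⟩, ⟨0, 0⟩, ⟨0, 0⟩, ⟨0, 0⟩, ⟨0, 0⟩, ⟨0, 0⟩, ⟨0, 0⟩, ⟨0, 0⟩, ⟨0, 0⟩, ⟨0, 0⟩, ⟨0, 0⟩, ⟨0, 0⟩, ⟨0, 0⟩, ⟨0, 0⟩, ⟨0, 0⟩, ⟨0, 0⟩, ⟨0, 0⟩, ⟨-1, 0⟩, ⟨0, 0⟩, ⟨0, 0⟩],
  ![⟨0, 0⟩, ⟨0, 0⟩, ⟨0, 0⟩, ⟨0, -4⟩, ⟨0, 0⟩, ⟨0, 1⟩, ⟨-2, -2⟩, ⟨0, 0⟩, ⟨0, 0⟩, ⟨0, -4⟩, ⟨0, 0⟩, ⟨0, 0⟩, ⟨0, 0⟩, ⟨0, 0⟩, ⟨0, 0⟩, ⟨0, 0⟩, ⟨0, 0⟩, ⟨0, 0⟩, ⟨0, 0⟩, ⟨0, 0⟩, ⟨0, 0⟩, ⟨0, 0⟩, ⟨0, 0⟩, ⟨-1, 0⟩, ⟨-1, 1⟩, ⟨-2, 0⟩, ⟨-1, 0⟩, ⟨-2, 0⟩],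
  ![⟨0, 0⟩, ⟨0, 0⟩, ⟨0, 0⟩, ⟨52, -20⟩, ⟨0, 0⟩, ⟨0, 0⟩, ⟨16, -36⟩, ⟨4, -13⟩, ⟨0, 0⟩, ⟨20, -20⟩, ⟨2, -6⟩, ⟨-4, -8⟩, ⟨0, 0⟩, ⟨0, 0⟩, ⟨0, 0⟩, ⟨-2, -18⟩, ⟨2, -6⟩, ⟨-10, -4⟩, ⟨-2, 0⟩, ⟨-4, -2⟩, ⟨-3, -1⟩, ⟨-2, -5⟩, ⟨-5, -3⟩, ⟨-1, -9⟩, ⟨-6, -5⟩, ⟨-1, -14⟩, ⟨-2, -11⟩, ⟨-7, -10⟩],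
  ![⟨0, 0⟩, ⟨0, 0⟩, ⟨0, 0⟩, ⟨-136, 140⟩, ⟨-1, 0⟩, ⟨0, -5⟩, ⟨0, 137⟩, ⟨5, 56⟩, ⟨0, 0⟩, ⟨-32, 76⟩, ⟨4, 22⟩, ⟨16, 22⟩, ⟨0, -2⟩, ⟨0, -4⟩, ⟨2, -4⟩, ⟨34, 60⟩, ⟨4, 24⟩, ⟨37, 5⟩, ⟨2, -2⟩, ⟨14, 1⟩, ⟨14, -1⟩, ⟨14, 11⟩, ⟨18, 7⟩, ⟨11, 27⟩, ⟨20, 5⟩, ⟨23, 35⟩, ⟨25, 28⟩, ⟨33, 19⟩],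
  ![⟨0, 0⟩, ⟨0, 0⟩, ⟨0, 0⟩, ⟨16, 32⟩, ⟨1, 0⟩, ⟨-1, 0⟩, ⟨23, 8⟩, ⟨9, 0⟩, ⟨-1, -1⟩, ⟨12, 12⟩, ⟨4, 0⟩, ⟨4, -4⟩, ⟨0, 0⟩, ⟨0, 0⟩, ⟨0, 0⟩, ⟨12, -4⟩, ⟨4, 0⟩, ⟨1, -7⟩, ⟨0, -2⟩, ⟨0, -3⟩, ⟨0, -2⟩, ⟨3, -2⟩, ⟨1, -4⟩, ⟨6, -3⟩, ⟨4, -4⟩, ⟨9, -1⟩, ⟨8, -2⟩, ⟨6, -5⟩],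
  ![⟨0, 0⟩, ⟨0, 0⟩, ⟨0, 0⟩, ⟨4, 8⟩, ⟨0, 0⟩, ⟨0, 1⟩, ⟨6, 3⟩, ⟨1, -4⟩, ⟨-1, 1⟩, ⟨8, 0⟩, ⟨0, 2⟩, ⟨0, -2⟩, ⟨0, 0⟩, ⟨0, 0⟩, ⟨0, 0⟩, ⟨2, 0⟩, ⟨0, 0⟩, ⟨0, 0⟩, ⟨0, -2⟩, ⟨-2, -2⟩, ⟨0, 0⟩, ⟨1, 0⟩, ⟨0, -1⟩, ⟨2, 0⟩, ⟨0, -3⟩, ⟨1, -1⟩, ⟨1, -2⟩, ⟨1, -3⟩],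
  ![⟨0, 0⟩, ⟨0, 0⟩, ⟨0, 0⟩, ⟨0, 0⟩, ⟨0, 0⟩, ⟨0, 0⟩, ⟨0, 0⟩, ⟨0, 0⟩, ⟨0, 0⟩, ⟨0, 0⟩, ⟨0, 0⟩, ⟨0, 0⟩, ⟨0, 0⟩, ⟨0, 0⟩, ⟨0, 0⟩, ⟨0, 0⟩, ⟨0, 0⟩, ⟨0, 0⟩, ⟨0, 0⟩, ⟨0, 0⟩, ⟨0, 0⟩, ⟨0, 0⟩, ⟨0, 0⟩, ⟨0, 0⟩, ⟨0, 0⟩, ⟨0, 0⟩, ⟨0, 0⟩, ⟨0, 0⟩],
  ![⟨0, 0⟩, ⟨0, 0⟩, ⟨0, 0⟩, ⟨0, 0⟩, ⟨0, 0⟩, ⟨0, 0⟩, ⟨0, 0⟩, ⟨0, 0⟩, ⟨0, 0⟩, ⟨0, 0⟩, ⟨0, 0⟩, ⟨0, 0⟩, ⟨0, 0⟩, ⟨0, 0⟩, ⟨0, 0⟩, ⟨0, 0⟩, ⟨0, 0⟩, ⟨0, 0⟩, ⟨0, 0⟩, ⟨0, 0⟩, ⟨0, 0⟩, ⟨0, 0⟩, ⟨0, 0⟩, ⟨0, 0⟩, ⟨0, 0⟩, ⟨0, 0⟩, ⟨0, 0⟩, ⟨0, 0⟩],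
  ![⟨0, 2⟩, ⟨1, 1⟩, ⟨-1, -1⟩, ⟨145, 281⟩, ⟨0, 0⟩, ⟨-7, -2⟩, ⟨212, 65⟩, ⟨91, 17⟩, ⟨0, 0⟩, ⟨116, 100⟩, ⟨34, 8⟩, ⟨42, -16⟩, ⟨-2, 0⟩, ⟨-4, -2⟩, ⟨-2, -4⟩, ⟨106, -22⟩, ⟨34, 8⟩, ⟨23, -57⟩, ⟨-2, -8⟩, ⟨9, -20⟩, ⟨4, -21⟩, ⟨25, -13⟩, ⟨18, -26⟩, ⟨43, -8⟩, ⟨21, -33⟩, ⟨69, -17⟩, ⟨61, -21⟩, ⟨49, -42⟩],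
  ![⟨0, 0⟩, ⟨0, 0⟩, ⟨0, 0⟩, ⟨0, 0⟩, ⟨0, 0⟩, ⟨0, 0⟩, ⟨0, 0⟩, ⟨0, 0⟩, ⟨0, 0⟩, ⟨0, -1⟩, ⟨0, 0⟩, ⟨0, 0⟩, ⟨0, 0⟩, ⟨0, 0⟩, ⟨0, 0⟩, ⟨0, 0⟩, ⟨0, 0⟩, ⟨0, 0⟩, ⟨0, 0⟩, ⟨0, -1⟩, ⟨0, 0⟩, ⟨0, 0⟩, ⟨0, 0⟩, ⟨0, 0⟩, ⟨0, 0⟩, ⟨0, 0⟩, ⟨0, 0⟩, ⟨0, 0⟩],
  ![⟨0, 1⟩, ⟨1, 0⟩, ⟨0, 1⟩, ⟨455, 119⟩, ⟨0, 0⟩, ⟨-10, 2⟩, ⟨284, -168⟩, ⟨100, -76⟩, ⟨0, 2⟩, ⟨212, -25⟩, ⟨39, -34⟩, ⟨24, -64⟩, ⟨-4, 2⟩, ⟨-4, 2⟩, ⟨-6, -2⟩, ⟨78, -140⟩, ⟨38, -36⟩, ⟨-38, -82⟩, ⟨-12, -4⟩, ⟨-13, -28⟩, ⟨-17, -25⟩, ⟨5, -41⟩, ⟨-11,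 -46⟩, ⟨35, -58⟩, ⟨-13, -55⟩, ⟨51, -91⟩, ⟨36, -87⟩, ⟨3, -95⟩],
  ![⟨0, 2⟩, ⟨0, 2⟩, ⟨1, -1⟩, ⟨505, 145⟩, ⟨0, 0⟩, ⟨-14, 1⟩, ⟨322, -180⟩, ⟨117, -77⟩, ⟨1, 0⟩, ⟨243, -20⟩, ⟨44, -32⟩, ⟨28, -68⟩, ⟨-6, 2⟩, ⟨-8, 0⟩, ⟨-8, 0⟩, ⟨92, -150⟩, ⟨42, -32⟩, ⟨-40, -94⟩, ⟨-10, -4⟩, ⟨-12, -34⟩, ⟨-18, -30⟩, ⟨9, -42⟩, ⟨-10, -51⟩, ⟨40, -66⟩, ⟨-15, -63⟩, ⟨62, -102⟩, ⟨44, -101⟩, ⟨6, -108⟩],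
  ![⟨2, 1⟩, ⟨1, 2⟩, ⟨0, -1⟩, ⟨593, -85⟩, ⟨0, 0⟩, ⟨-14, 8⟩, ⟨251, -337⟩, ⟨73, -137⟩, ⟨-2, 1⟩, ⟨236, -128⟩, ⟨26, -60⟩, ⟨-2, -84⟩, ⟨-6, 6⟩, ⟨-8, 4⟩, ⟨-8, 4⟩, ⟨18, -204⟩, ⟨24, -64⟩, ⟨-84, -78⟩, ⟨-12, -2⟩, ⟨-30, -29⟩, ⟨-32, -20⟩, ⟨-16, -50⟩, ⟨-35, -49⟩, ⟨7, -86⟩, ⟨-41, -59⟩, ⟨17, -134⟩, ⟨-5, -124⟩, ⟨-42, -112⟩],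
  ![⟨0, 0⟩, ⟨0, 0⟩, ⟨0, 0⟩, ⟨0, 0⟩, ⟨0, 0⟩, ⟨0, 0⟩, ⟨0, 0⟩, ⟨0, 0⟩, ⟨0, 0⟩, ⟨0, 0⟩, ⟨0, 0⟩, ⟨0, 0⟩, ⟨0, 0⟩, ⟨0, 0⟩, ⟨0, 0⟩, ⟨0, 0⟩, ⟨0, 0⟩, ⟨0, 0⟩, ⟨0, 0⟩, ⟨0, 0⟩, ⟨0, 0⟩, ⟨0, 0⟩, ⟨0, 0⟩, ⟨0, 0⟩, ⟨0, 0⟩, ⟨0, 0⟩, ⟨0, 0⟩, ⟨0, 0⟩],
  ![⟨0, 0⟩, ⟨0, 0⟩, ⟨0, 0⟩, ⟨0, 0⟩, ⟨0, 0⟩, ⟨0, 0⟩, ⟨0, 0⟩, ⟨0, 0⟩, ⟨0, 0⟩, ⟨0, 0⟩, ⟨0, 0⟩, ⟨0, 0⟩, ⟨0, 0⟩, ⟨0, 0⟩, ⟨0, 0⟩, ⟨0, 0⟩, ⟨0, 0⟩, ⟨0, 0⟩, ⟨0, 0⟩, ⟨0, 0⟩, ⟨0, 0⟩, ⟨0, 0⟩, ⟨0, 0⟩, ⟨0, 0⟩, ⟨0, 0⟩, ⟨0, 0⟩, ⟨0, 0⟩, ⟨0, 0⟩],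
  ![⟨0, 0⟩, ⟨0, 0⟩, ⟨0, 0⟩, ⟨0, 0⟩, ⟨0, 0⟩, ⟨0, 0⟩, ⟨0, 0⟩, ⟨0, 0⟩, ⟨0, 0⟩, ⟨0, 0⟩, ⟨0, 0⟩, ⟨0, 0⟩, ⟨0, 0⟩, ⟨0, 0⟩, ⟨0, 0⟩, ⟨0, 0⟩, ⟨0, 0⟩, ⟨0, 0⟩, ⟨0, 0⟩, ⟨0, 0⟩, ⟨0, 0⟩, ⟨0, 0⟩, ⟨0, 0⟩, ⟨0, 0⟩, ⟨0, 0⟩, ⟨0, 0⟩, ⟨0, 0⟩, ⟨0, 0⟩],
  ![⟨-1, 1⟩, ⟨0, 0⟩, ⟨0, 0⟩, ⟨152, 44⟩, ⟨0, 1⟩, ⟨-3, -1⟩, ⟨99, -54⟩, ⟨32, -26⟩, ⟨0, 0⟩, ⟨72, 0⟩, ⟨14, -12⟩, ⟨8, -20⟩, ⟨-2, 0⟩, ⟨-2, 0⟩, ⟨-2, 0⟩, ⟨26, -46⟩, ⟨14, -12⟩, ⟨-12, -28⟩, ⟨-2, 0⟩, ⟨-2, -11⟩, ⟨-6, -8⟩, ⟨2, -14⟩, ⟨-3, -15⟩, ⟨12, -21⟩,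 ⟨-3, -19⟩, ⟨18, -31⟩, ⟨15, -29⟩, ⟨1, -32⟩],
  ![⟨0, -1⟩, ⟨0, 1⟩, ⟨0, -1⟩, ⟨-317, 127⟩, ⟨0, 0⟩, ⟨5, -7⟩, ⟨-94, 219⟩, ⟨-23, 92⟩, ⟨0, 0⟩, ⟨-116, 100⟩, ⟨-8, 40⟩, ⟨12, 50⟩, ⟨2, -4⟩, ⟨2, -4⟩, ⟨4, -2⟩, ⟨18, 118⟩, ⟨-10, 42⟩, ⟨60, 32⟩, ⟨6, -2⟩, ⟨20, 16⟩, ⟨22, 6⟩, ⟨15, 28⟩, ⟨27, 23⟩, ⟨3, 50⟩, ⟨28, 27⟩, ⟨7, 77⟩, ⟨18, 66⟩, ⟨38, 57⟩],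
  ![⟨-1, 0⟩, ⟨2, 1⟩, ⟨2, -1⟩, ⟨264, -26⟩, ⟨-1, 1⟩, ⟨-7, 3⟩, ⟨117, -143⟩, ⟨44, -51⟩, ⟨0, 0⟩, ⟨128, -68⟩, ⟨14, -16⟩, ⟨-4, -42⟩, ⟨-2, 2⟩, ⟨-4, 2⟩, ⟨-4, 0⟩, ⟨18, -80⟩, ⟨14, -16⟩, ⟨-39, -35⟩, ⟨-4, 0⟩, ⟨-15, -17⟩, ⟨-12, -12⟩, ⟨0, -18⟩, ⟨-16, -22⟩, ⟨10, -36⟩, ⟨-24, -31⟩, ⟨8, -62⟩, ⟨2, -59⟩, ⟨-18, -60⟩],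
  ![⟨-1, -1⟩, ⟨1, 1⟩, ⟨-1, -1⟩, ⟨-212, 26⟩, ⟨0, -1⟩, ⟨4, 0⟩, ⟨-91, 119⟩, ⟨-31, 56⟩, ⟨0, 0⟩, ⟨-92, 48⟩, ⟨-10, 22⟩, ⟨0, 30⟩, ⟨2, 0⟩, ⟨2, 0⟩, ⟨4, 0⟩, ⟨-10, 72⟩, ⟨-12, 24⟩, ⟨30, 26⟩, ⟨4, 0⟩, ⟨11, 13⟩, ⟨12, 7⟩, ⟨5, 19⟩, ⟨11, 17⟩, ⟨-6, 31⟩, ⟨15, 22⟩, ⟨-6, 48⟩, ⟨-3, 47⟩, ⟨15, 41⟩],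
  ![⟨0, 0⟩, ⟨0, 0⟩, ⟨0, 0⟩, ⟨0, 0⟩, ⟨0, 0⟩, ⟨0, 0⟩, ⟨0, 0⟩, ⟨0, 0⟩, ⟨0, 0⟩, ⟨0, 0⟩, ⟨0, 0⟩, ⟨0, 0⟩, ⟨0, 0⟩, ⟨0, 0⟩, ⟨0, 0⟩, ⟨0, 0⟩, ⟨0, 0⟩, ⟨0, 0⟩, ⟨0, 0⟩, ⟨0, 0⟩, ⟨0, 0⟩, ⟨0, 0⟩, ⟨0, 0⟩, ⟨0, 0⟩, ⟨0, 0⟩, ⟨0, 0⟩, ⟨0, 0⟩, ⟨0, 0⟩],
  ![⟨0, 0⟩, ⟨0, 0⟩, ⟨0, 0⟩, ⟨0, 0⟩, ⟨0, 0⟩, ⟨0, 0⟩, ⟨0, 0⟩, ⟨0, 0⟩, ⟨0, 0⟩, ⟨0, 0⟩, ⟨0, 0⟩, ⟨0, 0⟩, ⟨0, 0⟩, ⟨0, 0⟩, ⟨0, 0⟩, ⟨0, 0⟩, ⟨0, 0⟩, ⟨0, 0⟩, ⟨0, 0⟩, ⟨0, 0⟩, ⟨0, 0⟩, ⟨0, 0⟩, ⟨0, 0⟩, ⟨0, 0⟩, ⟨0, 0⟩, ⟨0, 0⟩, ⟨0, 0⟩, ⟨0, 0⟩],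
  ![⟨0, 0⟩, ⟨0, 0⟩, ⟨0, 0⟩, ⟨0, 0⟩, ⟨0, 0⟩, ⟨0, 0⟩, ⟨0, 0⟩, ⟨0, 0⟩, ⟨0, 0⟩, ⟨0, 0⟩, ⟨0, 0⟩, ⟨0, 0⟩, ⟨0, 0⟩, ⟨0, 0⟩, ⟨0, 0⟩, ⟨0, 0⟩, ⟨0, 0⟩, ⟨0, 0⟩, ⟨0, 0⟩, ⟨0, 0⟩, ⟨0, 0⟩, ⟨0, 0⟩, ⟨0, 0⟩, ⟨0, 0⟩, ⟨0, 0⟩, ⟨0, 0⟩, ⟨0, 0⟩, ⟨0, 0⟩],
  ![⟨0, 0⟩, ⟨0, 0⟩, ⟨0, 0⟩, ⟨0, 0⟩, ⟨0, 0⟩, ⟨0, 0⟩, ⟨0, 0⟩, ⟨0, 0⟩, ⟨0, 0⟩, ⟨0, 0⟩, ⟨0, 0⟩, ⟨0, 0⟩, ⟨0, 0⟩, ⟨0, 0⟩, ⟨0, 0⟩, ⟨0, 0⟩, ⟨0, 0⟩, ⟨0, 0⟩, ⟨0, 0⟩, ⟨0, 0⟩, ⟨0, 0⟩, ⟨0, 0⟩, ⟨0, 0⟩, ⟨0, 0⟩, ⟨0, 0⟩, ⟨0, 0⟩, ⟨0, 0⟩, ⟨0, 0⟩],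
  ![⟨1, 1⟩, ⟨0, 2⟩, ⟨-1, 1⟩, ⟨146, 616⟩, ⟨-1, -1⟩, ⟨-9, -11⟩, ⟨377, 229⟩, ⟨155, 73⟩, ⟨0, 1⟩, ⟨160, 253⟩, ⟨62, 24⟩, ⟨96, -6⟩, ⟨-4, -4⟩, ⟨-6, -6⟩, ⟨-2, -8⟩, ⟨212, 6⟩, ⟨60, 24⟩, ⟨77, -99⟩, ⟨-4, -14⟩, ⟨31, -30⟩, ⟨19, -36⟩, ⟨49, -17⟩, ⟨51, -41⟩, ⟨87, 9⟩, ⟨59, -50⟩, ⟨141, 5⟩, ⟨129, -11⟩, ⟨120, -52⟩],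
  ![⟨2, 0⟩, ⟨-1, -1⟩, ⟨0, 0⟩, ⟨-146, -126⟩, ⟨0, 0⟩, ⟨3, 1⟩, ⟨-137, 9⟩, ⟨-50, 6⟩, ⟨1, 1⟩, ⟨-75, -32⟩, ⟨-22, 6⟩, ⟨-18, 20⟩, ⟨2, 0⟩, ⟨2, 0⟩, ⟨2, 0⟩, ⟨-54, 40⟩, ⟨-24, 6⟩, ⟨0, 38⟩, ⟨2, 2⟩, ⟨-2, 12⟩, ⟨2, 13⟩, ⟨-10, 15⟩, ⟨-3, 19⟩, ⟨-24, 17⟩, ⟨-6, 21⟩, ⟨-36, 24⟩, ⟨-28, 24⟩, ⟨-17, 35⟩],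
  ![⟨2, 2⟩, ⟨-1, -1⟩, ⟨-1, 1⟩, ⟨46, 24⟩, ⟨1, 0⟩, ⟨-1, -1⟩, ⟨35, -14⟩, ⟨15, -8⟩, ⟨1, -1⟩, ⟨28, 12⟩, ⟨2, -8⟩, ⟨6, -4⟩, ⟨0, 0⟩, ⟨0, 0⟩, ⟨0, -2⟩, ⟨10, -14⟩, ⟨2, -8⟩, ⟨-2, -10⟩, ⟨0, -2⟩, ⟨-1, -5⟩, ⟨-2, -2⟩, ⟨-1, -5⟩, ⟨1, -5⟩, ⟨4, -8⟩, ⟨3, -7⟩, ⟨9, -9⟩, ⟨10, -7⟩, ⟨6, -7⟩],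
  ![⟨0, 0⟩, ⟨0, 0⟩, ⟨0, 0⟩, ⟨0, 0⟩, ⟨0, 0⟩, ⟨0, 0⟩, ⟨0, 0⟩, ⟨0, 0⟩, ⟨0, 0⟩, ⟨0, 0⟩, ⟨0, 0⟩, ⟨0, 0⟩, ⟨0, 0⟩, ⟨0, 0⟩, ⟨0, 0⟩, ⟨0, 0⟩, ⟨0, 0⟩, ⟨0, 0⟩, ⟨0, 0⟩, ⟨0, 0⟩, ⟨0, 0⟩, ⟨0, 0⟩, ⟨0, 0⟩, ⟨0, 0⟩, ⟨0, 0⟩, ⟨0, 0⟩, ⟨0, 0⟩, ⟨0, 0⟩],
  ![⟨0, 0⟩, ⟨0, 0⟩, ⟨0, 0⟩, ⟨0, 0⟩, ⟨0, 0⟩, ⟨0, 0⟩, ⟨0, 0⟩, ⟨0, 0⟩, ⟨0, 0⟩, ⟨0, 0⟩, ⟨0, 0⟩, ⟨0, 0⟩, ⟨0, 0⟩, ⟨0, 0⟩, ⟨0, 0⟩, ⟨0, 0⟩, ⟨0, 0⟩, ⟨0, 0⟩, ⟨0, 0⟩, ⟨0, 0⟩, ⟨0, 0⟩, ⟨0, 0⟩, ⟨0, 0⟩, ⟨0, 0⟩, ⟨0, 0⟩, ⟨0, 0⟩, ⟨0, 0⟩, ⟨0, 0⟩],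
  ![⟨0, 0⟩, ⟨0, 0⟩, ⟨0, 0⟩, ⟨0, 0⟩, ⟨0, 0⟩, ⟨0, 0⟩, ⟨0, 0⟩, ⟨0, 0⟩, ⟨0, 0⟩, ⟨0, 0⟩, ⟨0, 0⟩, ⟨0, 0⟩, ⟨0, 0⟩, ⟨0, 0⟩, ⟨0, 0⟩, ⟨0, 0⟩, ⟨0, 0⟩, ⟨0, 0⟩, ⟨0, 0⟩, ⟨0, 0⟩, ⟨0, 0⟩, ⟨0, 0⟩, ⟨0, 0⟩, ⟨0, 0⟩, ⟨0, 0⟩, ⟨0, 0⟩, ⟨0, 0⟩, ⟨0, 0⟩],
  ![⟨0, 0⟩, ⟨0, 0⟩, ⟨0, 0⟩, ⟨0, 0⟩, ⟨0, 0⟩, ⟨0, 0⟩, ⟨0, 0⟩, ⟨0, 0⟩, ⟨0, 0⟩, ⟨0, 0⟩, ⟨0, 0⟩, ⟨0, 0⟩, ⟨0, 0⟩, ⟨0, 0⟩, ⟨0, 0⟩, ⟨0, 0⟩, ⟨0, 0⟩, ⟨0, 0⟩, ⟨0, 0⟩, ⟨0, 0⟩, ⟨0, 0⟩, ⟨0, 0⟩, ⟨0, 0⟩, ⟨0, 0⟩, ⟨0, 0⟩, ⟨0, 0⟩, ⟨0, 0⟩, ⟨0, 0⟩],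
  ![⟨0, 0⟩, ⟨0, 0⟩, ⟨0, 0⟩, ⟨0, 0⟩, ⟨0, 0⟩, ⟨0, 0⟩, ⟨0, 0⟩, ⟨0, 0⟩, ⟨0, 0⟩, ⟨0, 0⟩, ⟨0, 0⟩, ⟨0, 0⟩, ⟨0, 0⟩, ⟨0, 0⟩, ⟨0, 0⟩, ⟨0, 0⟩, ⟨0, 0⟩, ⟨0, 0⟩, ⟨0, 0⟩, ⟨0, 0⟩, ⟨0, 0⟩, ⟨0, 0⟩, ⟨0, 0⟩, ⟨0, 0⟩, ⟨0, 0⟩, ⟨0, 0⟩, ⟨0, 0⟩, ⟨0, 0⟩],
  ![⟨1, -1⟩, ⟨-1, -1⟩, ⟨-1, 1⟩, ⟨-388, 242⟩, ⟨-2, 0⟩, ⟨9, -8⟩, ⟨-73, 314⟩, ⟨-14, 118⟩, ⟨0, 1⟩, ⟨-131, 176⟩, ⟨-4, 48⟩, ⟨30, 60⟩, ⟨4, -6⟩, ⟨4, -6⟩, ⟨6, -4⟩, ⟨42, 148⟩, ⟨-6, 48⟩, ⟨85, 29⟩, ⟨6, -4⟩, ⟨30, 14⟩, ⟨29, 6⟩, ⟨22, 31⟩, ⟨40, 24⟩, ⟨17,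 67⟩, ⟨50, 27⟩, ⟨30, 98⟩, ⟨40, 89⟩, ⟨68, 68⟩],
  ![⟨2, -1⟩, ⟨0, 1⟩, ⟨-1, 2⟩, ⟨427, 195⟩, ⟨-1, 1⟩, ⟨-8, 2⟩, ⟨306, -117⟩, ⟨114, -66⟩, ⟨0, 1⟩, ⟨220, 28⟩, ⟨42, -28⟩, ⟨44, -58⟩, ⟨-2, 0⟩, ⟨-6, 2⟩, ⟨-6, -2⟩, ⟨100, -122⟩, ⟨40, -28⟩, ⟨-22, -90⟩, ⟨-12, -6⟩, ⟨-5, -31⟩, ⟨-14, -26⟩, ⟨11, -38⟩, ⟨1, -49⟩, ⟨46, -46⟩, ⟨0, -57⟩, ⟨65, -80⟩, ⟨53, -77⟩, ⟨26, -91⟩],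
  ![⟨0, 0⟩, ⟨0, 0⟩, ⟨0, 0⟩, ⟨0, 0⟩, ⟨0, 0⟩, ⟨0, 0⟩, ⟨0, 0⟩, ⟨0, 0⟩, ⟨0, 0⟩, ⟨0, 0⟩, ⟨0, 0⟩, ⟨0, 0⟩, ⟨0, 0⟩, ⟨0, 0⟩, ⟨0, 0⟩, ⟨0, 0⟩, ⟨0, 0⟩, ⟨0, 0⟩, ⟨0, 0⟩, ⟨0, 0⟩, ⟨0, 0⟩, ⟨0, 0⟩, ⟨0, 0⟩, ⟨0, 0⟩, ⟨0, 0⟩, ⟨0, 0⟩, ⟨0, 0⟩, ⟨0, 0⟩],
  ![⟨0, 0⟩, ⟨0, 0⟩, ⟨0, 0⟩, ⟨0, 0⟩, ⟨0, 0⟩, ⟨0, 0⟩, ⟨0, 0⟩, ⟨0, 0⟩, ⟨0, 0⟩, ⟨0, 0⟩, ⟨0, 0⟩, ⟨0, 0⟩, ⟨0, 0⟩, ⟨0, 0⟩, ⟨0, 0⟩, ⟨0, 0⟩, ⟨0, 0⟩, ⟨0, 0⟩, ⟨0, 0⟩, ⟨0, 0⟩, ⟨0, 0⟩, ⟨0, 0⟩, ⟨0, 0⟩, ⟨0, 0⟩, ⟨0, 0⟩, ⟨0, 0⟩, ⟨0, 0⟩, ⟨0, 0⟩],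
  ![⟨0, 0⟩, ⟨0, 0⟩, ⟨0, 0⟩, ⟨0, 0⟩, ⟨0, 0⟩, ⟨0, 0⟩, ⟨0, 0⟩, ⟨0, 0⟩, ⟨0, 0⟩, ⟨0, 0⟩, ⟨0, 0⟩, ⟨0, 0⟩, ⟨0, 0⟩, ⟨0, 0⟩, ⟨0, 0⟩, ⟨0, 0⟩, ⟨0, 0⟩, ⟨0, 0⟩, ⟨0, 0⟩, ⟨0, 0⟩, ⟨0, 0⟩, ⟨0, 0⟩, ⟨0, 0⟩, ⟨0, 0⟩, ⟨0, 0⟩, ⟨0, 0⟩, ⟨0, 0⟩, ⟨0, 0⟩],
  ![⟨0, 0⟩, ⟨0, 0⟩, ⟨0, 0⟩, ⟨0, 0⟩, ⟨0, 0⟩, ⟨0, 0⟩, ⟨0, 0⟩, ⟨0, 0⟩, ⟨0, 0⟩, ⟨0, 0⟩, ⟨0, 0⟩, ⟨0, 0⟩, ⟨0, 0⟩, ⟨0, 0⟩, ⟨0, 0⟩, ⟨0, 0⟩, ⟨0, 0⟩, ⟨0, 0⟩, ⟨0, 0⟩, ⟨0, 0⟩, ⟨0, 0⟩, ⟨0, 0⟩, ⟨0, 0⟩, ⟨0, 0⟩, ⟨0, 0⟩, ⟨0, 0⟩, ⟨0, 0⟩, ⟨0, 0⟩],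
  ![⟨0, 0⟩, ⟨0, 0⟩, ⟨0, 0⟩, ⟨0, 0⟩, ⟨0, 0⟩, ⟨0, 0⟩, ⟨0, 0⟩, ⟨0, 0⟩, ⟨0, 0⟩, ⟨0, 0⟩, ⟨0, 0⟩, ⟨0, 0⟩, ⟨0, 0⟩, ⟨0, 0⟩, ⟨0, 0⟩, ⟨0, 0⟩, ⟨0, 0⟩, ⟨0, 0⟩, ⟨0, 0⟩, ⟨0, 0⟩, ⟨0, 0⟩, ⟨0, 0⟩, ⟨0, 0⟩, ⟨0, 0⟩, ⟨0, 0⟩, ⟨0, 0⟩, ⟨0, 0⟩, ⟨0, 0⟩],
  ![⟨0, 0⟩, ⟨0, 0⟩, ⟨0, 0⟩, ⟨0, 0⟩, ⟨0, 0⟩, ⟨0, 0⟩, ⟨0, 0⟩, ⟨0, 0⟩, ⟨0, 0⟩, ⟨0, 0⟩, ⟨0, 0⟩, ⟨0, 0⟩, ⟨0, 0⟩, ⟨0, 0⟩, ⟨0, 0⟩, ⟨0, 0⟩, ⟨0, 0⟩, ⟨0, 0⟩, ⟨0, 0⟩, ⟨0, 0⟩, ⟨0, 0⟩, ⟨0, 0⟩, ⟨0, 0⟩, ⟨0, 0⟩, ⟨0, 0⟩, ⟨0, 0⟩, ⟨0, 0⟩, ⟨0, 0⟩],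
  ![⟨2, 2⟩, ⟨1, -1⟩, ⟨1, -1⟩, ⟨-24, -652⟩, ⟨0, -2⟩, ⟨3, 14⟩, ⟨-336, -314⟩, ⟨-137, -100⟩, ⟨-1, -1⟩, ⟨-120, -284⟩, ⟨-60, -40⟩, ⟨-98, -6⟩, ⟨4, 8⟩, ⟨4, 6⟩, ⟨0, 10⟩, ⟨-216, -50⟩, ⟨-60, -42⟩, ⟨-95, 87⟩, ⟨2, 12⟩, ⟨-37, 27⟩, ⟨-27, 32⟩, ⟨-56, 7⟩, ⟨-58, 34⟩, ⟨-97, -28⟩, ⟨-70, 40⟩, ⟨-142, -34⟩, ⟨-134, -16⟩, ⟨-130, 35⟩],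
  ![⟨0, 0⟩, ⟨0, 0⟩, ⟨0, 0⟩, ⟨0, 0⟩, ⟨0, 0⟩, ⟨0, 0⟩, ⟨0, 0⟩, ⟨0, 0⟩, ⟨0, 0⟩, ⟨0, 0⟩, ⟨0, 0⟩, ⟨0, 0⟩, ⟨0, 0⟩, ⟨0, 0⟩, ⟨0, 0⟩, ⟨0, 0⟩, ⟨0, 0⟩, ⟨0, 0⟩, ⟨0, 0⟩, ⟨0, 0⟩, ⟨0, 0⟩, ⟨0, 0⟩, ⟨0, 0⟩, ⟨0, 0⟩, ⟨0, 0⟩, ⟨0, 0⟩, ⟨0, 0⟩, ⟨0, 0⟩],
  ![⟨0, 0⟩, ⟨0, 0⟩, ⟨0, 0⟩, ⟨0, 0⟩, ⟨0, 0⟩, ⟨0, 0⟩, ⟨0, 0⟩, ⟨0, 0⟩, ⟨0, 0⟩, ⟨0, 0⟩, ⟨0, 0⟩, ⟨0, 0⟩, ⟨0, 0⟩, ⟨0, 0⟩, ⟨0, 0⟩, ⟨0, 0⟩, ⟨0, 0⟩, ⟨0, 0⟩, ⟨0, 0⟩, ⟨0, 0⟩, ⟨0, 0⟩, ⟨0, 0⟩, ⟨0, 0⟩, ⟨0, 0⟩, ⟨0, 0⟩, ⟨0, 0⟩, ⟨0, 0⟩, ⟨0, 0⟩],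
  ![⟨0, 0⟩, ⟨0, 0⟩, ⟨0, 0⟩, ⟨0, 0⟩, ⟨0, 0⟩, ⟨0, 0⟩, ⟨0, 0⟩, ⟨0, 0⟩, ⟨0, 0⟩, ⟨0, 0⟩, ⟨0, 0⟩, ⟨0, 0⟩, ⟨0, 0⟩, ⟨0, 0⟩, ⟨0, 0⟩, ⟨0, 0⟩, ⟨0, 0⟩, ⟨0, 0⟩, ⟨0, 0⟩, ⟨0, 0⟩, ⟨0, 0⟩, ⟨0, 0⟩, ⟨0, 0⟩, ⟨0, 0⟩, ⟨0, 0⟩, ⟨0, 0⟩, ⟨0, 0⟩, ⟨0, 0⟩],
  ![⟨0, 0⟩, ⟨0, 0⟩, ⟨0, 0⟩, ⟨0, 0⟩, ⟨0, 0⟩, ⟨0, 0⟩, ⟨0, 0⟩, ⟨0, 0⟩, ⟨0, 0⟩, ⟨0, 0⟩, ⟨0, 0⟩, ⟨0, 0⟩, ⟨0, 0⟩, ⟨0, 0⟩, ⟨0, 0⟩, ⟨0, 0⟩, ⟨0, 0⟩, ⟨0, 0⟩, ⟨0, 0⟩, ⟨0, 0⟩, ⟨0, 0⟩, ⟨0, 0⟩, ⟨0, 0⟩, ⟨0, 0⟩, ⟨0, 0⟩, ⟨0, 0⟩, ⟨0, 0⟩, ⟨0, 0⟩],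
  ![⟨0, 0⟩, ⟨0, 0⟩, ⟨0, 0⟩, ⟨0, 0⟩, ⟨0, 0⟩, ⟨0, 0⟩, ⟨0, 0⟩, ⟨0, 0⟩, ⟨0, 0⟩, ⟨0, 0⟩, ⟨0, 0⟩, ⟨0, 0⟩, ⟨0, 0⟩, ⟨0, 0⟩, ⟨0, 0⟩, ⟨0, 0⟩, ⟨0, 0⟩, ⟨0, 0⟩, ⟨0, 0⟩, ⟨0, 0⟩, ⟨0, 0⟩, ⟨0, 0⟩, ⟨0, 0⟩, ⟨0, 0⟩, ⟨0, 0⟩, ⟨0, 0⟩, ⟨0, 0⟩, ⟨0, 0⟩],
  ![⟨0, 0⟩, ⟨0, 0⟩, ⟨0, 0⟩, ⟨0, 0⟩, ⟨0, 0⟩, ⟨0, 0⟩, ⟨0, 0⟩, ⟨0, 0⟩, ⟨0, 0⟩, ⟨0, 0⟩, ⟨0, 0⟩, ⟨0, 0⟩, ⟨0, 0⟩, ⟨0, 0⟩, ⟨0, 0⟩, ⟨0, 0⟩, ⟨0, 0⟩, ⟨0, 0⟩, ⟨0, 0⟩, ⟨0, 0⟩, ⟨0, 0⟩, ⟨0, 0⟩, ⟨0, 0⟩, ⟨0, 0⟩, ⟨0, 0⟩, ⟨0, 0⟩, ⟨0, 0⟩, ⟨0, 0⟩],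
  ![⟨0, 0⟩, ⟨0, 0⟩, ⟨0, 0⟩, ⟨0, 0⟩, ⟨0, 0⟩, ⟨0, 0⟩, ⟨0, 0⟩, ⟨0, 0⟩, ⟨0, 0⟩, ⟨0, 0⟩, ⟨0, 0⟩, ⟨0, 0⟩, ⟨0, 0⟩, ⟨0, 0⟩, ⟨0, 0⟩, ⟨0, 0⟩, ⟨0, 0⟩, ⟨0, 0⟩, ⟨0, 0⟩, ⟨0, 0⟩, ⟨0, 0⟩, ⟨0, 0⟩, ⟨0, 0⟩, ⟨0, 0⟩, ⟨0, 0⟩, ⟨0, 0⟩, ⟨0, 0⟩, ⟨0, 0⟩]]

/-- Coordinates of the one-block test vectors. -/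
def cB : Fin 7 → Fin 28 → GaussianInt := ![
  ![⟨0, 0⟩, ⟨0, 0⟩, ⟨0, 0⟩, ⟨-3, 0⟩, ⟨0, 0⟩, ⟨0, 0⟩, ⟨-2, 2⟩, ⟨0, 0⟩, ⟨0, 0⟩, ⟨-4, 0⟩, ⟨0, 0⟩, ⟨0, 0⟩, ⟨0, 0⟩, ⟨0, 0⟩, ⟨0, 0⟩, ⟨0, 0⟩, ⟨0, 0⟩, ⟨0, 0⟩, ⟨0, 0⟩, ⟨0, 0⟩, ⟨0, 0⟩, ⟨0, 0⟩, ⟨0, 0⟩, ⟨0, 1⟩, ⟨1, 1⟩, ⟨0, 1⟩, ⟨0, 1⟩, ⟨0, 1⟩],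
  ![⟨1, 1⟩, ⟨0, -1⟩, ⟨1, 1⟩, ⟨243, -172⟩, ⟨0, 0⟩, ⟨-4, 4⟩, ⟨34, -206⟩, ⟨0, -84⟩, ⟨0, 0⟩, ⟨76, -120⟩, ⟨0, -34⟩, ⟨-22, -38⟩, ⟨-2, 2⟩, ⟨0, 2⟩, ⟨-4, 2⟩, ⟨-36, -96⟩, ⟨0, -36⟩, ⟨-56, -12⟩, ⟨-6, 4⟩, ⟨-21, -6⟩, ⟨-19, -1⟩, ⟨-18, -21⟩, ⟨-27, -13⟩, ⟨-14, -43⟩, ⟨-33, -17⟩, ⟨-24, -62⟩, ⟨-27, -56⟩, ⟨-46, -41⟩],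
  ![⟨0, 0⟩, ⟨0, 1⟩, ⟨0, -1⟩, ⟨-12, 12⟩, ⟨0, 0⟩, ⟨0, 0⟩, ⟨0, 12⟩, ⟨0, 4⟩, ⟨0, 0⟩, ⟨-4, 8⟩, ⟨0, 2⟩, ⟨2, 2⟩, ⟨0, 0⟩, ⟨0, 0⟩, ⟨0, 0⟩, ⟨4, 4⟩, ⟨0, 2⟩, ⟨4, 0⟩, ⟨0, 0⟩, ⟨1, 1⟩, ⟨1, 0⟩, ⟨1, 1⟩, ⟨2, 0⟩, ⟨1, 2⟩, ⟨2, 1⟩, ⟨1, 3⟩, ⟨2, 3⟩, ⟨3, 2⟩],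
  ![⟨-1, 0⟩, ⟨1, 1⟩, ⟨1, 0⟩, ⟨147, 61⟩, ⟨0, 0⟩, ⟨-4, -1⟩, ⟨104, -44⟩, ⟨44, -20⟩, ⟨0, 0⟩, ⟨68, 0⟩, ⟨16, -6⟩, ⟨12, -18⟩, ⟨-2, 0⟩, ⟨-2, 0⟩, ⟨-2, 0⟩, ⟨36, -42⟩, ⟨14, -6⟩, ⟨-8, -30⟩, ⟨-4, -2⟩, ⟨-4, -9⟩, ⟨-5, -11⟩, ⟨5, -12⟩, ⟨0, -16⟩, ⟨14, -18⟩, ⟨-3, -18⟩, ⟨21, -26⟩, ⟨17, -28⟩, ⟨5, -33⟩],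
  ![⟨1, -1⟩, ⟨0, 0⟩, ⟨0, 1⟩, ⟨-12, -25⟩, ⟨0, 1⟩, ⟨0, 0⟩, ⟨-18, -6⟩, ⟨-12, -4⟩, ⟨0, 0⟩, ⟨-4, -8⟩, ⟨-4, -2⟩, ⟨-2, 0⟩, ⟨0, 0⟩, ⟨0, 0⟩, ⟨0, 0⟩, ⟨-10, 4⟩, ⟨-4, -2⟩, ⟨-2, 6⟩, ⟨0, 0⟩, ⟨-1, 0⟩, ⟨0, 3⟩, ⟨-3, 1⟩, ⟨-1, 2⟩, ⟨-3, 2⟩, ⟨-2, 1⟩, ⟨-7, 0⟩, ⟨-5, 1⟩, ⟨-3, 3⟩],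
  ![⟨-1, 1⟩, ⟨-1, 1⟩, ⟨1, 2⟩, ⟨140, 312⟩, ⟨0, -2⟩, ⟨-4, -8⟩, ⟨224, 84⟩, ⟨92, 28⟩, ⟨0, 0⟩, ⟨108, 108⟩, ⟨34, 8⟩, ⟨42, -16⟩, ⟨-2, -4⟩, ⟨0, -4⟩, ⟨-4, -6⟩, ⟨114, -18⟩, ⟨34, 8⟩, ⟨29, -57⟩, ⟨-4, -4⟩, ⟨12, -15⟩, ⟨8, -22⟩, ⟨24, -14⟩, ⟨20, -25⟩, ⟨48, -10⟩, ⟨24, -34⟩, ⟨74, -10⟩, ⟨73, -19⟩, ⟨56, -43⟩],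
  ![⟨2, 2⟩, ⟨1, 0⟩, ⟨-1, 0⟩, ⟨51, 138⟩, ⟨-2, -1⟩, ⟨-4, 0⟩, ⟨92, 40⟩, ⟨48, 12⟩, ⟨0, 0⟩, ⟨48, 56⟩, ⟨14, 6⟩, ⟨22, 0⟩, ⟨0, 0⟩, ⟨-2, -2⟩, ⟨0, -2⟩, ⟨50, -4⟩, ⟨14, 4⟩, ⟨15, -25⟩, ⟨0, -4⟩, ⟨7, -9⟩, ⟨2, -10⟩, ⟨12, -4⟩, ⟨12, -10⟩, ⟨16, 1⟩, ⟨12, -13⟩, ⟨32, -2⟩, ⟨30, -7⟩, ⟨27, -14⟩]]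

end Cfsg.Agent.Lib.Helper9.Ru
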