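import Mathlib

set_option autoImplicit false

/-! Counting the one bits of a natural number with word-parallel additions, proved correct. -/

namespace Cfsg.Agent.Lib.Helper9.RuBits

/-- digit sum in base `b` -/
def ds (b x : ℕ) : ℕ := (Nat.digits b x).sum

theorem ds_zero (b : ℕ) : ds b 0 = 0 := by simp [ds]

theorem ds_step (b x : ℕ) (hb : 1 < b) : ds b x = x % b + ds b (x / b) := by
  rcases Nat.eq_zero_or_pos x with rfl | hx
  · simp [ds]
  · unfold ds
    rw [Nat.digits_def' hb hx]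
    simp

theorem ds_lt (b x : ℕ) (hb : 1 < b) (hx : x < b) : ds b x = x := by
  rw [ds_step b x hb, Nat.mod_eq_of_lt hx, Nat.div_eq_of_lt hx, ds_zero, Nat.add_zero]

/-- one stage: add the fields of width `s` in pairs -/
def stg (m s x : ℕ) : ℕ := Nat.add (Nat.land x m) (Nat.land (Nat.shiftRight x s) m)

/-- the mask selecting the low half of each of `L` fields of width `2 * s` -/
def msk (s : ℕ) : ℕ → ℕ
  | 0 => 0
  | L + 1 => (2 ^ s - 1) + 2 ^ (2 * s) * msk s L

theorem stg_eq (m s x : ℕ) : stg m s x = (x &&& m) + ((x >>> s) &&& m) := rfl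

theorem stg_spec (s : ℕ) (hs : 0 < s) : ∀ (L x : ℕ), x < (2 ^ (2 * s)) ^ L →
    stg (msk s L) s x < (2 ^ (2 * s)) ^ L ∧
      ds (2 ^ (2 * s)) (stg (msk s L) s x) = ds (2 ^ s) x := by
  have hb2 : 2 ≤ 2 ^ s := by
    calc 2 = 2 ^ 1 := rfl
      _ ≤ 2 ^ s := Nat.pow_le_pow_right (by norm_num) hs
  have hb1 : 1 < 2 ^ s := hb2
  have hBb : (2 : ℕ) ^ (2 * s) = 2 ^ s * 2 ^ s := by rw [two_mul, pow_add]
  have hB1 : 1 < (2 : ℕ) ^ (2 * s) := by rw [hBb]; nlinarith
  have hbB : (2 : ℕ) ^ s - 1 < 2 ^ (2 * s) := by rw [hBb]; nlinarith [Nat.sub_le (2 ^ s) 1]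
  intro L
  induction L with
  | zero =>
    intro x hx
    have : x = 0 := by simpa using hx
    subst this
    simp [stg_eq, msk, ds_zero]
  | succ L ih =>
    intro x hx
    set b := 2 ^ s with hb
    set B := 2 ^ (2 * s) with hB
    have hhi : x / B < B ^ L := by
      rw [Nat.div_lt_iff_lt_mul (by omega)]
      rw [pow_succ] at hx
      exact hx
    obtain ⟨ih1, ih2⟩ := ih (x / B) hhi
    have hm : msk s (L + 1) = (b - 1) + B * msk s L := rfl
    have hmmod : msk s (L + 1) % B = b - 1 := by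
      rw [hm, Nat.add_mul_mod_self_left, Nat.mod_eq_of_lt hbB]
    have hmdiv : msk s (L + 1) / B = msk s L := by
      rw [hm, Nat.add_mul_div_left _ _ (by omega), Nat.div_eq_of_lt hbB, Nat.zero_add]
    -- first summand
    have hA1 : (x &&& msk s (L + 1)) % B = x % b := by
      rw [hB, Nat.and_mod_two_pow, ← hB, hmmod, hb, Nat.and_two_pow_sub_one_eq_mod, ← hb,
        Nat.mod_mod_of_dvd _ ⟨b, hBb⟩]
    have hA2 : (x &&& msk s (L + 1)) / B = (x / B) &&& msk s L := by
      rw [hB, Nat.and_div_two_pow, ← hB, hmdiv]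
    have hC1 : ((x >>> s) &&& msk s (L + 1)) % B = (x / b) % b := by
      rw [hB, Nat.and_mod_two_pow, ← hB, hmmod, hb, Nat.and_two_pow_sub_one_eq_mod, ← hb,
        Nat.mod_mod_of_dvd _ ⟨b, hBb⟩, Nat.shiftRight_eq_div_pow]
    have hC2 : ((x >>> s) &&& msk s (L + 1)) / B = ((x / B) >>> s) &&& msk s L := by
      rw [hB, Nat.and_div_two_pow, ← hB, hmdiv, Nat.shiftRight_eq_div_pow,
        Nat.shiftRight_eq_div_pow, ← hb, Nat.div_div_eq_div_mul, Nat.div_div_eq_div_mul,
        Nat.mul_comm]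
    set r := x % b + (x / b) % b with hr
    have hrB : r < B := by
      have h1 : x % b < b := Nat.mod_lt _ (by omega)
      have h2 : (x / b) % b < b := Nat.mod_lt _ (by omega)
      rw [hBb]
      nlinarith
    have hsum : stg (msk s (L + 1)) s x = r + B * stg (msk s L) s (x / B) := by
      rw [stg_eq, stg_eq]
      have e1 := Nat.mod_add_div (x &&& msk s (L + 1)) B
      have e2 := Nat.mod_add_div ((x >>> s) &&& msk s (L + 1)) B
      rw [hA1, hA2] at e1
      rw [hC1, hC2] at e2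
      rw [← e1, ← e2, hr]
      ring
    constructor
    · rw [hsum, pow_succ]
      nlinarith
    · rw [hsum, ds_step B _ hB1, Nat.add_mul_mod_self_left, Nat.mod_eq_of_lt hrB,
        Nat.add_mul_div_left _ _ (by omega : 0 < B), Nat.div_eq_of_lt hrB, Nat.zero_add, ih2,
        ds_step b x hb1, ds_step b (x / b) hb1, Nat.div_div_eq_div_mul, ← hBb, hr]
      ring


theorem ds_two (N : ℕ) : ∀ x : ℕ, x < 2 ^ N →
    ds 2 x = ((Finset.range N).filter (fun w => x.testBit w = true)).card := by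
  induction N with
  | zero =>
    intro x hx
    have : x = 0 := by simpa using hx
    subst this
    simp [ds_zero]
  | succ N ih =>
    intro x hx
    have h2 : x / 2 < 2 ^ N := by
      rw [Nat.div_lt_iff_lt_mul (by norm_num)]
      rw [pow_succ] at hx
      exact hx
    rw [ds_step 2 x (by norm_num), ih (x / 2) h2, Finset.card_filter, Finset.card_filter,
      Finset.sum_range_succ', Nat.add_comm]
    congr 1
    · apply Finset.sum_congr rfl
      intro w _
      rw [Nat.testBit_succ]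
    · rw [Nat.testBit_zero]
      rcases Nat.mod_two_eq_zero_or_one x with h | h <;> simp [h]

theorem ds_two_le (N x : ℕ) (hx : x < 2 ^ N) : ds 2 x ≤ N := by
  rw [ds_two N x hx]
  calc _ ≤ (Finset.range N).card := Finset.card_filter_le _ _
    _ = N := Finset.card_range N

theorem card_fin_filter (n : ℕ) (p : ℕ → Prop) [DecidablePred p] :
    ((Finset.univ : Finset (Fin n)).filter (fun w => p w.val)).card =
      ((Finset.range n).filter p).card := by
  rw [Finset.card_filter, Finset.card_filter]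
  exact Fin.sum_univ_eq_sum_range (fun i => if p i then 1 else 0) n

def m1 : ℕ := 0x5555555555555555555555555555555555555555555555555555555555555555555555555555555555555555555555555555555555555555555555555555555555555555555555555555555555555555555555555555555555555555555555555555555555555555555555555555555555555555555555555555555555555555555555555555555555555555555555555555555555555555555555555555555555555555555555555555555555555555555555555555555555555555555555555555555555555555555555555555555555555555555555555555555555555555555555555555555555555555555555555555555555555555555555555555555555555555555555555555555555555555555555555555555555555555555555555555555555555555555555555555555555555555555555555555555555555555555555555555555555555555555555555555555555555555555555555555555555555555555555555555555555555555555555555555555555555555555555555555555555555555555555555555555555555555555555555555555555555555555555555555555555555555555555555555555555555555555555555555555555555555555555555555555555555555555555555555555555555555555555555555555555555555555555555555555555555555555555555555555555555555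
def m2 : ℕ := 0x3333333333333333333333333333333333333333333333333333333333333333333333333333333333333333333333333333333333333333333333333333333333333333333333333333333333333333333333333333333333333333333333333333333333333333333333333333333333333333333333333333333333333333333333333333333333333333333333333333333333333333333333333333333333333333333333333333333333333333333333333333333333333333333333333333333333333333333333333333333333333333333333333333333333333333333333333333333333333333333333333333333333333333333333333333333333333333333333333333333333333333333333333333333333333333333333333333333333333333333333333333333333333333333333333333333333333333333333333333333333333333333333333333333333333333333333333333333333333333333333333333333333333333333333333333333333333333333333333333333333333333333333333333333333333333333333333333333333333333333333333333333333333333333333333333333333333333333333333333333333333333333333333333333333333333333333333333333333333333333333333333333333333333333333333333333333333333333333333333333333333333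
def m4 : ℕ := 0xf0f0f0f0f0f0f0f0f0f0f0f0f0f0f0f0f0f0f0f0f0f0f0f0f0f0f0f0f0f0f0f0f0f0f0f0f0f0f0f0f0f0f0f0f0f0f0f0f0f0f0f0f0f0f0f0f0f0f0f0f0f0f0f0f0f0f0f0f0f0f0f0f0f0f0f0f0f0f0f0f0f0f0f0f0f0f0f0f0f0f0f0f0f0f0f0f0f0f0f0f0f0f0f0f0f0f0f0f0f0f0f0f0f0f0f0f0f0f0f0f0f0f0f0f0f0f0f0f0f0f0f0f0f0f0f0f0f0f0f0f0f0f0f0f0f0f0f0f0f0f0f0f0f0f0f0f0f0f0f0f0f0f0f0f0f0f0f0f0f0f0f0f0f0f0f0f0f0f0f0f0f0f0f0f0f0f0f0f0f0f0f0f0f0f0f0f0f0f0f0f0f0f0f0f0f0f0f0f0f0f0f0f0f0f0f0f0f0f0f0f0f0f0f0f0f0f0f0f0f0f0f0f0f0f0f0f0f0f0f0f0f0f0f0f0f0f0f0f0f0f0f0f0f0f0f0f0f0f0f0f0f0f0f0f0f0f0f0f0f0f0f0f0f0f0f0f0f0f0f0f0f0f0f0f0f0f0f0f0f0f0f0f0f0f0f0f0f0f0f0f0f0f0f0f0f0f0f0f0f0f0f0f0f0f0f0f0f0f0f0f0f0f0f0f0f0f0f0f0f0f0f0f0f0f0f0f0f0f0f0f0f0f0f0f0f0f0f0f0f0f0f0f0f0f0f0f0f0f0f0f0f0f0f0f0f0f0f0f0f0f0f0f0f0f0f0f0f0f0f0f0f0f0f0f0f0f0f0f0f0f0f0f0f0f0f0f0f0f0f0f0f0f0f0f0f0f0f0f0f0f0f0f0f0f0f0f0f0f0f0f0f0f0f0f0f0f0f0f0f0f0f0f0f0f0f0f0f0f0f0f0f0f0f0f0f0f0f0f0f0f0f0f0f0f0f0f0f0f0f0f0f0f0f0f0f0f0f0f0f0f0f0f0f0f0f0f0f0f0f0f0f0f0f0f0f0f0f0f0f0f0f0f0f0f0f0f0f0f0f0f0f0f0f0f0f0f0f0f0f0f0f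
def m8 : ℕ := 0xff00ff00ff00ff00ff00ff00ff00ff00ff00ff00ff00ff00ff00ff00ff00ff00ff00ff00ff00ff00ff00ff00ff00ff00ff00ff00ff00ff00ff00ff00ff00ff00ff00ff00ff00ff00ff00ff00ff00ff00ff00ff00ff00ff00ff00ff00ff00ff00ff00ff00ff00ff00ff00ff00ff00ff00ff00ff00ff00ff00ff00ff00ff00ff00ff00ff00ff00ff00ff00ff00ff00ff00ff00ff00ff00ff00ff00ff00ff00ff00ff00ff00ff00ff00ff00ff00ff00ff00ff00ff00ff00ff00ff00ff00ff00ff00ff00ff00ff00ff00ff00ff00ff00ff00ff00ff00ff00ff00ff00ff00ff00ff00ff00ff00ff00ff00ff00ff00ff00ff00ff00ff00ff00ff00ff00ff00ff00ff00ff00ff00ff00ff00ff00ff00ff00ff00ff00ff00ff00ff00ff00ff00ff00ff00ff00ff00ff00ff00ff00ff00ff00ff00ff00ff00ff00ff00ff00ff00ff00ff00ff00ff00ff00ff00ff00ff00ff00ff00ff00ff00ff00ff00ff00ff00ff00ff00ff00ff00ff00ff00ff00ff00ff00ff00ff00ff00ff00ff00ff00ff00ff00ff00ff00ff00ff00ff00ff00ff00ff00ff00ff00ff00ff00ff00ff00ff00ff00ff00ff00ff00ff00ff00ff00ff00ff00ff00ff00ff00ff00ff00ff00ff00ff00ff00ff00ff00ff00ff00ff00ff00ff00ff00ff00ff00ff00ff00ff00ff00ff00ff00ff00ff00ff00ff00ff00ff00ff00ff00ff00ff00ff00ff00ff00ff00ff00ff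

theorem m1_eq : m1 = msk 1 2048 := by decide +kernel
theorem m2_eq : m2 = msk 2 1024 := by decide +kernel
theorem m4_eq : m4 = msk 4 512 := by decide +kernel
theorem m8_eq : m8 = msk 8 256 := by decide +kernel

/-- the number of one bits of a number below `2 ^ 4096` -/
def popc (x : ℕ) : ℕ := Nat.mod (stg m8 8 (stg m4 4 (stg m2 2 (stg m1 1 x)))) 65535

theorem popc_eq (x : ℕ) (hx : x < 2 ^ 4096) : popc x = ds 2 x := by
  have e1 : ((2 : ℕ) ^ (2 * 1)) ^ 2048 = 2 ^ 4096 := by rw [← pow_mul]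
  have e2 : ((2 : ℕ) ^ (2 * 2)) ^ 1024 = 2 ^ 4096 := by rw [← pow_mul]
  have e4 : ((2 : ℕ) ^ (2 * 4)) ^ 512 = 2 ^ 4096 := by rw [← pow_mul]
  have e8 : ((2 : ℕ) ^ (2 * 8)) ^ 256 = 2 ^ 4096 := by rw [← pow_mul]
  obtain ⟨b1, d1⟩ := stg_spec 1 (by norm_num) 2048 x (by rw [e1]; exact hx)
  rw [e1] at b1
  obtain ⟨b2, d2⟩ := stg_spec 2 (by norm_num) 1024 _ (by rw [e2]; exact b1)
  rw [e2] at b2
  obtain ⟨b4, d4⟩ := stg_spec 4 (by norm_num) 512 _ (by rw [e4]; exact b2)
  rw [e4] at b4
  obtain ⟨b8, d8⟩ := stg_spec 8 (by norm_num) 256 _ (by rw [e8]; exact b4)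
  rw [← m1_eq] at d1 d2 d4 d8
  rw [← m2_eq] at d2 d4 d8
  rw [← m4_eq] at d4 d8
  rw [← m8_eq] at d8
  have hsum : ds (2 ^ (2 * 8)) (stg m8 8 (stg m4 4 (stg m2 2 (stg m1 1 x)))) = ds 2 x := by
    rw [d8, d4, d2]
    exact d1
  have h16 : (2 : ℕ) ^ (2 * 8) = 65536 := by norm_num
  rw [h16] at hsum
  have hmod : (stg m8 8 (stg m4 4 (stg m2 2 (stg m1 1 x)))) ≡
      ds 65536 (stg m8 8 (stg m4 4 (stg m2 2 (stg m1 1 x)))) [MOD 65535] :=
    Nat.modEq_digits_sum 65535 65536 (by norm_num) _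
  rw [hsum] at hmod
  have hle := ds_two_le 4096 x hx
  show (stg m8 8 (stg m4 4 (stg m2 2 (stg m1 1 x)))) % 65535 = ds 2 x
  rw [hmod]
  exact Nat.mod_eq_of_lt (lt_of_le_of_lt hle (by norm_num))

/-- the number of one bits, as the number of positions below `n` -/
theorem popc_card (n x : ℕ) (hn : n ≤ 4096) (hx : x < 2 ^ n) :
    popc x = ((Finset.univ : Finset (Fin n)).filter (fun w => x.testBit w.val = true)).card := by
  have hx' : x < 2 ^ 4096 := lt_of_lt_of_le hx (Nat.pow_le_pow_right (by norm_num) hn)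
  rw [popc_eq x hx', ds_two n x hx, card_fin_filter n (fun w => x.testBit w = true)]

end Cfsg.Agent.Lib.Helper9.RuBits
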