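import Mathlib
import Cfsg.Prelude.Def_Spor_Ru
import Cfsg.Agent.Lib.Helper9.RuA

/-!
Kernel-checked numerical facts about the data of `RuA` (S1628).
-/

set_option autoImplicit false

namespace Cfsg.Agent.Lib.Helper9.Ru

open Cfsg.Spor

/-- Adapted basis of `ℤ[i]²⁸`. -/
def Wv (j : Fin 28) : RuVec := fun p => Wm j (idx p)

/-- Basis of the lattice. -/
def Bv (j : Fin 28) : RuVec := fun p => Bm j (idx p)

/-- Hermitian product. -/
def herm (x y : RuVec) : GaussianInt := ∑ p, x p * star (y p)

/-- Divisibility by 4 in `ℤ[i]`. -/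
def D4 (z : GaussianInt) : Prop := (4 : ℤ) ∣ z.re ∧ (4 : ℤ) ∣ z.im

instance (z : GaussianInt) : Decidable (D4 z) := by unfold D4; infer_instance

set_option maxRecDepth 100000 in
theorem Bv_eq : ∀ j p, Bv j p = piG ^ ae j * Wv j p := by decide +kernel

set_option maxRecDepth 100000 in
theorem gram : ∀ j k, D4 (herm (Bv j) (Bv k)) := by decide +kernel

set_option maxRecDepth 100000 in
theorem norm_Bv : ∀ j, (8 : ℤ) ∣ ruNorm (Bv j) := by decide +kernel

set_option maxRecDepth 100000 in
theorem cRj_spec : ∀ j p, ruRj (Bv j) p = ∑ k, cRj j k * Bv k p := by decide +kernel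

set_option maxRecDepth 100000 in
theorem cRk_spec : ∀ j p, ruRk (Bv j) p = ∑ k, cRk j k * Bv k p := by decide +kernel

set_option maxRecDepth 100000 in
theorem cSign_spec : ∀ j p, ruSign (Bv j) p = ∑ k, cSign j k * Bv k p := by decide +kernel

set_option maxRecDepth 100000 in
theorem cShift_spec : ∀ j p, ruShift (Bv j) p = ∑ k, cShift j k * Bv k p := by decide +kernel

theorem len_table : ruTable.length = 20 := rfl

set_option maxRecDepth 100000 in
theorem cT_spec : ∀ (i : Fin ruTable.length) (p : RuIdx),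
    ruTable.get i p = ∑ k, cT (Fin.cast len_table i) k * Bv k p := by decide +kernel

end Cfsg.Agent.Lib.Helper9.Ru
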