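import Mathlib
import Cfsg.Prelude.Def_Spor_Ru
import Cfsg.Agent.Lib.Helper9.RuB

/-!
The Rudvalis lattice is contained in the explicit `ℤ[i]`-span `SB`, which is integral and even (S1628).
-/

set_option autoImplicit false

namespace Cfsg.Agent.Lib.Helper9.Ru

open Cfsg.Spor

theorem ruRj_add (v w : RuVec) : ruRj (v + w) = ruRj v + ruRj w := by
  funext p
  obtain ⟨n, t⟩ := p
  fin_cases t <;> simp [ruRj, mul_add, neg_add, add_comm]

theorem ruRj_smul (c : GaussianInt) (v : RuVec) : ruRj (c • v) = c • ruRj v := by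
  funext p
  obtain ⟨n, t⟩ := p
  fin_cases t <;> simp [ruRj, mul_left_comm]

theorem ruRk_add (v w : RuVec) : ruRk (v + w) = ruRk v + ruRk w := by
  funext p
  obtain ⟨n, t⟩ := p
  fin_cases t <;> simp [ruRk, mul_add, neg_add, add_comm]

theorem ruRk_smul (c : GaussianInt) (v : RuVec) : ruRk (c • v) = c • ruRk v := by
  funext p
  obtain ⟨n, t⟩ := p
  fin_cases t <;> simp [ruRk, mul_left_comm]

theorem ruSign_add (v w : RuVec) : ruSign (v + w) = ruSign v + ruSign w := by
  funext p
  simp only [ruSign, Pi.add_apply]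
  split_ifs <;> simp [neg_add, add_comm]

theorem ruSign_smul (c : GaussianInt) (v : RuVec) : ruSign (c • v) = c • ruSign v := by
  funext p
  simp only [ruSign, Pi.smul_apply, smul_eq_mul]
  split_ifs <;> simp

theorem ruShift_add (v w : RuVec) : ruShift (v + w) = ruShift v + ruShift w := rfl

theorem ruShift_smul (c : GaussianInt) (v : RuVec) : ruShift (c • v) = c • ruShift v := rfl

/-- `ruRj` as a linear map. -/
def RjL : RuVec →ₗ[GaussianInt] RuVec where
  toFun := ruRj
  map_add' := ruRj_add
  map_smul' := fun c v => by simpa using ruRj_smul c v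

/-- `ruRk` as a linear map. -/
def RkL : RuVec →ₗ[GaussianInt] RuVec where
  toFun := ruRk
  map_add' := ruRk_add
  map_smul' := fun c v => by simpa using ruRk_smul c v

/-- `ruSign` as a linear map. -/
def SignL : RuVec →ₗ[GaussianInt] RuVec where
  toFun := ruSign
  map_add' := ruSign_add
  map_smul' := fun c v => by simpa using ruSign_smul c v

/-- `ruShift` as a linear map. -/
def ShiftL : RuVec →ₗ[GaussianInt] RuVec where
  toFun := ruShift
  map_add' := ruShift_add
  map_smul' := fun c v => by simpa using ruShift_smul c v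

/-- The explicit lattice: `ℤ[i]`-span of the basis `Bv`. -/
def SB : Submodule GaussianInt RuVec := Submodule.span GaussianInt (Set.range Bv)

theorem Bv_mem (j : Fin 28) : Bv j ∈ SB := Submodule.subset_span ⟨j, rfl⟩

theorem comb_mem (c : Fin 28 → GaussianInt) : (∑ k, c k • Bv k) ∈ SB :=
  Submodule.sum_mem _ fun k _ => Submodule.smul_mem _ _ (Bv_mem k)

theorem eq_comb {v : RuVec} {c : Fin 28 → GaussianInt} (h : ∀ p, v p = ∑ k, c k * Bv k p) :
    v = ∑ k, c k • Bv k := by
  funext p
  rw [h p, Finset.sum_apply]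
  rfl

theorem closed_of_spec (f : RuVec →ₗ[GaussianInt] RuVec) (c : Fin 28 → Fin 28 → GaussianInt)
    (h : ∀ j p, f (Bv j) p = ∑ k, c j k * Bv k p) : ∀ v ∈ SB, f v ∈ SB := by
  intro v hv
  have hle : SB.map f ≤ SB := by
    rw [SB, Submodule.map_span, Submodule.span_le]
    rintro _ ⟨_, ⟨j, rfl⟩, rfl⟩
    rw [eq_comb (h j)]
    exact comb_mem _
  exact hle (Submodule.mem_map_of_mem hv)

theorem table_mem : ∀ v ∈ ruTable, v ∈ SB := by
  intro v hv
  obtain ⟨i, rfl⟩ := List.mem_iff_get.mp hv
  rw [eq_comb (cT_spec i)]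
  exact comb_mem _

theorem SB_closed : SB.toAddSubgroup ∈ ruClosed := by
  refine ⟨table_mem, fun v hv => ⟨SB.smul_mem gI hv, ?_, ?_, ?_, ?_⟩⟩
  · exact closed_of_spec RjL cRj cRj_spec v hv
  · exact closed_of_spec RkL cRk cRk_spec v hv
  · exact closed_of_spec SignL cSign cSign_spec v hv
  · exact closed_of_spec ShiftL cShift cShift_spec v hv

theorem ruLattice_le {x : RuVec} (hx : x ∈ ruLattice) : x ∈ SB := by
  have h : ruLattice ≤ SB.toAddSubgroup := sInf_le SB_closed
  exact h hx

/-! ### Hermitian product -/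

theorem herm_add_left (x x' y : RuVec) : herm (x + x') y = herm x y + herm x' y := by
  simp only [herm, Pi.add_apply, add_mul, Finset.sum_add_distrib]

theorem herm_smul_left (c : GaussianInt) (x y : RuVec) : herm (c • x) y = c * herm x y := by
  simp only [herm, Pi.smul_apply, smul_eq_mul, Finset.mul_sum, mul_assoc]

theorem herm_add_right (x y y' : RuVec) : herm x (y + y') = herm x y + herm x y' := by
  simp only [herm, Pi.add_apply, star_add, mul_add, Finset.sum_add_distrib]

theorem herm_smul_right (c : GaussianInt) (x y : RuVec) : herm x (c • y) = star c * herm x y := by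
  simp only [herm, Pi.smul_apply, smul_eq_mul, star_mul', Finset.mul_sum]
  refine Finset.sum_congr rfl fun p _ => ?_
  ring

theorem herm_zero_left (y : RuVec) : herm 0 y = 0 := by simp [herm]

theorem herm_zero_right (x : RuVec) : herm x 0 = 0 := by simp [herm]

theorem D4_zero : D4 0 := ⟨by simp, by simp⟩

theorem D4_add {z w : GaussianInt} (hz : D4 z) (hw : D4 w) : D4 (z + w) :=
  ⟨by simpa using dvd_add hz.1 hw.1, by simpa using dvd_add hz.2 hw.2⟩

theorem D4_mul_left (c : GaussianInt) {z : GaussianInt} (hz : D4 z) : D4 (c * z) := by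
  obtain ⟨⟨a, ha⟩, ⟨b, hb⟩⟩ := hz
  refine ⟨⟨c.re * a - c.im * b, ?_⟩, ⟨c.re * b + c.im * a, ?_⟩⟩
  · simp only [Zsqrtd.re_mul, ha, hb]; ring
  · simp only [Zsqrtd.im_mul, ha, hb]; ring

theorem integral_basis {y : RuVec} (hy : y ∈ SB) (j : Fin 28) : D4 (herm (Bv j) y) := by
  induction hy using Submodule.span_induction with
  | mem y h => obtain ⟨k, rfl⟩ := h; exact gram j k
  | zero => rw [herm_zero_right]; exact D4_zero
  | add y y' _ _ h h' => rw [herm_add_right]; exact D4_add h h'
  | smul c y _ h => rw [herm_smul_right]; exact D4_mul_left _ h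

theorem integral {x y : RuVec} (hx : x ∈ SB) (hy : y ∈ SB) : D4 (herm x y) := by
  induction hx using Submodule.span_induction with
  | mem x h => obtain ⟨j, rfl⟩ := h; exact integral_basis hy j
  | zero => rw [herm_zero_left]; exact D4_zero
  | add x x' _ _ h h' => rw [herm_add_left]; exact D4_add h h'
  | smul c x _ h => rw [herm_smul_left]; exact D4_mul_left _ h

theorem norm_add_eq (a b : GaussianInt) :
    (a + b).norm = a.norm + b.norm + 2 * (a * star b).re := by
  simp only [Zsqrtd.norm_def, Zsqrtd.re_add, Zsqrtd.im_add, Zsqrtd.re_mul, Zsqrtd.re_star,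
    Zsqrtd.im_star]
  ring

/-- Real part as an additive map. -/
def reHom : GaussianInt →+ ℤ where
  toFun := Zsqrtd.re
  map_zero' := rfl
  map_add' := Zsqrtd.re_add

/-- Imaginary part as an additive map. -/
def imHom : GaussianInt →+ ℤ where
  toFun := Zsqrtd.im
  map_zero' := rfl
  map_add' := Zsqrtd.im_add

theorem ruNorm_add (x y : RuVec) : ruNorm (x + y) = ruNorm x + ruNorm y + 2 * (herm x y).re := by
  have hre : (herm x y).re = ∑ p, (x p * star (y p)).re := by
    unfold herm
    exact map_sum reHom (fun p => x p * star (y p)) Finset.univ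
  rw [hre, Finset.mul_sum]
  simp only [ruNorm, Pi.add_apply, norm_add_eq, Finset.sum_add_distrib]

theorem ruNorm_smul (c : GaussianInt) (x : RuVec) : ruNorm (c • x) = c.norm * ruNorm x := by
  simp only [ruNorm, Pi.smul_apply, smul_eq_mul, Zsqrtd.norm_mul, Finset.mul_sum]

theorem ruNorm_zero : ruNorm 0 = 0 := by simp [ruNorm]

theorem even_SB {x : RuVec} (hx : x ∈ SB) : (8 : ℤ) ∣ ruNorm x := by
  induction hx using Submodule.span_induction with
  | mem x h => obtain ⟨j, rfl⟩ := h; exact norm_Bv j
  | zero => rw [ruNorm_zero]; exact dvd_zero _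
  | add x x' hx hx' h h' =>
    rw [ruNorm_add]
    obtain ⟨a, ha⟩ := (integral hx hx').1
    refine dvd_add (dvd_add h h') ⟨a, ?_⟩
    rw [ha]; ring
  | smul c x _ h => rw [ruNorm_smul]; exact dvd_mul_of_dvd_right h _

end Cfsg.Agent.Lib.Helper9.Ru
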