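import Mathlib
import Cfsg.Prelude.Def_Spor_Ru
import Cfsg.Agent.Lib.Helper9.RuC

/-!
Parity (reduction mod `π = 1 + i`) and the parity-check codes of the Rudvalis lattice (S1628).
-/

set_option autoImplicit false

namespace Cfsg.Agent.Lib.Helper9.Ru

open Cfsg.Spor

/-- Reduction mod `π = 1 + i`, a ring homomorphism `ℤ[i] → 𝔽₂`. -/
def par : GaussianInt →+* ZMod 2 := Zsqrtd.lift ⟨1, by decide⟩

theorem par_apply (z : GaussianInt) : par z = ((z.re + z.im : ℤ) : ZMod 2) := by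
  simp [par, Zsqrtd.lift_apply_apply]

theorem par_eq_zero_iff (z : GaussianInt) : par z = 0 ↔ (2 : ℤ) ∣ z.re + z.im := by
  rw [par_apply]
  exact_mod_cast ZMod.intCast_zmod_eq_zero_iff_dvd (z.re + z.im) 2

theorem par_star (z : GaussianInt) : par (star z) = par z := by
  rw [par_apply, par_apply]
  simp only [Zsqrtd.re_star, Zsqrtd.im_star]
  push_cast
  rw [ZMod.neg_eq_self_mod_two]

theorem zmod2_cases (a : ZMod 2) : a = 0 ∨ a = 1 := by
  revert a; decide

/-- Division by `π` (exact on even elements). -/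
def hpi (z : GaussianInt) : GaussianInt := ⟨(z.re + z.im) / 2, (z.im - z.re) / 2⟩

theorem piG_mul_hpi {z : GaussianInt} (h : par z = 0) : piG * hpi z = z := by
  obtain ⟨s, hs⟩ := (par_eq_zero_iff z).1 h
  apply Zsqrtd.ext
  · simp only [piG, hpi, Zsqrtd.re_mul]; omega
  · simp only [piG, hpi, Zsqrtd.im_mul]; omega

theorem norm_piG : piG.norm = 2 := by decide

theorem par_of_D4_mul (μ h : GaussianInt)
    (hμ : μ = ⟨2, 2⟩ ∨ μ = ⟨2, -2⟩ ∨ μ = ⟨-2, 2⟩ ∨ μ = ⟨-2, -2⟩) (hd : D4 (μ * h)) :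
    par h = 0 := by
  rw [par_eq_zero_iff]
  obtain ⟨h1, h2⟩ := hd
  rcases hμ with rfl | rfl | rfl | rfl <;>
    simp only [Zsqrtd.re_mul, Zsqrtd.im_mul] at h1 h2 <;> omega

theorem mu_cases (lev : ℕ) (h : lev ≤ 3) :
    piG ^ lev * star (piG ^ (3 - lev)) = ⟨2, 2⟩ ∨ piG ^ lev * star (piG ^ (3 - lev)) = ⟨2, -2⟩ ∨
    piG ^ lev * star (piG ^ (3 - lev)) = ⟨-2, 2⟩ ∨
    piG ^ lev * star (piG ^ (3 - lev)) = ⟨-2, -2⟩ := by
  interval_cases lev <;> decide

/-- The parity-check matrix: parities of the adapted basis. -/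
def Hm : Matrix (Fin 28) RuIdx (ZMod 2) := fun i p => par (Wv i p)

theorem parity_check {x v : RuVec} {lev : ℕ} (hlev : lev ≤ 3) (hx : x ∈ SB)
    (hxv : x = piG ^ lev • v) (i : Fin 28) (hi : ae i ≤ 3 - lev) :
    ∑ p, Hm i p * par (v p) = 0 := by
  have hc : piG ^ (3 - lev) • Wv i ∈ SB := by
    have : piG ^ (3 - lev) • Wv i = piG ^ (3 - lev - ae i) • Bv i := by
      funext p
      simp only [Pi.smul_apply, smul_eq_mul, Bv_eq]
      rw [← mul_assoc, ← pow_add]
      congr 2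
      omega
    rw [this]
    exact SB.smul_mem _ (Bv_mem i)
  have hd := integral hx hc
  rw [hxv, herm_smul_left, herm_smul_right, ← mul_assoc] at hd
  have h0 := par_of_D4_mul _ _ (mu_cases lev hlev) hd
  rw [herm, map_sum] at h0
  rw [← h0]
  refine Finset.sum_congr rfl fun p _ => ?_
  rw [map_mul, par_star, mul_comm]
  rfl

theorem code_param {d : ℕ} (G : Matrix RuIdx (Fin d) (ZMod 2)) (P : Matrix (Fin d) RuIdx (ZMod 2))
    (K : Matrix RuIdx (Fin 28) (ZMod 2)) (b : ℕ) (hid : 1 = G * P + K * Hm)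
    (hK : ∀ p i, b < ae i → K p i = 0) (m : RuIdx → ZMod 2)
    (h : ∀ i, ae i ≤ b → ∑ p, Hm i p * m p = 0) : m = G.mulVec (P.mulVec m) := by
  have hKH : K.mulVec (Hm.mulVec m) = 0 := by
    funext p
    simp only [Matrix.mulVec, dotProduct, Pi.zero_apply]
    refine Finset.sum_eq_zero fun i _ => ?_
    by_cases hi : ae i ≤ b
    · rw [h i hi, mul_zero]
    · rw [hK p i (by omega), zero_mul]
  calc m = (1 : Matrix RuIdx RuIdx (ZMod 2)).mulVec m := (Matrix.one_mulVec m).symm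
    _ = (G * P + K * Hm).mulVec m := by rw [← hid]
    _ = G.mulVec (P.mulVec m) + K.mulVec (Hm.mulVec m) := by
        rw [Matrix.add_mulVec, Matrix.mulVec_mulVec, Matrix.mulVec_mulVec]
    _ = G.mulVec (P.mulVec m) := by rw [hKH, add_zero]

/-- Hamming weight. -/
def wt (m : RuIdx → ZMod 2) : ℕ := ∑ p, (m p).val

/-- Indicator of two blocks. -/
def bp (n n' : Fin 7) : RuIdx → ZMod 2 := fun p => if p.1 = n ∨ p.1 = n' then 1 else 0

/-- Indicator of one block. -/
def blk (n : Fin 7) : RuIdx → ZMod 2 := fun p => if p.1 = n then 1 else 0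

/-- Level-1 matrices. -/
def G1m : Matrix RuIdx (Fin 9) (ZMod 2) := fun p f => G1 (idx p) f
/-- Level-1 selection matrix. -/
def P1m : Matrix (Fin 9) RuIdx (ZMod 2) := fun f p => if idx p = F1 f then 1 else 0
/-- Level-1 certificate matrix. -/
def K1m : Matrix RuIdx (Fin 28) (ZMod 2) := fun p i => K1 (idx p) i
/-- Level-2 matrices. -/
def G2m : Matrix RuIdx (Fin 10) (ZMod 2) := fun p f => G2 (idx p) f
/-- Level-2 selection matrix. -/
def P2m : Matrix (Fin 10) RuIdx (ZMod 2) := fun f p => if idx p = F2 f then 1 else 0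
/-- Level-2 certificate matrix. -/
def K2m : Matrix RuIdx (Fin 28) (ZMod 2) := fun p i => K2 (idx p) i

set_option maxRecDepth 100000 in
theorem ident1' : ∀ p q : RuIdx, (if p = q then 1 else 0 : ZMod 2) =
    ∑ f, G1 (idx p) f * (if idx q = F1 f then 1 else 0) + ∑ i, K1 (idx p) i * par (Wv i q) := by
  decide +kernel

theorem ident1 : (1 : Matrix RuIdx RuIdx (ZMod 2)) = G1m * P1m + K1m * Hm := by
  ext p q
  rw [Matrix.one_apply, Matrix.add_apply, Matrix.mul_apply, Matrix.mul_apply]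
  exact ident1' p q

set_option maxRecDepth 100000 in
theorem ident2' : ∀ p q : RuIdx, (if p = q then 1 else 0 : ZMod 2) =
    ∑ f, G2 (idx p) f * (if idx q = F2 f then 1 else 0) + ∑ i, K2 (idx p) i * par (Wv i q) := by
  decide +kernel

theorem ident2 : (1 : Matrix RuIdx RuIdx (ZMod 2)) = G2m * P2m + K2m * Hm := by
  ext p q
  rw [Matrix.one_apply, Matrix.add_apply, Matrix.mul_apply, Matrix.mul_apply]
  exact ident2' p q

set_option maxRecDepth 100000 in
theorem K1_zero' : ∀ (p : RuIdx) (i : Fin 28), 3 < ae i → K1 (idx p) i = 0 := by decide +kernel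

theorem K1_zero : ∀ p i, 3 < ae i → K1m p i = 0 := K1_zero'

set_option maxRecDepth 100000 in
theorem K2_zero' : ∀ (p : RuIdx) (i : Fin 28), 2 < ae i → K2 (idx p) i = 0 := by decide +kernel

theorem K2_zero : ∀ p i, 2 < ae i → K2m p i = 0 := K2_zero'

set_option maxRecDepth 100000 in
theorem code1 : ∀ u : Fin 9 → ZMod 2, wt (G1m.mulVec u) ≤ 8 →
    G1m.mulVec u = 0 ∨ ∃ n n' : Fin 7, n < n' ∧ G1m.mulVec u = bp n n' := by decide +kernel

set_option maxRecDepth 100000 in
theorem code2 : ∀ u : Fin 10 → ZMod 2, wt (G2m.mulVec u) ≤ 4 →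
    G2m.mulVec u = 0 ∨ ∃ n : Fin 7, G2m.mulVec u = blk n := by decide +kernel

set_option maxRecDepth 100000 in
theorem col_nonzero : ∀ p, ∃ i, ae i ≤ 0 ∧ Hm i p = 1 := by decide +kernel

set_option maxRecDepth 100000 in
theorem col_distinct : ∀ p q, p ≠ q → ∃ i, ae i ≤ 0 ∧ Hm i p ≠ Hm i q := by decide +kernel

set_option maxRecDepth 100000 in
theorem wt_bp : ∀ n n' : Fin 7, n < n' → wt (bp n n') = 8 := by decide +kernel

set_option maxRecDepth 100000 in
theorem wt_blk : ∀ n : Fin 7, wt (blk n) = 4 := by decide +kernel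

end Cfsg.Agent.Lib.Helper9.Ru
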