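import Mathlib
import Cfsg.Prelude.Def_Spor_Ru
import Cfsg.Agent.Lib.Helper9.RuD

/-!
The Rudvalis lattice has no vectors of (scaled) norm 8 (S1628): descent along the `π`-adic filtration.
-/

set_option autoImplicit false

namespace Cfsg.Agent.Lib.Helper9.Ru

open Cfsg.Spor

theorem val_par_le (z : GaussianInt) : ((par z).val : ℤ) ≤ z.norm := by
  rcases zmod2_cases (par z) with h | h
  · rw [h]; simpa using GaussianInt.norm_nonneg z
  · rw [h]
    have hz : z ≠ 0 := by
      rintro rfl
      rw [map_zero] at h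
      exact zero_ne_one h
    have := GaussianInt.norm_pos.2 hz
    have h1 : ((1 : ZMod 2).val : ℤ) = 1 := by decide
    rw [h1]
    omega

theorem wt_le (v : RuVec) : (wt (fun p => par (v p)) : ℤ) ≤ ruNorm v := by
  unfold wt ruNorm
  push_cast
  exact Finset.sum_le_sum fun p _ => val_par_le _

theorem vanish_of_wt_eq (v : RuVec) (h : (wt (fun p => par (v p)) : ℤ) = ruNorm v) (p : RuIdx)
    (hp : par (v p) = 0) : v p = 0 := by
  unfold wt ruNorm at h
  push_cast at h
  have := (Finset.sum_eq_sum_iff_of_le (fun p _ => val_par_le (v p))).1 h p (Finset.mem_univ p)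
  rw [hp] at this
  have h0 : (v p).norm = 0 := by simpa using this.symm
  exact GaussianInt.norm_eq_zero.1 h0

theorem exists_half {v : RuVec} (h : ∀ p, par (v p) = 0) :
    ∃ v' : RuVec, v = piG • v' ∧ ruNorm v = 2 * ruNorm v' := by
  have hv : v = piG • (fun p => hpi (v p)) := funext fun p => (piG_mul_hpi (h p)).symm
  refine ⟨fun p => hpi (v p), hv, ?_⟩
  conv_lhs => rw [hv]
  rw [ruNorm_smul, norm_piG]

/-- Two-block test vectors. -/
def kav (n n' : Fin 7) : RuVec := fun q => ∑ k, cA ⟨7 * n.val + n'.val, by omega⟩ k * Bv k q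

/-- One-block test vectors. -/
def kbv (n : Fin 7) : RuVec := fun q => ∑ k, cB n k * Bv k q

theorem kav_mem (n n' : Fin 7) : kav n n' ∈ SB := by
  rw [eq_comb (v := kav n n') (c := cA ⟨7 * n.val + n'.val, by omega⟩) (fun _ => rfl)]
  exact comb_mem _

theorem kbv_mem (n : Fin 7) : kbv n ∈ SB := by
  rw [eq_comb (v := kbv n) (c := cB n) (fun _ => rfl)]
  exact comb_mem _

set_option maxRecDepth 100000 in
theorem kav_spec : ∀ n n' : Fin 7, n < n' → ∀ q : RuIdx, (q.1 = n ∨ q.1 = n') →
    kav n n' q = if q = (n', 3) then ⟨2, 0⟩ else 0 := by decide +kernel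

set_option maxRecDepth 100000 in
theorem kbv_spec : ∀ n : Fin 7, ∀ q : RuIdx, q.1 = n →
    kbv n q = if q = (n, 3) then piG else 0 := by decide +kernel

theorem par_of_D4_two {z : GaussianInt} (h : D4 (z * ⟨2, 0⟩)) : par z = 0 := by
  rw [par_eq_zero_iff]
  obtain ⟨h1, h2⟩ := h
  simp only [Zsqrtd.re_mul, Zsqrtd.im_mul] at h1 h2
  omega

theorem par_of_D4_pi {z : GaussianInt} (h : D4 (piG * (z * star piG))) : par z = 0 := by
  rw [par_eq_zero_iff]
  obtain ⟨h1, h2⟩ := h
  simp only [piG, Zsqrtd.re_mul, Zsqrtd.im_mul, Zsqrtd.re_star, Zsqrtd.im_star] at h1 h2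
  omega

theorem no_a {x : RuVec} (hx : x ∈ SB) (hn : ruNorm x = 8) (n n' : Fin 7) (hlt : n < n')
    (hm : (fun p => par (x p)) = bp n n') : False := by
  have hv : ∀ p, par (x p) = 0 → x p = 0 :=
    vanish_of_wt_eq x (by rw [hm, wt_bp n n' hlt, hn]; rfl)
  have hd := integral hx (kav_mem n n')
  have hherm : herm x (kav n n') = x (n', 3) * ⟨2, 0⟩ := by
    unfold herm
    rw [Finset.sum_eq_single (n', 3)]
    · rw [kav_spec n n' hlt (n', 3) (Or.inr rfl), if_pos rfl]
      rfl
    · intro q _ hq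
      by_cases hb : q.1 = n ∨ q.1 = n'
      · rw [kav_spec n n' hlt q hb, if_neg hq, star_zero, mul_zero]
      · have h0 : par (x q) = 0 := by
          have := congrFun hm q
          simp only [bp, if_neg hb] at this
          exact this
        rw [hv q h0, zero_mul]
    · intro h; exact absurd (Finset.mem_univ _) h
  rw [hherm] at hd
  have h0 := par_of_D4_two hd
  have h1 : par (x (n', 3)) = 1 := by
    have := congrFun hm (n', 3)
    simpa [bp] using this
  rw [h0] at h1
  exact zero_ne_one h1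

theorem no_b {x v : RuVec} (hx : x ∈ SB) (hxv : x = piG • v) (hn : ruNorm v = 4) (n : Fin 7)
    (hm : (fun p => par (v p)) = blk n) : False := by
  have hv : ∀ p, par (v p) = 0 → v p = 0 :=
    vanish_of_wt_eq v (by rw [hm, wt_blk n, hn]; rfl)
  have hd := integral hx (kbv_mem n)
  have hherm : herm v (kbv n) = v (n, 3) * star piG := by
    unfold herm
    rw [Finset.sum_eq_single (n, 3)]
    · rw [kbv_spec n (n, 3) rfl, if_pos rfl]
    · intro q _ hq
      by_cases hb : q.1 = n
      · rw [kbv_spec n q hb, if_neg hq, star_zero, mul_zero]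
      · have h0 : par (v q) = 0 := by
          have := congrFun hm q
          simp only [blk, if_neg hb] at this
          exact this
        rw [hv q h0, zero_mul]
    · intro h; exact absurd (Finset.mem_univ _) h
  rw [hxv, herm_smul_left, hherm] at hd
  have h0 := par_of_D4_pi hd
  have h1 : par (v (n, 3)) = 1 := by
    have := congrFun hm (n, 3)
    simpa [blk] using this
  rw [h0] at h1
  exact zero_ne_one h1

theorem val_eq_ite (a : ZMod 2) : a.val = if a = 1 then 1 else 0 := by
  revert a; decide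

theorem mul_eq_ite (h a : ZMod 2) : h * a = if a = 1 then h else 0 := by
  revert h a; decide

theorem eq_of_add_eq_zero (a b : ZMod 2) (h : a + b = 0) : a = b := by
  revert a b; decide

theorem small_wt_zero (m : RuIdx → ZMod 2) (hw : wt m ≤ 2)
    (h : ∀ i, ae i ≤ 0 → ∑ p, Hm i p * m p = 0) : m = 0 := by
  by_contra hne
  set S : Finset RuIdx := Finset.univ.filter (fun p => m p = 1) with hS
  have hcard : S.card = wt m := by
    rw [hS, Finset.card_filter]
    unfold wt
    exact Finset.sum_congr rfl fun p _ => (val_eq_ite _).symm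
  have hsum : ∀ i, ∑ p, Hm i p * m p = ∑ p ∈ S, Hm i p := by
    intro i
    rw [hS, Finset.sum_filter]
    exact Finset.sum_congr rfl fun p _ => mul_eq_ite _ _
  obtain ⟨p, hp⟩ := Function.ne_iff.1 hne
  have hp1 : m p = 1 := by
    rcases zmod2_cases (m p) with h0 | h1
    · exact absurd h0 hp
    · exact h1
  have hpS : p ∈ S := by rw [hS, Finset.mem_filter]; exact ⟨Finset.mem_univ _, hp1⟩
  have hpos : 0 < S.card := Finset.card_pos.2 ⟨p, hpS⟩
  have hle : S.card ≤ 2 := hcard ▸ hw
  have hc : S.card = 1 ∨ S.card = 2 := by omega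
  rcases hc with hc | hc
  · obtain ⟨q, hq⟩ := Finset.card_eq_one.1 hc
    obtain ⟨i, hi, hi1⟩ := col_nonzero q
    have := h i hi
    rw [hsum, hq, Finset.sum_singleton, hi1] at this
    exact one_ne_zero this
  · obtain ⟨q, q', hqq, hq⟩ := Finset.card_eq_two.1 hc
    obtain ⟨i, hi, hi1⟩ := col_distinct q q' hqq
    have := h i hi
    rw [hsum, hq, Finset.sum_pair hqq] at this
    exact hi1 (eq_of_add_eq_zero _ _ this)

theorem rootless {x : RuVec} (hx : x ∈ SB) (hn : ruNorm x = 8) : False := by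
  -- level 1
  have hc0 : ∀ i, ae i ≤ 3 → ∑ p, Hm i p * (fun p => par (x p)) p = 0 := fun i hi =>
    parity_check (lev := 0) (by norm_num) hx (by simp) i (by simpa using hi)
  have hp0 := code_param G1m P1m K1m 3 ident1 K1_zero _ hc0
  have hw0 : wt (fun p => par (x p)) ≤ 8 := by
    have := wt_le x; rw [hn] at this; exact_mod_cast this
  have h1 := code1 (P1m.mulVec (fun p => par (x p))) (by rw [← hp0]; exact hw0)
  rw [← hp0] at h1
  rcases h1 with h1 | ⟨n, n', hlt, h1⟩
  swap
  · exact no_a hx hn n n' hlt h1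
  obtain ⟨v1, hxv1, hn1⟩ := exists_half (fun p => congrFun h1 p)
  have hn1' : ruNorm v1 = 4 := by omega
  -- level 2
  have hc1 : ∀ i, ae i ≤ 2 → ∑ p, Hm i p * (fun p => par (v1 p)) p = 0 := fun i hi =>
    parity_check (lev := 1) (by norm_num) hx (by simpa using hxv1) i (by simpa using hi)
  have hp1 := code_param G2m P2m K2m 2 ident2 K2_zero _ hc1
  have hw1 : wt (fun p => par (v1 p)) ≤ 4 := by
    have := wt_le v1; rw [hn1'] at this; exact_mod_cast this
  have h2 := code2 (P2m.mulVec (fun p => par (v1 p))) (by rw [← hp1]; exact hw1)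
  rw [← hp1] at h2
  rcases h2 with h2 | ⟨n, h2⟩
  swap
  · exact no_b hx hxv1 hn1' n h2
  obtain ⟨v2, hv12, hn2⟩ := exists_half (fun p => congrFun h2 p)
  have hn2' : ruNorm v2 = 2 := by omega
  have hxv2 : x = piG ^ 2 • v2 := by rw [hxv1, hv12, smul_smul, pow_two]
  -- level 3
  have hc2 : ∀ i, ae i ≤ 0 → ∑ p, Hm i p * (fun p => par (v2 p)) p = 0 := fun i hi =>
    parity_check (lev := 2) (by norm_num) hx hxv2 i (by omega)
  have hw2 : wt (fun p => par (v2 p)) ≤ 2 := by
    have := wt_le v2; rw [hn2'] at this; exact_mod_cast this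
  have h3 := small_wt_zero _ hw2 hc2
  obtain ⟨v3, hv23, hn3⟩ := exists_half (fun p => congrFun h3 p)
  have hn3' : ruNorm v3 = 1 := by omega
  have hxv3 : x = piG ^ 3 • v3 := by rw [hxv2, hv23, smul_smul, ← pow_succ]
  -- level 4
  have hc3 : ∀ i, ae i ≤ 0 → ∑ p, Hm i p * (fun p => par (v3 p)) p = 0 := fun i hi =>
    parity_check (lev := 3) (by norm_num) hx hxv3 i (by omega)
  have hw3 : wt (fun p => par (v3 p)) ≤ 2 := by
    have := wt_le v3; rw [hn3'] at this
    have h' : wt (fun p => par (v3 p)) ≤ 1 := by exact_mod_cast this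
    omega
  have h4 := small_wt_zero _ hw3 hc3
  obtain ⟨v4, _, hn4⟩ := exists_half (fun p => congrFun h4 p)
  omega

end Cfsg.Agent.Lib.Helper9.Ru
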