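import Mathlib
import Cfsg.Agent.Lib.Helper9.RuE
import Cfsg.Agent.Lib.Helper9.RuBits

/-!
Real coordinates and bit masks for vectors of the Rudvalis lattice (S1627): the norm and the scalar
product as sums over the 56 real coordinates, the masks of the coordinates modulo 2 and modulo 4.
-/

set_option autoImplicit false
open Cfsg.Spor Cfsg.Agent.Lib.Helper9.Ru Cfsg.Agent.Lib.Helper9.RuBits

namespace Cfsg.Agent.Lib.Helper9.RuL

/-- real coordinates: `q ↦ (Gaussian coordinate, re/im)` -/
def qe : Fin 56 ≃ RuIdx × Fin 2 :=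
  (finProdFinEquiv (m := 28) (n := 2)).symm.trans
    (Equiv.prodCongr (finProdFinEquiv (m := 7) (n := 4)).symm (Equiv.refl _))

/-- the real coordinate `q` of a vector -/
def rc (x : RuVec) (q : Fin 56) : ℤ :=
  if (qe q).2 = 0 then (x (qe q).1).re else (x (qe q).1).im

theorem rc_add (x y : RuVec) (q : Fin 56) : rc (x + y) q = rc x q + rc y q := by
  unfold rc
  split_ifs <;> simp

theorem rc_zero (q : Fin 56) : rc 0 q = 0 := by
  unfold rc
  split_ifs <;> simp

theorem rc_gI (v : RuVec) (q : Fin 56) :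
    rc (gI • v) q = if (qe q).2 = 0 then -(v (qe q).1).im else (v (qe q).1).re := by
  unfold rc
  split_ifs <;> simp [gI]

theorem rc_smul (c : GaussianInt) (v : RuVec) (q : Fin 56) :
    rc (c • v) q = c.re * rc v q + c.im * rc (gI • v) q := by
  rw [rc_gI]
  unfold rc
  split_ifs <;> simp

/-- mask of the odd coordinates -/
def oddMask (x : RuVec) : ℕ := Nat.ofBits (fun q : Fin 56 => decide (rc x q % 2 = 1))

/-- mask of the coordinates that are 2 or 3 modulo 4 -/
def twoMask (x : RuVec) : ℕ := Nat.ofBits (fun q : Fin 56 => decide (2 ≤ rc x q % 4))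

theorem testBit_oddMask (x : RuVec) (q : Fin 56) :
    (oddMask x).testBit q = decide (rc x q % 2 = 1) := Nat.testBit_ofBits_lt _ _ q.2

theorem testBit_twoMask (x : RuVec) (q : Fin 56) :
    (twoMask x).testBit q = decide (2 ≤ rc x q % 4) := Nat.testBit_ofBits_lt _ _ q.2

theorem oddMask_lt (x : RuVec) : oddMask x < 2 ^ 56 := Nat.ofBits_lt_two_pow _
theorem twoMask_lt (x : RuVec) : twoMask x < 2 ^ 56 := Nat.ofBits_lt_two_pow _

/-- two numbers below `2 ^ 56` with the same 56 low bits are equal -/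
theorem eq_of_bits {a b : ℕ} (ha : a < 2 ^ 56) (hb : b < 2 ^ 56)
    (h : ∀ q : Fin 56, a.testBit q = b.testBit q) : a = b := by
  apply Nat.eq_of_testBit_eq
  intro i
  by_cases hi : i < 56
  · exact h ⟨i, hi⟩
  · have h56 : 2 ^ 56 ≤ 2 ^ i := Nat.pow_le_pow_right (by norm_num) (by omega)
    rw [Nat.testBit_lt_two_pow (lt_of_lt_of_le ha h56),
      Nat.testBit_lt_two_pow (lt_of_lt_of_le hb h56)]

theorem oddMask_add (x y : RuVec) : oddMask (x + y) = oddMask x ^^^ oddMask y := by
  apply eq_of_bits (oddMask_lt _) (Nat.xor_lt_two_pow (oddMask_lt _) (oddMask_lt _))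
  intro q
  rw [Nat.testBit_xor, testBit_oddMask, testBit_oddMask, testBit_oddMask, rc_add]
  rcases Int.emod_two_eq_zero_or_one (rc x q) with h1 | h1 <;>
    rcases Int.emod_two_eq_zero_or_one (rc y q) with h2 | h2 <;>
    simp [Int.add_emod, h1, h2]

theorem oddMask_zero : oddMask 0 = 0 := by
  apply eq_of_bits (oddMask_lt _) (by norm_num)
  intro q
  rw [testBit_oddMask, rc_zero]
  simp

theorem oddMask_smul (c : GaussianInt) (v : RuVec) :
    oddMask (c • v) = (if c.re % 2 = 1 then oddMask v else 0) ^^^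
      (if c.im % 2 = 1 then oddMask (gI • v) else 0) := by
  have hb : (if c.re % 2 = 1 then oddMask v else 0) ^^^
      (if c.im % 2 = 1 then oddMask (gI • v) else 0) < 2 ^ 56 := by
    apply Nat.xor_lt_two_pow <;> split_ifs <;> first | exact oddMask_lt _ | norm_num
  apply eq_of_bits (oddMask_lt _) hb
  intro q
  rw [Nat.testBit_xor, testBit_oddMask, rc_smul]
  rcases Int.emod_two_eq_zero_or_one c.re with h1 | h1 <;>
    rcases Int.emod_two_eq_zero_or_one c.im with h2 | h2 <;>
    rcases Int.emod_two_eq_zero_or_one (rc v q) with h3 | h3 <;>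
    rcases Int.emod_two_eq_zero_or_one (rc (gI • v) q) with h4 | h4 <;>
    simp [h1, h2, testBit_oddMask, Int.add_emod, Int.mul_emod, h3, h4]

theorem ruNorm_eq (x : RuVec) : ruNorm x = ∑ q : Fin 56, rc x q ^ 2 := by
  unfold ruNorm
  have h1 : ∀ p : RuIdx, (x p).norm = ∑ e : Fin 2, (if e = 0 then (x p).re else (x p).im) ^ 2 := by
    intro p
    rw [Fin.sum_univ_two, Zsqrtd.norm_def]
    simp
    ring
  simp_rw [h1]
  rw [← Fintype.sum_prod_type (f := fun pe : RuIdx × Fin 2 => (if pe.2 = 0 then (x pe.1).re else (x pe.1).im) ^ 2)]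
  exact (Fintype.sum_equiv qe _ _ (fun q => rfl)).symm

/-- the real scalar product -/
def dot (x t : RuVec) : ℤ := ∑ q : Fin 56, rc x q * rc t q

theorem herm_re (x t : RuVec) : (herm x t).re = dot x t := by
  unfold herm dot
  have h0 : (∑ p, x p * star (t p)).re = ∑ p, (x p * star (t p)).re :=
    map_sum reHom (fun p => x p * star (t p)) Finset.univ
  rw [h0]
  have h1 : ∀ p : RuIdx, (x p * star (t p)).re =
      ∑ e : Fin 2, (if e = 0 then (x p).re else (x p).im) * (if e = 0 then (t p).re else (t p).im) := by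
    intro p
    rw [Fin.sum_univ_two]
    simp
  simp_rw [h1]
  rw [← Fintype.sum_prod_type (f := fun pe : RuIdx × Fin 2 =>
    (if pe.2 = 0 then (x pe.1).re else (x pe.1).im) * (if pe.2 = 0 then (t pe.1).re else (t pe.1).im))]
  exact (Fintype.sum_equiv qe _ _ (fun q => rfl)).symm

/-- number of common one bits, as a sum -/
theorem popc_and (a b : ℕ) (ha : a < 2 ^ 56) :
    (popc (a &&& b) : ℤ) = ∑ q : Fin 56, (if a.testBit q = true ∧ b.testBit q = true then 1 else 0) := by
  have hlt : a &&& b < 2 ^ 56 := lt_of_le_of_lt Nat.and_le_left ha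
  rw [popc_card 56 _ (by norm_num) hlt, Finset.card_filter]
  push_cast
  refine Finset.sum_congr rfl fun q _ => ?_
  rw [Nat.testBit_and]
  simp

theorem term_mod4 (u w : ℤ) :
    (u * w) % 4 = ((if u % 2 = 1 ∧ w % 2 = 1 then 1 else 0) +
      2 * (if u % 2 = 1 ∧ 2 ≤ w % 4 then 1 else 0) + 2 * (if 2 ≤ u % 4 ∧ w % 2 = 1 then 1 else 0)) % 4 := by
  have hu := Int.emod_emod_of_dvd u (by norm_num : (2 : ℤ) ∣ 4)
  have hw := Int.emod_emod_of_dvd w (by norm_num : (2 : ℤ) ∣ 4)
  have hu0 := Int.emod_nonneg u (by norm_num : (4 : ℤ) ≠ 0)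
  have hu1 := Int.emod_lt_of_pos u (by norm_num : (0 : ℤ) < 4)
  have hw0 := Int.emod_nonneg w (by norm_num : (4 : ℤ) ≠ 0)
  have hw1 := Int.emod_lt_of_pos w (by norm_num : (0 : ℤ) < 4)
  rw [Int.mul_emod, ← hu, ← hw]
  generalize u % 4 = a at *
  generalize w % 4 = b at *
  interval_cases a <;> interval_cases b <;> simp

/-- the scalar product modulo 4 from the masks -/
theorem dot_mod4 (x t : RuVec) :
    dot x t % 4 = ((popc (oddMask x &&& oddMask t) + 2 * popc (oddMask x &&& twoMask t) +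
      2 * popc (twoMask x &&& oddMask t) : ℕ) : ℤ) % 4 := by
  push_cast
  rw [popc_and _ _ (oddMask_lt x), popc_and _ _ (oddMask_lt x), popc_and _ _ (twoMask_lt x)]
  rw [Finset.mul_sum, Finset.mul_sum, ← Finset.sum_add_distrib, ← Finset.sum_add_distrib]
  unfold dot
  rw [Finset.sum_int_mod]
  conv_rhs => rw [Finset.sum_int_mod]
  congr 1
  refine Finset.sum_congr rfl fun q _ => ?_
  rw [term_mod4]
  simp only [testBit_oddMask, testBit_twoMask, decide_eq_true_eq]

end Cfsg.Agent.Lib.Helper9.RuL
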