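import Mathlib
import Cfsg.Agent.Lib.Helper9.RuLatA

set_option autoImplicit false
open Cfsg.Spor Cfsg.Agent.Lib.Helper9.Ru Cfsg.Agent.Lib.Helper9.RuBits

namespace Cfsg.Agent.Lib.Helper9.RuL

/-- xor of the masks of a list selected by the bits of `m` -/
def combN : List ℕ → ℕ → ℕ
  | [], _ => 0
  | g :: gs, m => Nat.xor (if m % 2 = 1 then g else 0) (combN gs (m / 2))

theorem combN_cons (g : ℕ) (gs : List ℕ) (m : ℕ) :
    combN (g :: gs) m = (if m % 2 = 1 then g else 0) ^^^ combN gs (m / 2) := rfl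

theorem combN_zero : ∀ gs : List ℕ, combN gs 0 = 0
  | [] => rfl
  | g :: gs => by rw [combN_cons, combN_zero gs]; simp

theorem combN_xor : ∀ (gs : List ℕ) (m m' : ℕ), combN gs m ^^^ combN gs m' = combN gs (m ^^^ m')
  | [], _, _ => by simp [combN]
  | g :: gs, m, m' => by
    rw [combN_cons, combN_cons, combN_cons, Nat.xor_div_two, ← combN_xor gs]
    have h : (if (m ^^^ m') % 2 = 1 then g else 0) =
        (if m % 2 = 1 then g else 0) ^^^ (if m' % 2 = 1 then g else 0) := by
      rw [Nat.xor_mod_two_eq]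
      rcases Nat.mod_two_eq_zero_or_one m with h1 | h1 <;>
        rcases Nat.mod_two_eq_zero_or_one m' with h2 | h2 <;>
        simp [Nat.add_mod, h1, h2]
    rw [h]
    simp only [Nat.xor_assoc, Nat.xor_left_comm]

theorem combN_lt (n : ℕ) : ∀ (gs : List ℕ), (∀ g ∈ gs, g < 2 ^ n) → ∀ m, combN gs m < 2 ^ n
  | [], _, _ => by simp [combN]
  | g :: gs, h, m => by
    rw [combN_cons]
    apply Nat.xor_lt_two_pow
    · split_ifs
      · exact h g (List.mem_cons_self ..)
      · exact Nat.two_pow_pos n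
    · exact combN_lt n gs (fun g' hg' => h g' (List.mem_cons_of_mem _ hg')) _

/-- parity of a mask below `2 ^ 56`, as an element of `ZMod 2` -/
def parZ (v : ℕ) : ZMod 2 := ∑ q : Fin 56, if v.testBit q then 1 else 0

theorem parZ_xor (a b : ℕ) : parZ (a ^^^ b) = parZ a + parZ b := by
  unfold parZ
  rw [← Finset.sum_add_distrib]
  refine Finset.sum_congr rfl fun q _ => ?_
  rw [Nat.testBit_xor]
  cases a.testBit q <;> cases b.testBit q <;> decide

theorem parZ_zero : parZ 0 = 0 := by simp [parZ]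

theorem parZ_eq (v : ℕ) (hv : v < 2 ^ 56) : parZ v = (popc v : ZMod 2) := by
  rw [popc_card 56 v (by norm_num) hv, Finset.card_filter]
  push_cast
  rfl

theorem parZ_and_xor (z a b : ℕ) : parZ (z &&& (a ^^^ b)) = parZ (z &&& a) + parZ (z &&& b) := by
  rw [Nat.and_xor_distrib_left, parZ_xor]

/-- the right hand side belonging to a combination: sum of the selected bits modulo 2 -/
def rhsN : List ℕ → ℕ → ℕ
  | [], _ => 0
  | b :: bs, m => Nat.mod (Nat.add (if m % 2 = 1 then b else 0) (rhsN bs (m / 2))) 2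

theorem rhsN_cons (b : ℕ) (bs : List ℕ) (m : ℕ) :
    rhsN (b :: bs) m = ((if m % 2 = 1 then b else 0) + rhsN bs (m / 2)) % 2 := rfl

/-- parity of `z` on a combination -/
theorem parZ_combN {ι : Type*} (z : ℕ) (gf : ι → ℕ) (bf : ι → ℕ) : ∀ (l : List ι) (m : ℕ),
    (∀ k ∈ l, parZ (z &&& gf k) = (bf k : ZMod 2)) →
    parZ (z &&& combN (l.map gf) m) = (rhsN (l.map bf) m : ZMod 2)
  | [], m, _ => by simp [combN, rhsN, parZ_zero]
  | k :: l, m, h => by
    have ih := parZ_combN z gf bf l (m / 2) (fun k' hk' => h k' (List.mem_cons_of_mem _ hk'))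
    have hk := h k (List.mem_cons_self ..)
    rw [List.map_cons, List.map_cons, combN_cons, rhsN_cons, parZ_and_xor, ih]
    have hc : (((((if m % 2 = 1 then bf k else 0) + rhsN (List.map bf l) (m / 2)) % 2 : ℕ)) : ZMod 2) =
        (((if m % 2 = 1 then bf k else 0 : ℕ)) : ZMod 2) + ((rhsN (List.map bf l) (m / 2) : ℕ) : ZMod 2) := by
      rw [ZMod.natCast_mod, Nat.cast_add]
    rw [hc]
    have h1 : parZ (z &&& if m % 2 = 1 then gf k else 0) =
        (((if m % 2 = 1 then bf k else 0 : ℕ)) : ZMod 2) := by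
      by_cases hm : m % 2 = 1
      · rw [if_pos hm, if_pos hm]; exact hk
      · rw [if_neg hm, if_neg hm, Nat.and_zero, parZ_zero, Nat.cast_zero]
    rw [h1]

/-- checks `P` on all combinations -/
def spanAll (P : ℕ → Bool) : List ℕ → ℕ → Bool
  | [], acc => P acc
  | g :: gs, acc => spanAll P gs acc && spanAll P gs (Nat.xor acc g)

theorem spanAll_spec (P : ℕ → Bool) : ∀ (gs : List ℕ) (acc : ℕ), spanAll P gs acc = true →
    ∀ m, P (acc ^^^ combN gs m) = true
  | [], acc, h, m => by simpa [combN, spanAll] using h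
  | g :: gs, acc, h, m => by
    rw [spanAll, Bool.and_eq_true] at h
    rw [combN_cons, ← Nat.xor_assoc]
    split_ifs
    · exact spanAll_spec P gs _ h.2 _
    · rw [Nat.xor_zero]
      exact spanAll_spec P gs _ h.1 _

end Cfsg.Agent.Lib.Helper9.RuL
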