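import Mathlib
import Cfsg.Agent.Lib.Helper9.RuLatA
import Cfsg.Agent.Lib.Helper9.RuLatB

set_option autoImplicit false
open Cfsg.Spor Cfsg.Agent.Lib.Helper9.Ru Cfsg.Agent.Lib.Helper9.RuBits

namespace Cfsg.Agent.Lib.Helper9.RuL

/-- the 56 real basis vectors of the lattice: `Bv j` and `gI • Bv j` -/
def tvec (k : Fin 56) : RuVec :=
  if k.val % 2 = 0 then Bv ⟨k.val / 2, by omega⟩ else gI • Bv ⟨k.val / 2, by omega⟩

theorem tvec_mem (k : Fin 56) : tvec k ∈ SB := by
  unfold tvec
  split_ifs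
  · exact Bv_mem _
  · exact SB.smul_mem _ (Bv_mem _)

/-- the basis vectors whose masks modulo 2 are independent -/
def CH : List (Fin 56) := [0, 1, 2, 3, 4, 5, 6, 7, 8, 9, 10, 11, 12, 14, 15, 16, 17, 18, 19]

/-- their masks modulo 2 and the second bits -/
def GH : List (ℕ × ℕ) := [(0x1eca5c82304481, 0xc0208000b00481), (0x2dc5ac41308842, 0xc5554441600802), (0x9cac4e96781484, 0x486c4294381484), (0x6c5c8d69b42848, 0xc0c88429202808), (0xe83f7828b85090, 0x744800a0381090), (0xd43fb41474a060, 0xec911444602020), (0x78bd1ea090d4c0, 0x7d4c4aa0901400), (0xb47e2d5060e8c0, 0xaad88000206840), (0xcc3356ccf09500, 0xd9808204b01400), (0xcc33a9ccf06a00, 0xa251404c206800), (0xa6f09a00cc00, 0xede40090800800), (0x59f06500cc00, 0xde895025404000), (0xccc3ccf0f03c00, 0x45224820302400), (0x33a96a00f00000, 0x4404a80b04000), (0x33569500f00000, 0x19d49040208000), (0x5695a6009a0000, 0x54800600180000), (0xa96a5900650000, 0xa9005800610000), (0xa6f09a00cc0000, 0xb4d84280800000), (0x59f06500cc0000,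 0x29b4c440040000)]

/-- generators of the code of the lattice modulo 2 -/
def G19 : List ℕ := GH.map Prod.fst

set_option maxRecDepth 100000 in
theorem GH_eq : CH.map (fun k => (oddMask (tvec k), twoMask (tvec k))) = GH := by decide +kernel

/-- the masks of the 56 basis vectors as combinations of the generators -/
def EX : Fin 56 → ℕ := ![1, 2, 4, 8, 16, 32, 64, 128, 256, 512, 1024, 2048, 4096, 4096, 8192, 16384, 32768, 65536, 131072, 262144, 0, 0, 0, 0, 0, 0, 0, 0, 0, 0, 0, 0, 0, 0, 0, 0, 0, 0, 0, 0, 0, 0, 0, 0, 0, 0, 0, 0, 0, 0, 0, 0, 0, 0, 0, 0]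

set_option maxRecDepth 100000 in
theorem EX_spec : ∀ k : Fin 56, oddMask (tvec k) = combN G19 (EX k) := by decide +kernel

/-- membership in the code -/
def InD0 (v : ℕ) : Prop := ∃ m, v = combN G19 m

theorem InD0_zero : InD0 0 := ⟨0, (combN_zero _).symm⟩

theorem InD0_xor {a b : ℕ} (ha : InD0 a) (hb : InD0 b) : InD0 (a ^^^ b) := by
  obtain ⟨m, rfl⟩ := ha
  obtain ⟨m', rfl⟩ := hb
  exact ⟨m ^^^ m', combN_xor _ _ _⟩

theorem InD0_ite {a : ℕ} (p : Prop) [Decidable p] (ha : InD0 a) : InD0 (if p then a else 0) := by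
  split_ifs
  · exact ha
  · exact InD0_zero

theorem rc_neg (x : RuVec) (q : Fin 56) : rc (-x) q = - rc x q := by
  unfold rc
  split_ifs <;> simp

theorem oddMask_neg (x : RuVec) : oddMask (-x) = oddMask x := by
  apply eq_of_bits (oddMask_lt _) (oddMask_lt _)
  intro q
  rw [testBit_oddMask, testBit_oddMask, rc_neg]
  congr 1
  apply propext
  omega

theorem gI_gI (x : RuVec) : gI • gI • x = -x := by
  rw [smul_smul]
  have : gI * gI = -1 := by decide
  rw [this, neg_one_smul]

theorem InD0_Bv (j : Fin 28) : InD0 (oddMask (Bv j)) ∧ InD0 (oddMask (gI • Bv j)) := by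
  have h0 := EX_spec ⟨2 * j.val, by omega⟩
  have h1 := EX_spec ⟨2 * j.val + 1, by omega⟩
  have e0 : tvec ⟨2 * j.val, by omega⟩ = Bv j := by
    unfold tvec
    have : (2 * j.val) % 2 = 0 := by omega
    simp only [this, if_true]
    congr 1
    apply Fin.ext
    show 2 * j.val / 2 = j.val
    omega
  have e1 : tvec ⟨2 * j.val + 1, by omega⟩ = gI • Bv j := by
    unfold tvec
    have : ¬ ((2 * j.val + 1) % 2 = 0) := by omega
    simp only [this, if_false]
    congr 2
    apply Fin.ext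
    show (2 * j.val + 1) / 2 = j.val
    omega
  rw [e0] at h0
  rw [e1] at h1
  exact ⟨⟨_, h0⟩, ⟨_, h1⟩⟩

theorem InD0_of_mem {x : RuVec} (hx : x ∈ SB) : InD0 (oddMask x) ∧ InD0 (oddMask (gI • x)) := by
  induction hx using Submodule.span_induction with
  | mem x h => obtain ⟨j, rfl⟩ := h; exact InD0_Bv j
  | zero => rw [smul_zero, oddMask_zero]; exact ⟨InD0_zero, InD0_zero⟩
  | add x y _ _ h h' =>
    rw [smul_add, oddMask_add, oddMask_add]
    exact ⟨InD0_xor h.1 h'.1, InD0_xor h.2 h'.2⟩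
  | smul c x _ h =>
    have e1 := oddMask_smul c x
    have e3 := oddMask_smul c (gI • x)
    rw [gI_gI, oddMask_neg] at e3
    rw [smul_comm gI c x, e1, e3]
    exact ⟨InD0_xor (InD0_ite _ h.1) (InD0_ite _ h.2), InD0_xor (InD0_ite _ h.2) (InD0_ite _ h.1)⟩

/-- the congruence modulo 4 that a lattice vector satisfies against a basis vector -/
theorem eqn_of_mem {x : RuVec} (hx : x ∈ SB) (k : Fin 56) :
    (popc (oddMask x &&& oddMask (tvec k)) + 2 * popc (oddMask x &&& twoMask (tvec k)) +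
      2 * popc (twoMask x &&& oddMask (tvec k))) % 4 = 0 := by
  have h4 : (4 : ℤ) ∣ dot x (tvec k) := by
    rw [← herm_re]
    exact (integral hx (tvec_mem k)).1
  have h := dot_mod4 x (tvec k)
  rw [Int.emod_eq_zero_of_dvd h4] at h
  have h' := h.symm
  exact_mod_cast h'

end Cfsg.Agent.Lib.Helper9.RuL
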