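import Mathlib
import Cfsg.Agent.Lib.Helper9.RuLatA
import Cfsg.Agent.Lib.Helper9.RuLatB

set_option autoImplicit false
open Cfsg.Spor Cfsg.Agent.Lib.Helper9.Ru Cfsg.Agent.Lib.Helper9.RuBits

namespace Cfsg.Agent.Lib.Helper9.RuL

/-- number of one bits as a sum -/
theorem popc_sum (a : ℕ) (ha : a < 2 ^ 56) :
    (popc a : ℤ) = ∑ q : Fin 56, (if a.testBit q = true then 1 else 0) := by
  rw [popc_card 56 _ (by norm_num) ha, Finset.card_filter]
  push_cast
  rfl

/-- the mask of the coordinates that are 2 modulo 4 -/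
def evenTwo (x : RuVec) : ℕ := Nat.ofBits (fun q : Fin 56 => decide (rc x q % 4 = 2))

theorem testBit_evenTwo (x : RuVec) (q : Fin 56) :
    (evenTwo x).testBit q = decide (rc x q % 4 = 2) := Nat.testBit_ofBits_lt _ _ q.2

theorem evenTwo_lt (x : RuVec) : evenTwo x < 2 ^ 56 := Nat.ofBits_lt_two_pow _

/-- a square against its residues -/
theorem sq_ge (u : ℤ) : (if u % 2 = 1 then 1 else 0) + 4 * (if u % 4 = 2 then 1 else 0) ≤ u ^ 2 := by
  have h2 := Int.emod_emod_of_dvd u (by norm_num : (2 : ℤ) ∣ 4)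
  rcases Int.emod_two_eq_zero_or_one u with h | h
  · rw [if_neg (by omega)]
    by_cases h4 : u % 4 = 2
    · rw [if_pos h4]
      have : 2 ≤ u ∨ u ≤ -2 := by omega
      rcases this with h5 | h5 <;> nlinarith
    · rw [if_neg h4]; positivity
  · rw [if_pos h, if_neg (by omega)]
    have : 1 ≤ u ∨ u ≤ -1 := by omega
    rcases this with h5 | h5 <;> nlinarith

theorem sq_mod8 (u : ℤ) :
    u ^ 2 % 8 = ((if u % 2 = 1 then 1 else 0) + 4 * (if u % 4 = 2 then 1 else 0)) % 8 := by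
  have h0 := Int.emod_nonneg u (by norm_num : (8 : ℤ) ≠ 0)
  have h1 := Int.emod_lt_of_pos u (by norm_num : (0 : ℤ) < 8)
  have e2 := Int.emod_emod_of_dvd u (by norm_num : (2 : ℤ) ∣ 8)
  have e4 := Int.emod_emod_of_dvd u (by norm_num : (4 : ℤ) ∣ 8)
  rw [pow_two, Int.mul_emod, ← e2, ← e4]
  generalize u % 8 = a at *
  interval_cases a <;> simp

theorem sq_mod16_even (u : ℤ) (hu : u % 2 = 0) :
    u ^ 2 % 16 = (4 * (if u % 4 = 2 then 1 else 0)) % 16 := by
  have h0 := Int.emod_nonneg u (by norm_num : (16 : ℤ) ≠ 0)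
  have h1 := Int.emod_lt_of_pos u (by norm_num : (0 : ℤ) < 16)
  have e2 := Int.emod_emod_of_dvd u (by norm_num : (2 : ℤ) ∣ 16)
  have e4 := Int.emod_emod_of_dvd u (by norm_num : (4 : ℤ) ∣ 16)
  rw [pow_two, Int.mul_emod, ← e4]
  rw [← e2] at hu
  generalize u % 16 = a at *
  interval_cases a <;> simp at hu ⊢

/-- the norm against the masks -/
theorem norm_ge (x : RuVec) : (popc (oddMask x) : ℤ) + 4 * popc (evenTwo x) ≤ ruNorm x := by
  rw [ruNorm_eq, popc_sum _ (oddMask_lt x), popc_sum _ (evenTwo_lt x), Finset.mul_sum,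
    ← Finset.sum_add_distrib]
  refine Finset.sum_le_sum fun q _ => ?_
  simp only [testBit_oddMask, testBit_evenTwo, decide_eq_true_eq]
  exact sq_ge _

theorem norm_mod8 (x : RuVec) :
    ruNorm x % 8 = ((popc (oddMask x) : ℤ) + 4 * popc (evenTwo x)) % 8 := by
  rw [ruNorm_eq, popc_sum _ (oddMask_lt x), popc_sum _ (evenTwo_lt x), Finset.mul_sum,
    ← Finset.sum_add_distrib, Finset.sum_int_mod]
  conv_rhs => rw [Finset.sum_int_mod]
  congr 1
  refine Finset.sum_congr rfl fun q _ => ?_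
  simp only [testBit_oddMask, testBit_evenTwo, decide_eq_true_eq]
  exact sq_mod8 _

theorem norm_mod16 (x : RuVec) (h : oddMask x = 0) :
    ruNorm x % 16 = (4 * (popc (evenTwo x) : ℤ)) % 16 := by
  have hev : ∀ q : Fin 56, rc x q % 2 = 0 := by
    intro q
    have := testBit_oddMask x q
    rw [h] at this
    have h3 : ¬ (rc x q % 2 = 1) := by
      intro h'
      simp [h'] at this
    omega
  rw [ruNorm_eq, popc_sum _ (evenTwo_lt x), Finset.mul_sum, Finset.sum_int_mod]
  conv_rhs => rw [Finset.sum_int_mod]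
  congr 1
  refine Finset.sum_congr rfl fun q _ => ?_
  simp only [testBit_evenTwo, decide_eq_true_eq]
  exact sq_mod16_even _ (hev q)

end Cfsg.Agent.Lib.Helper9.RuL
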