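import Mathlib
import Cfsg.Agent.Lib.Helper9.RuLatC
import Cfsg.Agent.Lib.Helper9.RuLatD

set_option autoImplicit false
open Cfsg.Spor Cfsg.Agent.Lib.Helper9.Ru Cfsg.Agent.Lib.Helper9.RuBits

namespace Cfsg.Agent.Lib.Helper9.RuL

/-- the entry of a vector given by a support mask and a sign mask -/
def valOf (c s : ℕ) (q : Fin 56) : ℤ :=
  if c.testBit q = true then (if s.testBit q = true then -1 else 1) else 0

/-- the vector with entries `±1` on the mask `c`, the signs given by `s` -/
def vecOf (c s : ℕ) : RuVec := fun p => ⟨valOf c s (qe.symm (p, 0)), valOf c s (qe.symm (p, 1))⟩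

theorem rc_vecOf (c s : ℕ) (q : Fin 56) : rc (vecOf c s) q = valOf c s q := by
  unfold rc vecOf
  have h : ∀ pe : RuIdx × Fin 2, pe.2 = 0 ∨ pe.2 = 1 := by
    intro pe
    have := pe.2.2
    rcases pe with ⟨p, e⟩
    fin_cases e <;> simp
  rcases h (qe q) with h0 | h1
  · rw [if_pos h0]
    show valOf c s (qe.symm ((qe q).1, 0)) = _
    rw [← h0, Prod.mk.eta, Equiv.symm_apply_apply]
  · rw [if_neg (by rw [h1]; decide)]
    show valOf c s (qe.symm ((qe q).1, 1)) = _
    rw [← h1, Prod.mk.eta, Equiv.symm_apply_apply]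

/-- a vector is determined by its real coordinates -/
theorem ext_rc {x y : RuVec} (h : ∀ q, rc x q = rc y q) : x = y := by
  funext p
  have h0 := h (qe.symm (p, 0))
  have h1 := h (qe.symm (p, 1))
  unfold rc at h0 h1
  rw [Equiv.apply_symm_apply] at h0 h1
  simp only [if_true] at h0
  have : ¬ ((1 : Fin 2) = 0) := by decide
  simp only [this, if_false] at h1
  exact Zsqrtd.ext h0 h1

/-- the shape of a vector of norm 16 with 16 odd coordinates -/
theorem shape16 {x : RuVec} (hn : ruNorm x = 16) (hc : popc (oddMask x) = 16) :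
    x = vecOf (oddMask x) (twoMask x) ∧ twoMask x &&& oddMask x = twoMask x := by
  have hsum : ∑ q : Fin 56, (rc x q ^ 2 - (if rc x q % 2 = 1 then 1 else 0)) = 0 := by
    rw [Finset.sum_sub_distrib, ← ruNorm_eq, hn]
    have := popc_sum _ (oddMask_lt x)
    simp only [testBit_oddMask, decide_eq_true_eq] at this
    rw [← this, hc]
    norm_num
  have hnn : ∀ q ∈ (Finset.univ : Finset (Fin 56)),
      0 ≤ rc x q ^ 2 - (if rc x q % 2 = 1 then 1 else 0) := by
    intro q _
    have := sq_ge (rc x q)
    have h4 : (0 : ℤ) ≤ 4 * (if rc x q % 4 = 2 then 1 else 0) := by split_ifs <;> norm_num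
    linarith
  have hz := (Finset.sum_eq_zero_iff_of_nonneg hnn).mp hsum
  have hval : ∀ q : Fin 56, rc x q = valOf (oddMask x) (twoMask x) q := by
    intro q
    have h := hz q (Finset.mem_univ q)
    unfold valOf
    rw [testBit_oddMask, testBit_twoMask]
    simp only [decide_eq_true_eq]
    by_cases ho : rc x q % 2 = 1
    · rw [if_pos ho] at h ⊢
      have h1 : rc x q ^ 2 = 1 := by linarith
      have h2 : rc x q = 1 ∨ rc x q = -1 := by
        have : (rc x q - 1) * (rc x q + 1) = 0 := by ring_nf; linarith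
        rcases mul_eq_zero.mp this with h3 | h3
        · left; linarith
        · right; linarith
      rcases h2 with h2 | h2 <;> rw [h2] <;> norm_num
    · rw [if_neg ho] at h ⊢
      have h1 : rc x q ^ 2 = 0 := by linarith
      exact pow_eq_zero_iff (by norm_num) |>.mp h1
  refine ⟨ext_rc fun q => ?_, ?_⟩
  · rw [rc_vecOf]; exact hval q
  · apply eq_of_bits (Nat.and_lt_two_pow _ (oddMask_lt x)) (twoMask_lt x)
    intro q
    rw [Nat.testBit_and, testBit_oddMask, testBit_twoMask]
    have h := hval q
    unfold valOf at h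
    rw [testBit_oddMask, testBit_twoMask] at h
    simp only [decide_eq_true_eq] at h
    by_cases ho : rc x q % 2 = 1
    · simp [ho]
    · rw [if_neg ho] at h
      simp [h]

end Cfsg.Agent.Lib.Helper9.RuL
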