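import Mathlib

set_option autoImplicit false

/-! Permuting the bits of a natural number by a network of delta swaps. -/

namespace Cfsg.Agent.Lib.Helper9.RuNet

/-- checks `f` on `a, a + 1, …, a + len - 1` -/
def allRange (f : ℕ → Bool) : ℕ → ℕ → Bool
  | _, 0 => true
  | a, k + 1 => f a && allRange f (a + 1) k

theorem allRange_spec (f : ℕ → Bool) : ∀ (len a : ℕ), allRange f a len = true →
    ∀ x, a ≤ x → x < a + len → f x = true := by
  intro len
  induction len with
  | zero => intro a _ x h1 h2; omega
  | succ k ih =>
    intro a h x h1 h2
    rw [allRange, Bool.and_eq_true] at h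
    rcases Nat.eq_or_lt_of_le h1 with rfl | h3
    · exact h.1
    · exact ih (a + 1) h.2 x h3 (by omega)

theorem allRange_append (f : ℕ → Bool) : ∀ (k a m : ℕ), allRange f a k = true →
    allRange f (a + k) m = true → allRange f a (k + m) = true := by
  intro k
  induction k with
  | zero => intro a m _ h; simpa using h
  | succ k ih =>
    intro a m h1 h2
    rw [allRange, Bool.and_eq_true] at h1
    have : k + 1 + m = (k + m) + 1 := by omega
    rw [this, allRange, Bool.and_eq_true]
    refine ⟨h1.1, ih (a + 1) m h1.2 ?_⟩
    have e : a + 1 + k = a + (k + 1) := by omega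
    rw [e]
    exact h2

/-- one delta swap: the bits at `j` and `j + d` are exchanged for the `j` in the mask `m` -/
def dswap (m d x : ℕ) : ℕ :=
  Nat.xor (Nat.xor x (Nat.land (Nat.xor (Nat.shiftRight x d) x) m))
    (Nat.shiftLeft (Nat.land (Nat.xor (Nat.shiftRight x d) x) m) d)

/-- the position whose bit arrives at `j` -/
def tau1 (m d j : ℕ) : ℕ :=
  bif m.testBit j then j + d else bif (Nat.ble d j && m.testBit (j - d)) then j - d else j

theorem testBit_dswap (m d x j : ℕ) (h : m &&& (m <<< d) = 0) :
    (dswap m d x).testBit j = x.testBit (tau1 m d j) := by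
  have hj : (m.testBit j && (decide (j ≥ d) && m.testBit (j - d))) = false := by
    have := congrArg (fun t => Nat.testBit t j) h
    simpa [Nat.testBit_and, Nat.testBit_shiftLeft] using this
  have e : (dswap m d x).testBit j =
      Bool.xor (Bool.xor (x.testBit j) (Bool.xor (x.testBit (d + j)) (x.testBit j) && m.testBit j))
        (decide (j ≥ d) && (Bool.xor (x.testBit (d + (j - d))) (x.testBit (j - d)) &&
          m.testBit (j - d))) := by
    show ((x ^^^ ((x >>> d ^^^ x) &&& m)) ^^^ (((x >>> d ^^^ x) &&& m) <<< d)).testBit j = _
    simp only [Nat.testBit_xor, Nat.testBit_and, Nat.testBit_shiftLeft, Nat.testBit_shiftRight]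
  rw [e]
  unfold tau1
  by_cases h1 : m.testBit j = true
  · have h2 : (decide (j ≥ d) && m.testBit (j - d)) = false := by
      rw [h1] at hj
      simpa using hj
    rw [h1]
    simp only [cond_true, Bool.and_true]
    have h3 : (decide (j ≥ d) && (Bool.xor (x.testBit (d + (j - d))) (x.testBit (j - d)) &&
        m.testBit (j - d))) = false := by
      rw [Bool.and_comm (Bool.xor _ _), ← Bool.and_assoc, h2, Bool.false_and]
    rw [h3, Nat.add_comm j d]
    cases x.testBit j <;> cases x.testBit (d + j) <;> rfl
  · have h1' : m.testBit j = false := by simpa using h1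
    rw [h1']
    simp only [cond_false, Bool.and_false, Bool.xor_false]
    by_cases h2 : (Nat.ble d j && m.testBit (j - d)) = true
    · rw [h2]
      simp only [cond_true]
      rw [Bool.and_eq_true] at h2
      have hdj : d ≤ j := Nat.le_of_ble_eq_true h2.1
      have e2 : d + (j - d) = j := by omega
      rw [e2, h2.2]
      have : decide (j ≥ d) = true := by simpa using hdj
      rw [this]
      cases x.testBit j <;> cases x.testBit (j - d) <;> rfl
    · have h2' : (Nat.ble d j && m.testBit (j - d)) = false := by simpa using h2
      rw [h2']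
      simp only [cond_false]
      have h3 : (decide (j ≥ d) && (Bool.xor (x.testBit (d + (j - d))) (x.testBit (j - d)) &&
          m.testBit (j - d))) = false := by
        by_cases hdj : d ≤ j
        · have hb : Nat.ble d j = true := Nat.ble_eq_true_of_le hdj
          rw [hb, Bool.true_and] at h2'
          rw [h2']
          simp
        · have : decide (j ≥ d) = false := by simpa using hdj
          rw [this, Bool.false_and]
      rw [h3, Bool.xor_false]

/-- a network of delta swaps -/
def net : List (ℕ × ℕ) → ℕ → ℕ
  | [], x => x
  | s :: rest, x => net rest (dswap s.1 s.2 x)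

/-- the position whose bit arrives at `j` -/
def tau : List (ℕ × ℕ) → ℕ → ℕ
  | [], j => j
  | s :: rest, j => tau1 s.1 s.2 (tau rest j)

/-- the masks of the stages do not overlap their shifts -/
def okStages : List (ℕ × ℕ) → Bool
  | [] => true
  | s :: rest => Nat.beq (Nat.land s.1 (Nat.shiftLeft s.1 s.2)) 0 && okStages rest

theorem testBit_net : ∀ (stages : List (ℕ × ℕ)) (x j : ℕ), okStages stages = true →
    (net stages x).testBit j = x.testBit (tau stages j) := by
  intro stages
  induction stages with
  | nil => intro x j _; rfl
  | cons s rest ih =>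
    intro x j h
    rw [okStages, Bool.and_eq_true] at h
    have h1 : s.1 &&& (s.1 <<< s.2) = 0 := Nat.eq_of_beq_eq_true h.1
    rw [net, ih _ j h.2, testBit_dswap _ _ _ _ h1, tau]

end Cfsg.Agent.Lib.Helper9.RuNet
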