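import Mathlib
import Cfsg.Agent.Lib.Helper9.RuLatE
import Cfsg.Agent.Lib.Helper9.RuNet

set_option autoImplicit false
open Cfsg.Spor Cfsg.Agent.Lib.Helper9.Ru Cfsg.Agent.Lib.Helper9.RuBits Cfsg.Agent.Lib.Helper9.RuNet

namespace Cfsg.Agent.Lib.Helper9.RuL

/-- the right hand side of the congruence of a vector with odd mask `c` against a basis vector -/
def bitOf (c g h : ℕ) : ℕ := ((popc (c &&& g) + 2 * popc (c &&& h)) / 2) % 2

/-- the right hand sides against the generators -/
def bvl (c : ℕ) : List ℕ := GH.map (fun gh => bitOf c gh.1 gh.2)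

theorem G19_eq : G19 = CH.map (fun k => oddMask (tvec k)) := by
  rw [G19, ← GH_eq, List.map_map]
  rfl

theorem bvl_eq (c : ℕ) :
    bvl c = CH.map (fun k => bitOf c (oddMask (tvec k)) (twoMask (tvec k))) := by
  rw [bvl, ← GH_eq, List.map_map]
  rfl

/-- the linear equations for the second bits of a lattice vector -/
theorem eqs_of_mem {x : RuVec} (hx : x ∈ SB) (m : ℕ) :
    parZ (twoMask x &&& combN G19 m) = (rhsN (bvl (oddMask x)) m : ZMod 2) := by
  rw [G19_eq, bvl_eq]
  apply parZ_combN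
  intro k _
  have e := eqn_of_mem hx k
  have hlt : twoMask x &&& oddMask (tvec k) < 2 ^ 56 := Nat.and_lt_two_pow _ (oddMask_lt _)
  rw [parZ_eq _ hlt]
  have : popc (twoMask x &&& oddMask (tvec k)) % 2 =
      bitOf (oddMask x) (oddMask (tvec k)) (twoMask (tvec k)) := by
    unfold bitOf
    omega
  rw [← this, ZMod.natCast_mod]

/-- certificate of an odd mask that no lattice vector with second bits inside it has -/
def chkI (c m : ℕ) : Bool := (combN G19 m &&& c == 0) && (rhsN (bvl c) m == 1)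

theorem chkI_sound {c m : ℕ} (h : chkI c m = true) {x : RuVec} (hx : x ∈ SB) (hc : oddMask x = c)
    (hz : twoMask x &&& c = twoMask x) : False := by
  rw [chkI, Bool.and_eq_true, beq_iff_eq, beq_iff_eq] at h
  have e := eqs_of_mem hx m
  rw [hc, h.2] at e
  have h0 : twoMask x &&& combN G19 m = 0 := by
    rw [← hz, Nat.and_assoc, Nat.and_comm c, h.1, Nat.and_zero]
  rw [h0, parZ_zero] at e
  exact absurd e (by decide)

/-- the mask with the given bits -/
def orBits : List ℕ → ℕ
  | [] => 0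
  | q :: qs => 2 ^ q ||| orBits qs

/-- the subset of the given bits selected by `t` -/
def spread : List ℕ → ℕ → ℕ
  | [], _ => 0
  | q :: qs, t => (if t % 2 = 1 then 2 ^ q else 0) ||| spread qs (t / 2)

theorem and_pow (z q : ℕ) : z &&& 2 ^ q = if z.testBit q = true then 2 ^ q else 0 := by
  rw [Nat.and_two_pow]
  cases z.testBit q <;> simp

theorem exists_spread (z : ℕ) : ∀ free : List ℕ,
    ∃ t, t < 2 ^ free.length ∧ spread free t = z &&& orBits free
  | [] => ⟨0, by simp, by simp [spread, orBits]⟩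
  | q :: qs => by
    obtain ⟨t', ht', hs⟩ := exists_spread z qs
    refine ⟨(if z.testBit q = true then 1 else 0) + 2 * t', ?_, ?_⟩
    · rw [List.length_cons, pow_succ]
      split_ifs <;> omega
    · have h1 : ((if z.testBit q = true then 1 else 0) + 2 * t') / 2 = t' := by split_ifs <;> omega
      have h2 : (((if z.testBit q = true then 1 else 0) + 2 * t') % 2 = 1) ↔ z.testBit q = true := by
        split_ifs with h <;> simp [h]
      rw [spread, h1, hs, orBits, Nat.and_or_distrib_left, and_pow]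
      congr 1
      by_cases h : z.testBit q = true
      · rw [if_pos (h2.mpr h), if_pos h]
      · rw [if_neg (fun h' => h (h2.mp h')), if_neg h]

theorem parZ_two_pow (q : ℕ) (hq : q < 56) : parZ (2 ^ q) = 1 := by
  unfold parZ
  rw [Finset.sum_eq_single ⟨q, hq⟩]
  · simp [Nat.testBit_two_pow_self]
  · intro b _ hb
    rw [Nat.testBit_two_pow]
    have : ¬ (q = b.val) := fun h => hb (Fin.ext h.symm)
    simp [this]
  · intro h; exact absurd (Finset.mem_univ _) h

theorem parZ_and_pow (z q : ℕ) (hq : q < 56) :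
    parZ (z &&& 2 ^ q) = if z.testBit q = true then 1 else 0 := by
  rw [and_pow]
  split_ifs
  · exact parZ_two_pow q hq
  · exact parZ_zero

/-- prepared pivot rows: position, free part, right hand side -/
def prep (c : ℕ) (bs : List ℕ) (p : ℕ × ℕ) : ℕ × ℕ × ℕ :=
  (p.1, (combN G19 p.2 &&& c) ^^^ 2 ^ p.1, rhsN bs p.2)

/-- the conditions on a pivot row -/
def pivOK (c Fm : ℕ) (p : ℕ × ℕ) : Bool :=
  (combN G19 p.2 &&& c).testBit p.1 &&
    ((((combN G19 p.2 &&& c) ^^^ 2 ^ p.1) &&& Fm) == ((combN G19 p.2 &&& c) ^^^ 2 ^ p.1)) &&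
    decide (p.1 < 56)

/-- the solution with given free part -/
def recon (φ : ℕ) : List (ℕ × ℕ × ℕ) → ℕ
  | [] => φ
  | r :: rs => (if (r.2.2 + popc (φ &&& r.2.1)) % 2 = 1 then 2 ^ r.1 else 0) ||| recon φ rs

theorem pivot_bit {c Fm z : ℕ} {bs : List ℕ} (hzlt : z < 2 ^ 56)
    (heq : ∀ m, parZ (z &&& combN G19 m) = (rhsN bs m : ZMod 2)) (hzc : z &&& c = z)
    (p : ℕ × ℕ) (hp : pivOK c Fm p = true) :
    (z.testBit p.1 = true ↔ ((prep c bs p).2.2 + popc ((z &&& Fm) &&& (prep c bs p).2.1)) % 2 = 1) := by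
  obtain ⟨q, m⟩ := p
  rw [pivOK, Bool.and_eq_true, Bool.and_eq_true, beq_iff_eq, decide_eq_true_eq] at hp
  obtain ⟨⟨_, hf⟩, hq⟩ := hp
  simp only [prep] at hf hq ⊢
  set r := combN G19 m &&& c with hr
  set f := r ^^^ 2 ^ q with hfdef
  have e := heq m
  have e1 : z &&& combN G19 m = z &&& r := by
    conv_lhs => rw [← hzc]
    rw [Nat.and_assoc, Nat.and_comm c]
  have e2 : r = 2 ^ q ^^^ f := by
    rw [hfdef, Nat.xor_comm r, ← Nat.xor_assoc, Nat.xor_self, Nat.zero_xor]
  rw [e1, e2, parZ_and_xor, parZ_and_pow z q hq] at e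
  have e3 : (z &&& Fm) &&& f = z &&& f := by
    rw [Nat.and_assoc, Nat.and_comm Fm, hf]
  have hlt : z &&& f < 2 ^ 56 := lt_of_le_of_lt Nat.and_le_left hzlt
  rw [e3]
  rw [parZ_eq _ hlt] at e
  by_cases hb : z.testBit q = true
  · rw [if_pos hb] at e
    have e4 : ((rhsN bs m + popc (z &&& f) : ℕ) : ZMod 2) = ((1 : ℕ) : ZMod 2) := by
      push_cast
      rw [← e]
      have h2 : ∀ a : ZMod 2, 1 + a + a = 1 := by decide
      exact h2 _
    rw [ZMod.natCast_eq_natCast_iff'] at e4
    exact ⟨fun _ => e4, fun _ => hb⟩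
  · rw [if_neg hb, zero_add] at e
    have e4 : ((rhsN bs m + popc (z &&& f) : ℕ) : ZMod 2) = ((0 : ℕ) : ZMod 2) := by
      push_cast
      rw [← e]
      have h2 : ∀ a : ZMod 2, a + a = 0 := by decide
      exact h2 _
    rw [ZMod.natCast_eq_natCast_iff'] at e4
    constructor
    · intro h; exact absurd h hb
    · intro h; omega

theorem recon_eq {c Fm z : ℕ} {bs : List ℕ} (hzlt : z < 2 ^ 56)
    (heq : ∀ m, parZ (z &&& combN G19 m) = (rhsN bs m : ZMod 2)) (hzc : z &&& c = z) :
    ∀ ps : List (ℕ × ℕ), (∀ p ∈ ps, pivOK c Fm p = true) →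
      recon (z &&& Fm) (ps.map (prep c bs)) = (z &&& Fm) ||| (z &&& orBits (ps.map Prod.fst))
  | [], _ => by simp [recon, orBits]
  | p :: ps, h => by
    have ih := recon_eq hzlt heq hzc ps (fun p' hp' => h p' (List.mem_cons_of_mem _ hp'))
    have hb := pivot_bit hzlt heq hzc p (h p (List.mem_cons_self ..))
    rw [List.map_cons, List.map_cons, recon, ih, orBits, Nat.and_or_distrib_left, and_pow]
    have e : (if ((prep c bs p).2.2 + popc ((z &&& Fm) &&& (prep c bs p).2.1)) % 2 = 1
        then 2 ^ (prep c bs p).1 else 0) = if z.testBit p.1 = true then 2 ^ p.1 else 0 := by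
      by_cases hz : z.testBit p.1 = true
      · rw [if_pos hz, if_pos (hb.mp hz)]; rfl
      · rw [if_neg hz, if_neg (fun h' => hz (hb.mpr h'))]
    rw [e]
    simp only [Nat.or_left_comm]

end Cfsg.Agent.Lib.Helper9.RuL
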