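import Mathlib
import Cfsg.Agent.Lib.Helper9.RuLatF

set_option autoImplicit false
open Cfsg.Spor Cfsg.Agent.Lib.Helper9.Ru Cfsg.Agent.Lib.Helper9.RuBits Cfsg.Agent.Lib.Helper9.RuNet

namespace Cfsg.Agent.Lib.Helper9.RuL

section
variable (tabC tabS : ℕ → ℕ)

/-- the table entry `idx` is the vector with masks `c`, `z` -/
def entryOK (idx c z : ℕ) : Bool := decide (idx < 16240) && (tabC idx == c) && (tabS idx == z)

/-- certificate for an odd mask with 16 bits: pivot rows, free positions, and the table indices of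
the solutions -/
def chkC (c : ℕ) (ps : List (ℕ × ℕ)) (free idxs : List ℕ) : Bool :=
  ((orBits free ||| orBits (ps.map Prod.fst)) == c) && ps.all (pivOK c (orBits free)) &&
  allRange (fun t => entryOK tabC tabS (idxs.getD t 0) c
    (recon (spread free t) (ps.map (prep c (bvl c))))) 0 (2 ^ free.length)

theorem chkC_sound {c : ℕ} {ps : List (ℕ × ℕ)} {free idxs : List ℕ}
    (h : chkC tabC tabS c ps free idxs = true) {x : RuVec} (hx : x ∈ SB) (hc : oddMask x = c)
    (hz : twoMask x &&& c = twoMask x) :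
    ∃ idx < 16240, tabC idx = c ∧ tabS idx = twoMask x := by
  rw [chkC, Bool.and_eq_true, Bool.and_eq_true, beq_iff_eq, List.all_eq_true] at h
  obtain ⟨⟨h1, h2⟩, h3⟩ := h
  obtain ⟨t, ht, hs⟩ := exists_spread (twoMask x) free
  have h4 := allRange_spec _ _ _ h3 t (Nat.zero_le _) (by omega)
  have heq : ∀ m, parZ (twoMask x &&& combN G19 m) = (rhsN (bvl c) m : ZMod 2) := by
    intro m
    rw [← hc]
    exact eqs_of_mem hx m
  have hr := recon_eq (twoMask_lt x) heq hz ps h2
  rw [hs, hr, ← Nat.and_or_distrib_left, h1, hz] at h4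
  rw [entryOK, Bool.and_eq_true, Bool.and_eq_true, decide_eq_true_eq, beq_iff_eq, beq_iff_eq] at h4
  exact ⟨_, h4.1.1, h4.1.2, h4.2⟩

end

/-- unpacking of `n` fields of `w` bits -/
def unpk (w : ℕ) : ℕ → ℕ → List ℕ
  | 0, _ => []
  | n + 1, P => (P % 2 ^ w) :: unpk w n (P / 2 ^ w)

/-- unpacking of `n` pairs of fields of 6 and 19 bits -/
def unpkP : ℕ → ℕ → List (ℕ × ℕ)
  | 0, _ => []
  | n + 1, P => (P % 64, (P / 64) % 524288) :: unpkP n (P / 33554432)

end Cfsg.Agent.Lib.Helper9.RuL
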