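import Mathlib
import Cfsg.Agent.Lib.Helper9.RuLatG

set_option autoImplicit false
open Cfsg.Spor Cfsg.Agent.Lib.Helper9.Ru Cfsg.Agent.Lib.Helper9.RuBits Cfsg.Agent.Lib.Helper9.RuNet

namespace Cfsg.Agent.Lib.Helper9.RuL

/-- a mask without one bits is zero -/
theorem eq_zero_of_popc {v : ℕ} (hv : v < 2 ^ 56) (h : popc v = 0) : v = 0 := by
  apply eq_of_bits hv (by norm_num)
  intro q
  rw [popc_card 56 v (by norm_num) hv, Finset.card_eq_zero, Finset.filter_eq_empty_iff] at h
  have := h (Finset.mem_univ q)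
  simp at this
  simp [this]

/-- the congruences of a lattice vector against the generators -/
theorem eqn_gen {x : RuVec} (hx : x ∈ SB) {g h : ℕ} (hg : (g, h) ∈ GH) :
    (popc (oddMask x &&& g) + 2 * popc (oddMask x &&& h) + 2 * popc (twoMask x &&& g)) % 4 = 0 := by
  rw [← GH_eq, List.mem_map] at hg
  obtain ⟨k, _, hk⟩ := hg
  rw [Prod.mk.injEq] at hk
  rw [← hk.1, ← hk.2]
  exact eqn_of_mem hx k

/-! ### no odd coordinates -/

/-- parity of the bits of `g` at four positions -/
def par4 (q1 q2 q3 q4 g : ℕ) : Bool :=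
  xor (xor (g.testBit q1) (g.testBit q2)) (xor (g.testBit q3) (g.testBit q4))

/-- no four columns of the generator matrix add up to zero -/
def chk4 : Bool :=
  allRange (fun q4 => allRange (fun q3 => allRange (fun q2 => allRange (fun q1 =>
    G19.any (par4 q1 q2 q3 q4)) 0 q2) 0 q3) 0 q4) 0 56

theorem chk4_spec (h : chk4 = true) (q1 q2 q3 q4 : ℕ) (h12 : q1 < q2) (h23 : q2 < q3)
    (h34 : q3 < q4) (h4 : q4 < 56) : G19.any (par4 q1 q2 q3 q4) = true := by
  have a4 := allRange_spec _ _ _ h q4 (Nat.zero_le _) (by omega)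
  have a3 := allRange_spec _ _ _ a4 q3 (Nat.zero_le _) (by omega)
  have a2 := allRange_spec _ _ _ a3 q2 (Nat.zero_le _) (by omega)
  exact allRange_spec _ _ _ a2 q1 (Nat.zero_le _) (by omega)

/-- the number of common one bits with a set of four positions -/
theorem popc_four {z g : ℕ} (hz : z < 2 ^ 56) (e : Fin 4 ↪o Fin 56)
    (he : ∀ q : Fin 56, z.testBit q = true ↔ q ∈ Set.range e) :
    popc (z &&& g) = ∑ i : Fin 4, (if g.testBit (e i) = true then 1 else 0) := by
  have hlt : z &&& g < 2 ^ 56 := lt_of_le_of_lt Nat.and_le_left hz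
  rw [popc_card 56 _ (by norm_num) hlt, Finset.card_filter]
  have h1 : ∀ q : Fin 56, (if (z &&& g).testBit q = true then 1 else 0) =
      if q ∈ Finset.univ.map e.toEmbedding then (if g.testBit q = true then 1 else 0) else 0 := by
    intro q
    rw [Nat.testBit_and]
    have hq := he q
    by_cases hm : q ∈ Finset.univ.map e.toEmbedding
    · rw [if_pos hm]
      have : z.testBit q = true := by
        rw [hq]
        obtain ⟨i, _, hi⟩ := Finset.mem_map.mp hm
        exact ⟨i, hi⟩
      simp [this]
    · rw [if_neg hm]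
      have : ¬ (z.testBit q = true) := by
        rw [hq]
        rintro ⟨i, hi⟩
        exact hm (Finset.mem_map.mpr ⟨i, Finset.mem_univ _, hi⟩)
      simp [this]
  simp_rw [h1]
  rw [← Finset.sum_filter, Finset.filter_mem_eq_inter, Finset.univ_inter, Finset.sum_map]
  rfl

theorem no_four (h : chk4 = true) {x : RuVec} (hx : x ∈ SB) (hc : oddMask x = 0)
    (hp : popc (twoMask x) = 4) : False := by
  have hcard := popc_card 56 _ (by norm_num) (twoMask_lt x)
  rw [hp] at hcard
  set S := (Finset.univ : Finset (Fin 56)).filter (fun w => (twoMask x).testBit w.val = true) with hS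
  let e := S.orderEmbOfFin hcard.symm
  have he : ∀ q : Fin 56, (twoMask x).testBit q = true ↔ q ∈ Set.range e := by
    intro q
    rw [Finset.range_orderEmbOfFin S hcard.symm]
    simp [hS]
  have hmono : StrictMono e := e.strictMono
  have h01 : (e 0).val < (e 1).val := hmono (by decide)
  have h12 : (e 1).val < (e 2).val := hmono (by decide)
  have h23 : (e 2).val < (e 3).val := hmono (by decide)
  have hany := chk4_spec h _ _ _ _ h01 h12 h23 (e 3).2
  rw [List.any_eq_true] at hany
  obtain ⟨g, hg, hpar⟩ := hany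
  rw [G19, List.mem_map] at hg
  obtain ⟨⟨g', h'⟩, hgh, rfl⟩ := hg
  have e1 := eqn_gen hx hgh
  rw [hc] at e1
  have e2 := popc_four (g := g') (twoMask_lt x) e he
  rw [Fin.sum_univ_four] at e2
  simp only [Nat.zero_and] at e1
  have hp0 : popc 0 = 0 := by decide +kernel
  rw [hp0] at e1
  unfold par4 at hpar
  revert hpar e2
  cases g'.testBit (e 0) <;> cases g'.testBit (e 1) <;> cases g'.testBit (e 2) <;>
    cases g'.testBit (e 3) <;> simp <;> omega

end Cfsg.Agent.Lib.Helper9.RuL
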