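import Mathlib
import Cfsg.Agent.Lib.Helper9.RuLatH

set_option autoImplicit false
open Cfsg.Spor Cfsg.Agent.Lib.Helper9.Ru Cfsg.Agent.Lib.Helper9.RuBits Cfsg.Agent.Lib.Helper9.RuNet

namespace Cfsg.Agent.Lib.Helper9.RuL

/-! ### eight odd coordinates -/

theorem rhsN_lt : ∀ (bs : List ℕ) (m : ℕ), rhsN bs m < 2
  | [], _ => by simp [rhsN]
  | b :: bs, m => by rw [rhsN_cons]; exact Nat.mod_lt _ (by norm_num)

/-- certificate for an odd mask `c` with 8 bits: combinations `ms` of the generators vanishing on `c`,
one of them with right hand side 1, and for any two positions one of them excluding that the second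
bits outside `c` are at these two positions -/
def chk8 (c : ℕ) (ms : List ℕ) : Bool :=
  ms.all (fun m => combN G19 m &&& c == 0) && ms.any (fun m => rhsN (bvl c) m == 1) &&
  allRange (fun a => allRange (fun b => (a == b) ||
    ms.any (fun m => xor (xor ((combN G19 m).testBit a) ((combN G19 m).testBit b))
      (rhsN (bvl c) m == 1))) 0 56) 0 56

/-- the second bits against a word vanishing on the odd mask only see the even coordinates -/
theorem and_evenTwo (x : RuVec) {w : ℕ} (hw : w &&& oddMask x = 0) :
    twoMask x &&& w = evenTwo x &&& w := by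
  apply eq_of_bits (lt_of_le_of_lt Nat.and_le_left (twoMask_lt x))
    (lt_of_le_of_lt Nat.and_le_left (evenTwo_lt x))
  intro q
  rw [Nat.testBit_and, Nat.testBit_and, testBit_twoMask, testBit_evenTwo]
  by_cases hq : w.testBit q = true
  · have h1 : (w &&& oddMask x).testBit q = false := by rw [hw]; simp
    rw [Nat.testBit_and, hq, testBit_oddMask] at h1
    simp only [Bool.true_and, decide_eq_false_iff_not] at h1
    rw [hq]
    simp only [Bool.and_true]
    congr 1
    apply propext
    omega
  · have : w.testBit q = false := by simpa using hq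
    rw [this]; simp

theorem no_eight {c : ℕ} {ms : List ℕ} (h : chk8 c ms = true) (hpc : popc c = 8)
    {x : RuVec} (hx : x ∈ SB) (hn : ruNorm x = 16) (hc : oddMask x = c) : False := by
  rw [chk8, Bool.and_eq_true, Bool.and_eq_true, List.all_eq_true, List.any_eq_true] at h
  obtain ⟨⟨h1, h2⟩, h3⟩ := h
  -- the parity of the even part against the words
  have hpar : ∀ m ∈ ms, parZ (evenTwo x &&& combN G19 m) = (rhsN (bvl c) m : ZMod 2) := by
    intro m hm
    have e := eqs_of_mem hx m
    have h0 := h1 m hm
    rw [beq_iff_eq, ← hc] at h0
    rw [and_evenTwo x h0, hc] at e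
    exact e
  have hge := norm_ge x
  have hmod := norm_mod8 x
  rw [hn, hc, hpc] at hge hmod
  have hP : popc (evenTwo x) = 0 ∨ popc (evenTwo x) = 2 := by
    push_cast at hge hmod
    omega
  rcases hP with hP | hP
  · have hz := eq_zero_of_popc (evenTwo_lt x) hP
    obtain ⟨m, hm, hr⟩ := h2
    have e := hpar m hm
    rw [beq_iff_eq] at hr
    rw [hz, Nat.zero_and, parZ_zero, hr] at e
    exact absurd e (by decide)
  · have hcard := popc_card 56 _ (by norm_num) (evenTwo_lt x)
    rw [hP] at hcard
    obtain ⟨a, b, hab, hS⟩ := Finset.card_eq_two.mp hcard.symm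
    have hbit : ∀ q : Fin 56, (evenTwo x).testBit q = true ↔ q = a ∨ q = b := by
      intro q
      have : q ∈ (Finset.univ : Finset (Fin 56)).filter
          (fun w => (evenTwo x).testBit w.val = true) ↔ q ∈ ({a, b} : Finset (Fin 56)) := by rw [hS]
      simpa using this
    have hab' : ¬ (a.val = b.val) := fun h => hab (Fin.ext h)
    have a1 := allRange_spec _ _ _ h3 a.val (Nat.zero_le _) (by have := a.2; omega)
    have a2 := allRange_spec _ _ _ a1 b.val (Nat.zero_le _) (by have := b.2; omega)
    rw [Bool.or_eq_true, beq_iff_eq, List.any_eq_true] at a2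
    rcases a2 with a2 | ⟨m, hm, hx2⟩
    · exact hab' a2
    · have e := hpar m hm
      set w := combN G19 m with hw
      have hlt : evenTwo x &&& w < 2 ^ 56 := lt_of_le_of_lt Nat.and_le_left (evenTwo_lt x)
      rw [parZ_eq _ hlt, popc_card 56 _ (by norm_num) hlt, Finset.card_filter] at e
      have h1' : ∀ q : Fin 56, (if (evenTwo x &&& w).testBit q = true then 1 else 0) =
          if q ∈ ({a, b} : Finset (Fin 56)) then (if w.testBit q = true then 1 else 0) else 0 := by
        intro q
        rw [Nat.testBit_and]
        have hq := hbit q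
        by_cases hm' : q ∈ ({a, b} : Finset (Fin 56))
        · rw [if_pos hm']
          have : (evenTwo x).testBit q = true := by
            rw [hq]; simpa using hm'
          simp [this]
        · rw [if_neg hm']
          have : ¬ ((evenTwo x).testBit q = true) := by
            rw [hq]; simpa using hm'
          simp [this]
      simp_rw [h1'] at e
      rw [← Finset.sum_filter, Finset.filter_mem_eq_inter, Finset.univ_inter,
        Finset.sum_pair hab] at e
      have hlt2 := rhsN_lt (bvl c) m
      revert hx2 e hlt2
      generalize rhsN (bvl c) m = r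
      intro hx2 e hlt2
      have hr : r = 1 ∨ r = 0 := by omega
      rcases hr with hr | hr
      · subst hr
        revert hx2 e
        cases w.testBit a <;> cases w.testBit b <;> simp <;> decide
      · subst hr
        revert hx2 e
        cases w.testBit a <;> cases w.testBit b <;> simp

end Cfsg.Agent.Lib.Helper9.RuL
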