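import Mathlib
import Cfsg.Agent.Lib.Helper9.RuLatI
import Cfsg.Agent.Lib.Helper9.RuLatT

/-!
The certificate checkers for the enumeration of the minimal vectors of the Rudvalis lattice, specialised
to the table `RuLatT` (S1627).
-/

set_option autoImplicit false
open Cfsg.Spor Cfsg.Agent.Lib.Helper9.Ru Cfsg.Agent.Lib.Helper9.RuBits Cfsg.Agent.Lib.Helper9.RuNet

namespace Cfsg.Agent.Lib.Helper9.RuL

/-- the check of a certificate for an odd mask with vectors -/
def chkE (e : ℕ × ℕ × ℕ × ℕ × ℕ × ℕ) : Bool :=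
  chkC tabC tabS e.1 (unpkP e.2.1 e.2.2.1) (unpk 6 e.2.2.2.1 e.2.2.2.2.1)
    (unpk 14 (2 ^ e.2.2.2.1) e.2.2.2.2.2) && (popc e.1 == 16)

/-- the check of a certificate for an odd mask with 16 bits without vectors -/
def chkIE (e : ℕ × ℕ) : Bool := chkI e.1 e.2 && (popc e.1 == 16)

/-- the check of a certificate for an odd mask with 8 bits -/
def chk8E (e : ℕ × List ℕ) : Bool := chk8 e.1 e.2 && (popc e.1 == 8)

/-- the table entries of `4 e_q` and `-4 e_q` -/
def frameOK (L : List ℕ) (q : ℕ) : Bool :=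
  decide (L.getD (2 * q) 0 < 16240) && (tabC (L.getD (2 * q) 0) == 2 ^ q) &&
    (tabS (L.getD (2 * q) 0) == 0) &&
  decide (L.getD (2 * q + 1) 0 < 16240) && (tabC (L.getD (2 * q + 1) 0) == 2 ^ q) &&
    (tabS (L.getD (2 * q + 1) 0) == 2 ^ q)

/-- the vector of a table entry -/
def vecT (idx : ℕ) : RuVec :=
  if popc (tabC idx) = 1 then (4 : GaussianInt) • vecOf (tabC idx) (tabS idx)
  else vecOf (tabC idx) (tabS idx)

end Cfsg.Agent.Lib.Helper9.RuL
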