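import Mathlib
import Cfsg.Agent.Lib.Helper9.RuLatJ

/-!
The table of the minimal vectors of the Rudvalis lattice: norms, multiplication by `i` (S1627).
-/

set_option autoImplicit false
set_option maxRecDepth 1000000
open Cfsg.Spor Cfsg.Agent.Lib.Helper9.Ru Cfsg.Agent.Lib.Helper9.RuBits Cfsg.Agent.Lib.Helper9.RuNet

namespace Cfsg.Agent.Lib.Helper9.RuL

theorem tabC_lt (idx : ℕ) : tabC idx < 2 ^ 56 := by
  unfold tabC
  exact lt_of_le_of_lt Nat.and_le_right (by norm_num)

theorem tabS_lt (idx : ℕ) : tabS idx < 2 ^ 56 := by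
  unfold tabS
  exact lt_of_le_of_lt Nat.and_le_right (by norm_num)

theorem valOf_sq (c s : ℕ) (q : Fin 56) :
    valOf c s q ^ 2 = if c.testBit q = true then 1 else 0 := by
  unfold valOf
  split_ifs <;> norm_num

theorem norm_vecOf (c s : ℕ) (hc : c < 2 ^ 56) : ruNorm (vecOf c s) = popc c := by
  rw [ruNorm_eq, popc_sum c hc]
  refine Finset.sum_congr rfl fun q _ => ?_
  rw [rc_vecOf, valOf_sq]

/-- the shape of a table entry -/
def shapeOK (idx : ℕ) : Bool :=
  (Nat.beq (popc (tabC idx)) 16 || Nat.beq (popc (tabC idx)) 1) &&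
    Nat.beq (Nat.land (tabS idx) (tabC idx)) (tabS idx)

theorem four_norm : (4 : GaussianInt).norm = 16 := by decide

theorem norm_vecT {idx : ℕ} (h : shapeOK idx = true) : ruNorm (vecT idx) = 16 := by
  unfold shapeOK at h
  rw [Bool.and_eq_true, Bool.or_eq_true] at h
  unfold vecT
  rcases h.1 with h1 | h1
  · have e := Nat.eq_of_beq_eq_true h1
    rw [if_neg (by rw [e]; norm_num), norm_vecOf _ _ (tabC_lt idx), e]
    rfl
  · have e := Nat.eq_of_beq_eq_true h1
    rw [if_pos e, ruNorm_smul, norm_vecOf _ _ (tabC_lt idx), e, four_norm]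
    rfl

theorem sub_of_shape {idx : ℕ} (h : shapeOK idx = true) (q : ℕ) (hq : (tabS idx).testBit q = true) :
    (tabC idx).testBit q = true := by
  unfold shapeOK at h
  rw [Bool.and_eq_true] at h
  have e : tabS idx &&& tabC idx = tabS idx := Nat.eq_of_beq_eq_true h.2
  rw [← e, Nat.testBit_and, Bool.and_eq_true] at hq
  exact hq.2

/-- the weight of a table entry -/
def wT (idx : ℕ) : ℤ := if popc (tabC idx) = 1 then 4 else 1

theorem rc_vecT (idx : ℕ) (q : Fin 56) : rc (vecT idx) q = wT idx * valOf (tabC idx) (tabS idx) q := by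
  unfold vecT wT
  split_ifs
  · rw [rc_smul, rc_vecOf]
    have h1 : (4 : GaussianInt).re = 4 := rfl
    have h2 : (4 : GaussianInt).im = 0 := rfl
    rw [h1, h2]
    ring
  · rw [rc_vecOf, one_mul]

theorem wT_pos (idx : ℕ) : 0 < wT idx := by
  unfold wT
  split_ifs <;> norm_num

/-- the unit multiples in the table -/
def unitOK (k : ℕ) : Bool :=
  decide (∀ p : RuIdx, vecT (4 * k + 1) p = gI * vecT (4 * k) p) &&
  decide (∀ p : RuIdx, vecT (4 * k + 2) p = gI * vecT (4 * k + 1) p) &&
  decide (∀ p : RuIdx, vecT (4 * k + 3) p = gI * vecT (4 * k + 2) p) &&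
  decide (∀ p : RuIdx, vecT (4 * k) p = gI * vecT (4 * k + 3) p)

theorem unit_eqs {k : ℕ} (h : unitOK k = true) :
    vecT (4 * k + 1) = gI • vecT (4 * k) ∧ vecT (4 * k + 2) = gI • vecT (4 * k + 1) ∧
      vecT (4 * k + 3) = gI • vecT (4 * k + 2) ∧ vecT (4 * k) = gI • vecT (4 * k + 3) := by
  rw [unitOK, Bool.and_eq_true, Bool.and_eq_true, Bool.and_eq_true, decide_eq_true_eq,
    decide_eq_true_eq, decide_eq_true_eq, decide_eq_true_eq] at h
  obtain ⟨⟨⟨h1, h2⟩, h3⟩, h4⟩ := h
  exact ⟨funext h1, funext h2, funext h3, funext h4⟩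

/-- the checks on the lines from `a`, `n` of them -/
def lineOK (k : ℕ) : Bool :=
  unitOK k && shapeOK (4 * k) && shapeOK (4 * k + 1) && shapeOK (4 * k + 2) && shapeOK (4 * k + 3)

theorem okU0 : allRange lineOK 0 512 = true := by decide +kernel
theorem okU1 : allRange lineOK 512 512 = true := by decide +kernel
theorem okU2 : allRange lineOK 1024 512 = true := by decide +kernel
theorem okU3 : allRange lineOK 1536 512 = true := by decide +kernel
theorem okU4 : allRange lineOK 2048 512 = true := by decide +kernel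
theorem okU5 : allRange lineOK 2560 512 = true := by decide +kernel
theorem okU6 : allRange lineOK 3072 512 = true := by decide +kernel
theorem okU7 : allRange lineOK 3584 476 = true := by decide +kernel

theorem lineOK_all {k : ℕ} (hk : k < 4060) : lineOK k = true := by
  by_cases h0 : k < 512
  · exact allRange_spec _ _ _ okU0 k (by omega) (by omega)
  by_cases h1 : k < 1024
  · exact allRange_spec _ _ _ okU1 k (by omega) (by omega)
  by_cases h2 : k < 1536
  · exact allRange_spec _ _ _ okU2 k (by omega) (by omega)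
  by_cases h3 : k < 2048
  · exact allRange_spec _ _ _ okU3 k (by omega) (by omega)
  by_cases h4 : k < 2560
  · exact allRange_spec _ _ _ okU4 k (by omega) (by omega)
  by_cases h5 : k < 3072
  · exact allRange_spec _ _ _ okU5 k (by omega) (by omega)
  by_cases h6 : k < 3584
  · exact allRange_spec _ _ _ okU6 k (by omega) (by omega)
  · exact allRange_spec _ _ _ okU7 k (by omega) (by omega)

theorem unitOK_all {k : ℕ} (hk : k < 4060) : unitOK k = true := by
  have h := lineOK_all hk
  unfold lineOK at h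
  simp only [Bool.and_eq_true] at h
  exact h.1.1.1.1

theorem shapeOK_all {idx : ℕ} (h : idx < 16240) : shapeOK idx = true := by
  have hk : idx / 4 < 4060 := by omega
  have h1 := lineOK_all hk
  unfold lineOK at h1
  simp only [Bool.and_eq_true] at h1
  obtain ⟨⟨⟨⟨_, s0⟩, s1⟩, s2⟩, s3⟩ := h1
  have e := Nat.div_add_mod idx 4
  have hm : idx % 4 < 4 := Nat.mod_lt _ (by norm_num)
  rw [← e]
  interval_cases (idx % 4)
  · exact s0
  · exact s1
  · exact s2
  · exact s3

theorem norm_vecT_all {idx : ℕ} (h : idx < 16240) : ruNorm (vecT idx) = 16 :=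
  norm_vecT (shapeOK_all h)

theorem gI_pow_four : gI ^ 4 = 1 := by decide

/-- the four vectors of a line -/
theorem vecT_unit {k : ℕ} (hk : k < 4060) (e : ℕ) (he : e < 4) :
    vecT (4 * k + e) = gI ^ e • vecT (4 * k) := by
  obtain ⟨h1, h2, h3, _⟩ := unit_eqs (unitOK_all hk)
  interval_cases e
  · rw [pow_zero, one_smul]; rfl
  · rw [pow_one, h1]
  · rw [h2, h1, smul_smul, ← pow_two]
  · rw [h3, h2, h1, smul_smul, smul_smul]
    rfl

theorem vecT_unit_succ {k : ℕ} (hk : k < 4060) (e : ℕ) (he : e < 4) :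
    gI • vecT (4 * k + e) = vecT (4 * k + (e + 1) % 4) := by
  obtain ⟨h1, h2, h3, h4⟩ := unit_eqs (unitOK_all hk)
  interval_cases e
  · exact h1.symm
  · exact h2.symm
  · exact h3.symm
  · exact h4.symm

end Cfsg.Agent.Lib.Helper9.RuL
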