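import Mathlib
import Cfsg.Agent.Lib.Helper9.RuLatU

/-!
Matrices acting on the Rudvalis lattice, in real coordinates; the image of a table vector under a matrix
with entries `0, ±1, ±i`, by counting bits (S1627).
-/

set_option autoImplicit false
open Cfsg.Spor Cfsg.Agent.Lib.Helper9.Ru Cfsg.Agent.Lib.Helper9.RuBits Cfsg.Agent.Lib.Helper9.RuNet

namespace Cfsg.Agent.Lib.Helper9.RuL

/-- the entry of the real matrix of a matrix of Gaussian integers -/
def realE (A : Matrix RuIdx RuIdx GaussianInt) (q q' : Fin 56) : ℤ :=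
  if (qe q).2 = 0 then
    (if (qe q').2 = 0 then (A (qe q).1 (qe q').1).re else -(A (qe q).1 (qe q').1).im)
  else (if (qe q').2 = 0 then (A (qe q).1 (qe q').1).im else (A (qe q).1 (qe q').1).re)

theorem sum_qe (f : Fin 56 → ℤ) :
    ∑ q' : Fin 56, f q' = ∑ p' : RuIdx, (f (qe.symm (p', 0)) + f (qe.symm (p', 1))) := by
  have h : ∑ q' : Fin 56, f q' = ∑ pe : RuIdx × Fin 2, f (qe.symm pe) :=
    Fintype.sum_equiv qe _ _ (fun q => by rw [Equiv.symm_apply_apply])
  rw [h, Fintype.sum_prod_type]
  refine Finset.sum_congr rfl fun p' _ => ?_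
  rw [Fin.sum_univ_two]

theorem rc_symm0 (v : RuVec) (p : RuIdx) : rc v (qe.symm (p, 0)) = (v p).re := by
  unfold rc
  rw [Equiv.apply_symm_apply]
  simp

theorem rc_symm1 (v : RuVec) (p : RuIdx) : rc v (qe.symm (p, 1)) = (v p).im := by
  unfold rc
  rw [Equiv.apply_symm_apply]
  simp

theorem rc_mulVec (A : Matrix RuIdx RuIdx GaussianInt) (v : RuVec) (q : Fin 56) :
    rc (A.mulVec v) q = ∑ q' : Fin 56, realE A q q' * rc v q' := by
  rw [sum_qe]
  simp only [rc_symm0, rc_symm1]
  unfold rc realE
  simp only [Equiv.apply_symm_apply]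
  have hre : (A.mulVec v (qe q).1).re = ∑ p', (A (qe q).1 p' * v p').re :=
    map_sum reHom (fun p' => A (qe q).1 p' * v p') Finset.univ
  have him : (A.mulVec v (qe q).1).im = ∑ p', (A (qe q).1 p' * v p').im :=
    map_sum imHom (fun p' => A (qe q).1 p' * v p') Finset.univ
  by_cases h : (qe q).2 = 0
  · rw [if_pos h, hre]
    refine Finset.sum_congr rfl fun p' _ => ?_
    simp [h]
  · rw [if_neg h, him]
    refine Finset.sum_congr rfl fun p' _ => ?_
    simp [h]
    ring

/-- the scalar product of two vectors given by masks -/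
theorem dot_masks (P M C S : ℕ) (hP : P < 2 ^ 56) :
    ∑ q : Fin 56, valOf P M q * valOf C S q =
      (popc (P &&& C) : ℤ) - 2 * (popc ((M ^^^ S) &&& (P &&& C)) : ℤ) := by
  have h1 : P &&& C < 2 ^ 56 := lt_of_le_of_lt Nat.and_le_left hP
  have h2 : (M ^^^ S) &&& (P &&& C) < 2 ^ 56 := lt_of_le_of_lt Nat.and_le_right h1
  rw [popc_sum _ h1, popc_sum _ h2, Finset.mul_sum, ← Finset.sum_sub_distrib]
  refine Finset.sum_congr rfl fun q _ => ?_
  unfold valOf
  simp only [Nat.testBit_and, Nat.testBit_xor]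
  by_cases a : P.testBit q = true <;> by_cases b : C.testBit q = true <;>
    by_cases c : M.testBit q = true <;> by_cases d : S.testBit q = true <;>
    simp [a, b, c, d]

/-- the weight of a table entry, as a natural number -/
def wN (c : ℕ) : ℕ := cond (Nat.beq (popc c) 1) 4 1

theorem wN_eq (idx : ℕ) : (wN (tabC idx) : ℤ) = wT idx := by
  unfold wN wT
  by_cases h : popc (tabC idx) = 1
  · rw [if_pos h, h]; rfl
  · rw [if_neg h]
    have : Nat.beq (popc (tabC idx)) 1 = false := by
      rw [← Bool.not_eq_true]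
      intro h'
      exact h (Nat.eq_of_beq_eq_true h')
    rw [this]; rfl

/-- the row `q` of the packed masks -/
def rowM (X q : ℕ) : ℕ := Nat.land (Nat.shiftRight X (Nat.mul 56 q)) 0xffffffffffffff

theorem rowM_lt (X q : ℕ) : rowM X q < 2 ^ 56 := by
  unfold rowM
  exact lt_of_le_of_lt Nat.and_le_right (by norm_num)

/-- the check of the coordinate `q` of the image: the row of the matrix has support `P` and signs `M`, the
vector has weight `w`, support `C` and signs `S`, and the image is four times the vector with weight `w'`,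
support `C'` and signs `S'` -/
def coordOK (PA MA w C S w' C' S' q : ℕ) : Bool :=
  cond (C'.testBit q)
    (cond (S'.testBit q)
      (Nat.beq (Nat.add (Nat.mul w (popc (Nat.land (rowM PA q) C))) (Nat.mul 4 w'))
        (Nat.mul (Nat.mul 2 w) (popc (Nat.land (Nat.xor (rowM MA q) S) (Nat.land (rowM PA q) C)))))
      (Nat.beq (Nat.mul w (popc (Nat.land (rowM PA q) C)))
        (Nat.add (Nat.mul (Nat.mul 2 w) (popc (Nat.land (Nat.xor (rowM MA q) S) (Nat.land (rowM PA q) C))))
          (Nat.mul 4 w'))))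
    (Nat.beq (popc (Nat.land (rowM PA q) C))
      (Nat.mul 2 (popc (Nat.land (Nat.xor (rowM MA q) S) (Nat.land (rowM PA q) C)))))

/-- evaluate a number before it is used -/
def wvl {α : Type} (v : ℕ) (f : ℕ → α) : α :=
  match v with
  | 0 => f 0
  | k + 1 => f (Nat.succ k)

theorem wvl_eq {α : Type} (v : ℕ) (f : ℕ → α) : wvl v f = f v := by
  cases v <;> rfl

/-- the check of the image of the table entry `a`, which is four times the table entry `b` -/
def imgOK (PA MA a b : ℕ) : Bool :=
  wvl (tabC a) fun C => wvl (tabS a) fun S => wvl (tabC b) fun C' => wvl (tabS b) fun S' =>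
    allRange (coordOK PA MA (wN C) C S (wN C') C' S') 0 56

/-- the matrix has the rows given by the packed masks -/
def RowsOK (A : Matrix RuIdx RuIdx GaussianInt) (PA MA : ℕ) : Prop :=
  ∀ q q' : Fin 56, realE A q q' = valOf (rowM PA q) (rowM MA q) q'

theorem img_sound (A : Matrix RuIdx RuIdx GaussianInt) (PA MA : ℕ) (hA : RowsOK A PA MA) (a b : ℕ)
    (h : imgOK PA MA a b = true) : A.mulVec (vecT a) = (4 : GaussianInt) • vecT b := by
  unfold imgOK at h
  rw [wvl_eq, wvl_eq, wvl_eq, wvl_eq] at h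
  apply ext_rc
  intro q
  have hq := allRange_spec _ _ _ h q.val (Nat.zero_le _) (by have := q.2; omega)
  rw [rc_mulVec]
  have e1 : ∀ q' : Fin 56, realE A q q' * rc (vecT a) q' =
      wT a * (valOf (rowM PA q) (rowM MA q) q' * valOf (tabC a) (tabS a) q') := by
    intro q'
    rw [hA q q', rc_vecT]
    ring
  simp only [e1]
  rw [← Finset.mul_sum, dot_masks _ _ _ _ (rowM_lt PA q)]
  have e2 : rc ((4 : GaussianInt) • vecT b) q = 4 * (wT b * valOf (tabC b) (tabS b) q) := by
    rw [rc_smul, rc_vecT]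
    have h1 : (4 : GaussianInt).re = 4 := rfl
    have h2 : (4 : GaussianInt).im = 0 := rfl
    rw [h1, h2]
    ring
  rw [e2, ← wN_eq a, ← wN_eq b]
  unfold coordOK at hq
  unfold valOf
  by_cases c1 : (tabC b).testBit q = true
  · rw [c1, cond_true] at hq
    rw [if_pos c1]
    by_cases c2 : (tabS b).testBit q = true
    · rw [c2, cond_true] at hq
      rw [if_pos c2]
      have e := Nat.eq_of_beq_eq_true hq
      have e' : (wN (tabC a) : ℤ) * (popc (rowM PA q &&& tabC a) : ℤ) + 4 * (wN (tabC b) : ℤ) =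
          2 * (wN (tabC a) : ℤ) * (popc ((rowM MA q ^^^ tabS a) &&& (rowM PA q &&& tabC a)) : ℤ) := by
        exact_mod_cast e
      linarith
    · rw [Bool.not_eq_true] at c2
      rw [c2, cond_false] at hq
      rw [if_neg (by rw [c2]; decide)]
      have e := Nat.eq_of_beq_eq_true hq
      have e' : (wN (tabC a) : ℤ) * (popc (rowM PA q &&& tabC a) : ℤ) =
          2 * (wN (tabC a) : ℤ) * (popc ((rowM MA q ^^^ tabS a) &&& (rowM PA q &&& tabC a)) : ℤ) +
            4 * (wN (tabC b) : ℤ) := by
        exact_mod_cast e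
      linarith
  · rw [Bool.not_eq_true] at c1
    rw [c1, cond_false] at hq
    rw [if_neg (by rw [c1]; decide)]
    have e := Nat.eq_of_beq_eq_true hq
    have e' : (popc (rowM PA q &&& tabC a) : ℤ) =
        2 * (popc ((rowM MA q ^^^ tabS a) &&& (rowM PA q &&& tabC a)) : ℤ) := by
      exact_mod_cast e
    rw [e']
    ring

end Cfsg.Agent.Lib.Helper9.RuL
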