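import Mathlib
import Cfsg.Agent.Lib.Helper9.RuAutB1

/-!
The images of the minimal vectors of the Rudvalis lattice under the lift of the generator 1 (S1627).
-/

set_option autoImplicit false
set_option maxRecDepth 1000000
open Cfsg.Spor Cfsg.Agent.Lib.Helper9.Ru Cfsg.Agent.Lib.Helper9.RuBits Cfsg.Agent.Lib.Helper9.RuNet

namespace Cfsg.Agent.Lib.Helper9.RuL

/-- the check of the image of the first vector of the line `k` -/
def imgL1 (k : ℕ) : Bool := imgOK PA1 MA1 (Nat.mul 4 k) (tg1 k) && Nat.blt (tg1 k) 16240

theorem okI1_0 : allRange imgL1 0 512 = true := by decide +kernel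
theorem okI1_1 : allRange imgL1 512 512 = true := by decide +kernel
theorem okI1_2 : allRange imgL1 1024 512 = true := by decide +kernel
theorem okI1_3 : allRange imgL1 1536 512 = true := by decide +kernel
theorem okI1_4 : allRange imgL1 2048 512 = true := by decide +kernel
theorem okI1_5 : allRange imgL1 2560 512 = true := by decide +kernel
theorem okI1_6 : allRange imgL1 3072 512 = true := by decide +kernel
theorem okI1_7 : allRange imgL1 3584 476 = true := by decide +kernel

theorem imgL1_all {k : ℕ} (hk : k < 4060) : imgL1 k = true := by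
  by_cases h0 : k < 512
  · exact allRange_spec _ _ _ okI1_0 k (by omega) (by omega)
  by_cases h1 : k < 1024
  · exact allRange_spec _ _ _ okI1_1 k (by omega) (by omega)
  by_cases h2 : k < 1536
  · exact allRange_spec _ _ _ okI1_2 k (by omega) (by omega)
  by_cases h3 : k < 2048
  · exact allRange_spec _ _ _ okI1_3 k (by omega) (by omega)
  by_cases h4 : k < 2560
  · exact allRange_spec _ _ _ okI1_4 k (by omega) (by omega)
  by_cases h5 : k < 3072
  · exact allRange_spec _ _ _ okI1_5 k (by omega) (by omega)
  by_cases h6 : k < 3584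
  · exact allRange_spec _ _ _ okI1_6 k (by omega) (by omega)
  · exact allRange_spec _ _ _ okI1_7 k (by omega) (by omega)

/-- the image of the first vector of the line `k` -/
theorem img1 {k : ℕ} (hk : k < 4060) :
    tg1 k < 16240 ∧ A1.mulVec (vecT (4 * k)) = (4 : GaussianInt) • vecT (tg1 k) := by
  have h := imgL1_all hk
  unfold imgL1 at h
  rw [Bool.and_eq_true] at h
  exact ⟨Nat.le_of_ble_eq_true h.2, img_sound A1 PA1 MA1 rows1 _ _ h.1⟩

end Cfsg.Agent.Lib.Helper9.RuL
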