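import Cfsg.Agent.Lib.Helper9.RuLatP0
import Cfsg.Agent.Lib.Helper9.RuLatP1
import Cfsg.Agent.Lib.Helper9.RuLatP2
import Cfsg.Agent.Lib.Helper9.RuLatP3
import Cfsg.Agent.Lib.Helper9.RuLatP4
import Cfsg.Agent.Lib.Helper9.RuLatP5
import Cfsg.Agent.Lib.Helper9.RuLatP6
import Cfsg.Agent.Lib.Helper9.RuLatP7

/-!
The table vectors lie in the Rudvalis lattice, and the lattice is the span of the basis `Bv` (S1627).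
-/

set_option autoImplicit false
open Cfsg.Spor Cfsg.Agent.Lib.Helper9.Ru Cfsg.Agent.Lib.Helper9.RuBits Cfsg.Agent.Lib.Helper9.RuNet

namespace Cfsg.Agent.Lib.Helper9.RuL

theorem dchain : dstart0 = 0 ∧ dend0 = dstart1 ∧ dend1 = dstart2 ∧ dend2 = dstart3 ∧ dend3 = dstart4 ∧
    dend4 = dstart5 ∧ dend5 = dstart6 ∧ dend6 = dstart7 ∧ dend7 = 2 ^ 4060 - 1 := by decide +kernel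

theorem inv_all : Inv (2 ^ 4060 - 1) := by
  obtain ⟨h0, h1, h2, h3, h4, h5, h6, h7, h8⟩ := dchain
  have i0 : Inv dstart0 := by rw [h0]; exact inv_zero
  have i1 : Inv dstart1 := by rw [← h1, ← okD0]; exact run_sound _ _ i0
  have i2 : Inv dstart2 := by rw [← h2, ← okD1]; exact run_sound _ _ i1
  have i3 : Inv dstart3 := by rw [← h3, ← okD2]; exact run_sound _ _ i2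
  have i4 : Inv dstart4 := by rw [← h4, ← okD3]; exact run_sound _ _ i3
  have i5 : Inv dstart5 := by rw [← h5, ← okD4]; exact run_sound _ _ i4
  have i6 : Inv dstart6 := by rw [← h6, ← okD5]; exact run_sound _ _ i5
  have i7 : Inv dstart7 := by rw [← h7, ← okD6]; exact run_sound _ _ i6
  rw [← h8, ← okD7]; exact run_sound _ _ i7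

/-- the table vectors lie in the lattice -/
theorem vecT_mem {idx : ℕ} (h : idx < 16240) : vecT idx ∈ ruLattice := by
  have hb : (2 ^ 4060 - 1).testBit (idx / 4) = true := by
    rw [Nat.testBit_two_pow_sub_one]
    simp only [decide_eq_true_eq]
    omega
  exact mem_of_inv inv_all idx hb

/-- table indices of 29 vectors that span the lattice -/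
def uIdx : Fin 29 → ℕ := ![1840, 12140, 11732, 5732, 14536, 7512, 8236, 9996, 4256, 6552, 8232, 860, 9504, 10928, 3104, 2288, 5728, 6400, 13792, 7016, 13152, 13356, 3168, 11024, 9840, 8656, 13580, 15868, 15376]

/-- the basis vectors as combinations of these -/
def Qm : Fin 28 → Fin 29 → GaussianInt := ![
  ![⟨276, 393⟩, ⟨-89, -477⟩, ⟨-60, 331⟩, ⟨-772, -628⟩, ⟨484, 364⟩, ⟨-625, -1⟩, ⟨-368, -78⟩, ⟨-553, -28⟩, ⟨320, 451⟩, ⟨54, 13⟩, ⟨257, -268⟩, ⟨-98, 356⟩, ⟨-181, 204⟩, ⟨21, -220⟩, ⟨23, -67⟩, ⟨287, 254⟩, ⟨396, 397⟩, ⟨107, 289⟩, ⟨461, 336⟩, ⟨-283, 23⟩, ⟨-142, -175⟩, ⟨335, -583⟩, ⟨11, 432⟩, ⟨-74, -394⟩, ⟨908, -44⟩, ⟨-126, 501⟩, ⟨-5, 763⟩, ⟨330, -55⟩, ⟨-572, -176⟩],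
  ![⟨-605, -603⟩, ⟨302, 810⟩, ⟨3, -600⟩, ⟨1549, 868⟩, ⟨-961, -494⟩, ⟨1098, -187⟩, ⟨669, 24⟩, ⟨981, -121⟩, ⟨-701, -692⟩, ⟨-100, -8⟩, ⟨-369, 552⟩, ⟨66, -655⟩, ⟨256, -413⟩, ⟨30, 393⟩, ⟨-20, 124⟩, ⟨-580, -358⟩, ⟨-819, -577⟩, ⟨-274, -475⟩, ⟨-911, -449⟩, ⟨490, -125⟩, ⟨302, 264⟩, ⟨-410, 1125⟩, ⟨-151, -757⟩, ⟨252, 669⟩, ⟨-1579, 354⟩, ⟨65, -919⟩, ⟨-224, -1341⟩, ⟨-564, 197⟩, ⟨1060, 136⟩],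
  ![⟨207, -141⟩, ⟨-250, 43⟩, ⟨172, 33⟩, ⟨-333, 400⟩, ⟨194, -251⟩, ⟨-5, 327⟩, ⟨-43, 192⟩, ⟨-18, 289⟩, ⟨238, -164⟩, ⟨7, -28⟩, ⟨-138, -136⟩, ⟨186, 55⟩, ⟨105, 97⟩, ⟨-115, -12⟩, ⟨-35, -12⟩, ⟨135, -147⟩, ⟨209, -204⟩, ⟨153, -54⟩, ⟨180, -239⟩, ⟨10, 148⟩, ⟨-93, 74⟩, ⟨-303, -180⟩, ⟨226, -3⟩, ⟨-206, 36⟩, ⟨-16, -476⟩, ⟨260, 69⟩, ⟨399, 8⟩, ⟨-27, -174⟩, ⟨-96, 300⟩],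
  ![⟨-996, 11⟩, ⟨921, 411⟩, ⟨-497, -493⟩, ⟨1990, -578⟩, ⟨-1198, 394⟩, ⟨743, -1067⟩, ⟨567, -537⟩, ⟨701, -915⟩, ⟨-1151, 18⟩, ⟨-90, 76⟩, ⟨158, 760⟩, ⟨-491, -590⟩, ⟨-135, -549⟩, ⟨351, 296⟩, ⟨88, 118⟩, ⟨-772, 191⟩, ⟨-1150, 211⟩, ⟨-620, -162⟩, ⟨-1117, 391⟩, ⟨297, -509⟩, ⟨465, -36⟩, ⟨601, 1263⟩, ⟨-754, -495⟩, ⟨765, 338⟩, ⟨-996, 1603⟩, ⟨-712, -806⟩, ⟨-1300, -912⟩, ⟨-297, 631⟩, ⟨980, -772⟩],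
  ![⟨-375, -222⟩, ⟨251, 364⟩, ⟨-74, -298⟩, ⟨876, 239⟩, ⟨-537, -127⟩, ⟨522, -228⟩, ⟨335, -71⟩, ⟨471, -183⟩, ⟨-435, -256⟩, ⟨-51, 8⟩, ⟨-115, 320⟩, ⟨-48, -333⟩, ⟨75, -236⟩, ⟨64, 190⟩, ⟨6, 65⟩, ⟨-332, -105⟩, ⟨-479, -184⟩, ⟨-193, -203⟩, ⟨-507, -109⟩, ⟨226, -122⟩, ⟨183, 93⟩, ⟨-66, 609⟩, ⟨-169, -358⟩, ⟨209, 302⟩, ⟨-739, 372⟩, ⟨-83, -464⟩, ⟨-277, -638⟩, ⟨-256, 168⟩, ⟨544, -64⟩],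
  ![⟨948, 882⟩, ⟨-501, -1212⟩, ⟨27, 909⟩, ⟨-2392, -1234⟩, ⟨1481, 698⟩, ⟨-1654, 343⟩, ⟨-1015, -1⟩, ⟨-1478, 234⟩, ⟨1100, 1014⟩, ⟨152, 8⟩, ⟨531, -856⟩, ⟨-63, 995⟩, ⟨-364, 639⟩, ⟨-68, -594⟩, ⟨22, -189⟩, ⟨901, 512⟩, ⟨1271, 829⟩, ⟨440, 705⟩, ⟨1404, 631⟩, ⟨-736, 216⟩, ⟨-470, -382⟩, ⟨562, -1728⟩, ⟨268, 1138⟩, ⟨-417, -1003⟩, ⟨2373, -620⟩, ⟨-52, 1397⟩, ⟨410, 2022⟩, ⟨843, -329⟩, ⟨-1612, -148⟩],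
  ![⟨-849, -1617⟩, ⟨99, 1846⟩, ⟨390, -1222⟩, ⟨2604, 2761⟩, ⟨-1643, -1622⟩, ⟨2360, 319⟩, ⟨1350, 476⟩, ⟨2076, 380⟩, ⟨-989, -1863⟩, ⟨-198, -82⟩, ⟨-1108, 890⟩, ⟨551, -1293⟩, ⟨784, -679⟩, ⟨-188, 821⟩, ⟨-118, 241⟩, ⟨-958, -1102⟩, ⟨-1302, -1698⟩, ⟨-255, -1145⟩, ⟨-1572, -1496⟩, ⟨1079, 57⟩, ⟨447, 729⟩, ⟨-1557, 2035⟩, ⟨177, -1640⟩, ⟨86, 1529⟩, ⟨-3447, -286⟩, ⟨722, -1834⟩, ⟨401, -2881⟩, ⟨-1276, 43⟩, ⟨2076, 952⟩],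
  ![⟨-306, -778⟩, ⟨-48, 847⟩, ⟨239, -539⟩, ⟨1046, 1390⟩, ⟨-666, -822⟩, ⟨1059, 266⟩, ⟨590, 286⟩, ⟨927, 277⟩, ⟨-357, -899⟩, ⟨-87, -48⟩, ⟨-549, 350⟩, ⟨316, -561⟩, ⟨391, -271⟩, ⟨-127, 365⟩, ⟨-67, 104⟩, ⟨-381, -550⟩, ⟨-509, -841⟩, ⟨-56, -532⟩, ⟨-639, -760⟩, ⟨489, 81⟩, ⟨167, 355⟩, ⟨-812, 846⟩, ⟨163, -739⟩, ⟨-39, 701⟩, ⟨-1554, -304⟩, ⟨420, -799⟩, ⟨328, -1292⟩, ⟨-583, -46⟩, ⟨896, 540⟩],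
  ![⟨-490, -437⟩, ⟨267, 610⟩, ⟨-24, -462⟩, ⟨1227, 603⟩, ⟨-759, -340⟩, ⟨837, -190⟩, ⟨515, -9⟩, ⟨748, -134⟩, ⟨-569, -503⟩, ⟨-78, -2⟩, ⟨-260, 440⟩, ⟨23, -506⟩, ⟨178, -328⟩, ⟨40, 301⟩, ⟨-10, 97⟩, ⟨-462, -250⟩, ⟨-655, -408⟩, ⟨-229, -354⟩, ⟨-718, -307⟩, ⟨372, -117⟩, ⟨243, 190⟩, ⟨-269, 882⟩, ⟨-148, -576⟩, ⟨222, 505⟩, ⟨-1198, 338⟩, ⟨11, -709⟩, ⟨-228, -1022⟩, ⟨-425, 175⟩, ⟨820, 60⟩],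
  ![⟨-623, -1665⟩, ⟨-129, 1796⟩, ⟨525, -1135⟩, ⟨2177, 2986⟩, ⟨-1388, -1768⟩, ⟨2241, 598⟩, ⟨1246, 625⟩, ⟨1960, 621⟩, ⟨-727, -1920⟩, ⟨-181, -103⟩, ⟨-1179, 725⟩, ⟨691, -1180⟩, ⟨839, -560⟩, ⟨-283, 771⟩, ⟨-145, 219⟩, ⟨-790, -1181⟩, ⟨-1052, -1801⟩, ⟨-105, -1136⟩, ⟨-1334, -1638⟩, ⟨1036, 188⟩, ⟨343, 759⟩, ⟨-1753, 1773⟩, ⟨372, -1563⟩, ⟨-104, 1487⟩, ⟨-3294, -698⟩, ⟨921, -1683⟩, ⟨739, -2733⟩, ⟨-1238, -116⟩, ⟨1888, 1176⟩],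
  ![⟨1114, -147⟩, ⟨-1088, -335⟩, ⟨624, 485⟩, ⟨-2150, 917⟩, ⟨1287, -605⟩, ⟨-687, 1297⟩, ⟨-562, 678⟩, ⟨-661, 1119⟩, ⟨1286, -175⟩, ⟨89, -98⟩, ⟨-280, -829⟩, ⟨630, 594⟩, ⟨225, 597⟩, ⟨-435, -285⟩, ⟨-114, -120⟩, ⟨840, -319⟩, ⟨1259, -393⟩, ⟨715, 96⟩, ⟨1199, -588⟩, ⟨-264, 613⟩, ⟨-516, 102⟩, ⟨-844, -1332⟩, ⟨911, 451⟩, ⟨-901, -275⟩, ⟨899, -1930⟩, ⟨906, 807⟩, ⟨1579, 844⟩, ⟨247, -746⟩, ⟨-992, 996⟩],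
  ![⟨-1268, 3497⟩, ⟨2646, -2684⟩, ⟨-2378, 1094⟩, ⟨591, -7711⟩, ⟨-192, 4699⟩, ⟨-2755, -3996⟩, ⟨-1133, -2688⟩, ⟨-2278, -3650⟩, ⟨-1451, 4047⟩, ⟨148, 412⟩, ⟨2862, 448⟩, ⟨-2703, 942⟩, ⟨-2098, -246⟩, ⟨1496, -844⟩, ⟨529, -152⟩, ⟨-345, 2955⟩, ⟨-772, 4298⟩, ⟨-1375, 1948⟩, ⟨-99, 4418⟩, ⟨-1393, -1705⟩, ⟨484, -1674⟩, ⟨5199, -441⟩, ⟨-2716, 1984⟩, ⟨2188, -2226⟩, ⟨4296, 5584⟩, ⟨-3753, 1429⟩, ⟨-4890, 3347⟩, ⟨1813, 1866⟩, ⟨-1408, -4436⟩],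
  ![⟨-2085, 1602⟩, ⟨2600, -595⟩, ⟨-1836, -249⟩, ⟨3289, -4375⟩, ⟨-1905, 2730⟩, ⟨-121, -3434⟩, ⟨348, -2035⟩, ⟨29, -3044⟩, ⟨-2404, 1862⟩, ⟨-68, 303⟩, ⟨1538, 1355⟩, ⟨-1970, -469⟩, ⟨-1157, -944⟩, ⟨1215, 66⟩, ⟨375, 111⟩, ⟨-1330, 1629⟩, ⟨-2095, 2273⟩, ⟨-1564, 635⟩, ⟨-1743, 2595⟩, ⟨-182, -1549⟩, ⟨926, -815⟩, ⟨3267, 1719⟩, ⟨-2376, 151⟩, ⟨2152, -495⟩, ⟨435, 4964⟩, ⟨-2780, -574⟩, ⟨-4190, 135⟩, ⟨370, 1805⟩, ⟨852, -3184⟩],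
  ![⟨15, -711⟩, ⟨-314, 649⟩, ⟨364, -344⟩, ⟨368, 1433⟩, ⟨-255, -863⟩, ⟨745, 554⟩, ⟨371, 417⟩, ⟨637, 521⟩, ⟨13, -821⟩, ⟨-53, -65⟩, ⟨-546, 96⟩, ⟨431, -337⟩, ⟨395, -84⟩, ⟨-220, 244⟩, ⟨-86, 60⟩, ⟨-119, -556⟩, ⟨-125, -826⟩, ⟨129, -438⟩, ⟨-253, -806⟩, ⟨357, 224⟩, ⟨15, 333⟩, ⟨-914, 400⟩, ⟨369, -527⟩, ⟨-258, 538⟩, ⟨-1122, -747⟩, ⟨591, -490⟩, ⟨679, -908⟩, ⟨-443, -226⟩, ⟨528, 716⟩],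
  ![⟨-1118, 3153⟩, ⟨2364, -2431⟩, ⟨-2134, 999⟩, ⟨485, -6938⟩, ⟨-144, 4227⟩, ⟨-2501, -3578⟩, ⟨-1035, -2410⟩, ⟨-2071, -3269⟩, ⟨-1280, 3648⟩, ⟨136, 369⟩, ⟨2577, 385⟩, ⟨-2425, 864⟩, ⟨-1889, -208⟩, ⟨1342, -767⟩, ⟨475, -139⟩, ⟨-293, 2659⟩, ⟨-669, 3872⟩, ⟨-1224, 1759⟩, ⟨-63, 3973⟩, ⟨-1263, -1527⟩, ⟨425, -1509⟩, ⟨4671, -428⟩, ⟨-2430, 1801⟩, ⟨1954, -2015⟩, ⟨3898, 4995⟩, ⟨-3366, 1309⟩, ⟨-4377, 3040⟩, ⟨1641, 1667⟩, ⟨-1292, -3980⟩],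
  ![⟨-906, 3322⟩, ⟨2239, -2677⟩, ⟨-2113, 1190⟩, ⟨-36, -7160⟩, ⟨177, 4350⟩, ⟨-2843, -3480⟩, ⟨-1248, -2395⟩, ⟨-2377, -3197⟩, ⟨-1034, 3843⟩, ⟨168, 368⟩, ⟨2674, 197⟩, ⟨-2423, 1072⟩, ⟨-1955, -69⟩, ⟨1318, -892⟩, ⟨477, -179⟩, ⟨-96, 2752⟩, ⟨-388, 4025⟩, ⟨-1123, 1900⟩, ⟨240, 4085⟩, ⟨-1416, -1469⟩, ⟨321, -1583⟩, ⟨4763, -797⟩, ⟨-2356, 2035⟩, ⟨1851, -2218⟩, ⟨4385, 4829⟩, ⟨-3354, 1602⟩, ⟨-4259, 3457⟩, ⟨1813, 1586⟩, ⟨-1632, -3988⟩],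
  ![⟨-1547, 2703⟩, ⟨2565, -1836⟩, ⟨-2117, 562⟩, ⟨1588, -6276⟩, ⟨-829, 3849⟩, ⟨-1703, -3689⟩, ⟨-552, -2379⟩, ⟨-1356, -3337⟩, ⟨-1774, 3129⟩, ⟨64, 359⟩, ⟨2297, 778⟩, ⟨-2363, 391⟩, ⟨-1694, -503⟩, ⟨1356, -481⟩, ⟨457, -50⟩, ⟨-707, 2387⟩, ⟨-1250, 3434⟩, ⟨-1413, 1413⟩, ⟨-714, 3631⟩, ⟨-906, -1607⟩, ⟨638, -1311⟩, ⟨4352, 377⟩, ⟨-2522, 1248⟩, ⟨2121, -1524⟩, ⟨2746, 5220⟩, ⟨-3300, 642⟩, ⟨-4511, 2063⟩, ⟨1229, 1798⟩, ⟨-528, -3860⟩],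
  ![⟨-4364, 5225⟩, ⟨6224, -2965⟩, ⟨-4770, 394⟩, ⟨5819, -12898⟩, ⟨-3258, 7968⟩, ⟨-2250, -8590⟩, ⟨-276, -5330⟩, ⟨-1641, -7698⟩, ⟨-5014, 6056⟩, ⟨0, 801⟩, ⟨4644, 2554⟩, ⟨-5238, -63⟩, ⟨-3454, -1734⟩, ⟨3098, -514⟩, ⟨1001, 67⟩, ⟨-2436, 4864⟩, ⟨-4007, 6906⟩, ⟨-3583, 2504⟩, ⟨-2924, 7539⟩, ⟨-1331, -3802⟩, ⟨1877, -2577⟩, ⟨9223, 2476⟩, ⟨-5908, 1721⟩, ⟨5147, -2470⟩, ⟨3911, 12286⟩, ⟨-7346, 119⟩, ⟨-10500, 2712⟩, ⟨1959, 4338⟩, ⟨336, -8508⟩],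
  ![⟨-1813, 3012⟩, ⟨2944, -2008⟩, ⟨-2406, 582⟩, ⟨1955, -7045⟩, ⟨-1036, 4324⟩, ⟨-1826, -4210⟩, ⟨-561, -2700⟩, ⟨-1447, -3801⟩, ⟨-2083, 3489⟩, ⟨63, 409⟩, ⟨2574, 937⟩, ⟨-2679, 380⟩, ⟨-1901, -611⟩, ⟨1542, -509⟩, ⟨518, -44⟩, ⟨-859, 2677⟩, ⟨-1500, 3847⟩, ⟨-1632, 1555⟩, ⟨-899, 4079⟩, ⟨-981, -1837⟩, ⟨755, -1465⟩, ⟨4902, 540⟩, ⟨-2881, 1345⟩, ⟨2435, -1666⟩, ⟨2966, 5963⟩, ⟨-3741, 642⟩, ⟨-5146, 2213⟩, ⟨1341, 2062⟩, ⟨-496, -4372⟩],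
  ![⟨166, 875⟩, ⟨216, -876⟩, ⟨-356, 516⟩, ⟨-822, -1659⟩, ⟨536, 991⟩, ⟨-1056, -485⟩, ⟨-562, -414⟩, ⟨-915, -473⟩, ⟨196, 1009⟩, ⟨81, 66⟩, ⟨643, -259⟩, ⟨-441, 524⟩, ⟨-462, 205⟩, ⟨206, -357⟩, ⟨90, -95⟩, ⟨290, 650⟩, ⟨367, 978⟩, ⟨-44, 570⟩, ⟨519, 922⟩, ⟨-497, -181⟩, ⟨-104, -404⟩, ⟨1015, -727⟩, ⟨-316, 740⟩, ⟨177, -725⟩, ⟨1567, 624⟩, ⟨-597, 753⟩, ⟨-596, 1287⟩, ⟨601, 162⟩, ⟨-832, -740⟩],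
  ![⟨-2020, 214⟩, ⟨1947, 664⟩, ⟨-1098, -912⟩, ⟨3922, -1556⟩, ⟨-2354, 1035⟩, ⟨1301, -2303⟩, ⟨1047, -1193⟩, ⟨1242, -1989⟩, ⟨-2331, 259⟩, ⟨-173, 175⟩, ⟨467, 1507⟩, ⟨-1116, -1099⟩, ⟨-381, -1095⟩, ⟨767, 532⟩, ⟨197, 219⟩, ⟨-1532, 535⟩, ⟨-2291, 641⟩, ⟨-1285, -202⟩, ⟨-2183, 1010⟩, ⟨505, -1087⟩, ⟨937, -159⟩, ⟨1466, 2439⟩, ⟨-1627, -855⟩, ⟨1614, 538⟩, ⟨-1708, 3440⟩, ⟨-1600, -1495⟩, ⟨-2816, -1600⟩, ⟨-476, 1333⟩, ⟨1828, -1752⟩],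
  ![⟨2174, -1194⟩, ⟨-2512, 185⟩, ⟨1683, 495⟩, ⟨-3693, 3600⟩, ⟨2161, -2264⟩, ⟨-380, 3216⟩, ⟨-619, 1848⟩, ⟨-470, 2834⟩, ⟨2512, -1385⟩, ⟨102, -267⟩, ⟨-1234, -1485⟩, ⟨1763, 716⟩, ⟨947, 1043⟩, ⟨-1129, -235⟩, ⟨-334, -162⟩, ⟨1475, -1331⟩, ⟨2283, -1820⟩, ⟨1539, -362⟩, ⟨2002, -2168⟩, ⟨-49, 1473⟩, ⟨-982, 630⟩, ⟨-2789, -2071⟩, ⟨2229, 202⟩, ⟨-2076, 145⟩, ⟨308, -4689⟩, ⟨2509, 938⟩, ⟨3920, 475⟩, ⟨-79, -1733⟩, ⟨-1260, 2836⟩],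
  ![⟨9798, -4679⟩, ⟨-11001, 166⟩, ⟨7189, 2594⟩, ⟨-17020, 14831⟩, ⟨10021, -9381⟩, ⟨-2453, 13955⟩, ⟨-3147, 7913⟩, ⟨-2736, 12258⟩, ⟨11306, -5447⟩, ⟨534, -1159⟩, ⟨-5036, -6793⟩, ⟨7552, 3576⟩, ⟨3862, 4808⟩, ⟨-4841, -1309⟩, ⟨-1412, -768⟩, ⟨6769, -5440⟩, ⟨10409, -7362⟩, ⟨6850, -1235⟩, ⟨9255, -8988⟩, ⟨-594, 6402⟩, ⟨-4436, 2494⟩, ⟨-11717, -9731⟩, ⟨9712, 1434⟩, ⟨-9110, 149⟩, ⟨2497, -20415⟩, ⟨10733, 4712⟩, ⟨17026, 3051⟩, ⟨50, -7595⟩, ⟨-6156, 12112⟩],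
  ![⟨18, 578⟩, ⟨227, -540⟩, ⟨-280, 295⟩, ⟨-359, -1148⟩, ⟨243, 690⟩, ⟨-629, -419⟩, ⟨-319, -323⟩, ⟨-539, -396⟩, ⟨23, 668⟩, ⟨45, 50⟩, ⟨439, -100⟩, ⟨-337, 292⟩, ⟨-317, 85⟩, ⟨168, -208⟩, ⟨68, -53⟩, ⟨120, 447⟩, ⟨137, 665⟩, ⟨-87, 362⟩, ⟨240, 645⟩, ⟨-300, -166⟩, ⟨-27, -270⟩, ⟨727, -363⟩, ⟨-278, 443⟩, ⟨188, -448⟩, ⟨943, 560⟩, ⟨-460, 422⟩, ⟨-514, 765⟩, ⟨370, 165⟩, ⟨-460, -560⟩],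
  ![⟨-9970, 458⟩, ⟨9370, 3789⟩, ⟨-5152, -4765⟩, ⟨19704, -6488⟩, ⟨-11840, 4372⟩, ⟨7055, -10941⟩, ⟨5486, -5578⟩, ⟨6694, -9399⟩, ⟨-11510, 579⟩, ⟨-866, 793⟩, ⟨1842, 7548⟩, ⟨-5119, -5724⟩, ⟨-1546, -5451⟩, ⟨3625, 2840⟩, ⟨918, 1148⟩, ⟨-7670, 2185⟩, ⟨-11432, 2511⟩, ⟨-6256, -1392⟩, ⟨-11045, 4307⟩, ⟨2790, -5207⟩, ⟨4645, -523⟩, ⟨6460, 12420⟩, ⟨-7712, -4680⟩, ⟨7767, 3115⟩, ⟨-9404, 16396⟩, ⟨-7405, -7820⟩, ⟨-13332, -8660⟩, ⟨-2748, 6414⟩, ⟨9528, -8064⟩],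
  ![⟨485, 42⟩, ⟨-428, -244⟩, ⟨218, 264⟩, ⟨-994, 186⟩, ⟨600, -135⟩, ⟨-412, 483⟩, ⟨-301, 234⟩, ⟨-384, 411⟩, ⟨560, 47⟩, ⟨47, -33⟩, ⟨-40, -377⟩, ⟨211, 310⟩, ⟨40, 274⟩, ⟨-156, -161⟩, ⟨-37, -62⟩, ⟨385, -56⟩, ⟨570, -47⟩, ⟨293, 107⟩, ⟨561, -137⟩, ⟨-169, 233⟩, ⟨-228, -4⟩, ⟨-232, -642⟩, ⟨343, 276⟩, ⟨-355, -201⟩, ⟨560, -732⟩, ⟨307, 426⟩, ⟨588, 505⟩, ⟨174, -292⟩, ⟨-512, 328⟩],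
  ![⟨0, 0⟩, ⟨0, 0⟩, ⟨0, 0⟩, ⟨0, 0⟩, ⟨0, 0⟩, ⟨0, 0⟩, ⟨0, 0⟩, ⟨0, 0⟩, ⟨0, 0⟩, ⟨0, 0⟩, ⟨0, 0⟩, ⟨0, 0⟩, ⟨0, 0⟩, ⟨0, 0⟩, ⟨0, 0⟩, ⟨0, 0⟩, ⟨0, 0⟩, ⟨0, 0⟩, ⟨0, 0⟩, ⟨1, 0⟩, ⟨0, 0⟩, ⟨0, 0⟩, ⟨0, 0⟩, ⟨0, 0⟩, ⟨0, 0⟩, ⟨0, 0⟩, ⟨0, 0⟩, ⟨0, 0⟩, ⟨0, 0⟩],
  ![⟨-29, 110⟩, ⟨73, -89⟩, ⟨-69, 40⟩, ⟨-4, -238⟩, ⟨8, 145⟩, ⟨-96, -115⟩, ⟨-42, -79⟩, ⟨-80, -105⟩, ⟨-33, 127⟩, ⟨6, 12⟩, ⟨88, 5⟩, ⟨-81, 37⟩, ⟨-65, -2⟩, ⟨44, -30⟩, ⟨16, -6⟩, ⟨-3, 91⟩, ⟨-11, 134⟩, ⟨-37, 64⟩, ⟨9, 136⟩, ⟨-48, -49⟩, ⟨10, -53⟩, ⟨158, -28⟩, ⟨-77, 69⟩, ⟨60, -74⟩, ⟨147, 159⟩, ⟨-110, 54⟩, ⟨-140, 116⟩, ⟨61, 52⟩, ⟨-56, -132⟩]]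

set_option maxRecDepth 100000 in
theorem Qm_spec : ∀ (j : Fin 28) (p : RuIdx), Bv j p = ∑ k, Qm j k * vecT (uIdx k) p := by
  decide +kernel

theorem uIdx_lt : ∀ k, uIdx k < 16240 := by decide

theorem Bv_mem_lattice (j : Fin 28) : Bv j ∈ ruLattice := by
  have : Bv j = ∑ k, Qm j k • vecT (uIdx k) := by
    funext p
    rw [Qm_spec j p, Finset.sum_apply]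
    rfl
  rw [this]
  exact ruLattice.sum_mem fun k _ => smul_mem_lattice _ (vecT_mem (uIdx_lt k))

theorem SB_le {x : RuVec} (hx : x ∈ SB) : x ∈ ruLattice := by
  induction hx using Submodule.span_induction with
  | mem x h => obtain ⟨j, rfl⟩ := h; exact Bv_mem_lattice j
  | zero => exact ruLattice.zero_mem
  | add x y _ _ h h' => exact ruLattice.add_mem h h'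
  | smul c x _ h => exact smul_mem_lattice c h

theorem mem_lattice_iff (x : RuVec) : x ∈ ruLattice ↔ x ∈ SB := ⟨ruLattice_le, fun h => SB_le h⟩

end Cfsg.Agent.Lib.Helper9.RuL
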