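import Mathlib
import Cfsg.Agent.Lib.Helper9.RuLatQ
import Cfsg.Agent.Lib.Helper9.RuLatV

/-!
The automorphisms of the Rudvalis lattice permute its 16240 minimal vectors and its 4060 lines (S1627).
-/

set_option autoImplicit false
open Cfsg.Spor Cfsg.Agent.Lib.Helper9.Ru Cfsg.Agent.Lib.Helper9.RuBits Cfsg.Agent.Lib.Helper9.RuNet

namespace Cfsg.Agent.Lib.Helper9.RuL

/-- the table vectors as elements of the lattice -/
def tv (j : Fin 16240) : ruLattice := ⟨vecT j, vecT_mem j.2⟩

theorem tv_val (j : Fin 16240) : ((tv j : ruLattice) : RuVec) = vecT j := rfl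

theorem tv_inj : Function.Injective tv := by
  intro a b h
  have h' : vecT a = vecT b := congrArg Subtype.val h
  exact Fin.ext (vecT_inj a.2 b.2 h')

theorem exists_tv (v : ruLattice) (hn : ruNorm (v : RuVec) = 16) : ∃ j : Fin 16240, v = tv j := by
  obtain ⟨idx, hidx, h⟩ := enum16 (ruLattice_le v.2) hn
  exact ⟨⟨idx, hidx⟩, Subtype.ext h⟩

theorem norm_tv (j : Fin 16240) : ruNorm ((tv j : ruLattice) : RuVec) = 16 := norm_vecT_all j.2

/-- the action of an automorphism on the indices of the minimal vectors -/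
noncomputable def psi (f : fourRu) (j : Fin 16240) : Fin 16240 :=
  Classical.choose (exists_tv (f.1 (tv j)) (by rw [f.2.2.2, norm_tv]))

theorem psi_spec (f : fourRu) (j : Fin 16240) : f.1 (tv j) = tv (psi f j) :=
  Classical.choose_spec (exists_tv (f.1 (tv j)) (by rw [f.2.2.2, norm_tv]))

theorem psi_unique (f : fourRu) (j a : Fin 16240) (h : f.1 (tv j) = tv a) : psi f j = a :=
  tv_inj ((psi_spec f j).symm.trans h)

theorem psi_one (j : Fin 16240) : psi 1 j = j := psi_unique 1 j j rfl

theorem psi_mul (f g : fourRu) (j : Fin 16240) : psi (f * g) j = psi f (psi g j) := by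
  apply psi_unique
  show f.1 (g.1 (tv j)) = _
  rw [psi_spec g j, psi_spec f]

/-- the next vector of the same line -/
def rot (j : Fin 16240) : Fin 16240 := ⟨4 * (j.val / 4) + (j.val % 4 + 1) % 4, by have := j.2; omega⟩

theorem tv_rot (j : Fin 16240) : tv (rot j) = ruI (tv j) := by
  apply Subtype.ext
  show vecT (4 * (j.val / 4) + (j.val % 4 + 1) % 4) = gI • vecT j
  have hk : j.val / 4 < 4060 := by have := j.2; omega
  have := vecT_unit_succ hk (j.val % 4) (Nat.mod_lt _ (by norm_num))
  rw [Nat.div_add_mod] at this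
  exact this.symm

theorem psi_rot (f : fourRu) (j : Fin 16240) : psi f (rot j) = rot (psi f j) := by
  apply psi_unique
  rw [tv_rot, f.2.2.1, psi_spec, tv_rot]

/-- the line of a vector -/
def lineOf (j : Fin 16240) : Fin 4060 := ⟨j.val / 4, by have := j.2; omega⟩

/-- the first vector of a line -/
def firstOf (k : Fin 4060) : Fin 16240 := ⟨4 * k.val, by have := k.2; omega⟩

theorem lineOf_firstOf (k : Fin 4060) : lineOf (firstOf k) = k := by
  apply Fin.ext
  show 4 * k.val / 4 = k.val
  omega

theorem lineOf_rot (j : Fin 16240) : lineOf (rot j) = lineOf j := by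
  apply Fin.ext
  show (4 * (j.val / 4) + (j.val % 4 + 1) % 4) / 4 = j.val / 4
  omega

theorem rot_iter_line (d : ℕ) (j : Fin 16240) : lineOf (rot^[d] j) = lineOf j := by
  induction d with
  | zero => rfl
  | succ d ih => rw [Function.iterate_succ_apply', lineOf_rot, ih]

theorem psi_rot_iter (f : fourRu) (d : ℕ) (j : Fin 16240) : psi f (rot^[d] j) = rot^[d] (psi f j) := by
  induction d with
  | zero => rfl
  | succ d ih => rw [Function.iterate_succ_apply', Function.iterate_succ_apply', psi_rot, ih]

theorem exists_rot (j : Fin 16240) : ∃ d < 4, j = rot^[d] (firstOf (lineOf j)) := by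
  have hj := j.2
  have hm : j.val % 4 < 4 := Nat.mod_lt _ (by norm_num)
  refine ⟨j.val % 4, hm, ?_⟩
  apply Fin.ext
  have key : ∀ d < 4, (rot^[d] (firstOf (lineOf j))).val = 4 * (j.val / 4) + d := by
    intro d hd
    interval_cases d
    · rfl
    · show 4 * (4 * (j.val / 4) / 4) + (4 * (j.val / 4) % 4 + 1) % 4 = _
      omega
    · show 4 * ((4 * (4 * (j.val / 4) / 4) + (4 * (j.val / 4) % 4 + 1) % 4) / 4) +
        ((4 * (4 * (j.val / 4) / 4) + (4 * (j.val / 4) % 4 + 1) % 4) % 4 + 1) % 4 = _
      omega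
    · rw [Function.iterate_succ_apply']
      show 4 * ((rot^[2] (firstOf (lineOf j))).val / 4) + ((rot^[2] (firstOf (lineOf j))).val % 4 + 1) % 4 = _
      have e2 : (rot^[2] (firstOf (lineOf j))).val = 4 * (j.val / 4) + 2 := by
        show 4 * ((4 * (4 * (j.val / 4) / 4) + (4 * (j.val / 4) % 4 + 1) % 4) / 4) +
          ((4 * (4 * (j.val / 4) / 4) + (4 * (j.val / 4) % 4 + 1) % 4) % 4 + 1) % 4 = _
        omega
      rw [e2]
      omega
  rw [key _ hm]
  omega

/-- the line of the image depends on the line only -/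
theorem line_psi (f : fourRu) (j : Fin 16240) :
    lineOf (psi f j) = lineOf (psi f (firstOf (lineOf j))) := by
  obtain ⟨d, _, hd⟩ := exists_rot j
  conv_lhs => rw [hd]
  rw [psi_rot_iter, rot_iter_line]

/-- the action of an automorphism on the lines -/
noncomputable def phi (f : fourRu) (k : Fin 4060) : Fin 4060 := lineOf (psi f (firstOf k))

theorem phi_one (k : Fin 4060) : phi 1 k = k := by
  unfold phi
  rw [psi_one, lineOf_firstOf]

theorem phi_mul (f g : fourRu) (k : Fin 4060) : phi (f * g) k = phi f (phi g k) := by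
  unfold phi
  rw [psi_mul, line_psi f (psi g (firstOf k))]

/-- the action on the lines as a homomorphism -/
noncomputable def Phi : fourRu →* Equiv.Perm (Fin 4060) where
  toFun f :=
    { toFun := phi f
      invFun := phi f⁻¹
      left_inv := fun k => by rw [← phi_mul, inv_mul_cancel, phi_one]
      right_inv := fun k => by rw [← phi_mul, mul_inv_cancel, phi_one] }
  map_one' := by
    ext k
    show ((phi 1 k : Fin 4060) : ℕ) = _
    rw [phi_one]
    rfl
  map_mul' f g := by
    ext k
    show ((phi (f * g) k : Fin 4060) : ℕ) = ((phi f (phi g k) : Fin 4060) : ℕ)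
    rw [phi_mul]

theorem Phi_apply (f : fourRu) (k : Fin 4060) : Phi f k = phi f k := rfl

end Cfsg.Agent.Lib.Helper9.RuL
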