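import Cfsg.Agent.Lib.Helper9.RuMain1

set_option autoImplicit false

/-! The group of the graph on 4060 points is the group generated by the two permutations of order 29:
the stabiliser chain of the group of the graph has the same orbits (S1627). -/

namespace Cfsg.Agent.Lib.Helper9.RuAutF

open Cfsg.Agent.Lib.Helper9.RuBits Cfsg.Agent.Lib.Helper9.RuNet Cfsg.Agent.Lib.Helper9.RuPerm
  Cfsg.Agent.Lib.Helper9.RuGraph Cfsg.Agent.Lib.Helper9.RuTree
  Cfsg.Agent.Lib.Helper9.RuPermData Cfsg.Agent.Lib.Helper9.RuNetData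
  Cfsg.Agent.Lib.Helper9.RuTreeData Cfsg.Agent.Lib.Helper9.RuCertData
  Cfsg.Agent.Lib.Helper9.RuRows Cfsg.Agent.Lib.Helper9.RuWords Cfsg.Agent.Lib.Helper9.Chain1
  Cfsg.Agent.Lib.Helper9.RuMain1
open MulAction

/-- the group of the graph -/
def A : Subgroup P := Aut 4060 grow
def A1 : Subgroup P := A ⊓ st 0
def A2 : Subgroup P := A1 ⊓ st 1
def A3 : Subgroup P := A2 ⊓ st 2
def A4 : Subgroup P := A3 ⊓ st 3

theorem H_le_A : H ≤ A := H_le
theorem H1_le_A1 : H1 ≤ A1 := inf_le_inf_right _ H_le_A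
theorem H2_le_A2 : H2 ≤ A2 := inf_le_inf_right _ H1_le_A1
theorem H3_le_A3 : H3 ≤ A3 := inf_le_inf_right _ H2_le_A2

theorem A1_le : A1 ≤ Aut 4060 grow := inf_le_left
theorem A2_le : A2 ≤ Aut 4060 grow := le_trans inf_le_left A1_le
theorem A3_le : A3 ≤ Aut 4060 grow := le_trans inf_le_left A2_le
theorem A4_le : A4 ≤ Aut 4060 grow := le_trans inf_le_left A3_le

theorem afix0 {σ : P} (h : σ ∈ A1) : σ 0 = 0 := ((mem_inf_stab A 0 σ).mp h).2
theorem afix1 {σ : P} (h : σ ∈ A2) : σ 1 = 1 := ((mem_inf_stab A1 1 σ).mp h).2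
theorem afix2 {σ : P} (h : σ ∈ A3) : σ 2 = 2 := ((mem_inf_stab A2 2 σ).mp h).2
theorem afix3 {σ : P} (h : σ ∈ A4) : σ 3 = 3 := ((mem_inf_stab A3 3 σ).mp h).2

theorem A2_le1 : A2 ≤ A1 := inf_le_left
theorem A3_le2 : A3 ≤ A2 := inf_le_left
theorem A4_le3 : A4 ≤ A3 := inf_le_left

theorem ahfix1 : ∀ σ ∈ A1, ∀ x : Fin 4060, (x : ℕ) ∈ [0] → σ x = x := by
  intro σ hσ x hx
  simp only [List.mem_cons, List.not_mem_nil, or_false] at hx
  have : x = 0 := Fin.ext hx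
  rw [this]; exact afix0 hσ

theorem ahfix2 : ∀ σ ∈ A2, ∀ x : Fin 4060, (x : ℕ) ∈ [0, 1] → σ x = x := by
  intro σ hσ x hx
  simp only [List.mem_cons, List.not_mem_nil, or_false] at hx
  rcases hx with h | h
  · have : x = 0 := Fin.ext h
    rw [this]; exact afix0 (A2_le1 hσ)
  · have : x = 1 := Fin.ext h
    rw [this]; exact afix1 hσ

theorem ahfix3 : ∀ σ ∈ A3, ∀ x : Fin 4060, (x : ℕ) ∈ [0, 1, 2] → σ x = x := by
  intro σ hσ x hx
  simp only [List.mem_cons, List.not_mem_nil, or_false] at hx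
  rcases hx with h | h | h
  · have : x = 0 := Fin.ext h
    rw [this]; exact afix0 (A2_le1 (A3_le2 hσ))
  · have : x = 1 := Fin.ext h
    rw [this]; exact afix1 (A3_le2 hσ)
  · have : x = 2 := Fin.ext h
    rw [this]; exact afix2 hσ

theorem ahfix4 : ∀ σ ∈ A4, ∀ x : Fin 4060, (x : ℕ) ∈ [0, 1, 2, 3] → σ x = x := by
  intro σ hσ x hx
  simp only [List.mem_cons, List.not_mem_nil, or_false] at hx
  rcases hx with h | h | h | h
  · have : x = 0 := Fin.ext h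
    rw [this]; exact afix0 (A2_le1 (A3_le2 (A4_le3 hσ)))
  · have : x = 1 := Fin.ext h
    rw [this]; exact afix1 (A3_le2 (A4_le3 hσ))
  · have : x = 2 := Fin.ext h
    rw [this]; exact afix2 (A4_le3 hσ)
  · have : x = 3 := Fin.ext h
    rw [this]; exact afix3 hσ

theorem aup1 : ∀ σ ∈ A, σ 0 ∈ maskSet 4060 mskA := by
  intro σ _
  rw [mem_maskSet]
  exact allRange_all _ 4060 RuChk9.allA _ (σ 0).2

theorem aup2 : ∀ σ ∈ A1, σ 1 ∈ maskSet 4060 mskB := by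
  intro σ hσ
  rw [mem_maskSet]
  exact walk_class A1_le (by norm_num) hrow q steps1 (initc [0]) (inv_initc [0] ahfix1) mskB kfin1
    (allRange_all _ 4060 RuChk6.w1) 1 RuChk9.b1 σ hσ

theorem aup3 : ∀ σ ∈ A2, σ 2 ∈ maskSet 4060 mskC := by
  intro σ hσ
  rw [mem_maskSet]
  exact walk_class A2_le (by norm_num) hrow q steps2 (initc [0, 1]) (inv_initc [0, 1] ahfix2)
    mskC kfin2 (allRange_all _ 4060 RuChk6.w2) 2 RuChk9.b2 σ hσ

theorem aup4 : ∀ σ ∈ A3, σ 3 ∈ maskSet 4060 mskD := by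
  intro σ hσ
  rw [mem_maskSet]
  exact walk_class A3_le (by norm_num) hrow q steps3 (initc [0, 1, 2])
    (inv_initc [0, 1, 2] ahfix3) mskD kfin3 (allRange_all _ 4060 RuChk6.w3) 3 RuChk9.b3 σ hσ

theorem A4_bot : A4 = ⊥ :=
  walk_discrete A4_le (by norm_num) hrow q steps4 (initc [0, 1, 2, 3])
    (inv_initc [0, 1, 2, 3] ahfix4) ks4 li4 lp4 (allRange_all _ 4060 RuChk7.w4)
    (fun i hi => allRange_all _ 4059 RuChk7.inc i (by omega))

theorem alow1 : ∀ x ∈ maskSet 4060 mskA, ∃ σ ∈ A, σ 0 = x := by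
  intro x hx
  obtain ⟨σ, hσ, h⟩ := low1 x hx
  exact ⟨σ, H_le_A hσ, h⟩

theorem alow2 : ∀ x ∈ maskSet 4060 mskB, ∃ σ ∈ A1, σ 1 = x := by
  intro x hx
  obtain ⟨σ, hσ, h⟩ := low2 x hx
  exact ⟨σ, H1_le_A1 hσ, h⟩

theorem alow3 : ∀ x ∈ maskSet 4060 mskC, ∃ σ ∈ A2, σ 2 = x := by
  intro x hx
  obtain ⟨σ, hσ, h⟩ := low3 x hx
  exact ⟨σ, H2_le_A2 hσ, h⟩

theorem alow4 : ∀ x ∈ maskSet 4060 mskD, ∃ σ ∈ A3, σ 3 = x := by
  intro x hx
  obtain ⟨σ, hσ, h⟩ := low4 x hx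
  exact ⟨σ, H3_le_A3 hσ, h⟩

theorem card_A : Nat.card ↥A = 145926144000 := by
  have h4 : Nat.card ↥A4 = 1 := by rw [A4_bot]; exact Subgroup.card_bot
  have h3 := card_step A3 3 (maskSet 4060 mskD) aup4 alow4
  have h2 := card_step A2 2 (maskSet 4060 mskC) aup3 alow3
  have h1 := card_step A1 1 (maskSet 4060 mskB) aup2 alow2
  have h0 := card_step A 0 (maskSet 4060 mskA) aup1 alow1
  rw [cardD] at h3
  rw [cardC] at h2
  rw [cardB] at h1
  rw [cardA] at h0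
  have e3 : Nat.card ↥A3 = 20 * Nat.card ↥A4 := h3
  have e2 : Nat.card ↥A2 = 1024 * Nat.card ↥A3 := h2
  have e1 : Nat.card ↥A1 = 1755 * Nat.card ↥A2 := h1
  have e0 : Nat.card ↥A = 4060 * Nat.card ↥A1 := h0
  rw [e0, e1, e2, e3, h4]

/-- the group of the graph is the group generated by the two permutations -/
theorem A_eq_H : Aut 4060 grow = H := by
  symm
  apply Subgroup.eq_of_le_of_card_ge H_le
  have hA : Nat.card ↥(Aut 4060 grow) = 145926144000 := card_A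
  rw [hA, card_H]

end Cfsg.Agent.Lib.Helper9.RuAutF
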