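import Mathlib
import Cfsg.Agent.Lib.Helper9.RuAutE

/-!
The automorphisms of the Rudvalis lattice keep the Hermitian product; an automorphism that fixes the
minimal vectors is the identity; the scalars (S1627).
-/

set_option autoImplicit false
open Cfsg.Spor Cfsg.Agent.Lib.Helper9.Ru Cfsg.Agent.Lib.Helper9.RuBits Cfsg.Agent.Lib.Helper9.RuNet

namespace Cfsg.Agent.Lib.Helper9.RuL

theorem coe_add' (v w : ruLattice) : ((v + w : ruLattice) : RuVec) = (v : RuVec) + (w : RuVec) := rfl

theorem coe_ruI (v : ruLattice) : ((ruI v : ruLattice) : RuVec) = gI • (v : RuVec) := rfl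

theorem herm_gI_right (x y : RuVec) : (herm x (gI • y)).re = (herm x y).im := by
  rw [herm_smul_right]
  have : star gI = (⟨0, -1⟩ : GaussianInt) := by decide
  rw [this]
  simp

/-- the automorphisms keep the Hermitian product -/
theorem herm_apply (f : fourRu) (v w : ruLattice) :
    herm ((f.1 v : ruLattice) : RuVec) ((f.1 w : ruLattice) : RuVec) = herm (v : RuVec) (w : RuVec) := by
  have hre : ∀ v w : ruLattice, (herm ((f.1 v : ruLattice) : RuVec) ((f.1 w : ruLattice) : RuVec)).re =
      (herm (v : RuVec) (w : RuVec)).re := by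
    intro v w
    have h1 := ruNorm_add ((f.1 v : ruLattice) : RuVec) ((f.1 w : ruLattice) : RuVec)
    have h2 := ruNorm_add (v : RuVec) (w : RuVec)
    rw [← coe_add', ← f.2.1, f.2.2.2, f.2.2.2, f.2.2.2, coe_add'] at h1
    linarith
  apply Zsqrtd.ext
  · exact hre v w
  · have := hre v (ruI w)
    rw [f.2.2.1, coe_ruI, coe_ruI, herm_gI_right, herm_gI_right] at this
    exact this

/-- two lines are orthogonal -/
def orth (k l : Fin 4060) : Prop := herm (vecT (4 * k.val)) (vecT (4 * l.val)) = 0

theorem gI_pow_ne_zero (d : ℕ) : gI ^ d ≠ 0 := by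
  apply pow_ne_zero
  decide

theorem vecT_eq_pow (j : Fin 16240) : ∃ d : ℕ, vecT j = gI ^ d • vecT (4 * (lineOf j).val) := by
  have hk : j.val / 4 < 4060 := by have := j.2; omega
  refine ⟨j.val % 4, ?_⟩
  have := vecT_unit hk (j.val % 4) (Nat.mod_lt _ (by norm_num))
  rw [Nat.div_add_mod] at this
  exact this

theorem herm_zero_iff (j j' : Fin 16240) :
    herm (vecT j) (vecT j') = 0 ↔ orth (lineOf j) (lineOf j') := by
  obtain ⟨d, hd⟩ := vecT_eq_pow j
  obtain ⟨d', hd'⟩ := vecT_eq_pow j'
  unfold orth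
  rw [hd, hd', herm_smul_left, herm_smul_right]
  have h1 := gI_pow_ne_zero d
  have h2 : star (gI ^ d') ≠ 0 := by
    rw [star_ne_zero]
    exact gI_pow_ne_zero d'
  constructor
  · intro h
    rcases mul_eq_zero.mp h with h | h
    · exact absurd h h1
    · rcases mul_eq_zero.mp h with h | h
      · exact absurd h h2
      · exact h
  · intro h
    rw [h, mul_zero, mul_zero]

theorem herm_psi (f : fourRu) (j j' : Fin 16240) :
    herm (vecT (psi f j)) (vecT (psi f j')) = herm (vecT j) (vecT j') := by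
  have := herm_apply f (tv j) (tv j')
  rw [psi_spec, psi_spec] at this
  exact this

/-- the action on the lines keeps orthogonality -/
theorem orth_phi (f : fourRu) (k l : Fin 4060) : orth (phi f k) (phi f l) ↔ orth k l := by
  unfold phi
  rw [← herm_zero_iff, herm_psi, herm_zero_iff, lineOf_firstOf, lineOf_firstOf]

/-! ### linearity -/

theorem map_zero' (f : fourRu) : f.1 0 = 0 := by
  have := f.2.1 0 0
  rw [add_zero] at this
  exact left_eq_add.mp this

theorem map_neg' (f : fourRu) (v : ruLattice) : f.1 (-v) = -f.1 v := by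
  have := f.2.1 v (-v)
  rw [add_neg_cancel, map_zero'] at this
  exact eq_neg_of_add_eq_zero_right this.symm

theorem map_nsmul' (f : fourRu) (n : ℕ) (v : ruLattice) : f.1 (n • v) = n • f.1 v := by
  induction n with
  | zero => rw [zero_smul, zero_smul, map_zero']
  | succ n ih => rw [succ_nsmul, succ_nsmul, f.2.1, ih]

theorem map_zsmul' (f : fourRu) (n : ℤ) (v : ruLattice) : f.1 (n • v) = n • f.1 v := by
  cases n with
  | ofNat n =>
    rw [Int.ofNat_eq_natCast, natCast_zsmul, natCast_zsmul, map_nsmul']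
  | negSucc n =>
    rw [negSucc_zsmul, negSucc_zsmul, map_neg', map_nsmul']

/-- the points fixed by an automorphism, as a submodule -/
def fixSub (f : fourRu) : Submodule GaussianInt RuVec where
  carrier := {x | ∃ hx : x ∈ ruLattice, f.1 ⟨x, hx⟩ = ⟨x, hx⟩}
  add_mem' := by
    rintro x y ⟨hx, ex⟩ ⟨hy, ey⟩
    refine ⟨ruLattice.add_mem hx hy, ?_⟩
    have : (⟨x + y, ruLattice.add_mem hx hy⟩ : ruLattice) = ⟨x, hx⟩ + ⟨y, hy⟩ := rfl
    rw [this, f.2.1, ex, ey]
  zero_mem' := ⟨ruLattice.zero_mem, map_zero' f⟩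
  smul_mem' := by
    rintro c x ⟨hx, ex⟩
    refine ⟨smul_mem_lattice c hx, ?_⟩
    have h : (⟨c • x, smul_mem_lattice c hx⟩ : ruLattice) =
        c.re • (⟨x, hx⟩ : ruLattice) + c.im • ruI ⟨x, hx⟩ := by
      apply Subtype.ext
      show c • x = c.re • x + c.im • (gI • x)
      funext p
      simp only [Pi.smul_apply, Pi.add_apply, smul_eq_mul, zsmul_eq_mul]
      apply Zsqrtd.ext <;> simp [gI]
    rw [h, f.2.1, map_zsmul', map_zsmul', f.2.2.1, ex]

/-- an automorphism that fixes the minimal vectors is the identity -/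
theorem eq_one_of_fix (f : fourRu) (h : ∀ j : Fin 16240, f.1 (tv j) = tv j) : f = 1 := by
  have hle : SB ≤ fixSub f := by
    unfold SB
    rw [Submodule.span_le]
    rintro _ ⟨j, rfl⟩
    have e : Bv j = ∑ k, Qm j k • vecT (uIdx k) := by
      funext p
      rw [Qm_spec j p, Finset.sum_apply]
      rfl
    rw [e]
    apply Submodule.sum_mem
    intro k _
    apply Submodule.smul_mem
    exact ⟨vecT_mem (uIdx_lt k), h ⟨uIdx k, uIdx_lt k⟩⟩
  apply Subtype.ext
  apply Equiv.ext
  intro v
  obtain ⟨hx, e⟩ := hle (ruLattice_le v.2)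
  exact e

end Cfsg.Agent.Lib.Helper9.RuL
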