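import Mathlib
import Cfsg.Agent.Lib.Helper9.RuAutG
import Cfsg.Agent.Lib.Helper9.RuAutD

/-!
Automorphisms of the Rudvalis lattice from matrices that are four times a unitary matrix; the lifts of
the two generators act on the lines as the generators (S1627).
-/

set_option autoImplicit false
open Cfsg.Spor Cfsg.Agent.Lib.Helper9.Ru Cfsg.Agent.Lib.Helper9.RuBits Cfsg.Agent.Lib.Helper9.RuNet
  Cfsg.Agent.Lib.Helper9.RuPerm Cfsg.Agent.Lib.Helper9.RuPermData

namespace Cfsg.Agent.Lib.Helper9.RuL

theorem four_ne : (4 : GaussianInt) ≠ 0 := by decide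

theorem four_smul_inj {x y : RuVec} (h : (4 : GaussianInt) • x = (4 : GaussianInt) • y) : x = y := by
  funext p
  have := congrFun h p
  simp only [Pi.smul_apply, smul_eq_mul] at this
  exact mul_left_cancel₀ four_ne this

/-- a matrix maps the lattice into four times the lattice -/
def MapsL (A : Matrix RuIdx RuIdx GaussianInt) : Prop :=
  ∀ x ∈ SB, ∃ y ∈ SB, A.mulVec x = (4 : GaussianInt) • y

theorem mapsL_of_basis (A : Matrix RuIdx RuIdx GaussianInt) (C : Fin 28 → Fin 28 → GaussianInt)
    (h : ∀ (j : Fin 28) (p : RuIdx), ∑ r, A p r * Bv j r = 4 * ∑ k, C j k * Bv k p) : MapsL A := by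
  intro x hx
  induction hx using Submodule.span_induction with
  | mem x hx =>
    obtain ⟨j, rfl⟩ := hx
    refine ⟨∑ k, C j k • Bv k, comb_mem (C j), ?_⟩
    funext p
    have e1 : A.mulVec (Bv j) p = ∑ r, A p r * Bv j r := rfl
    rw [e1, h j p]
    simp only [Pi.smul_apply, Finset.sum_apply, smul_eq_mul]
  | zero => exact ⟨0, SB.zero_mem, by simp⟩
  | add x y _ _ hx hy =>
    obtain ⟨a, ha, ea⟩ := hx
    obtain ⟨b, hb, eb⟩ := hy
    exact ⟨a + b, SB.add_mem ha hb, by rw [Matrix.mulVec_add, ea, eb, smul_add]⟩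
  | smul c x _ hx =>
    obtain ⟨a, ha, ea⟩ := hx
    exact ⟨c • a, SB.smul_mem c ha, by rw [Matrix.mulVec_smul, ea, smul_comm]⟩

/-- the image of a vector of the lattice, divided by four -/
noncomputable def q4 (A : Matrix RuIdx RuIdx GaussianInt) (h : MapsL A) (v : ruLattice) : ruLattice :=
  ⟨Classical.choose (h v.1 (ruLattice_le v.2)),
    SB_le (Classical.choose_spec (h v.1 (ruLattice_le v.2))).1⟩

theorem q4_spec (A : Matrix RuIdx RuIdx GaussianInt) (h : MapsL A) (v : ruLattice) :
    A.mulVec (v : RuVec) = (4 : GaussianInt) • ((q4 A h v : ruLattice) : RuVec) :=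
  (Classical.choose_spec (h v.1 (ruLattice_le v.2))).2

/-- a matrix and its conjugate transpose, with product 16, that map the lattice into four times the lattice -/
structure UPair (A AH : Matrix RuIdx RuIdx GaussianInt) : Prop where
  ua : ∀ p p' : RuIdx, ∑ r, AH p r * A r p' = if p = p' then 16 else 0
  ub : ∀ p p' : RuIdx, ∑ r, A p r * AH r p' = if p = p' then 16 else 0
  st : ∀ p p' : RuIdx, AH p p' = star (A p' p)
  la : MapsL A
  lh : MapsL AH

theorem mul16 (X Y : Matrix RuIdx RuIdx GaussianInt)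
    (h : ∀ p p' : RuIdx, ∑ r, X p r * Y r p' = if p = p' then 16 else 0) (v : RuVec) :
    X.mulVec (Y.mulVec v) = (16 : GaussianInt) • v := by
  rw [Matrix.mulVec_mulVec]
  funext p
  have e : (X * Y).mulVec v p = ∑ s, (X * Y) p s * v s := rfl
  rw [e]
  simp only [Matrix.mul_apply, h, ite_mul, zero_mul, Finset.sum_ite_eq, Finset.mem_univ, if_true,
    Pi.smul_apply, smul_eq_mul]

theorem herm_self (y : RuVec) : herm y y = ((ruNorm y : ℤ) : GaussianInt) := by
  unfold herm ruNorm
  rw [Int.cast_sum]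
  refine Finset.sum_congr rfl fun p _ => ?_
  rw [Zsqrtd.norm_eq_mul_conj]

theorem herm_eq_dot (y z : RuVec) : herm y z = dotProduct y (star z) := rfl

theorem norm_mulVec {A AH : Matrix RuIdx RuIdx GaussianInt} (hU : UPair A AH) (x : RuVec) :
    ruNorm (A.mulVec x) = 16 * ruNorm x := by
  have hH : AH = A.conjTranspose := by
    apply Matrix.ext
    intro p p'
    rw [hU.st, Matrix.conjTranspose_apply]
  have key : herm (A.mulVec x) (A.mulVec x) = 16 * herm x x := by
    rw [herm_eq_dot, Matrix.star_mulVec, ← hH, ← Matrix.mulVec_transpose, Matrix.dotProduct_mulVec,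
      Matrix.vecMul_transpose, mul16 AH A hU.ua, herm_eq_dot]
    simp only [dotProduct, Pi.smul_apply, smul_eq_mul, Finset.mul_sum, mul_assoc]
  rw [herm_self, herm_self] at key
  have : ((ruNorm (A.mulVec x) : ℤ) : GaussianInt) = ((16 * ruNorm x : ℤ) : GaussianInt) := by
    rw [key]; push_cast; rfl
  exact_mod_cast this

theorem q4_inv {X Y : Matrix RuIdx RuIdx GaussianInt} (hX : MapsL X) (hY : MapsL Y)
    (h : ∀ p p' : RuIdx, ∑ r, X p r * Y r p' = if p = p' then 16 else 0) (v : ruLattice) :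
    q4 X hX (q4 Y hY v) = v := by
  apply Subtype.ext
  apply four_smul_inj
  apply four_smul_inj
  rw [← q4_spec, ← Matrix.mulVec_smul, ← q4_spec, mul16 X Y h, smul_smul]
  norm_num

/-- the automorphism of the lattice given by a matrix -/
noncomputable def mkAut (A AH : Matrix RuIdx RuIdx GaussianInt) (hU : UPair A AH) : fourRu :=
  ⟨{ toFun := q4 A hU.la
     invFun := q4 AH hU.lh
     left_inv := q4_inv hU.lh hU.la hU.ua
     right_inv := q4_inv hU.la hU.lh hU.ub }, by
    refine ⟨fun v w => ?_, fun v => ?_, fun v => ?_⟩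
    · apply Subtype.ext
      apply four_smul_inj
      show (4 : GaussianInt) • ((q4 A hU.la (v + w) : ruLattice) : RuVec) =
        (4 : GaussianInt) • (((q4 A hU.la v : ruLattice) : RuVec) + ((q4 A hU.la w : ruLattice) : RuVec))
      rw [smul_add, ← q4_spec, ← q4_spec, ← q4_spec]
      exact Matrix.mulVec_add _ _ _
    · apply Subtype.ext
      apply four_smul_inj
      show (4 : GaussianInt) • ((q4 A hU.la (ruI v) : ruLattice) : RuVec) =
        (4 : GaussianInt) • (gI • ((q4 A hU.la v : ruLattice) : RuVec))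
      rw [smul_comm, ← q4_spec, ← q4_spec]
      exact Matrix.mulVec_smul _ _ _
    · show ruNorm ((q4 A hU.la v : ruLattice) : RuVec) = ruNorm (v : RuVec)
      have h1 := norm_mulVec hU (v : RuVec)
      rw [q4_spec A hU.la v, ruNorm_smul, four_norm] at h1
      linarith⟩

theorem mkAut_spec (A AH : Matrix RuIdx RuIdx GaussianInt) (hU : UPair A AH) (v : ruLattice) :
    A.mulVec (v : RuVec) = (4 : GaussianInt) • (((mkAut A AH hU).1 v : ruLattice) : RuVec) :=
  q4_spec A hU.la v

theorem upair1 : UPair A1 AH1 where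
  ua := unit1a
  ub := unit1b
  st := fun _ _ => rfl
  la := mapsL_of_basis A1 CA1 latA1
  lh := mapsL_of_basis AH1 CH1 latH1

theorem upair2 : UPair A2 AH2 where
  ua := unit2a
  ub := unit2b
  st := fun _ _ => rfl
  la := mapsL_of_basis A2 CA2 latA2
  lh := mapsL_of_basis AH2 CH2 latH2

/-- the lifts of the two generators -/
noncomputable def f1 : fourRu := mkAut A1 AH1 upair1
noncomputable def f2 : fourRu := mkAut A2 AH2 upair2

theorem psi_of_img (A AH : Matrix RuIdx RuIdx GaussianInt) (hU : UPair A AH) (k : Fin 4060) (t : ℕ)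
    (ht : t < 16240) (h : A.mulVec (vecT (4 * k.val)) = (4 : GaussianInt) • vecT t) :
    psi (mkAut A AH hU) (firstOf k) = ⟨t, ht⟩ := by
  apply psi_unique
  apply Subtype.ext
  apply four_smul_inj
  rw [← mkAut_spec]
  exact h

theorem phi_f1 (k : Fin 4060) : ((phi f1 k : Fin 4060) : ℕ) = ev pg1 k := by
  obtain ⟨h1, h2⟩ := img1 k.2
  unfold phi f1
  rw [psi_of_img A1 AH1 upair1 k (tg1 k) h1 h2]
  exact (tg_spec k.2).1

theorem phi_f2 (k : Fin 4060) : ((phi f2 k : Fin 4060) : ℕ) = ev pg2 k := by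
  obtain ⟨h1, h2⟩ := img2 k.2
  unfold phi f2
  rw [psi_of_img A2 AH2 upair2 k (tg2 k) h1 h2]
  exact (tg_spec k.2).2

end Cfsg.Agent.Lib.Helper9.RuL
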