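import Cfsg.Agent.Lib.Helper9.PrimSimple5
import Cfsg.Agent.Lib.Helper9.OrdPM

set_option autoImplicit false

/-! A simplicity criterion: a faithful transitive group without blocks (by the arithmetic of the
sizes of the classes of a point stabiliser), generated by elements of prime order `p` where `p`
divides the degree and `p ^ 2` does not divide the order. -/

namespace Cfsg.Agent.Lib.Helper9.RuSimple

open MulAction Cfsg.Agent.Lib.Helper9.PrimSimple2 Cfsg.Agent.Lib.Helper9.PrimSimple3
  Cfsg.Agent.Lib.Helper9.PrimSimple4 Cfsg.Agent.Lib.Helper9.OrdPM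
open scoped Pointwise

variable {G : Type*} [Group G] [Finite G]

/-- a normal subgroup whose order is divisible by `p`, where `p ^ 2` does not divide the order of
the group, contains every element of order dividing `p` -/
theorem mem_of_pow_eq_one (p m : ℕ) [hp : Fact p.Prime] (hcard : Nat.card G = m * p)
    (hpm : ¬ p ∣ m) (K : Subgroup G) [hK : K.Normal] (hpK : p ∣ Nat.card ↥K)
    (a : G) (ha : a ^ p = 1) : a ∈ K := by
  classical
  by_cases ha1 : a = 1
  · rw [ha1]; exact K.one_mem
  have hfac : (m * p).factorization p = 1 := fact_p p m hp.out hpm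
  have hcardS : ∀ Q : Sylow p G, Nat.card ↥(Q : Subgroup G) = p := by
    intro Q
    have h0 := Sylow.card_eq_multiplicity Q
    rw [hcard, hfac] at h0
    simpa using h0
  -- an element of order `p` in `K`
  obtain ⟨k, hk⟩ := exists_prime_orderOf_dvd_card' (G := ↥K) p hpK
  have hk' : orderOf (k : G) = p := by rw [Subgroup.orderOf_coe]; exact hk
  have hzk : IsPGroup p ↥(Subgroup.zpowers (k : G)) := by
    apply IsPGroup.of_card (n := 1)
    rw [Nat.card_zpowers, hk', pow_one]
  obtain ⟨Qk, hQk⟩ := hzk.exists_le_sylow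
  have hQkeq : Subgroup.zpowers (k : G) = (Qk : Subgroup G) := by
    apply Subgroup.eq_of_le_of_card_ge hQk
    rw [hcardS Qk, Nat.card_zpowers, hk']
  have hQkK : (Qk : Subgroup G) ≤ K := by
    rw [← hQkeq, Subgroup.zpowers_le]
    exact k.2
  -- the element `a`
  have hoa : orderOf a = p := orderOf_eq_prime ha ha1
  have hza : IsPGroup p ↥(Subgroup.zpowers a) := by
    apply IsPGroup.of_card (n := 1)
    rw [Nat.card_zpowers, hoa, pow_one]
  obtain ⟨Qa, hQa⟩ := hza.exists_le_sylow
  obtain ⟨g, hg⟩ := MulAction.exists_smul_eq G Qk Qa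
  have hQaK : (Qa : Subgroup G) ≤ K := by
    rw [← hg, Sylow.coe_subgroup_smul, ← Subgroup.Normal.conj_smul_eq_self g K]
    exact Subgroup.pointwise_smul_le_pointwise_smul_iff.mpr hQkK
  exact hQaK (hQa (Subgroup.mem_zpowers a))

variable {X : Type*} [MulAction G X] [Finite X]
variable {ι : Type*} [Fintype ι]

theorem simple_of_prim_prime (htrans : ∀ y z : X, ∃ g : G, g • y = z)
    (x : X) (C : ι → Set X) (n : ι → ℕ)
    (hcover : ∀ y : X, y = x ∨ ∃ i, y ∈ C i)
    (hx : ∀ i, x ∉ C i)
    (hdisj : ∀ i j, i ≠ j → Disjoint (C i) (C j))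
    (hC : ∀ i, ∀ a ∈ C i, ∀ a' ∈ C i, ∃ g : G, g • x = x ∧ g • a = a')
    (hn : ∀ i, (C i).ncard = n i)
    (hdiv : ∀ S : Finset ι, (1 + ∑ i ∈ S, n i) ∣ Nat.card X → S = ∅ ∨ S = Finset.univ)
    (hfaith : ∀ g : G, (∀ y : X, g • y = y) → g = 1)
    (p m : ℕ) [hp : Fact p.Prime] (hcard : Nat.card G = m * p) (hpm : ¬ p ∣ m)
    (hpX : p ∣ Nat.card X)
    (A : Set G) (hA : Subgroup.closure A = ⊤) (hAp : ∀ a ∈ A, a ^ p = 1)
    (hnt : Nontrivial G) : IsSimpleGroup G := by
  classical
  refine { toNontrivial := hnt, eq_bot_or_eq_top_of_normal := ?_ }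
  intro K hKn
  haveI := hKn
  obtain ⟨S, hO, -, hc⟩ := orb_shape x C n hcover hx hdisj hC hn (Nat.card G) rfl K
  have hd : (1 + ∑ i ∈ S, n i) ∣ Nat.card X := hc ▸ orb_card_dvd htrans K x
  rcases hdiv S hd with hS | hS
  · left
    have hK1 : orb K x = {x} := by
      rw [hO, hS]
      simp
    rw [eq_bot_iff]
    intro k hk
    rw [Subgroup.mem_bot]
    exact hfaith k (fix_all htrans x K hK1 k hk)
  · right
    have htr : orb K x = Set.univ := by
      ext y
      simp only [Set.mem_univ, iff_true]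
      rw [hO]
      rcases hcover y with h' | ⟨i, hi⟩
      · exact Or.inl h'
      · right
        rw [Set.mem_iUnion₂]
        exact ⟨i, hS ▸ Finset.mem_univ i, hi⟩
    have hXK : Nat.card X ∣ Nat.card ↥K := by
      have := card_orb_dvd' K x
      rwa [htr, Set.ncard_univ] at this
    have hpK : p ∣ Nat.card ↥K := dvd_trans hpX hXK
    rw [eq_top_iff, ← hA, Subgroup.closure_le]
    intro a ha
    exact mem_of_pow_eq_one p m hcard hpm K hpK a (hAp a ha)

end Cfsg.Agent.Lib.Helper9.RuSimple
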