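import Cfsg.Agent.Lib.Helper9.RuMain1
import Cfsg.Agent.Lib.Helper9.RuSimple

set_option autoImplicit false

/-! The group of order 145926144000 on 4060 points is transitive and simple. -/

namespace Cfsg.Agent.Lib.Helper9.RuMain2

open Cfsg.Agent.Lib.Helper9.RuBits Cfsg.Agent.Lib.Helper9.RuNet Cfsg.Agent.Lib.Helper9.RuPerm
  Cfsg.Agent.Lib.Helper9.RuGraph Cfsg.Agent.Lib.Helper9.RuTree
  Cfsg.Agent.Lib.Helper9.RuPermData Cfsg.Agent.Lib.Helper9.RuNetData
  Cfsg.Agent.Lib.Helper9.RuTreeData Cfsg.Agent.Lib.Helper9.RuCertData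
  Cfsg.Agent.Lib.Helper9.RuRows Cfsg.Agent.Lib.Helper9.RuWords Cfsg.Agent.Lib.Helper9.Chain1
  Cfsg.Agent.Lib.Helper9.RuMain1 Cfsg.Agent.Lib.Helper9.RuSimple
open MulAction

theorem smul_eq (g : ↥H) (y : Fin 4060) : g • y = (g : P) y := rfl

theorem htrans : ∀ y z : Fin 4060, ∃ g : ↥H, g • y = z := by
  intro y z
  obtain ⟨a, ha, hay⟩ := low1 y ((mem_maskSet _ _).mpr (allRange_all _ 4060 RuChk9.allA _ y.2))
  obtain ⟨b, hb, hbz⟩ := low1 z ((mem_maskSet _ _).mpr (allRange_all _ 4060 RuChk9.allA _ z.2))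
  refine ⟨⟨b * a⁻¹, H.mul_mem hb (H.inv_mem ha)⟩, ?_⟩
  rw [smul_eq]
  show (b * a⁻¹) y = z
  rw [Equiv.Perm.mul_apply, ← hay, inv_apply_self', hbz]

/-- the set with mask `D` -/
def mset (D : ℕ) : Set (Fin 4060) := {v | D.testBit v = true}

theorem ncard_mset (D : ℕ) (hD : D < 2 ^ 4060) : (mset D).ncard = popc D := by
  rw [← card_maskSet D (by norm_num) hD, ← Set.ncard_coe_finset]
  congr 1
  ext v
  simp [mset, maskSet]

/-- two points of a set covered by a tree over a subgroup of the point stabiliser are exchanged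
by an element of the point stabiliser -/
theorem exch (K : Subgroup P) (hK : K ≤ H1) (r : Fin 4060) (D : ℕ)
    (low : ∀ x : Fin 4060, D.testBit x = true → ∃ σ ∈ K, σ r = x) :
    ∀ a ∈ mset D, ∀ a' ∈ mset D, ∃ g : ↥H, g • (0 : Fin 4060) = 0 ∧ g • a = a' := by
  intro a ha a' ha'
  obtain ⟨s, hs, hsa⟩ := low a ha
  obtain ⟨s', hs', hsa'⟩ := low a' ha'
  have h1 : s' * s⁻¹ ∈ H1 := H1.mul_mem (hK hs') (H1.inv_mem (hK hs))
  refine ⟨⟨s' * s⁻¹, (inf_le_left : H1 ≤ H) h1⟩, ?_, ?_⟩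
  · rw [smul_eq]
    exact fix0 h1
  · rw [smul_eq]
    show (s' * s⁻¹) a = a'
    rw [Equiv.Perm.mul_apply, ← hsa, inv_apply_self', hsa']

theorem lowE : ∀ x : Fin 4060, mskE.testBit x = true → ∃ σ ∈ T', σ 1756 = x :=
  cover_sound T' l2 rl2 orbE parE letE posE 2304 mskE 1756 RuChk8.rootE
    (tree_all RuChk8.treeE) (allRange_all _ 4060 RuChk8.covE)

/-- the two classes of the point stabiliser -/
def C : Fin 2 → Set (Fin 4060) := ![mset mskB, mset mskE]

def nn : Fin 2 → ℕ := ![1755, 2304]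

instance : Fact (Nat.Prime 29) := ⟨by norm_num⟩

theorem γ1_pow : γ1 ^ 29 = 1 := pow_eq_one_of_table' γ1 pg1 29 (fun _ => rfl) RuChk1.o_pg1
theorem γ2_pow : γ2 ^ 29 = 1 := pow_eq_one_of_table' γ2 pg2 29 (fun _ => rfl) RuChk1.o_pg2

theorem H_simple : IsSimpleGroup ↥H := by
  have hcover : ∀ y : Fin 4060, y = 0 ∨ ∃ i, y ∈ C i := by
    intro y
    have := allRange_all _ 4060 RuChk9.covH y y.2
    simp only [Bool.or_eq_true] at this
    rcases this with h | h | h
    · left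
      exact Fin.ext (Nat.eq_of_beq_eq_true h)
    · right; exact ⟨0, h⟩
    · right; exact ⟨1, h⟩
  have hx : ∀ i, (0 : Fin 4060) ∉ C i := by
    intro i hi
    fin_cases i
    · have h1 : mskB.testBit 0 = true := hi
      rw [RuChk9.nb0] at h1
      exact Bool.false_ne_true h1
    · have h1 : mskE.testBit 0 = true := hi
      rw [RuChk9.ne0] at h1
      exact Bool.false_ne_true h1
  have hBE : Disjoint (mset mskB) (mset mskE) := by
    rw [Set.disjoint_left]
    intro v h1 h2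
    have h3 : (mskB &&& mskE).testBit v = true := by
      rw [Nat.testBit_and, h1, h2]
      rfl
    rw [RuChk9.dj_BE] at h3
    simp at h3
  have hdisj : ∀ i j, i ≠ j → Disjoint (C i) (C j) := by
    intro i j hij
    fin_cases i <;> fin_cases j
    · exact absurd rfl hij
    · exact hBE
    · exact hBE.symm
    · exact absurd rfl hij
  have hC : ∀ i, ∀ a ∈ C i, ∀ a' ∈ C i, ∃ g : ↥H, g • (0 : Fin 4060) = 0 ∧ g • a = a' := by
    intro i
    fin_cases i
    · exact exch T' T'_le 1 mskB low2'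
    · exact exch T' T'_le 1756 mskE lowE
  have hn : ∀ i, (C i).ncard = nn i := by
    intro i
    fin_cases i
    · show (mset mskB).ncard = 1755
      rw [ncard_mset mskB RuChk8.bdB, RuChk8.cardB]
    · show (mset mskE).ncard = 2304
      rw [ncard_mset mskE RuChk8.bdE, RuChk8.cardE]
  have hdiv : ∀ S : Finset (Fin 2), (1 + ∑ i ∈ S, nn i) ∣ Nat.card (Fin 4060) →
      S = ∅ ∨ S = Finset.univ := by
    rw [Nat.card_eq_fintype_card, Fintype.card_fin]
    decide
  have hfaith : ∀ g : ↥H, (∀ y : Fin 4060, g • y = y) → g = 1 := by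
    intro g hg
    apply Subtype.ext
    ext y
    have := hg y
    rw [smul_eq] at this
    rw [this]
    rfl
  have hA : Subgroup.closure (((↑) : ↥H → P) ⁻¹' {γ1, γ2}) = ⊤ :=
    Subgroup.closure_closure_coe_preimage
  have hAp : ∀ a ∈ (((↑) : ↥H → P) ⁻¹' {γ1, γ2}), a ^ 29 = 1 := by
    intro a ha
    apply Subtype.ext
    rw [Subgroup.coe_pow]
    rcases ha with h | h
    · rw [h]; exact γ1_pow
    · rw [Set.mem_singleton_iff] at h
      rw [h]; exact γ2_pow
  have hnt : Nontrivial ↥H := by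
    rw [← Finite.one_lt_card_iff_nontrivial, card_H]
    norm_num
  exact simple_of_prim_prime htrans 0 C nn hcover hx hdisj hC hn hdiv hfaith 29 5031936000
    (by rw [card_H]) (by norm_num) (by rw [Nat.card_eq_fintype_card, Fintype.card_fin]; norm_num)
    _ hA hAp hnt

end Cfsg.Agent.Lib.Helper9.RuMain2
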