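import Mathlib
import Cfsg.Agent.Lib.Helper9.RuAutH
import Cfsg.Agent.Lib.Helper9.RuAutF
import Cfsg.Agent.Lib.Helper9.RuMain2

/-!
The automorphism group of the Rudvalis lattice acts on the 4060 lines as the group generated by the two
permutations of order 29, with kernel the four scalars (S1627).
-/

set_option autoImplicit false
open Cfsg.Spor Cfsg.Agent.Lib.Helper9.Ru Cfsg.Agent.Lib.Helper9.RuBits Cfsg.Agent.Lib.Helper9.RuNet
  Cfsg.Agent.Lib.Helper9.RuPerm Cfsg.Agent.Lib.Helper9.RuPermData Cfsg.Agent.Lib.Helper9.RuRows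
  Cfsg.Agent.Lib.Helper9.RuGraph Cfsg.Agent.Lib.Helper9.RuMain1

namespace Cfsg.Agent.Lib.Helper9.RuL

/-- the permutations of the lines that keep orthogonality -/
def AutO : Subgroup P where
  carrier := {σ | ∀ k l : Fin 4060, orth (σ k) (σ l) ↔ orth k l}
  one_mem' := fun _ _ => Iff.rfl
  mul_mem' := by
    intro a b ha hb k l
    show orth (a (b k)) (a (b l)) ↔ _
    rw [ha, hb]
  inv_mem' := by
    intro a ha k l
    have := ha (a⁻¹ k) (a⁻¹ l)
    rw [Cfsg.Agent.Lib.Helper9.Chain1.apply_inv_self', Cfsg.Agent.Lib.Helper9.Chain1.apply_inv_self'] at this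
    exact this.symm

theorem Phi_mem_AutO (f : fourRu) : Phi f ∈ AutO := fun k l => orth_phi f k l

theorem Phi_f1 : Phi f1 = γ1 := by
  ext k
  show ((phi f1 k : Fin 4060) : ℕ) = _
  rw [phi_f1]
  rfl

theorem Phi_f2 : Phi f2 = γ2 := by
  ext k
  show ((phi f2 k : Fin 4060) : ℕ) = _
  rw [phi_f2]
  rfl

theorem H_le_range : H ≤ Phi.range := by
  unfold H
  rw [Subgroup.closure_le]
  rintro x (rfl | rfl)
  · exact ⟨f1, Phi_f1⟩
  · exact ⟨f2, Phi_f2⟩

theorem range_le_AutO : Phi.range ≤ AutO := by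
  rintro _ ⟨f, rfl⟩
  exact Phi_mem_AutO f

theorem orth_zero (l : Fin 4060) : orth 0 l ↔ herm (vecT 0) (vecT (4 * l.val)) = 0 := Iff.rfl

/-- the graph is the orthogonality of the lines -/
theorem grow_iff_orth (k l : Fin 4060) : (grow k).testBit l = true ↔ orth k l := by
  obtain ⟨g, hg⟩ := RuMain2.htrans 0 k
  have hσ : (g : P) 0 = k := hg
  have hA : (g : P) ∈ Aut 4060 grow := H_le g.2
  have hO : (g : P) ∈ AutO := range_le_AutO (H_le_range g.2)
  have e1 := hA 0 ((g : P)⁻¹ l)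
  have e0 : ((0 : Fin 4060) : ℕ) = 0 := rfl
  rw [Cfsg.Agent.Lib.Helper9.Chain1.apply_inv_self', hσ, e0] at e1
  rw [e1, row0_spec ((g : P)⁻¹ l).2, ← orth_zero, ← hO 0 ((g : P)⁻¹ l), Cfsg.Agent.Lib.Helper9.Chain1.apply_inv_self', hσ]

theorem AutO_eq : AutO = Aut 4060 grow := by
  ext σ
  constructor
  · intro h v w
    have := h v w
    rw [← grow_iff_orth, ← grow_iff_orth] at this
    exact Bool.eq_iff_iff.mpr this
  · intro h k l
    rw [← grow_iff_orth, ← grow_iff_orth, h k l]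

/-- the image of the automorphism group on the lines -/
theorem range_eq : Phi.range = H := by
  apply le_antisymm
  · rw [← RuAutF.A_eq_H, ← AutO_eq]
    exact range_le_AutO
  · exact H_le_range

end Cfsg.Agent.Lib.Helper9.RuL
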