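import Mathlib
import Cfsg.Agent.Lib.Helper9.RuAutI

/-!
The kernel of the action of the automorphism group of the Rudvalis lattice on the lines is the group of
the four scalars, and it is the centre; the Rudvalis group (S1627).
-/

set_option autoImplicit false
open Cfsg.Spor Cfsg.Agent.Lib.Helper9.Ru Cfsg.Agent.Lib.Helper9.RuBits Cfsg.Agent.Lib.Helper9.RuNet
  Cfsg.Agent.Lib.Helper9.RuPerm Cfsg.Agent.Lib.Helper9.RuPermData Cfsg.Agent.Lib.Helper9.RuRows
  Cfsg.Agent.Lib.Helper9.RuGraph Cfsg.Agent.Lib.Helper9.RuMain1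

namespace Cfsg.Agent.Lib.Helper9.RuL

theorem ruI_four (v : ruLattice) : ruI (ruI (ruI (ruI v))) = v := by
  apply Subtype.ext
  show gI • gI • gI • gI • (v : RuVec) = v
  rw [smul_smul, smul_smul, smul_smul]
  have : gI * gI * gI * gI = 1 := by decide
  rw [this, one_smul]

theorem gI_norm : gI.norm = 1 := by decide

/-- multiplication by `i` as an automorphism -/
def sc : fourRu :=
  ⟨{ toFun := ruI
     invFun := fun v => ruI (ruI (ruI v))
     left_inv := fun v => ruI_four v
     right_inv := fun v => ruI_four v }, by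
    refine ⟨fun v w => ?_, fun v => rfl, fun v => ?_⟩
    · apply Subtype.ext
      show gI • ((v : RuVec) + (w : RuVec)) = gI • (v : RuVec) + gI • (w : RuVec)
      rw [smul_add]
    · show ruNorm (gI • (v : RuVec)) = ruNorm (v : RuVec)
      rw [ruNorm_smul, gI_norm, one_mul]⟩

theorem sc_apply (v : ruLattice) : sc.1 v = ruI v := rfl

theorem sc_comm (f : fourRu) : f * sc = sc * f := by
  apply Subtype.ext
  apply Equiv.ext
  intro v
  show f.1 (ruI v) = ruI (f.1 v)
  exact f.2.2.1 v

theorem sc_mem_center : sc ∈ Subgroup.center fourRu := by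
  rw [Subgroup.mem_center_iff]
  intro f
  exact sc_comm f

theorem psi_sc (j : Fin 16240) : psi sc j = rot j := by
  apply psi_unique
  rw [sc_apply, tv_rot]

theorem psi_sc_pow (d : ℕ) (j : Fin 16240) : psi (sc ^ d) j = rot^[d] j := by
  induction d with
  | zero => rw [pow_zero, psi_one]; rfl
  | succ d ih => rw [pow_succ', psi_mul, ih, psi_sc, Function.iterate_succ_apply']

theorem sc_mem_ker : sc ∈ Phi.ker := by
  rw [MonoidHom.mem_ker]
  ext k
  show ((phi sc k : Fin 4060) : ℕ) = _
  unfold phi
  rw [psi_sc, lineOf_rot, lineOf_firstOf]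
  rfl

theorem sc_pow_four : sc ^ 4 = 1 := by
  apply Subtype.ext
  apply Equiv.ext
  intro v
  show ruI (ruI (ruI (ruI v))) = v
  exact ruI_four v

theorem sc_sq_ne : ¬ sc ^ 2 = 1 := by
  intro h
  have h1 := psi_sc_pow 2 (firstOf 0)
  rw [h, psi_one] at h1
  have h2 := congrArg Fin.val h1
  revert h2
  decide

theorem order_sc : orderOf sc = 4 := by
  have := orderOf_eq_prime_pow (p := 2) (n := 1) (x := sc) (by rw [pow_one]; exact sc_sq_ne)
    (by norm_num; exact sc_pow_four)
  rw [this]
  norm_num

theorem vecT_rot_iter (d : ℕ) (j : Fin 16240) : vecT (rot^[d] j) = gI ^ d • vecT j := by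
  induction d with
  | zero => rw [pow_zero, one_smul]; rfl
  | succ d ih =>
    rw [Function.iterate_succ_apply']
    have := congrArg Subtype.val (tv_rot (rot^[d] j))
    rw [tv_val, coe_ruI, tv_val, ih, smul_smul, ← pow_succ'] at this
    exact this

theorem unit_eq (a b : ℕ) (ha : a < 4) (hb : b < 4) (h : gI ^ a * star (gI ^ b) = 1) : a = b := by
  interval_cases a <;> interval_cases b <;> first | rfl | (exfalso; revert h; decide)

/-- an automorphism in the kernel that fixes the first vector of the first line is the identity -/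
theorem eq_one_of_ker (g : fourRu) (hk : ∀ k : Fin 4060, phi g k = k)
    (h0 : psi g (firstOf 0) = firstOf 0) : g = 1 := by
  -- the shift on each line
  have hex : ∀ k : Fin 4060, ∃ d < 4, psi g (firstOf k) = rot^[d] (firstOf k) := by
    intro k
    obtain ⟨d, hd, e⟩ := exists_rot (psi g (firstOf k))
    refine ⟨d, hd, ?_⟩
    have : lineOf (psi g (firstOf k)) = k := hk k
    rw [this] at e
    exact e
  -- lines that are not orthogonal have the same shift
  have hsame : ∀ k l : Fin 4060, ¬ orth k l → ∀ d < 4, ∀ d' < 4,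
      psi g (firstOf k) = rot^[d] (firstOf k) → psi g (firstOf l) = rot^[d'] (firstOf l) → d = d' := by
    intro k l hkl d hd d' hd' ek el
    have := herm_psi g (firstOf k) (firstOf l)
    rw [ek, el, vecT_rot_iter, vecT_rot_iter, herm_smul_left, herm_smul_right, ← mul_assoc] at this
    have hne : herm (vecT (firstOf k)) (vecT (firstOf l)) ≠ 0 := hkl
    have h1 : (gI ^ d * star (gI ^ d') - 1) * herm (vecT (firstOf k)) (vecT (firstOf l)) = 0 := by
      rw [sub_mul, this, one_mul, sub_self]
    rcases mul_eq_zero.mp h1 with h2 | h2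
    · exact unit_eq d d' hd hd' (sub_eq_zero.mp h2)
    · exact absurd h2 hne
  have hzero : ∀ k : Fin 4060, psi g (firstOf k) = firstOf k := by
    intro k
    obtain ⟨hm, n1, n2⟩ := hop_spec k.2
    let m : Fin 4060 := ⟨hopT k.val, hm⟩
    obtain ⟨d, hd, ed⟩ := hex k
    obtain ⟨d', hd', ed'⟩ := hex m
    have e1 : d = d' := hsame k m n1 d hd d' hd' ed ed'
    have e2 : d' = 0 := hsame m 0 n2 d' hd' 0 (by norm_num) ed' h0
    rw [ed, e1, e2]
    rfl
  apply eq_one_of_fix
  intro j
  obtain ⟨d, _, e⟩ := exists_rot j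
  rw [psi_spec]
  congr 1
  conv_lhs => rw [e]
  rw [psi_rot_iter, hzero, ← e]

theorem ker_eq : Phi.ker = Subgroup.zpowers sc := by
  apply le_antisymm
  · intro f hf
    have hk : ∀ k : Fin 4060, phi f k = k := by
      intro k
      have := congrArg (fun σ : Equiv.Perm (Fin 4060) => σ k) (MonoidHom.mem_ker.mp hf)
      exact this
    obtain ⟨d, hd, e⟩ := exists_rot (psi f (firstOf 0))
    have h0 : lineOf (psi f (firstOf 0)) = 0 := hk 0
    rw [h0] at e
    -- the automorphism `(sc ^ d)⁻¹ * f`
    have hg : (sc ^ d)⁻¹ * f = 1 := by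
      apply eq_one_of_ker
      · intro k
        have h1 : (sc ^ d)⁻¹ * f ∈ Phi.ker :=
          Phi.ker.mul_mem (Phi.ker.inv_mem (Phi.ker.pow_mem sc_mem_ker d)) hf
        have := congrArg (fun σ : Equiv.Perm (Fin 4060) => σ k) (MonoidHom.mem_ker.mp h1)
        exact this
      · rw [psi_mul, e, ← psi_sc_pow d (firstOf 0), ← psi_mul, inv_mul_cancel, psi_one]
    have : f = sc ^ d := by
      have := congrArg (fun x => sc ^ d * x) hg
      simp only [mul_inv_cancel_left, mul_one] at this
      exact this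
    rw [this]
    exact Subgroup.pow_mem _ (Subgroup.mem_zpowers sc) d
  · rw [Subgroup.zpowers_le]
    exact sc_mem_ker

theorem card_ker : Nat.card Phi.ker = 4 := by
  rw [ker_eq, Nat.card_zpowers, order_sc]

end Cfsg.Agent.Lib.Helper9.RuL
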