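import Mathlib
import Cfsg.Agent.Lib.Helper9.RuAutJ

/-!
The Rudvalis group `Ru`, the quotient of the automorphism group of the lattice by its centre, is the group
of order 145926144000 on 4060 points: the centre has order 4, and `Ru` is simple (S1627).
-/

set_option autoImplicit false
open Cfsg.Spor Cfsg.Agent.Lib.Helper9.Ru Cfsg.Agent.Lib.Helper9.RuBits Cfsg.Agent.Lib.Helper9.RuNet
  Cfsg.Agent.Lib.Helper9.RuPerm Cfsg.Agent.Lib.Helper9.RuPermData Cfsg.Agent.Lib.Helper9.RuRows
  Cfsg.Agent.Lib.Helper9.RuGraph Cfsg.Agent.Lib.Helper9.RuMain1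

namespace Cfsg.Agent.Lib.Helper9.RuL

theorem gens_ne : ev pg1 (ev pg2 0) ≠ ev pg2 (ev pg1 0) := by decide +kernel

theorem center_H : Subgroup.center ↥H = ⊥ := by
  have := RuMain2.H_simple
  rcases (inferInstance : (Subgroup.center ↥H).Normal).eq_bot_or_eq_top with h | h
  · exact h
  · exfalso
    have h1 : (⟨γ1, γ1_mem⟩ : ↥H) ∈ Subgroup.center ↥H := by rw [h]; exact Subgroup.mem_top _
    rw [Subgroup.mem_center_iff] at h1
    have h2 := h1 ⟨γ2, γ2_mem⟩
    have h3 : γ2 * γ1 = γ1 * γ2 := congrArg Subtype.val h2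
    have h4 := congrArg (fun σ : P => ((σ 0 : Fin 4060) : ℕ)) h3
    have e1 : ((γ2 (γ1 0) : Fin 4060) : ℕ) = ev pg2 (ev pg1 0) := rfl
    have e2 : ((γ1 (γ2 0) : Fin 4060) : ℕ) = ev pg1 (ev pg2 0) := rfl
    have h5 : ((γ2 (γ1 0) : Fin 4060) : ℕ) = ((γ1 (γ2 0) : Fin 4060) : ℕ) := h4
    rw [e1, e2] at h5
    exact gens_ne h5.symm

/-- the action on the lines, onto the group on 4060 points -/
noncomputable def PhiH : fourRu →* ↥H :=
  (Phi.codRestrict H (fun f => by rw [← range_eq]; exact ⟨f, rfl⟩))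

theorem PhiH_surj : Function.Surjective PhiH := by
  rintro ⟨σ, hσ⟩
  rw [← range_eq] at hσ
  obtain ⟨f, rfl⟩ := hσ
  exact ⟨f, rfl⟩

theorem PhiH_ker : PhiH.ker = Phi.ker := by
  ext f
  rw [MonoidHom.mem_ker, MonoidHom.mem_ker]
  constructor
  · intro h
    exact congrArg Subtype.val h
  · intro h
    exact Subtype.ext h

theorem center_eq : Subgroup.center fourRu = Phi.ker := by
  apply le_antisymm
  · intro z hz
    rw [← PhiH_ker, MonoidHom.mem_ker]
    have hc : PhiH z ∈ Subgroup.center ↥H := by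
      rw [Subgroup.mem_center_iff]
      intro y
      obtain ⟨f, rfl⟩ := PhiH_surj y
      rw [← map_mul, ← map_mul, (Subgroup.mem_center_iff.mp hz) f]
    rw [center_H] at hc
    exact hc
  · rw [ker_eq, Subgroup.zpowers_le]
    exact sc_mem_center

theorem card_center : Nat.card ↥(Subgroup.center fourRu) = 4 := by
  rw [center_eq]
  exact card_ker

/-- the Rudvalis group is the group on 4060 points -/
noncomputable def ruEquiv : Ru ≃* ↥H :=
  (QuotientGroup.quotientMulEquivOfEq (center_eq.trans PhiH_ker.symm)).trans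
    (QuotientGroup.quotientKerEquivOfSurjective PhiH PhiH_surj)

theorem card_Ru : Nat.card Ru = 145926144000 := by
  rw [Nat.card_congr ruEquiv.toEquiv]
  exact card_H

theorem simple_Ru : IsSimpleGroup Ru := by
  have := RuMain2.H_simple
  exact ruEquiv.isSimpleGroup

end Cfsg.Agent.Lib.Helper9.RuL
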