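import Cfsg.Agent.Lib.Helper9.RuRowsG0
import Cfsg.Agent.Lib.Helper9.RuRowsG1
import Cfsg.Agent.Lib.Helper9.RuRowsG2
import Cfsg.Agent.Lib.Helper9.RuRowsG3
import Cfsg.Agent.Lib.Helper9.RuRowsG4
import Cfsg.Agent.Lib.Helper9.RuRowsG5
import Cfsg.Agent.Lib.Helper9.RuRowsG6
import Cfsg.Agent.Lib.Helper9.RuRowsG7

set_option autoImplicit false

namespace Cfsg.Agent.Lib.Helper9.RuRows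

open Cfsg.Agent.Lib.Helper9.RuTree

/-- the rows of the graph, as a tree -/
def gT : RT :=
  (RT.nd (RT.nd (RT.nd (RT.nd (RT.nd (RT.nd Cfsg.Agent.Lib.Helper9.RuRowsG0.s0 Cfsg.Agent.Lib.Helper9.RuRowsG0.s1) (RT.nd Cfsg.Agent.Lib.Helper9.RuRowsG0.s2 Cfsg.Agent.Lib.Helper9.RuRowsG0.s3)) (RT.nd (RT.nd Cfsg.Agent.Lib.Helper9.RuRowsG0.s4 Cfsg.Agent.Lib.Helper9.RuRowsG0.s5) (RT.nd Cfsg.Agent.Lib.Helper9.RuRowsG0.s6 Cfsg.Agent.Lib.Helper9.RuRowsG0.s7))) (RT.nd (RT.nd (RT.nd Cfsg.Agent.Lib.Helper9.RuRowsG1.s8 Cfsg.Agent.Lib.Helper9.RuRowsG1.s9) (RT.nd Cfsg.Agent.Lib.Helper9.RuRowsG1.s10 Cfsg.Agent.Lib.Helper9.RuRowsG1.s11)) (RT.nd (RT.nd Cfsg.Agent.Lib.Helper9.RuRowsG1.s12 Cfsg.Agent.Lib.Helper9.RuRowsG1.s13) (RT.nd Cfsg.Agent.Lib.Helper9.RuRowsG1.s14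 Cfsg.Agent.Lib.Helper9.RuRowsG1.s15)))) (RT.nd (RT.nd (RT.nd (RT.nd Cfsg.Agent.Lib.Helper9.RuRowsG2.s16 Cfsg.Agent.Lib.Helper9.RuRowsG2.s17) (RT.nd Cfsg.Agent.Lib.Helper9.RuRowsG2.s18 Cfsg.Agent.Lib.Helper9.RuRowsG2.s19)) (RT.nd (RT.nd Cfsg.Agent.Lib.Helper9.RuRowsG2.s20 Cfsg.Agent.Lib.Helper9.RuRowsG2.s21) (RT.nd Cfsg.Agent.Lib.Helper9.RuRowsG2.s22 Cfsg.Agent.Lib.Helper9.RuRowsG2.s23))) (RT.nd (RT.nd (RT.nd Cfsg.Agent.Lib.Helper9.RuRowsG3.s24 Cfsg.Agent.Lib.Helper9.RuRowsG3.s25) (RT.nd Cfsg.Agent.Lib.Helper9.RuRowsG3.s26 Cfsg.Agent.Lib.Helper9.RuRowsG3.s27)) (RT.nd (RT.nd Cfsg.Agent.Lib.Helper9.RuRowsG3.s28 Cfsg.Agent.Lib.Helper9.RuRowsG3.s29) (RT.nd Cfsg.Agent.Lib.Helper9.RuRowsG3.s30 Cfsg.Agent.Lib.Helper9.RuRowsG3.s31))))) (RT.nd (RT.nd (RT.nd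 (RT.nd (RT.nd Cfsg.Agent.Lib.Helper9.RuRowsG4.s32 Cfsg.Agent.Lib.Helper9.RuRowsG4.s33) (RT.nd Cfsg.Agent.Lib.Helper9.RuRowsG4.s34 Cfsg.Agent.Lib.Helper9.RuRowsG4.s35)) (RT.nd (RT.nd Cfsg.Agent.Lib.Helper9.RuRowsG4.s36 Cfsg.Agent.Lib.Helper9.RuRowsG4.s37) (RT.nd Cfsg.Agent.Lib.Helper9.RuRowsG4.s38 Cfsg.Agent.Lib.Helper9.RuRowsG4.s39))) (RT.nd (RT.nd (RT.nd Cfsg.Agent.Lib.Helper9.RuRowsG5.s40 Cfsg.Agent.Lib.Helper9.RuRowsG5.s41) (RT.nd Cfsg.Agent.Lib.Helper9.RuRowsG5.s42 Cfsg.Agent.Lib.Helper9.RuRowsG5.s43)) (RT.nd (RT.nd Cfsg.Agent.Lib.Helper9.RuRowsG5.s44 Cfsg.Agent.Lib.Helper9.RuRowsG5.s45) (RT.nd Cfsg.Agent.Lib.Helper9.RuRowsG5.s46 Cfsg.Agent.Lib.Helper9.RuRowsG5.s47)))) (RT.nd (RT.nd (RT.nd (RT.nd Cfsg.Agent.Lib.Helper9.RuRowsG6.s48 Cfsg.Agent.Lib.Helper9.RuRowsG6.s49)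 (RT.nd Cfsg.Agent.Lib.Helper9.RuRowsG6.s50 Cfsg.Agent.Lib.Helper9.RuRowsG6.s51)) (RT.nd (RT.nd Cfsg.Agent.Lib.Helper9.RuRowsG6.s52 Cfsg.Agent.Lib.Helper9.RuRowsG6.s53) (RT.nd Cfsg.Agent.Lib.Helper9.RuRowsG6.s54 Cfsg.Agent.Lib.Helper9.RuRowsG6.s55))) (RT.nd (RT.nd (RT.nd Cfsg.Agent.Lib.Helper9.RuRowsG7.s56 Cfsg.Agent.Lib.Helper9.RuRowsG7.s57) (RT.nd Cfsg.Agent.Lib.Helper9.RuRowsG7.s58 Cfsg.Agent.Lib.Helper9.RuRowsG7.s59)) (RT.nd (RT.nd Cfsg.Agent.Lib.Helper9.RuRowsG7.s60 Cfsg.Agent.Lib.Helper9.RuRowsG7.s61) (RT.nd Cfsg.Agent.Lib.Helper9.RuRowsG7.s62 Cfsg.Agent.Lib.Helper9.RuRowsG7.s63))))))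

/-- the row of the vertex `v` -/
def grow (v : ℕ) : ℕ := RT.get gT 12 v

end Cfsg.Agent.Lib.Helper9.RuRows
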