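import Cfsg.Agent.Lib.Helper9.RuTree

set_option autoImplicit false

namespace Cfsg.Agent.Lib.Helper9.RuRowsT2

open Cfsg.Agent.Lib.Helper9.RuTree

end Cfsg.Agent.Lib.Helper9.RuRowsT2
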