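import Cfsg.Agent.Lib.Helper9.RuRowsT0
import Cfsg.Agent.Lib.Helper9.RuRowsT1
import Cfsg.Agent.Lib.Helper9.RuRowsT2
import Cfsg.Agent.Lib.Helper9.RuRowsT3

set_option autoImplicit false

namespace Cfsg.Agent.Lib.Helper9.RuRowsTh

open Cfsg.Agent.Lib.Helper9.RuTree

/-- the rows of the second relation, shifted, as a tree -/
def tT : RT :=
  (RT.nd (RT.nd (RT.nd (RT.nd (RT.nd (RT.nd Cfsg.Agent.Lib.Helper9.RuRowsT0.s0 Cfsg.Agent.Lib.Helper9.RuRowsT0.s1) (RT.nd Cfsg.Agent.Lib.Helper9.RuRowsT0.s2 Cfsg.Agent.Lib.Helper9.RuRowsT0.s3)) (RT.nd (RT.nd Cfsg.Agent.Lib.Helper9.RuRowsT0.s4 Cfsg.Agent.Lib.Helper9.RuRowsT0.s5) (RT.nd Cfsg.Agent.Lib.Helper9.RuRowsT0.s6 Cfsg.Agent.Lib.Helper9.RuRowsT0.s7))) (RT.nd (RT.nd (RT.nd Cfsg.Agent.Lib.Helper9.RuRowsT0.s8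 Cfsg.Agent.Lib.Helper9.RuRowsT0.s9) (RT.nd Cfsg.Agent.Lib.Helper9.RuRowsT0.s10 Cfsg.Agent.Lib.Helper9.RuRowsT0.s11)) (RT.nd (RT.nd Cfsg.Agent.Lib.Helper9.RuRowsT0.s12 Cfsg.Agent.Lib.Helper9.RuRowsT0.s13) (RT.nd Cfsg.Agent.Lib.Helper9.RuRowsT0.s14 Cfsg.Agent.Lib.Helper9.RuRowsT0.s15)))) (RT.nd (RT.nd (RT.nd (RT.nd Cfsg.Agent.Lib.Helper9.RuRowsT1.s16 Cfsg.Agent.Lib.Helper9.RuRowsT1.s17) (RT.nd Cfsg.Agent.Lib.Helper9.RuRowsT1.s18 Cfsg.Agent.Lib.Helper9.RuRowsT1.s19)) (RT.nd (RT.nd Cfsg.Agent.Lib.Helper9.RuRowsT1.s20 Cfsg.Agent.Lib.Helper9.RuRowsT1.s21) (RT.nd Cfsg.Agent.Lib.Helper9.RuRowsT1.s22 Cfsg.Agent.Lib.Helper9.RuRowsT1.s23))) (RT.nd (RT.nd (RT.nd Cfsg.Agent.Lib.Helper9.RuRowsT1.s24 Cfsg.Agent.Lib.Helper9.RuRowsT1.s25) (RT.nd Cfsg.Agent.Lib.Helper9.RuRowsT1.s26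 Cfsg.Agent.Lib.Helper9.RuRowsT1.s27)) (RT.nd (RT.nd (RT.lf 0) (RT.lf 0)) (RT.nd (RT.lf 0) (RT.lf 0)))))) (RT.nd (RT.nd (RT.nd (RT.nd (RT.nd (RT.lf 0) (RT.lf 0)) (RT.nd (RT.lf 0) (RT.lf 0))) (RT.nd (RT.nd (RT.lf 0) (RT.lf 0)) (RT.nd (RT.lf 0) (RT.lf 0)))) (RT.nd (RT.nd (RT.nd (RT.lf 0) (RT.lf 0)) (RT.nd (RT.lf 0) (RT.lf 0))) (RT.nd (RT.nd (RT.lf 0) (RT.lf 0)) (RT.nd (RT.lf 0) (RT.lf 0))))) (RT.nd (RT.nd (RT.nd (RT.nd (RT.lf 0) (RT.lf 0)) (RT.nd (RT.lf 0) (RT.lf 0))) (RT.nd (RT.nd (RT.lf 0) (RT.lf 0)) (RT.nd (RT.lf 0) (RT.lf 0)))) (RT.nd (RT.nd (RT.nd (RT.lf 0) (RT.lf 0)) (RT.nd (RT.lf 0) (RT.lf 0))) (RT.nd (RT.nd (RT.lf 0) (RT.lf 0)) (RT.nd (RT.lf 0) (RT.lf 0)))))))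

/-- the row of the vertex `v` -/
def trow (v : ℕ) : ℕ := Nat.shiftLeft (RT.get tT 12 v) 1756

end Cfsg.Agent.Lib.Helper9.RuRowsTh
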