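import Cfsg.Agent.Lib.Helper9.RuTree
import Cfsg.Agent.Lib.Helper9.RuRows
import Cfsg.Agent.Lib.Helper9.RuRowsTh
import Cfsg.Agent.Lib.Helper9.RuPermData
import Cfsg.Agent.Lib.Helper9.RuNetData
import Cfsg.Agent.Lib.Helper9.RuTreeData
import Cfsg.Agent.Lib.Helper9.RuCertData

set_option autoImplicit false

namespace Cfsg.Agent.Lib.Helper9.RuChk1

open Cfsg.Agent.Lib.Helper9.RuBits Cfsg.Agent.Lib.Helper9.RuNet Cfsg.Agent.Lib.Helper9.RuPerm Cfsg.Agent.Lib.Helper9.RuGraph Cfsg.Agent.Lib.Helper9.RuTree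
  Cfsg.Agent.Lib.Helper9.RuPermData Cfsg.Agent.Lib.Helper9.RuNetData Cfsg.Agent.Lib.Helper9.RuTreeData Cfsg.Agent.Lib.Helper9.RuCertData Cfsg.Agent.Lib.Helper9.RuRows Cfsg.Agent.Lib.Helper9.RuRowsTh

theorem ok1 : permOK 4060 pg1 pg1i = true := by decide +kernel

theorem ok2 : permOK 4060 pg2 pg2i = true := by decide +kernel

theorem inv_pt1 : allRange (invChk pt1 pt1i) 0 4060 = true := by decide +kernel

theorem inv_pt2 : allRange (invChk pt2 pt2i) 0 4060 = true := by decide +kernel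

theorem inv_pu1 : allRange (invChk pu1 pu1i) 0 4060 = true := by decide +kernel

theorem inv_pu2 : allRange (invChk pu2 pu2i) 0 4060 = true := by decide +kernel

theorem inv_py : allRange (invChk py pyi) 0 4060 = true := by decide +kernel

theorem w_t1 : allRange (wordChk [pg2, pg2, pg2, pg1, pg2, pg1, pg2, pg1, pg2i, pg1i, pg2, pg2, pg1, pg1, pg1] pt1) 0 4060 = true := by decide +kernel

theorem w_t2 : allRange (wordChk [pg1, pg2i, pg1, pg2, pg1, pg2, pg1i, pg2i, pg1, pg2, pg2, pg1, pg2i, pg1, pg2i, pg2i] pt2) 0 4060 = true := by decide +kernel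

theorem w_h : allRange (wordChk [pg2, pg2, pg1, pg1, pg2, pg2, pg1i, pg1i, pg2, pg2, pg2, pg2, pg2, pg2, pg2] ph) 0 4060 = true := by decide +kernel

theorem w_u1 : allRange (wordChk [pt2i, pt2i, pt1, pt2i, pt2i, pt2i, pt1, pt2, pt1i, pt2, pt2, pt1, pt2, pt1] pu1) 0 4060 = true := by decide +kernel

theorem w_u2 : allRange (wordChk [pt2, pt1i, pt1i, pt1i, pt2, pt1, pt1, pt2, pt2, pt1i, pt2i, pt2i, pt2i] pu2) 0 4060 = true := by decide +kernel

theorem w_q1 : allRange (wordChk [pu1i, pu2, pu2, pu1i, pu2, pu2, pu2, pu1i, pu1i, pu2, pu2, pu2, pu1i, pu2i] pq1) 0 4060 = true := by decide +kernel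

theorem w_q2 : allRange (wordChk [pu1i, pu2i, pu2i, pu1i, pu1i, pu2, pu1, pu2] pq2) 0 4060 = true := by decide +kernel

theorem w_y : allRange (wordChk [ph, pt2i, pt1i, pt2, pu1i, pu1i, pu2, pu1, pu2, pu1i, pu2] py) 0 4060 = true := by decide +kernel

theorem o_pg1 : allRange (ordChk 29 pg1) 0 4060 = true := by decide +kernel

theorem o_pg2 : allRange (ordChk 29 pg2) 0 4060 = true := by decide +kernel

theorem o_pt1 : allRange (ordChk 13 pt1) 0 4060 = true := by decide +kernel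

theorem o_pt2 : allRange (ordChk 13 pt2) 0 4060 = true := by decide +kernel

theorem fix_pt1_0 : ev pt1 0 = 0 := by decide +kernel

theorem fix_pt2_0 : ev pt2 0 = 0 := by decide +kernel

theorem fix_ph_0 : ev ph 0 = 0 := by decide +kernel

theorem fix_pu1_1 : ev pu1 1 = 1 := by decide +kernel

theorem fix_pu2_1 : ev pu2 1 = 1 := by decide +kernel

theorem fix_pq1_2 : ev pq1 2 = 2 := by decide +kernel

theorem fix_pq2_2 : ev pq2 2 = 2 := by decide +kernel

theorem fix_py_1 : ev py 1 = 1 := by decide +kernel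

theorem fix_py_2 : ev py 2 = 2 := by decide +kernel

theorem ne_g1 : ev pg1 0 ≠ 0 := by decide +kernel

theorem ne_t1 : ev pt1 1 ≠ 1 := by decide +kernel


end Cfsg.Agent.Lib.Helper9.RuChk1
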