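import Cfsg.Agent.Lib.Helper9.RuTree
import Cfsg.Agent.Lib.Helper9.RuRows
import Cfsg.Agent.Lib.Helper9.RuRowsTh
import Cfsg.Agent.Lib.Helper9.RuPermData
import Cfsg.Agent.Lib.Helper9.RuNetData
import Cfsg.Agent.Lib.Helper9.RuTreeData
import Cfsg.Agent.Lib.Helper9.RuCertData

set_option autoImplicit false

namespace Cfsg.Agent.Lib.Helper9.RuChk5

open Cfsg.Agent.Lib.Helper9.RuBits Cfsg.Agent.Lib.Helper9.RuNet Cfsg.Agent.Lib.Helper9.RuPerm Cfsg.Agent.Lib.Helper9.RuGraph Cfsg.Agent.Lib.Helper9.RuTree
  Cfsg.Agent.Lib.Helper9.RuPermData Cfsg.Agent.Lib.Helper9.RuNetData Cfsg.Agent.Lib.Helper9.RuTreeData Cfsg.Agent.Lib.Helper9.RuCertData Cfsg.Agent.Lib.Helper9.RuRows Cfsg.Agent.Lib.Helper9.RuRowsTh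

theorem oks : okStages nt2 = true := by decide +kernel

theorem aut_0 : allRange (autChk trow pt2 nt2) 0 256 = true := by decide +kernel

theorem aut_1 : allRange (autChk trow pt2 nt2) 256 256 = true := by decide +kernel

theorem aut_2 : allRange (autChk trow pt2 nt2) 512 256 = true := by decide +kernel

theorem aut_3 : allRange (autChk trow pt2 nt2) 768 256 = true := by decide +kernel

theorem aut_4 : allRange (autChk trow pt2 nt2) 1024 256 = true := by decide +kernel

theorem aut_5 : allRange (autChk trow pt2 nt2) 1280 256 = true := by decide +kernel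

theorem aut_6 : allRange (autChk trow pt2 nt2) 1536 256 = true := by decide +kernel

theorem aut_7 : allRange (autChk trow pt2 nt2) 1792 256 = true := by decide +kernel

theorem aut_8 : allRange (autChk trow pt2 nt2) 2048 256 = true := by decide +kernel

theorem aut_9 : allRange (autChk trow pt2 nt2) 2304 256 = true := by decide +kernel

theorem aut_10 : allRange (autChk trow pt2 nt2) 2560 256 = true := by decide +kernel

theorem aut_11 : allRange (autChk trow pt2 nt2) 2816 256 = true := by decide +kernel

theorem aut_12 : allRange (autChk trow pt2 nt2) 3072 256 = true := by decide +kernel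

theorem aut_13 : allRange (autChk trow pt2 nt2) 3328 256 = true := by decide +kernel

theorem aut_14 : allRange (autChk trow pt2 nt2) 3584 256 = true := by decide +kernel

theorem aut_15 : allRange (autChk trow pt2 nt2) 3840 220 = true := by decide +kernel

theorem aut_acc1 : allRange (autChk trow pt2 nt2) 0 512 = true :=
  allRange_append _ 256 0 256 aut_0 aut_1

theorem aut_acc2 : allRange (autChk trow pt2 nt2) 0 768 = true :=
  allRange_append _ 512 0 256 aut_acc1 aut_2

theorem aut_acc3 : allRange (autChk trow pt2 nt2) 0 1024 = true :=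
  allRange_append _ 768 0 256 aut_acc2 aut_3

theorem aut_acc4 : allRange (autChk trow pt2 nt2) 0 1280 = true :=
  allRange_append _ 1024 0 256 aut_acc3 aut_4

theorem aut_acc5 : allRange (autChk trow pt2 nt2) 0 1536 = true :=
  allRange_append _ 1280 0 256 aut_acc4 aut_5

theorem aut_acc6 : allRange (autChk trow pt2 nt2) 0 1792 = true :=
  allRange_append _ 1536 0 256 aut_acc5 aut_6

theorem aut_acc7 : allRange (autChk trow pt2 nt2) 0 2048 = true :=
  allRange_append _ 1792 0 256 aut_acc6 aut_7

theorem aut_acc8 : allRange (autChk trow pt2 nt2) 0 2304 = true :=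
  allRange_append _ 2048 0 256 aut_acc7 aut_8

theorem aut_acc9 : allRange (autChk trow pt2 nt2) 0 2560 = true :=
  allRange_append _ 2304 0 256 aut_acc8 aut_9

theorem aut_acc10 : allRange (autChk trow pt2 nt2) 0 2816 = true :=
  allRange_append _ 2560 0 256 aut_acc9 aut_10

theorem aut_acc11 : allRange (autChk trow pt2 nt2) 0 3072 = true :=
  allRange_append _ 2816 0 256 aut_acc10 aut_11

theorem aut_acc12 : allRange (autChk trow pt2 nt2) 0 3328 = true :=
  allRange_append _ 3072 0 256 aut_acc11 aut_12

theorem aut_acc13 : allRange (autChk trow pt2 nt2) 0 3584 = true :=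
  allRange_append _ 3328 0 256 aut_acc12 aut_13

theorem aut_acc14 : allRange (autChk trow pt2 nt2) 0 3840 = true :=
  allRange_append _ 3584 0 256 aut_acc13 aut_14

theorem aut : allRange (autChk trow pt2 nt2) 0 4060 = true :=
  allRange_append _ 3840 0 220 aut_acc14 aut_15

theorem tau_0 : allRange (tauChk pt2 nt2) 0 1024 = true := by decide +kernel

theorem tau_1 : allRange (tauChk pt2 nt2) 1024 1024 = true := by decide +kernel

theorem tau_2 : allRange (tauChk pt2 nt2) 2048 1024 = true := by decide +kernel

theorem tau_3 : allRange (tauChk pt2 nt2) 3072 988 = true := by decide +kernel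

theorem tau_acc1 : allRange (tauChk pt2 nt2) 0 2048 = true :=
  allRange_append _ 1024 0 1024 tau_0 tau_1

theorem tau_acc2 : allRange (tauChk pt2 nt2) 0 3072 = true :=
  allRange_append _ 2048 0 1024 tau_acc1 tau_2

theorem tau : allRange (tauChk pt2 nt2) 0 4060 = true :=
  allRange_append _ 3072 0 988 tau_acc2 tau_3


end Cfsg.Agent.Lib.Helper9.RuChk5
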