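import Cfsg.Agent.Lib.Helper9.RuTree
import Cfsg.Agent.Lib.Helper9.RuRows
import Cfsg.Agent.Lib.Helper9.RuRowsTh
import Cfsg.Agent.Lib.Helper9.RuPermData
import Cfsg.Agent.Lib.Helper9.RuNetData
import Cfsg.Agent.Lib.Helper9.RuTreeData
import Cfsg.Agent.Lib.Helper9.RuCertData

set_option autoImplicit false

namespace Cfsg.Agent.Lib.Helper9.RuChk6

open Cfsg.Agent.Lib.Helper9.RuBits Cfsg.Agent.Lib.Helper9.RuNet Cfsg.Agent.Lib.Helper9.RuPerm Cfsg.Agent.Lib.Helper9.RuGraph Cfsg.Agent.Lib.Helper9.RuTree
  Cfsg.Agent.Lib.Helper9.RuPermData Cfsg.Agent.Lib.Helper9.RuNetData Cfsg.Agent.Lib.Helper9.RuTreeData Cfsg.Agent.Lib.Helper9.RuCertData Cfsg.Agent.Lib.Helper9.RuRows Cfsg.Agent.Lib.Helper9.RuRowsTh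

theorem bdg_0 : allRange (rowBd 4060 grow) 0 2048 = true := by decide +kernel

theorem bdg_1 : allRange (rowBd 4060 grow) 2048 2012 = true := by decide +kernel

theorem bdg : allRange (rowBd 4060 grow) 0 4060 = true :=
  allRange_append _ 2048 0 2012 bdg_0 bdg_1

theorem bdt_0 : allRange (rowBd 4060 trow) 0 2048 = true := by decide +kernel

theorem bdt_1 : allRange (rowBd 4060 trow) 2048 2012 = true := by decide +kernel

theorem bdt : allRange (rowBd 4060 trow) 0 4060 = true :=
  allRange_append _ 2048 0 2012 bdt_0 bdt_1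

theorem w1_0 : allRange (fun v => walk q steps1 (grow v) v (initc [0] v) (finClass mskB kfin1 v)) 0 1024 = true := by decide +kernel

theorem w1_1 : allRange (fun v => walk q steps1 (grow v) v (initc [0] v) (finClass mskB kfin1 v)) 1024 1024 = true := by decide +kernel

theorem w1_2 : allRange (fun v => walk q steps1 (grow v) v (initc [0] v) (finClass mskB kfin1 v)) 2048 1024 = true := by decide +kernel

theorem w1_3 : allRange (fun v => walk q steps1 (grow v) v (initc [0] v) (finClass mskB kfin1 v)) 3072 988 = true := by decide +kernel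

theorem w1_acc1 : allRange (fun v => walk q steps1 (grow v) v (initc [0] v) (finClass mskB kfin1 v)) 0 2048 = true :=
  allRange_append _ 1024 0 1024 w1_0 w1_1

theorem w1_acc2 : allRange (fun v => walk q steps1 (grow v) v (initc [0] v) (finClass mskB kfin1 v)) 0 3072 = true :=
  allRange_append _ 2048 0 1024 w1_acc1 w1_2

theorem w1 : allRange (fun v => walk q steps1 (grow v) v (initc [0] v) (finClass mskB kfin1 v)) 0 4060 = true :=
  allRange_append _ 3072 0 988 w1_acc2 w1_3

theorem w2_0 : allRange (fun v => walk q steps2 (grow v) v (initc [0, 1] v) (finClass mskC kfin2 v)) 0 1024 = true := by decide +kernel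

theorem w2_1 : allRange (fun v => walk q steps2 (grow v) v (initc [0, 1] v) (finClass mskC kfin2 v)) 1024 1024 = true := by decide +kernel

theorem w2_2 : allRange (fun v => walk q steps2 (grow v) v (initc [0, 1] v) (finClass mskC kfin2 v)) 2048 1024 = true := by decide +kernel

theorem w2_3 : allRange (fun v => walk q steps2 (grow v) v (initc [0, 1] v) (finClass mskC kfin2 v)) 3072 988 = true := by decide +kernel

theorem w2_acc1 : allRange (fun v => walk q steps2 (grow v) v (initc [0, 1] v) (finClass mskC kfin2 v)) 0 2048 = true :=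
  allRange_append _ 1024 0 1024 w2_0 w2_1

theorem w2_acc2 : allRange (fun v => walk q steps2 (grow v) v (initc [0, 1] v) (finClass mskC kfin2 v)) 0 3072 = true :=
  allRange_append _ 2048 0 1024 w2_acc1 w2_2

theorem w2 : allRange (fun v => walk q steps2 (grow v) v (initc [0, 1] v) (finClass mskC kfin2 v)) 0 4060 = true :=
  allRange_append _ 3072 0 988 w2_acc2 w2_3

theorem w3_0 : allRange (fun v => walk q steps3 (grow v) v (initc [0, 1, 2] v) (finClass mskD kfin3 v)) 0 1024 = true := by decide +kernel

theorem w3_1 : allRange (fun v => walk q steps3 (grow v) v (initc [0, 1, 2] v) (finClass mskD kfin3 v)) 1024 1024 = true := by decide +kernel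

theorem w3_2 : allRange (fun v => walk q steps3 (grow v) v (initc [0, 1, 2] v) (finClass mskD kfin3 v)) 2048 1024 = true := by decide +kernel

theorem w3_3 : allRange (fun v => walk q steps3 (grow v) v (initc [0, 1, 2] v) (finClass mskD kfin3 v)) 3072 988 = true := by decide +kernel

theorem w3_acc1 : allRange (fun v => walk q steps3 (grow v) v (initc [0, 1, 2] v) (finClass mskD kfin3 v)) 0 2048 = true :=
  allRange_append _ 1024 0 1024 w3_0 w3_1

theorem w3_acc2 : allRange (fun v => walk q steps3 (grow v) v (initc [0, 1, 2] v) (finClass mskD kfin3 v)) 0 3072 = true :=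
  allRange_append _ 2048 0 1024 w3_acc1 w3_2

theorem w3 : allRange (fun v => walk q steps3 (grow v) v (initc [0, 1, 2] v) (finClass mskD kfin3 v)) 0 4060 = true :=
  allRange_append _ 3072 0 988 w3_acc2 w3_3


end Cfsg.Agent.Lib.Helper9.RuChk6
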