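import Cfsg.Agent.Lib.Helper9.RuTree
import Cfsg.Agent.Lib.Helper9.RuRows
import Cfsg.Agent.Lib.Helper9.RuRowsTh
import Cfsg.Agent.Lib.Helper9.RuPermData
import Cfsg.Agent.Lib.Helper9.RuNetData
import Cfsg.Agent.Lib.Helper9.RuTreeData
import Cfsg.Agent.Lib.Helper9.RuCertData

set_option autoImplicit false

namespace Cfsg.Agent.Lib.Helper9.RuChk7

open Cfsg.Agent.Lib.Helper9.RuBits Cfsg.Agent.Lib.Helper9.RuNet Cfsg.Agent.Lib.Helper9.RuPerm Cfsg.Agent.Lib.Helper9.RuGraph Cfsg.Agent.Lib.Helper9.RuTree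
  Cfsg.Agent.Lib.Helper9.RuPermData Cfsg.Agent.Lib.Helper9.RuNetData Cfsg.Agent.Lib.Helper9.RuTreeData Cfsg.Agent.Lib.Helper9.RuCertData Cfsg.Agent.Lib.Helper9.RuRows Cfsg.Agent.Lib.Helper9.RuRowsTh

theorem w4_0 : allRange (fun v => walk q steps4 (grow v) v (initc [0, 1, 2, 3] v) (finDisc 4060 ks4 li4 lp4 v)) 0 256 = true := by decide +kernel

theorem w4_1 : allRange (fun v => walk q steps4 (grow v) v (initc [0, 1, 2, 3] v) (finDisc 4060 ks4 li4 lp4 v)) 256 256 = true := by decide +kernel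

theorem w4_2 : allRange (fun v => walk q steps4 (grow v) v (initc [0, 1, 2, 3] v) (finDisc 4060 ks4 li4 lp4 v)) 512 256 = true := by decide +kernel

theorem w4_3 : allRange (fun v => walk q steps4 (grow v) v (initc [0, 1, 2, 3] v) (finDisc 4060 ks4 li4 lp4 v)) 768 256 = true := by decide +kernel

theorem w4_4 : allRange (fun v => walk q steps4 (grow v) v (initc [0, 1, 2, 3] v) (finDisc 4060 ks4 li4 lp4 v)) 1024 256 = true := by decide +kernel

theorem w4_5 : allRange (fun v => walk q steps4 (grow v) v (initc [0, 1, 2, 3] v) (finDisc 4060 ks4 li4 lp4 v)) 1280 256 = true := by decide +kernel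

theorem w4_6 : allRange (fun v => walk q steps4 (grow v) v (initc [0, 1, 2, 3] v) (finDisc 4060 ks4 li4 lp4 v)) 1536 256 = true := by decide +kernel

theorem w4_7 : allRange (fun v => walk q steps4 (grow v) v (initc [0, 1, 2, 3] v) (finDisc 4060 ks4 li4 lp4 v)) 1792 256 = true := by decide +kernel

theorem w4_8 : allRange (fun v => walk q steps4 (grow v) v (initc [0, 1, 2, 3] v) (finDisc 4060 ks4 li4 lp4 v)) 2048 256 = true := by decide +kernel

theorem w4_9 : allRange (fun v => walk q steps4 (grow v) v (initc [0, 1, 2, 3] v) (finDisc 4060 ks4 li4 lp4 v)) 2304 256 = true := by decide +kernel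

theorem w4_10 : allRange (fun v => walk q steps4 (grow v) v (initc [0, 1, 2, 3] v) (finDisc 4060 ks4 li4 lp4 v)) 2560 256 = true := by decide +kernel

theorem w4_11 : allRange (fun v => walk q steps4 (grow v) v (initc [0, 1, 2, 3] v) (finDisc 4060 ks4 li4 lp4 v)) 2816 256 = true := by decide +kernel

theorem w4_12 : allRange (fun v => walk q steps4 (grow v) v (initc [0, 1, 2, 3] v) (finDisc 4060 ks4 li4 lp4 v)) 3072 256 = true := by decide +kernel

theorem w4_13 : allRange (fun v => walk q steps4 (grow v) v (initc [0, 1, 2, 3] v) (finDisc 4060 ks4 li4 lp4 v)) 3328 256 = true := by decide +kernel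

theorem w4_14 : allRange (fun v => walk q steps4 (grow v) v (initc [0, 1, 2, 3] v) (finDisc 4060 ks4 li4 lp4 v)) 3584 256 = true := by decide +kernel

theorem w4_15 : allRange (fun v => walk q steps4 (grow v) v (initc [0, 1, 2, 3] v) (finDisc 4060 ks4 li4 lp4 v)) 3840 220 = true := by decide +kernel

theorem w4_acc1 : allRange (fun v => walk q steps4 (grow v) v (initc [0, 1, 2, 3] v) (finDisc 4060 ks4 li4 lp4 v)) 0 512 = true :=
  allRange_append _ 256 0 256 w4_0 w4_1

theorem w4_acc2 : allRange (fun v => walk q steps4 (grow v) v (initc [0, 1, 2, 3] v) (finDisc 4060 ks4 li4 lp4 v)) 0 768 = true :=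
  allRange_append _ 512 0 256 w4_acc1 w4_2

theorem w4_acc3 : allRange (fun v => walk q steps4 (grow v) v (initc [0, 1, 2, 3] v) (finDisc 4060 ks4 li4 lp4 v)) 0 1024 = true :=
  allRange_append _ 768 0 256 w4_acc2 w4_3

theorem w4_acc4 : allRange (fun v => walk q steps4 (grow v) v (initc [0, 1, 2, 3] v) (finDisc 4060 ks4 li4 lp4 v)) 0 1280 = true :=
  allRange_append _ 1024 0 256 w4_acc3 w4_4

theorem w4_acc5 : allRange (fun v => walk q steps4 (grow v) v (initc [0, 1, 2, 3] v) (finDisc 4060 ks4 li4 lp4 v)) 0 1536 = true :=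
  allRange_append _ 1280 0 256 w4_acc4 w4_5

theorem w4_acc6 : allRange (fun v => walk q steps4 (grow v) v (initc [0, 1, 2, 3] v) (finDisc 4060 ks4 li4 lp4 v)) 0 1792 = true :=
  allRange_append _ 1536 0 256 w4_acc5 w4_6

theorem w4_acc7 : allRange (fun v => walk q steps4 (grow v) v (initc [0, 1, 2, 3] v) (finDisc 4060 ks4 li4 lp4 v)) 0 2048 = true :=
  allRange_append _ 1792 0 256 w4_acc6 w4_7

theorem w4_acc8 : allRange (fun v => walk q steps4 (grow v) v (initc [0, 1, 2, 3] v) (finDisc 4060 ks4 li4 lp4 v)) 0 2304 = true :=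
  allRange_append _ 2048 0 256 w4_acc7 w4_8

theorem w4_acc9 : allRange (fun v => walk q steps4 (grow v) v (initc [0, 1, 2, 3] v) (finDisc 4060 ks4 li4 lp4 v)) 0 2560 = true :=
  allRange_append _ 2304 0 256 w4_acc8 w4_9

theorem w4_acc10 : allRange (fun v => walk q steps4 (grow v) v (initc [0, 1, 2, 3] v) (finDisc 4060 ks4 li4 lp4 v)) 0 2816 = true :=
  allRange_append _ 2560 0 256 w4_acc9 w4_10

theorem w4_acc11 : allRange (fun v => walk q steps4 (grow v) v (initc [0, 1, 2, 3] v) (finDisc 4060 ks4 li4 lp4 v)) 0 3072 = true :=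
  allRange_append _ 2816 0 256 w4_acc10 w4_11

theorem w4_acc12 : allRange (fun v => walk q steps4 (grow v) v (initc [0, 1, 2, 3] v) (finDisc 4060 ks4 li4 lp4 v)) 0 3328 = true :=
  allRange_append _ 3072 0 256 w4_acc11 w4_12

theorem w4_acc13 : allRange (fun v => walk q steps4 (grow v) v (initc [0, 1, 2, 3] v) (finDisc 4060 ks4 li4 lp4 v)) 0 3584 = true :=
  allRange_append _ 3328 0 256 w4_acc12 w4_13

theorem w4_acc14 : allRange (fun v => walk q steps4 (grow v) v (initc [0, 1, 2, 3] v) (finDisc 4060 ks4 li4 lp4 v)) 0 3840 = true :=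
  allRange_append _ 3584 0 256 w4_acc13 w4_14

theorem w4 : allRange (fun v => walk q steps4 (grow v) v (initc [0, 1, 2, 3] v) (finDisc 4060 ks4 li4 lp4 v)) 0 4060 = true :=
  allRange_append _ 3840 0 220 w4_acc14 w4_15

theorem inc_0 : allRange (incChk ks4) 0 2048 = true := by decide +kernel

theorem inc_1 : allRange (incChk ks4) 2048 2011 = true := by decide +kernel

theorem inc : allRange (incChk ks4) 0 4059 = true :=
  allRange_append _ 2048 0 2011 inc_0 inc_1


end Cfsg.Agent.Lib.Helper9.RuChk7
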