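import Cfsg.Agent.Lib.Helper9.RuTree
import Cfsg.Agent.Lib.Helper9.RuRows
import Cfsg.Agent.Lib.Helper9.RuRowsTh
import Cfsg.Agent.Lib.Helper9.RuPermData
import Cfsg.Agent.Lib.Helper9.RuNetData
import Cfsg.Agent.Lib.Helper9.RuTreeData
import Cfsg.Agent.Lib.Helper9.RuCertData

set_option autoImplicit false

namespace Cfsg.Agent.Lib.Helper9.RuChk8

open Cfsg.Agent.Lib.Helper9.RuBits Cfsg.Agent.Lib.Helper9.RuNet Cfsg.Agent.Lib.Helper9.RuPerm Cfsg.Agent.Lib.Helper9.RuGraph Cfsg.Agent.Lib.Helper9.RuTree
  Cfsg.Agent.Lib.Helper9.RuPermData Cfsg.Agent.Lib.Helper9.RuNetData Cfsg.Agent.Lib.Helper9.RuTreeData Cfsg.Agent.Lib.Helper9.RuCertData Cfsg.Agent.Lib.Helper9.RuRows Cfsg.Agent.Lib.Helper9.RuRowsTh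

theorem treeA : allRange (treeChk [pg1, pg2, pg1i, pg2i] orbA parA letA) 0 4059 = true := by decide +kernel

theorem covA : allRange (coverChk mskA orbA posA 4060) 0 4060 = true := by decide +kernel

theorem rootA : ev orbA 0 = 0 := by decide +kernel

theorem cardA : popc mskA = 4060 := by decide +kernel

theorem bdA : mskA < 2 ^ 4060 := by decide +kernel

theorem treeB : allRange (treeChk [pt1, pt2, pt1i, pt2i] orbB parB letB) 0 1754 = true := by decide +kernel

theorem covB : allRange (coverChk mskB orbB posB 1755) 0 4060 = true := by decide +kernel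

theorem rootB : ev orbB 0 = 1 := by decide +kernel

theorem cardB : popc mskB = 1755 := by decide +kernel

theorem bdB : mskB < 2 ^ 4060 := by decide +kernel

theorem treeC : allRange (treeChk [pu1, pu2, pu1i, pu2i] orbC parC letC) 0 1023 = true := by decide +kernel

theorem covC : allRange (coverChk mskC orbC posC 1024) 0 4060 = true := by decide +kernel

theorem rootC : ev orbC 0 = 2 := by decide +kernel

theorem cardC : popc mskC = 1024 := by decide +kernel

theorem bdC : mskC < 2 ^ 4060 := by decide +kernel

theorem treeD : allRange (treeChk [pq1, pq2, py, pyi] orbD parD letD) 0 19 = true := by decide +kernel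

theorem covD : allRange (coverChk mskD orbD posD 20) 0 4060 = true := by decide +kernel

theorem rootD : ev orbD 0 = 3 := by decide +kernel

theorem cardD : popc mskD = 20 := by decide +kernel

theorem bdD : mskD < 2 ^ 4060 := by decide +kernel

theorem treeDT : allRange (treeChk [pq1, pq2] orbDT parDT letDT) 0 9 = true := by decide +kernel

theorem covDT : allRange (coverChk mskDT orbDT posDT 10) 0 4060 = true := by decide +kernel

theorem rootDT : ev orbDT 0 = 3 := by decide +kernel

theorem cardDT : popc mskDT = 10 := by decide +kernel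

theorem bdDT : mskDT < 2 ^ 4060 := by decide +kernel

theorem treeE : allRange (treeChk [pt1, pt2, pt1i, pt2i] orbE parE letE) 0 2303 = true := by decide +kernel

theorem covE : allRange (coverChk mskE orbE posE 2304) 0 4060 = true := by decide +kernel

theorem rootE : ev orbE 0 = 1756 := by decide +kernel

theorem cardE : popc mskE = 2304 := by decide +kernel

theorem bdE : mskE < 2 ^ 4060 := by decide +kernel

theorem treeF10 : allRange (treeChk [pu1, pu2, pu1i, pu2i] orbF10 parF10 letF10) 0 9 = true := by decide +kernel

theorem covF10 : allRange (coverChk mskF10 orbF10 posF10 10) 0 4060 = true := by decide +kernel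

theorem rootF10 : ev orbF10 0 = 1026 := by decide +kernel

theorem cardF10 : popc mskF10 = 10 := by decide +kernel

theorem bdF10 : mskF10 < 2 ^ 4060 := by decide +kernel

theorem treeF640 : allRange (treeChk [pu1, pu2, pu1i, pu2i] orbF640 parF640 letF640) 0 639 = true := by decide +kernel

theorem covF640 : allRange (coverChk mskF640 orbF640 posF640 640) 0 4060 = true := by decide +kernel

theorem rootF640 : ev orbF640 0 = 1027 := by decide +kernel

theorem cardF640 : popc mskF640 = 640 := by decide +kernel

theorem bdF640 : mskF640 < 2 ^ 4060 := by decide +kernel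

theorem treeF80 : allRange (treeChk [pu1, pu2, pu1i, pu2i] orbF80 parF80 letF80) 0 79 = true := by decide +kernel

theorem covF80 : allRange (coverChk mskF80 orbF80 posF80 80) 0 4060 = true := by decide +kernel

theorem rootF80 : ev orbF80 0 = 1540 := by decide +kernel

theorem cardF80 : popc mskF80 = 80 := by decide +kernel

theorem bdF80 : mskF80 < 2 ^ 4060 := by decide +kernel


end Cfsg.Agent.Lib.Helper9.RuChk8
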