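import Cfsg.Agent.Lib.Helper9.RuTree
import Cfsg.Agent.Lib.Helper9.RuRows
import Cfsg.Agent.Lib.Helper9.RuRowsTh
import Cfsg.Agent.Lib.Helper9.RuPermData
import Cfsg.Agent.Lib.Helper9.RuNetData
import Cfsg.Agent.Lib.Helper9.RuTreeData
import Cfsg.Agent.Lib.Helper9.RuCertData

set_option autoImplicit false

namespace Cfsg.Agent.Lib.Helper9.RuChk9

open Cfsg.Agent.Lib.Helper9.RuBits Cfsg.Agent.Lib.Helper9.RuNet Cfsg.Agent.Lib.Helper9.RuPerm Cfsg.Agent.Lib.Helper9.RuGraph Cfsg.Agent.Lib.Helper9.RuTree
  Cfsg.Agent.Lib.Helper9.RuPermData Cfsg.Agent.Lib.Helper9.RuNetData Cfsg.Agent.Lib.Helper9.RuTreeData Cfsg.Agent.Lib.Helper9.RuCertData Cfsg.Agent.Lib.Helper9.RuRows Cfsg.Agent.Lib.Helper9.RuRowsTh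

theorem allA : allRange (fun v => mskA.testBit v) 0 4060 = true := by decide +kernel

theorem covH : allRange (fun v => Nat.beq v 0 || (mskB.testBit v || mskE.testBit v)) 0 4060 = true := by decide +kernel

theorem covT : allRange (fun v => !(mskB.testBit v) || (Nat.beq v 1 || (mskF10.testBit v || (mskF80.testBit v || (mskF640.testBit v || mskC.testBit v))))) 0 4060 = true := by decide +kernel

theorem subT : allRange (fun v => !(mskF10.testBit v || (mskF80.testBit v || (mskF640.testBit v || mskC.testBit v))) || mskB.testBit v) 0 4060 = true := by decide +kernel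

theorem dj_0_1 : mskF10 &&& mskF80 = 0 := by decide +kernel

theorem dj_0_2 : mskF10 &&& mskF640 = 0 := by decide +kernel

theorem dj_0_3 : mskF10 &&& mskC = 0 := by decide +kernel

theorem dj_1_2 : mskF80 &&& mskF640 = 0 := by decide +kernel

theorem dj_1_3 : mskF80 &&& mskC = 0 := by decide +kernel

theorem dj_2_3 : mskF640 &&& mskC = 0 := by decide +kernel

theorem dj_BE : mskB &&& mskE = 0 := by decide +kernel

theorem nb0 : mskB.testBit 0 = false := by decide +kernel

theorem ne0 : mskE.testBit 0 = false := by decide +kernel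

theorem n1_mskF10 : mskF10.testBit 1 = false := by decide +kernel

theorem n1_mskF80 : mskF80.testBit 1 = false := by decide +kernel

theorem n1_mskF640 : mskF640.testBit 1 = false := by decide +kernel

theorem n1_mskC : mskC.testBit 1 = false := by decide +kernel

theorem b1 : mskB.testBit 1 = true := by decide +kernel

theorem b2 : mskC.testBit 2 = true := by decide +kernel

theorem b3 : mskD.testBit 3 = true := by decide +kernel

theorem b3T : mskDT.testBit 3 = true := by decide +kernel

theorem bB2 : mskB.testBit 2 = true := by decide +kernel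

theorem bB3 : mskB.testBit 3 = true := by decide +kernel

theorem wit1 : (trow 1).testBit 2396 = true := by decide +kernel

theorem wit2 : (trow (ev ph 1)).testBit (ev ph 2396) = false := by decide +kernel


end Cfsg.Agent.Lib.Helper9.RuChk9
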