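import Cfsg.Agent.Lib.Helper9.RuNet
import Cfsg.Agent.Lib.Helper9.Chain1

set_option autoImplicit false

/-! Permutations stored as natural numbers, twelve bits for each image. -/

namespace Cfsg.Agent.Lib.Helper9.RuPerm

open Cfsg.Agent.Lib.Helper9.RuNet

/-- the image of `x` under the stored map `P` -/
def ev (P x : ℕ) : ℕ := Nat.land (Nat.shiftRight P (Nat.mul 12 x)) 4095

/-- the image of `x` under a word, first letter applied first -/
def evw : List ℕ → ℕ → ℕ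
  | [], x => x
  | A :: rest, x => evw rest (ev A x)

variable {n : ℕ}

/-- the stored map `L` is the table of an element of `K` -/
def Rep (K : Subgroup (Equiv.Perm (Fin n))) (L : ℕ) : Prop :=
  ∃ σ ∈ K, ∀ x : Fin n, ((σ x : Fin n) : ℕ) = ev L x

theorem Rep.mono {K K' : Subgroup (Equiv.Perm (Fin n))} (h : K ≤ K') {L : ℕ} (hL : Rep K L) :
    Rep K' L := by
  obtain ⟨σ, hσ, hx⟩ := hL
  exact ⟨σ, h hσ, hx⟩

theorem rep_word (K : Subgroup (Equiv.Perm (Fin n))) : ∀ (Ls : List ℕ), (∀ A ∈ Ls, Rep K A) →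
    ∃ σ ∈ K, ∀ x : Fin n, ((σ x : Fin n) : ℕ) = evw Ls x := by
  intro Ls
  induction Ls with
  | nil => intro _; exact ⟨1, K.one_mem, fun x => rfl⟩
  | cons A rest ih =>
    intro h
    obtain ⟨σ, hσ, hx⟩ := h A (List.mem_cons_self ..)
    obtain ⟨ρ, hρ, hy⟩ := ih (fun B hB => h B (List.mem_cons_of_mem _ hB))
    refine ⟨ρ * σ, K.mul_mem hρ hσ, fun x => ?_⟩
    rw [Equiv.Perm.mul_apply, hy, hx, evw]

/-- the table `L` agrees with a word in tables of elements of `K` -/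
theorem Rep.of_word (K : Subgroup (Equiv.Perm (Fin n))) (Ls : List ℕ) (L : ℕ)
    (h : ∀ A ∈ Ls, Rep K A) (hw : ∀ x < n, evw Ls x = ev L x) : Rep K L := by
  obtain ⟨σ, hσ, hx⟩ := rep_word K Ls h
  exact ⟨σ, hσ, fun x => by rw [hx, hw x x.2]⟩

theorem Rep.inv {K : Subgroup (Equiv.Perm (Fin n))} {L : ℕ} (hL : Rep K L) (L' : ℕ)
    (hw : ∀ x < n, ev L' (ev L x) = x) : Rep K L' := by
  obtain ⟨σ, hσ, hx⟩ := hL
  refine ⟨σ⁻¹, K.inv_mem hσ, fun y => ?_⟩
  have h1 := hx (σ⁻¹ y)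
  have e : σ (σ⁻¹ y) = y := σ.apply_symm_apply y
  rw [e] at h1
  rw [h1, hw _ (σ⁻¹ y).2]

theorem Rep.inf_stab {K : Subgroup (Equiv.Perm (Fin n))} {L : ℕ} (hL : Rep K L) (b : Fin n)
    (hb : ev L b = b) : Rep (K ⊓ MulAction.stabilizer (Equiv.Perm (Fin n)) b) L := by
  obtain ⟨σ, hσ, hx⟩ := hL
  refine ⟨σ, (Cfsg.Agent.Lib.Helper9.Chain1.mem_inf_stab K b σ).mpr ⟨hσ, ?_⟩, hx⟩
  exact Fin.ext (by rw [hx, hb])

/-- `P` and `Q` are tables of mutually inverse maps of the numbers below `n` -/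
def permOK (n P Q : ℕ) : Bool :=
  allRange (fun x => Nat.blt (ev P x) n && Nat.beq (ev Q (ev P x)) x &&
    (Nat.blt (ev Q x) n && Nat.beq (ev P (ev Q x)) x)) 0 n

theorem permOK_spec {P Q : ℕ} (h : permOK n P Q = true) (x : ℕ) (hx : x < n) :
    (ev P x < n ∧ ev Q (ev P x) = x) ∧ (ev Q x < n ∧ ev P (ev Q x) = x) := by
  have := allRange_spec _ n 0 h x (Nat.zero_le _) (by omega)
  simp only [Bool.and_eq_true] at this
  exact ⟨⟨Nat.le_of_ble_eq_true this.1.1, Nat.eq_of_beq_eq_true this.1.2⟩,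
    ⟨Nat.le_of_ble_eq_true this.2.1, Nat.eq_of_beq_eq_true this.2.2⟩⟩

/-- the permutation with table `P` -/
def mkPerm (P Q : ℕ) (h : permOK n P Q = true) : Equiv.Perm (Fin n) where
  toFun x := ⟨ev P x, (permOK_spec h x x.2).1.1⟩
  invFun x := ⟨ev Q x, (permOK_spec h x x.2).2.1⟩
  left_inv x := Fin.ext (permOK_spec h x x.2).1.2
  right_inv x := Fin.ext (permOK_spec h x x.2).2.2

theorem mkPerm_apply (P Q : ℕ) (h : permOK n P Q = true) (x : Fin n) :
    ((mkPerm P Q h x : Fin n) : ℕ) = ev P x := rfl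

/-- a permutation with a table of order dividing `k` has order dividing `k` -/
theorem pow_eq_one_of_table (σ : Equiv.Perm (Fin n)) (L : ℕ) (k : ℕ)
    (hσ : ∀ x : Fin n, ((σ x : Fin n) : ℕ) = ev L x)
    (hk : ∀ x < n, evw (List.replicate k L) x = x) : σ ^ k = 1 := by
  have key : ∀ (j : ℕ) (x : Fin n), (((σ ^ j) x : Fin n) : ℕ) = evw (List.replicate j L) x := by
    intro j
    induction j with
    | zero => intro x; rfl
    | succ j ih =>
      intro x
      rw [pow_succ, Equiv.Perm.mul_apply, ih, hσ, List.replicate_succ, evw]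
  ext x
  rw [key k x, hk x x.2]
  rfl

/-- `L'` undoes `L` at `x` -/
def invChk (L L' x : ℕ) : Bool := Nat.beq (ev L' (ev L x)) x

/-- the word `Ls` and the table `L` agree at `x` -/
def wordChk (Ls : List ℕ) (L x : ℕ) : Bool := Nat.beq (evw Ls x) (ev L x)

/-- the `k`-th power of `L` fixes `x` -/
def ordChk (k L x : ℕ) : Bool := Nat.beq (evw (List.replicate k L) x) x

theorem allRange_all (f : ℕ → Bool) (n : ℕ) (h : allRange f 0 n = true) : ∀ x < n, f x = true :=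
  fun x hx => allRange_spec f n 0 h x (Nat.zero_le _) (by omega)

theorem Rep.inv' {K : Subgroup (Equiv.Perm (Fin n))} {L : ℕ} (hL : Rep K L) (L' : ℕ)
    (h : allRange (invChk L L') 0 n = true) : Rep K L' :=
  hL.inv L' (fun x hx => Nat.eq_of_beq_eq_true (allRange_all _ n h x hx))

theorem Rep.of_word' (K : Subgroup (Equiv.Perm (Fin n))) (Ls : List ℕ) (L : ℕ)
    (h : ∀ A ∈ Ls, Rep K A) (hw : allRange (wordChk Ls L) 0 n = true) : Rep K L :=
  Rep.of_word K Ls L h (fun x hx => Nat.eq_of_beq_eq_true (allRange_all _ n hw x hx))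

theorem pow_eq_one_of_table' (σ : Equiv.Perm (Fin n)) (L : ℕ) (k : ℕ)
    (hσ : ∀ x : Fin n, ((σ x : Fin n) : ℕ) = ev L x)
    (hk : allRange (ordChk k L) 0 n = true) : σ ^ k = 1 :=
  pow_eq_one_of_table σ L k hσ (fun x hx => Nat.eq_of_beq_eq_true (allRange_all _ n hk x hx))

end Cfsg.Agent.Lib.Helper9.RuPerm
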