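import Cfsg.Agent.Lib.Helper9.RuBits
import Cfsg.Agent.Lib.Helper9.RuPerm

set_option autoImplicit false

/-! Automorphisms of a graph given by the bit masks of its rows, and colourings of the vertices
that are constant on the orbits of a group of automorphisms. -/

namespace Cfsg.Agent.Lib.Helper9.RuGraph

open Cfsg.Agent.Lib.Helper9.RuBits Cfsg.Agent.Lib.Helper9.RuNet Cfsg.Agent.Lib.Helper9.RuPerm
  Cfsg.Agent.Lib.Helper9.Chain1

variable (n : ℕ) (row : ℕ → ℕ)

/-- `σ` preserves the relation with rows `row` -/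
def IsAut (σ : Equiv.Perm (Fin n)) : Prop :=
  ∀ v w : Fin n, (row (σ v)).testBit (σ w) = (row v).testBit w

/-- the group of the relation with rows `row` -/
def Aut : Subgroup (Equiv.Perm (Fin n)) where
  carrier := {σ | IsAut n row σ}
  one_mem' := fun _ _ => rfl
  mul_mem' := by
    intro a b ha hb v w
    show (row ((a * b) v)).testBit ((a * b) w) = _
    rw [Equiv.Perm.mul_apply, Equiv.Perm.mul_apply, ha, hb]
  inv_mem' := by
    intro a ha v w
    have := ha (a⁻¹ v) (a⁻¹ w)
    rw [apply_inv_self', apply_inv_self'] at this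
    exact this.symm

theorem mem_Aut (σ : Equiv.Perm (Fin n)) : σ ∈ Aut n row ↔ IsAut n row σ := Iff.rfl

/-- the row of the image is the image of the row under the network -/
def autChk (g : ℕ) (stages : List (ℕ × ℕ)) (v : ℕ) : Bool :=
  Nat.beq (net stages (row v)) (row (ev g v))

/-- the network moves the bit at `w` to the image of `w` -/
def tauChk (g : ℕ) (stages : List (ℕ × ℕ)) (w : ℕ) : Bool :=
  Nat.beq (tau stages (ev g w)) w

theorem isAut_of_chk (σ : Equiv.Perm (Fin n)) (g : ℕ) (stages : List (ℕ × ℕ))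
    (hσ : ∀ x : Fin n, ((σ x : Fin n) : ℕ) = ev g x) (hok : okStages stages = true)
    (h1 : ∀ v < n, autChk row g stages v = true) (h2 : ∀ w < n, tauChk g stages w = true) :
    IsAut n row σ := by
  intro v w
  have e1 : net stages (row v) = row (ev g v) := Nat.eq_of_beq_eq_true (h1 v v.2)
  have e2 : tau stages (ev g w) = w := Nat.eq_of_beq_eq_true (h2 w w.2)
  rw [hσ v, hσ w, ← e1, testBit_net _ _ _ hok, e2]

/-- the row of `v` has no bits from `n` on -/
def rowBd (v : ℕ) : Bool := Nat.blt (row v) (Nat.pow 2 n)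

theorem rowBd_spec (h : allRange (rowBd n row) 0 n = true) : ∀ v < n, row v < 2 ^ n :=
  fun v hv => Nat.le_of_ble_eq_true (allRange_all _ n h v hv)

theorem isAut_of_chk' (σ : Equiv.Perm (Fin n)) (g : ℕ) (stages : List (ℕ × ℕ))
    (hσ : ∀ x : Fin n, ((σ x : Fin n) : ℕ) = ev g x) (hok : okStages stages = true)
    (h1 : allRange (autChk row g stages) 0 n = true)
    (h2 : allRange (tauChk g stages) 0 n = true) : IsAut n row σ :=
  isAut_of_chk n row σ g stages hσ hok (allRange_all _ n h1) (allRange_all _ n h2)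

/-- `c` is constant on the orbits of `S` -/
def Inv (S : Subgroup (Equiv.Perm (Fin n))) (c : ℕ → ℕ) : Prop :=
  ∀ σ ∈ S, ∀ v : Fin n, c (σ v) = c v

variable {n row}

theorem inv_count {S : Subgroup (Equiv.Perm (Fin n))} (hS : S ≤ Aut n row) {c : ℕ → ℕ}
    (hc : Inv n S c) (M κ : ℕ) (hn : n ≤ 4096) (hrow : ∀ v < n, row v < 2 ^ n)
    (hM : ∀ v < n, M.testBit v = Nat.beq (c v) κ) :
    Inv n S (fun v => popc (Nat.land (row v) M)) := by
  intro σ hσ v
  have hlt : ∀ u : Fin n, Nat.land (row u) M < 2 ^ n :=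
    fun u => lt_of_le_of_lt Nat.and_le_left (hrow u u.2)
  show popc (Nat.land (row (σ v)) M) = popc (Nat.land (row v) M)
  rw [popc_card n _ hn (hlt (σ v)), popc_card n _ hn (hlt v)]
  symm
  apply Finset.card_bijective σ σ.bijective
  intro w
  simp only [Finset.mem_filter, Finset.mem_univ, true_and]
  have e1 : (Nat.land (row v) M).testBit w = ((row v).testBit w && M.testBit w) :=
    Nat.testBit_and _ _ _
  have e2 : (Nat.land (row (σ v)) M).testBit (σ w) =
      ((row (σ v)).testBit (σ w) && M.testBit (σ w)) := Nat.testBit_and _ _ _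
  rw [e1, e2, hS hσ v w, hM w w.2, hM (σ w) (σ w).2, hc σ hσ w]

/-- the key of a vertex with row `r` after the steps -/
def wkey (q : ℕ) : List (ℕ × ℕ) → ℕ → ℕ → ℕ
  | [], _, key => key
  | s :: rest, r, key =>
    wkey q rest r (Nat.mod (Nat.add (Nat.mul key 4096) (popc (Nat.land r s.1))) q)

/-- the conditions on the vertex `v` with row `r` along the steps, and `fin` on its last key -/
def walk (q : ℕ) : List (ℕ × ℕ) → ℕ → ℕ → ℕ → (ℕ → Bool) → Bool
  | [], _, _, key, fin => fin key
  | s :: rest, r, v, key, fin =>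
    cond (s.1.testBit v) (Nat.beq key s.2) (!(Nat.beq key s.2)) &&
      walk q rest r v (Nat.mod (Nat.add (Nat.mul key 4096) (popc (Nat.land r s.1))) q) fin

theorem walk_fin (q : ℕ) : ∀ (steps : List (ℕ × ℕ)) (r v key : ℕ) (fin : ℕ → Bool),
    walk q steps r v key fin = true → fin (wkey q steps r key) = true := by
  intro steps
  induction steps with
  | nil => intro r v key fin h; exact h
  | cons s rest ih =>
    intro r v key fin h
    rw [walk, Bool.and_eq_true] at h
    exact ih _ _ _ _ h.2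

theorem cond_beq {a b : Bool} (h : cond a b (!b) = true) : a = b := by
  cases a <;> cases b <;> simp_all

theorem walk_inv {S : Subgroup (Equiv.Perm (Fin n))} (hS : S ≤ Aut n row) (hn : n ≤ 4096)
    (hrow : ∀ v < n, row v < 2 ^ n) (q : ℕ) :
    ∀ (steps : List (ℕ × ℕ)) (c : ℕ → ℕ) (fin : ℕ → ℕ → Bool), Inv n S c →
      (∀ v < n, walk q steps (row v) v (c v) (fin v) = true) →
      Inv n S (fun v => wkey q steps (row v) (c v)) := by
  intro steps
  induction steps with
  | nil => intro c fin hc _; exact hc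
  | cons s rest ih =>
    intro c fin hc h
    have hM : ∀ v < n, s.1.testBit v = Nat.beq (c v) s.2 := by
      intro v hv
      have := h v hv
      rw [walk, Bool.and_eq_true] at this
      exact cond_beq this.1
    have hcnt := inv_count hS hc s.1 s.2 hn hrow hM
    have hc1 : Inv n S (fun v => Nat.mod (Nat.add (Nat.mul (c v) 4096)
        (popc (Nat.land (row v) s.1))) q) := by
      intro σ hσ v
      have e1 : popc (Nat.land (row (σ v)) s.1) = popc (Nat.land (row v) s.1) := hcnt σ hσ v
      show Nat.mod (Nat.add (Nat.mul (c (σ v)) 4096) (popc (Nat.land (row (σ v)) s.1))) q =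
        Nat.mod (Nat.add (Nat.mul (c v) 4096) (popc (Nat.land (row v) s.1))) q
      rw [hc σ hσ v, e1]
    have := ih _ fin hc1 (fun v hv => by
      have := h v hv
      rw [walk, Bool.and_eq_true] at this
      exact this.2)
    exact this

/-- the colour of the base points -/
def initc : List ℕ → ℕ → ℕ
  | [], _ => 0
  | b :: rest, v => bif Nat.beq v b then rest.length + 1 else initc rest v

theorem initc_not_mem : ∀ (bs : List ℕ) (v : ℕ), v ∉ bs → initc bs v = 0 := by
  intro bs
  induction bs with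
  | nil => intro v _; rfl
  | cons b rest ih =>
    intro v hv
    rw [List.mem_cons, not_or] at hv
    have : Nat.beq v b = false := by
      rw [← Bool.not_eq_true]
      intro h
      exact hv.1 (Nat.eq_of_beq_eq_true h)
    rw [initc, this, cond_false]
    exact ih v hv.2

theorem inv_initc {S : Subgroup (Equiv.Perm (Fin n))} (bs : List ℕ)
    (hfix : ∀ σ ∈ S, ∀ x : Fin n, (x : ℕ) ∈ bs → σ x = x) : Inv n S (initc bs) := by
  intro σ hσ v
  by_cases hv : (v : ℕ) ∈ bs
  · rw [hfix σ hσ v hv]
  · have hv' : ((σ v : Fin n) : ℕ) ∉ bs := by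
      intro h
      have h1 := hfix σ hσ (σ v) h
      have h2 : σ v = v := σ.injective h1
      rw [h2] at h
      exact hv h
    rw [initc_not_mem bs _ hv, initc_not_mem bs _ hv']

/-- the set with mask `D` contains the class of the last key `κ` -/
def finClass (D κ v : ℕ) : ℕ → Bool :=
  fun key => cond (D.testBit v) (Nat.beq key κ) (!(Nat.beq key κ))

theorem walk_class {S : Subgroup (Equiv.Perm (Fin n))} (hS : S ≤ Aut n row) (hn : n ≤ 4096)
    (hrow : ∀ v < n, row v < 2 ^ n) (q : ℕ) (steps : List (ℕ × ℕ)) (c : ℕ → ℕ) (hc : Inv n S c)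
    (D κ : ℕ) (h : ∀ v < n, walk q steps (row v) v (c v) (finClass D κ v) = true)
    (b : Fin n) (hb : D.testBit b = true) : ∀ σ ∈ S, D.testBit (σ b : Fin n) = true := by
  intro σ hσ
  have hinv := walk_inv hS hn hrow q steps c (fun v => finClass D κ v) hc h
  have h1 := walk_fin q steps _ _ _ _ (h b b.2)
  have h2 := walk_fin q steps _ _ _ _ (h (σ b) (σ b).2)
  have e1 : D.testBit b = Nat.beq (wkey q steps (row b) (c b)) κ := cond_beq h1
  have e2 : D.testBit (σ b : Fin n) = Nat.beq (wkey q steps (row (σ b)) (c (σ b))) κ :=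
    cond_beq h2
  have e3 : wkey q steps (row (σ b)) (c (σ b)) = wkey q steps (row b) (c b) := hinv σ hσ b
  rw [e2, e3, ← e1, hb]

/-- the field of width 32 at `i` -/
def f32 (K i : ℕ) : ℕ := Nat.land (Nat.shiftRight K (Nat.mul 32 i)) 4294967295

/-- the last key of `v` is the entry of the sorted table at the rank of `v` -/
def finDisc (n KS LI LP v : ℕ) : ℕ → Bool :=
  fun key => Nat.beq key (f32 KS (ev LI v)) && (Nat.beq (ev LP (ev LI v)) v && Nat.blt (ev LI v) n)

/-- the table increases -/
def incChk (KS : ℕ) (i : ℕ) : Bool := Nat.blt (f32 KS i) (f32 KS (i + 1))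

theorem lt_of_inc (g : ℕ → ℕ) (m : ℕ) (h : ∀ i, i + 1 < m → g i < g (i + 1)) :
    ∀ j, j < m → ∀ i, i < j → g i < g j := by
  intro j
  induction j with
  | zero => intro _ i hi; omega
  | succ j ih =>
    intro hj i hi
    rcases Nat.eq_or_lt_of_le (Nat.le_of_lt_succ hi) with rfl | h2
    · exact h i hj
    · exact lt_trans (ih (by omega) i h2) (h j hj)

theorem walk_discrete {S : Subgroup (Equiv.Perm (Fin n))} (hS : S ≤ Aut n row) (hn : n ≤ 4096)
    (hrow : ∀ v < n, row v < 2 ^ n) (q : ℕ) (steps : List (ℕ × ℕ)) (c : ℕ → ℕ) (hc : Inv n S c)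
    (KS LI LP : ℕ)
    (h : ∀ v < n, walk q steps (row v) v (c v) (finDisc n KS LI LP v) = true)
    (hinc : ∀ i, i + 1 < n → incChk KS i = true) : S = ⊥ := by
  rw [eq_bot_iff]
  intro σ hσ
  rw [Subgroup.mem_bot]
  have hinv := walk_inv hS hn hrow q steps c (fun v => finDisc n KS LI LP v) hc h
  have hlt := lt_of_inc (f32 KS) n (fun i hi => Nat.le_of_ble_eq_true (hinc i hi))
  have key : ∀ v : Fin n, wkey q steps (row v) (c v) = f32 KS (ev LI v) ∧ ev LP (ev LI v) = v ∧
      ev LI v < n := by
    intro v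
    have := walk_fin q steps _ _ _ _ (h v v.2)
    unfold finDisc at this
    rw [Bool.and_eq_true, Bool.and_eq_true] at this
    exact ⟨Nat.eq_of_beq_eq_true this.1, Nat.eq_of_beq_eq_true this.2.1,
      Nat.le_of_ble_eq_true this.2.2⟩
  ext v
  have e := hinv σ hσ v
  obtain ⟨a1, a2, a3⟩ := key v
  obtain ⟨b1, b2, b3⟩ := key (σ v)
  show ((σ v : Fin n) : ℕ) = ((1 : Equiv.Perm (Fin n)) v : Fin n)
  rw [Equiv.Perm.one_apply]
  have e' : f32 KS (ev LI (σ v : Fin n)) = f32 KS (ev LI v) := by
    rw [← a1, ← b1]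
    exact e
  have hr : ev LI (σ v : Fin n) = ev LI v := by
    rcases Nat.lt_trichotomy (ev LI (σ v : Fin n)) (ev LI v) with h1 | h1 | h1
    · exact absurd e' (Nat.ne_of_lt (hlt _ a3 _ h1))
    · exact h1
    · exact absurd e'.symm (Nat.ne_of_lt (hlt _ b3 _ h1))
  rw [← b2, hr, a2]

end Cfsg.Agent.Lib.Helper9.RuGraph
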