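import Cfsg.Agent.Lib.Helper9.RuLatJ

set_option autoImplicit false
set_option maxRecDepth 1000000

/-! Certificates for the odd masks with 8 bits of the Rudvalis lattice (S1627). -/

open Cfsg.Agent.Lib.Helper9.RuNet

namespace Cfsg.Agent.Lib.Helper9.RuL

/-- odd masks with 8 bits: mask and combinations of the generators vanishing on it -/
def data8 : List (ℕ × List ℕ) := [
  (0xff, [192, 256, 512, 1024, 2048, 4096, 8192, 16384, 32768, 65536, 131072, 262144]),
  (0xff00, [21, 42, 204, 1027, 2051, 4108, 8192, 16384, 32768, 65536, 131072, 262144]),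
  (0xff0000, [3, 60, 213, 277, 533, 1024, 2048, 4117, 8213, 16405, 131084, 262156]),
  (0xff000000, [26, 37, 463, 719, 3084, 4288, 8192, 16384, 32768, 65536, 131072, 262144]),
  (0xff00000000, [207, 294, 537, 1027, 2051, 4144, 8213, 16426, 32805, 65562, 131094, 262185]),
  (0xff0000000000, [48, 460, 716, 1050, 2069, 4288, 8217, 16406, 32982, 65753, 131084, 262156]),
  (0xff000000000000, [252, 316, 572, 1024, 2048, 4156, 8195, 16387, 32805, 65562, 131113, 262166])]

theorem ok8 : data8.all chk8E = true := by decide +kernel

end Cfsg.Agent.Lib.Helper9.RuL
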