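import Cfsg.Agent.Lib.Helper9.RuLatJ

set_option autoImplicit false
set_option maxRecDepth 1000000

/-! No four columns of the generator matrix of the code of the Rudvalis lattice add up to zero (S1627). -/

open Cfsg.Agent.Lib.Helper9.RuNet

namespace Cfsg.Agent.Lib.Helper9.RuL

theorem ok4 : chk4 = true := by decide +kernel

end Cfsg.Agent.Lib.Helper9.RuL
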