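import Cfsg.Agent.Lib.Helper9.RuLatJ
import Cfsg.Agent.Lib.Helper9.RuLatK1
import Cfsg.Agent.Lib.Helper9.RuLatK2
import Cfsg.Agent.Lib.Helper9.RuLatK3

set_option autoImplicit false
set_option maxRecDepth 1000000

/-! The table indices of the vectors of the Rudvalis lattice with one coordinate `±4` (S1627). -/

open Cfsg.Agent.Lib.Helper9.RuNet

namespace Cfsg.Agent.Lib.Helper9.RuL

/-- table indices of `4 e_q` and `-4 e_q` -/
def frameL : List ℕ := [2, 0, 3, 1, 6, 4, 7, 5, 4106, 4104, 4107, 4105, 6158, 6156, 6159, 6157, 6162, 6160, 6163, 6161, 6678, 6676, 6679, 6677, 6682, 6680, 6683, 6681, 6686, 6684, 6687, 6685, 6690, 6688, 6691, 6689, 6950, 6948, 6951, 6949, 6954, 6952, 6955, 6953, 6958, 6956, 6959, 6957, 6962, 6960, 6963, 6961, 6966, 6964, 6967, 6965, 6970, 6968, 6971, 6969, 6974, 6972, 6975, 6973, 6978, 6976, 6979, 6977, 6982, 6980, 6983, 6981, 6986, 6984, 6987, 6985, 6990, 6988, 6991, 6989, 6994, 6992, 6995, 6993, 6998, 6996, 6999, 6997,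 7002, 7000, 7003, 7001, 7006, 7004, 7007, 7005, 7010, 7008, 7011, 7009, 7014, 7012, 7015, 7013, 7018, 7016, 7019, 7017, 7022, 7020, 7023, 7021]

theorem okFrame : allRange (fun q => frameOK frameL q) 0 56 = true := by decide +kernel

end Cfsg.Agent.Lib.Helper9.RuL
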