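import Cfsg.Agent.Lib.Helper9.RuLatS

/-!
The vectors of norm 16 (stored scale) of the Rudvalis lattice are the 16240 vectors of the table
(S1627).
-/

set_option autoImplicit false
open Cfsg.Spor Cfsg.Agent.Lib.Helper9.Ru Cfsg.Agent.Lib.Helper9.RuBits Cfsg.Agent.Lib.Helper9.RuNet

namespace Cfsg.Agent.Lib.Helper9.RuL

theorem evenTwo_eq {x : RuVec} (h : oddMask x = 0) : evenTwo x = twoMask x := by
  apply eq_of_bits (evenTwo_lt x) (twoMask_lt x)
  intro q
  rw [testBit_evenTwo, testBit_twoMask]
  have := testBit_oddMask x q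
  rw [h] at this
  have h3 : ¬ (rc x q % 2 = 1) := by
    intro h'
    simp [h'] at this
  congr 1
  apply propext
  omega

theorem rc_four (v : RuVec) (q : Fin 56) : rc ((4 : GaussianInt) • v) q = 4 * rc v q := by
  rw [rc_smul]
  have h1 : (4 : GaussianInt).re = 4 := rfl
  have h2 : (4 : GaussianInt).im = 0 := rfl
  rw [h1, h2]
  ring

/-- a vector of norm 16 with all coordinates divisible by 4 -/
theorem frame_case {x : RuVec} (hn : ruNorm x = 16) (h4 : ∀ q, (4 : ℤ) ∣ rc x q) :
    ∃ q0 : Fin 56, ∃ s : ℕ, (s = 0 ∨ s = 2 ^ q0.val) ∧ x = (4 : GaussianInt) • vecOf (2 ^ q0.val) s := by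
  rw [ruNorm_eq] at hn
  have hex : ∃ q0, rc x q0 ≠ 0 := by
    by_contra hcon
    push_neg at hcon
    simp [hcon] at hn
  obtain ⟨q0, hq0⟩ := hex
  have hsq : ∀ q, rc x q ≠ 0 → 16 ≤ rc x q ^ 2 := by
    intro q hq
    obtain ⟨k, hk⟩ := h4 q
    have hk0 : k ≠ 0 := by rintro rfl; exact hq (by rw [hk]; ring)
    have : 1 ≤ k ^ 2 := by
      have : 1 ≤ k ∨ k ≤ -1 := by omega
      rcases this with h | h <;> nlinarith
    rw [hk]
    nlinarith
  rw [← Finset.add_sum_erase _ _ (Finset.mem_univ q0)] at hn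
  have hnn : ∀ q ∈ (Finset.univ : Finset (Fin 56)).erase q0, 0 ≤ rc x q ^ 2 := fun q _ => sq_nonneg _
  have hrest : ∑ q ∈ (Finset.univ : Finset (Fin 56)).erase q0, rc x q ^ 2 = 0 := by
    have h1 := hsq q0 hq0
    have h2 := Finset.sum_nonneg hnn
    linarith
  have hz := (Finset.sum_eq_zero_iff_of_nonneg hnn).mp hrest
  have h16 : rc x q0 ^ 2 = 16 := by rw [hrest] at hn; linarith
  have hval : rc x q0 = 4 ∨ rc x q0 = -4 := by
    have : (rc x q0 - 4) * (rc x q0 + 4) = 0 := by ring_nf; linarith
    rcases mul_eq_zero.mp this with h | h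
    · left; linarith
    · right; linarith
  have hother : ∀ q, q ≠ q0 → rc x q = 0 := by
    intro q hq
    have := hz q (Finset.mem_erase.mpr ⟨hq, Finset.mem_univ q⟩)
    exact pow_eq_zero_iff (by norm_num) |>.mp this
  have hbit : ∀ q : Fin 56, (2 ^ q0.val).testBit q.val = decide (q0 = q) := by
    intro q
    rw [Nat.testBit_two_pow]
    congr 1
    apply propext
    exact ⟨fun h => Fin.ext h, fun h => by rw [h]⟩
  rcases hval with hv | hv
  · refine ⟨q0, 0, Or.inl rfl, ext_rc fun q => ?_⟩
    rw [rc_four, rc_vecOf]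
    unfold valOf
    rw [hbit]
    by_cases hq : q0 = q
    · subst hq; simp [hv]
    · simp [hq, hother q (Ne.symm hq)]
  · refine ⟨q0, 2 ^ q0.val, Or.inr rfl, ext_rc fun q => ?_⟩
    rw [rc_four, rc_vecOf]
    unfold valOf
    rw [hbit]
    by_cases hq : q0 = q
    · subst hq; simp [hv]
    · simp [hq, hother q (Ne.symm hq)]

theorem popc_two_pow (q : ℕ) (hq : q < 56) : popc (2 ^ q) = 1 := by
  have hlt : 2 ^ q < 2 ^ 56 := Nat.pow_lt_pow_right (by norm_num) hq
  rw [popc_card 56 _ (by norm_num) hlt]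
  rw [Finset.card_eq_one]
  refine ⟨⟨q, hq⟩, ?_⟩
  ext w
  simp only [Finset.mem_filter, Finset.mem_univ, true_and, Finset.mem_singleton]
  rw [Nat.testBit_two_pow]
  simp only [decide_eq_true_eq]
  exact ⟨fun h => Fin.ext h.symm, fun h => by rw [h]⟩

/-- the vectors of norm 16 of the lattice are in the table -/
theorem enum16 {x : RuVec} (hx : x ∈ SB) (hn : ruNorm x = 16) : ∃ idx < 16240, x = vecT idx := by
  obtain ⟨m, hm⟩ := (InD0_of_mem hx).1
  have hP := spanAll_spec Pspan G19 0 okSpan m
  rw [Nat.zero_xor, ← hm] at hP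
  have hge := norm_ge x
  rw [hn] at hge
  have hle : popc (oddMask x) ≤ 16 := by
    have : (0 : ℤ) ≤ 4 * (popc (evenTwo x) : ℤ) := by positivity
    have h2 : (popc (oddMask x) : ℤ) ≤ 16 := by linarith
    exact_mod_cast h2
  rw [Pspan, Bool.or_eq_true] at hP
  rcases hP with hP | hP
  · exact absurd (Nat.le_of_ble_eq_true hP) (by omega)
  · rw [List.elem_eq_mem, decide_eq_true_eq] at hP
    simp only [lowL, List.mem_cons, List.mem_append, List.mem_map] at hP
    rcases hP with h0 | (⟨e, he, hec⟩ | ⟨e, he, hec⟩) | ⟨e, he, hec⟩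
    · -- no odd coordinates
      have hev := evenTwo_eq h0
      have hmod := norm_mod16 x h0
      rw [hn, hev] at hmod
      rw [h0, hev] at hge
      have hp0 : popc 0 = 0 := by decide +kernel
      rw [hp0] at hge
      have hP4 : popc (twoMask x) = 0 ∨ popc (twoMask x) = 4 := by
        push_cast at hge hmod
        omega
      rcases hP4 with hP4 | hP4
      · have hz := eq_zero_of_popc (twoMask_lt x) hP4
        have h4 : ∀ q, (4 : ℤ) ∣ rc x q := by
          intro q
          have h1 := testBit_oddMask x q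
          have h2 := testBit_twoMask x q
          rw [h0] at h1
          rw [hz] at h2
          have h3 : ¬ (rc x q % 2 = 1) := by
            intro h'
            simp [h'] at h1
          have h5 : ¬ (2 ≤ rc x q % 4) := by
            intro h'
            simp [h'] at h2
          omega
        obtain ⟨q0, s, hs, hxe⟩ := frame_case hn h4
        have hf := allRange_spec _ _ _ okFrame q0.val (Nat.zero_le _) (by have := q0.2; omega)
        simp only [frameOK, Bool.and_eq_true, decide_eq_true_eq, beq_iff_eq] at hf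
        obtain ⟨⟨⟨⟨⟨a1, a2⟩, a3⟩, b1⟩, b2⟩, b3⟩ := hf
        have hp1 := popc_two_pow q0.val q0.2
        rcases hs with hs | hs
        · refine ⟨_, a1, ?_⟩
          rw [vecT, a2, a3, if_pos hp1, hxe, hs]
        · refine ⟨_, b1, ?_⟩
          rw [vecT, b2, b3, if_pos hp1, hxe, hs]
      · exact (no_four ok4 hx h0 hP4).elim
    · -- eight odd coordinates
      have hk := List.all_eq_true.mp ok8 e he
      rw [chk8E, Bool.and_eq_true, beq_iff_eq] at hk
      exact (no_eight hk.1 hk.2 hx hn hec.symm).elim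
    · -- sixteen odd coordinates, no vectors
      have hk := List.all_eq_true.mp okI e he
      rw [chkIE, Bool.and_eq_true, beq_iff_eq] at hk
      have hpc : popc (oddMask x) = 16 := by rw [← hec]; exact hk.2
      obtain ⟨_, hz⟩ := shape16 hn hpc
      rw [← hec] at hz
      exact (chkI_sound hk.1 hx hec.symm hz).elim
    · -- sixteen odd coordinates with vectors
      have hk := okC e he
      rw [chkE, Bool.and_eq_true, beq_iff_eq] at hk
      have hpc : popc (oddMask x) = 16 := by rw [← hec]; exact hk.2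
      obtain ⟨hxe, hz⟩ := shape16 hn hpc
      rw [← hec] at hz
      obtain ⟨idx, hidx, hc, hs⟩ := chkC_sound tabC tabS hk.1 hx hec.symm hz
      refine ⟨idx, hidx, ?_⟩
      have hne : ¬ (popc (tabC idx) = 1) := by rw [hc, hk.2]; norm_num
      rw [vecT, if_neg hne, hc, hs, hec]
      exact hxe

end Cfsg.Agent.Lib.Helper9.RuL
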