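import Cfsg.Agent.Lib.Helper9.RuLatM
import Cfsg.Agent.Lib.Helper9.RuLatU

/-!
Derivations of the table vectors inside the Rudvalis lattice: the checker and its soundness (S1627).
-/

set_option autoImplicit false
open Cfsg.Spor Cfsg.Agent.Lib.Helper9.Ru Cfsg.Agent.Lib.Helper9.RuBits Cfsg.Agent.Lib.Helper9.RuNet

namespace Cfsg.Agent.Lib.Helper9.RuL

theorem ruLattice_closed {v : RuVec} (hv : v ∈ ruLattice) :
    gI • v ∈ ruLattice ∧ ruRj v ∈ ruLattice ∧ ruRk v ∈ ruLattice ∧ ruSign v ∈ ruLattice ∧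
      ruShift v ∈ ruLattice := by
  simp only [ruLattice, AddSubgroup.mem_sInf] at hv ⊢
  exact ⟨fun L hL => (hL.2 v (hv L hL)).1, fun L hL => (hL.2 v (hv L hL)).2.1,
    fun L hL => (hL.2 v (hv L hL)).2.2.1, fun L hL => (hL.2 v (hv L hL)).2.2.2.1,
    fun L hL => (hL.2 v (hv L hL)).2.2.2.2⟩

theorem table_mem_lattice {v : RuVec} (hv : v ∈ ruTable) : v ∈ ruLattice := by
  simp only [ruLattice, AddSubgroup.mem_sInf]
  exact fun L hL => hL.1 v hv

theorem smul_mem_lattice (c : GaussianInt) {v : RuVec} (hv : v ∈ ruLattice) : c • v ∈ ruLattice := by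
  have h : c • v = c.re • v + c.im • (gI • v) := by
    funext p
    simp only [Pi.smul_apply, Pi.add_apply, smul_eq_mul, zsmul_eq_mul]
    apply Zsqrtd.ext <;> simp [gI]
  rw [h]
  exact ruLattice.add_mem (ruLattice.zsmul_mem hv _) (ruLattice.zsmul_mem (ruLattice_closed hv).1 _)

/-- the generators of the monomial group -/
def genOp (g : ℕ) (v : RuVec) : RuVec :=
  if g = 0 then ruRj v else if g = 1 then ruRk v else if g = 2 then ruSign v else ruShift v

theorem genOp_mem (g : ℕ) {v : RuVec} (hv : v ∈ ruLattice) : genOp g v ∈ ruLattice := by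
  have h := ruLattice_closed hv
  unfold genOp
  split_ifs
  · exact h.2.1
  · exact h.2.2.1
  · exact h.2.2.2.1
  · exact h.2.2.2.2

theorem getD_mem_lattice (i : ℕ) : ruTable.getD i 0 ∈ ruLattice := by
  by_cases hi : i < ruTable.length
  · rw [List.getD_eq_getElem _ _ hi]
    exact table_mem_lattice (List.getElem_mem hi)
  · rw [List.getD_eq_default _ _ (by omega)]
    exact ruLattice.zero_mem

/-- the vector of a combination of table vectors -/
def combV (L : List (ℤ × ℤ × ℕ)) : RuVec :=
  fun p => (L.map (fun t => (⟨t.1, t.2.1⟩ : GaussianInt) * vecT t.2.2 p)).sum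

theorem combV_mem : ∀ (L : List (ℤ × ℤ × ℕ)), (∀ t ∈ L, vecT t.2.2 ∈ ruLattice) → combV L ∈ ruLattice
  | [], _ => by
    have : combV [] = 0 := by funext p; simp [combV]
    rw [this]; exact ruLattice.zero_mem
  | t :: L, h => by
    have : combV (t :: L) = (⟨t.1, t.2.1⟩ : GaussianInt) • vecT t.2.2 + combV L := by
      funext p; simp [combV]
    rw [this]
    exact ruLattice.add_mem (smul_mem_lattice _ (h t (List.mem_cons_self ..)))
      (combV_mem L (fun t' ht' => h t' (List.mem_cons_of_mem _ ht')))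

theorem unit_mem {k : ℕ} (h : unitOK k = true) (hm : vecT (4 * k) ∈ ruLattice) :
    ∀ e < 4, vecT (4 * k + e) ∈ ruLattice := by
  obtain ⟨e1, e2, e3, _⟩ := unit_eqs h
  have m1 : vecT (4 * k + 1) ∈ ruLattice := by rw [e1]; exact (ruLattice_closed hm).1
  have m2 : vecT (4 * k + 2) ∈ ruLattice := by rw [e2]; exact (ruLattice_closed m1).1
  have m3 : vecT (4 * k + 3) ∈ ruLattice := by rw [e3]; exact (ruLattice_closed m2).1
  intro e he
  interval_cases e
  · exact hm
  · exact m1
  · exact m2
  · exact m3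

/-- a derivation step: line, type, two parameters, and a combination -/
abbrev DStep : Type := ℕ × ℕ × ℕ × ℕ × List (ℤ × ℤ × ℕ)

/-- the check of a derivation step against the mask `K` of the lines derived so far -/
def stepOK (K : ℕ) (d : DStep) : Bool :=
  decide (d.1 < 4060) &&
  (if d.2.1 = 0 then
    decide (∀ p : RuIdx, vecT (4 * d.1) p = gI ^ d.2.2.2.1 * (ruTable.getD d.2.2.1 0) p)
  else if d.2.1 = 1 then
    K.testBit (d.2.2.2.1 / 4) &&
      decide (∀ p : RuIdx, vecT (4 * d.1) p = genOp d.2.2.1 (vecT d.2.2.2.1) p)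
  else
    d.2.2.2.2.all (fun t => K.testBit (t.2.2 / 4)) &&
      decide (∀ p : RuIdx, vecT (4 * d.1) p = combV d.2.2.2.2 p))

/-- running a derivation -/
def runDeriv : List DStep → ℕ → ℕ
  | [], K => K
  | d :: ds, K => if stepOK K d = true then runDeriv ds (K ||| 2 ^ d.1) else 0

/-- the lines of the mask are in the lattice -/
def Inv (K : ℕ) : Prop := ∀ k, K.testBit k = true → ∀ e < 4, vecT (4 * k + e) ∈ ruLattice

theorem inv_zero : Inv 0 := by
  intro k hk
  simp at hk

theorem mem_of_inv {K : ℕ} (hK : Inv K) (j : ℕ) (h : K.testBit (j / 4) = true) :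
    vecT j ∈ ruLattice := by
  have := hK (j / 4) h (j % 4) (Nat.mod_lt _ (by norm_num))
  rwa [Nat.div_add_mod] at this

theorem step_sound {K : ℕ} (hK : Inv K) {d : DStep} (h : stepOK K d = true) : Inv (K ||| 2 ^ d.1) := by
  rw [stepOK, Bool.and_eq_true, decide_eq_true_eq] at h
  obtain ⟨hlt, h⟩ := h
  have hu := unitOK_all hlt
  have hmem : vecT (4 * d.1) ∈ ruLattice := by
    split_ifs at h with h0 h1
    · rw [decide_eq_true_eq] at h
      have : vecT (4 * d.1) = gI ^ d.2.2.2.1 • ruTable.getD d.2.2.1 0 := funext h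
      rw [this]
      exact smul_mem_lattice _ (getD_mem_lattice _)
    · rw [Bool.and_eq_true, decide_eq_true_eq] at h
      have : vecT (4 * d.1) = genOp d.2.2.1 (vecT d.2.2.2.1) := funext h.2
      rw [this]
      exact genOp_mem _ (mem_of_inv hK _ h.1)
    · rw [Bool.and_eq_true, decide_eq_true_eq, List.all_eq_true] at h
      have : vecT (4 * d.1) = combV d.2.2.2.2 := funext h.2
      rw [this]
      exact combV_mem _ (fun t ht => mem_of_inv hK _ (h.1 t ht))
  intro k hk e he
  rw [Nat.testBit_or, Bool.or_eq_true, Nat.testBit_two_pow, decide_eq_true_eq] at hk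
  rcases hk with hk | hk
  · exact hK k hk e he
  · rw [← hk]
    exact unit_mem hu hmem e he

theorem run_sound : ∀ (ds : List DStep) (K : ℕ), Inv K → Inv (runDeriv ds K)
  | [], K, hK => hK
  | d :: ds, K, hK => by
    rw [runDeriv]
    split_ifs with h
    · exact run_sound ds _ (step_sound hK h)
    · exact inv_zero

end Cfsg.Agent.Lib.Helper9.RuL
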