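import Cfsg.Agent.Lib.Helper9.RuLatS0

/-!
The words of weight at most 16 of the code of the Rudvalis lattice modulo 2, by enumeration in the kernel,
part 2 (S1627).
-/

set_option autoImplicit false
set_option maxRecDepth 1000000

namespace Cfsg.Agent.Lib.Helper9.RuL

theorem okSpan_8 : spanPart 8 = true := by decide +kernel
theorem okSpan_9 : spanPart 9 = true := by decide +kernel
theorem okSpan_10 : spanPart 10 = true := by decide +kernel
theorem okSpan_11 : spanPart 11 = true := by decide +kernel
theorem okSpan_12 : spanPart 12 = true := by decide +kernel
theorem okSpan_13 : spanPart 13 = true := by decide +kernel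
theorem okSpan_14 : spanPart 14 = true := by decide +kernel
theorem okSpan_15 : spanPart 15 = true := by decide +kernel

end Cfsg.Agent.Lib.Helper9.RuL
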