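import Cfsg.Agent.Lib.Helper9.RuLatS0

/-!
The words of weight at most 16 of the code of the Rudvalis lattice modulo 2, by enumeration in the kernel,
part 3 (S1627).
-/

set_option autoImplicit false
set_option maxRecDepth 1000000

namespace Cfsg.Agent.Lib.Helper9.RuL

theorem okSpan_16 : spanPart 16 = true := by decide +kernel
theorem okSpan_17 : spanPart 17 = true := by decide +kernel
theorem okSpan_18 : spanPart 18 = true := by decide +kernel
theorem okSpan_19 : spanPart 19 = true := by decide +kernel
theorem okSpan_20 : spanPart 20 = true := by decide +kernel
theorem okSpan_21 : spanPart 21 = true := by decide +kernel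
theorem okSpan_22 : spanPart 22 = true := by decide +kernel
theorem okSpan_23 : spanPart 23 = true := by decide +kernel

end Cfsg.Agent.Lib.Helper9.RuL
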