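import Cfsg.Agent.Lib.Helper9.RuLatS0

/-!
The words of weight at most 16 of the code of the Rudvalis lattice modulo 2, by enumeration in the kernel,
part 4 (S1627).
-/

set_option autoImplicit false
set_option maxRecDepth 1000000

namespace Cfsg.Agent.Lib.Helper9.RuL

theorem okSpan_24 : spanPart 24 = true := by decide +kernel
theorem okSpan_25 : spanPart 25 = true := by decide +kernel
theorem okSpan_26 : spanPart 26 = true := by decide +kernel
theorem okSpan_27 : spanPart 27 = true := by decide +kernel
theorem okSpan_28 : spanPart 28 = true := by decide +kernel
theorem okSpan_29 : spanPart 29 = true := by decide +kernel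
theorem okSpan_30 : spanPart 30 = true := by decide +kernel
theorem okSpan_31 : spanPart 31 = true := by decide +kernel

end Cfsg.Agent.Lib.Helper9.RuL
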