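import Cfsg.Agent.Lib.Helper9.RuLatS1
import Cfsg.Agent.Lib.Helper9.RuLatS2
import Cfsg.Agent.Lib.Helper9.RuLatS3
import Cfsg.Agent.Lib.Helper9.RuLatS4

/-!
The words of weight at most 16 of the code of the Rudvalis lattice modulo 2, by enumeration of the
`2 ^ 19` words in the kernel (S1627).
-/

set_option autoImplicit false
open Cfsg.Spor Cfsg.Agent.Lib.Helper9.Ru Cfsg.Agent.Lib.Helper9.RuBits Cfsg.Agent.Lib.Helper9.RuNet

namespace Cfsg.Agent.Lib.Helper9.RuL

theorem okSpan : spanAll Pspan G19 0 = true := by
  rw [G19_split]
  apply spanAll_split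
  intro j hj
  rw [G5_length] at hj
  have key : ∀ j < 32, spanPart j = true := by
    intro j hj
    interval_cases j
    · exact okSpan_0
    · exact okSpan_1
    · exact okSpan_2
    · exact okSpan_3
    · exact okSpan_4
    · exact okSpan_5
    · exact okSpan_6
    · exact okSpan_7
    · exact okSpan_8
    · exact okSpan_9
    · exact okSpan_10
    · exact okSpan_11
    · exact okSpan_12
    · exact okSpan_13
    · exact okSpan_14
    · exact okSpan_15
    · exact okSpan_16
    · exact okSpan_17
    · exact okSpan_18
    · exact okSpan_19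
    · exact okSpan_20
    · exact okSpan_21
    · exact okSpan_22
    · exact okSpan_23
    · exact okSpan_24
    · exact okSpan_25
    · exact okSpan_26
    · exact okSpan_27
    · exact okSpan_28
    · exact okSpan_29
    · exact okSpan_30
    · exact okSpan_31
  exact key j hj

end Cfsg.Agent.Lib.Helper9.RuL
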