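import Cfsg.Agent.Lib.Helper9.RuLatK
import Cfsg.Agent.Lib.Helper9.RuLatX0
import Cfsg.Agent.Lib.Helper9.RuLatX1
import Cfsg.Agent.Lib.Helper9.RuLatX2
import Cfsg.Agent.Lib.Helper9.RuLatX3
import Cfsg.Agent.Lib.Helper9.RuLatX4
import Cfsg.Agent.Lib.Helper9.RuLatX5
import Cfsg.Agent.Lib.Helper9.RuLatX6
import Cfsg.Agent.Lib.Helper9.RuLatX7

/-!
The words of weight at most 16 of the code of the Rudvalis lattice modulo 2: the list, and the check to be
run on the `2 ^ 19` words (S1627).
-/

set_option autoImplicit false
set_option maxRecDepth 1000000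
open Cfsg.Spor Cfsg.Agent.Lib.Helper9.Ru Cfsg.Agent.Lib.Helper9.RuBits Cfsg.Agent.Lib.Helper9.RuNet

namespace Cfsg.Agent.Lib.Helper9.RuL

/-- all certificates for odd masks with vectors -/
def dataC : List (ℕ × ℕ × ℕ × ℕ × ℕ × ℕ) :=
  dataC0 ++ dataC1 ++ dataC2 ++ dataC3 ++ dataC4 ++ dataC5 ++ dataC6 ++ dataC7

theorem okC : ∀ e ∈ dataC, chkE e = true := by
  intro e he
  simp only [dataC, List.mem_append] at he
  rcases he with ((((((he | he) | he) | he) | he) | he) | he) | he
  · exact List.all_eq_true.mp okC0 e he
  · exact List.all_eq_true.mp okC1 e he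
  · exact List.all_eq_true.mp okC2 e he
  · exact List.all_eq_true.mp okC3 e he
  · exact List.all_eq_true.mp okC4 e he
  · exact List.all_eq_true.mp okC5 e he
  · exact List.all_eq_true.mp okC6 e he
  · exact List.all_eq_true.mp okC7 e he

/-- the odd masks with at most 16 bits -/
def lowL : List ℕ :=
  0 :: (data8.map Prod.fst ++ dataI.map Prod.fst ++ dataC.map Prod.fst)

/-- a word of the code has more than 16 bits or is in the list -/
def Pspan (c : ℕ) : Bool := Nat.ble 17 (popc c) || lowL.elem c

/-- the first five generators -/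
def G5 : List ℕ := G19.take 5

/-- the other fourteen generators -/
def G14 : List ℕ := G19.drop 5

theorem G19_split : G19 = G5 ++ G14 := (List.take_append_drop 5 G19).symm

theorem G5_length : G5.length = 5 := by decide

/-- the check of a part of the words -/
def spanPart (j : ℕ) : Bool := spanAll Pspan G14 (Nat.xor 0 (combN G5 j))

theorem spanAll_split (P : ℕ → Bool) : ∀ (gs1 gs2 : List ℕ) (acc : ℕ),
    (∀ j < 2 ^ gs1.length, spanAll P gs2 (acc ^^^ combN gs1 j) = true) →
      spanAll P (gs1 ++ gs2) acc = true
  | [], gs2, acc, h => by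
    have := h 0 (by norm_num)
    simpa [combN] using this
  | g :: gs1, gs2, acc, h => by
    rw [List.cons_append, spanAll, Bool.and_eq_true]
    constructor
    · apply spanAll_split P gs1 gs2 acc
      intro j hj
      have := h (2 * j) (by rw [List.length_cons, pow_succ]; omega)
      rw [combN_cons] at this
      have e1 : 2 * j % 2 = 0 := by omega
      have e2 : 2 * j / 2 = j := by omega
      rw [e1, e2] at this
      simpa using this
    · apply spanAll_split P gs1 gs2 (Nat.xor acc g)
      intro j hj
      have := h (2 * j + 1) (by rw [List.length_cons, pow_succ]; omega)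
      rw [combN_cons] at this
      have e1 : (2 * j + 1) % 2 = 1 := by omega
      have e2 : (2 * j + 1) / 2 = j := by omega
      rw [e1, e2] at this
      simp only [if_true] at this
      rw [← Nat.xor_assoc] at this
      exact this

end Cfsg.Agent.Lib.Helper9.RuL
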