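import Cfsg.Agent.Lib.Helper9.RuLatS0

/-!
The words of weight at most 16 of the code of the Rudvalis lattice modulo 2, by enumeration in the kernel,
part 1 (S1627).
-/

set_option autoImplicit false
set_option maxRecDepth 1000000

namespace Cfsg.Agent.Lib.Helper9.RuL

theorem okSpan_0 : spanPart 0 = true := by decide +kernel
theorem okSpan_1 : spanPart 1 = true := by decide +kernel
theorem okSpan_2 : spanPart 2 = true := by decide +kernel
theorem okSpan_3 : spanPart 3 = true := by decide +kernel
theorem okSpan_4 : spanPart 4 = true := by decide +kernel
theorem okSpan_5 : spanPart 5 = true := by decide +kernel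
theorem okSpan_6 : spanPart 6 = true := by decide +kernel
theorem okSpan_7 : spanPart 7 = true := by decide +kernel

end Cfsg.Agent.Lib.Helper9.RuL
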