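import Cfsg.Agent.Lib.Helper9.RuPermData

set_option autoImplicit false

namespace Cfsg.Agent.Lib.Helper9.RuWords

open Cfsg.Agent.Lib.Helper9.RuPermData

def l1 : List ℕ := [pg1, pg2, pg1i, pg2i]

def l2 : List ℕ := [pt1, pt2, pt1i, pt2i]

def l3 : List ℕ := [pu1, pu2, pu1i, pu2i]

def l4 : List ℕ := [pq1, pq2, py, pyi]

def l4t : List ℕ := [pq1, pq2]

def lm : List ℕ := [ph, pt1, pt2, pt1i, pt2i, pu1, pu2, pu1i, pu2i]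

def wt1 : List ℕ := [pg2, pg2, pg2, pg1, pg2, pg1, pg2, pg1, pg2i, pg1i, pg2, pg2, pg1, pg1, pg1]

theorem sub_wt1 : ∀ A ∈ wt1, A ∈ l1 := by decide +kernel

def wt2 : List ℕ := [pg1, pg2i, pg1, pg2, pg1, pg2, pg1i, pg2i, pg1, pg2, pg2, pg1, pg2i, pg1, pg2i, pg2i]

theorem sub_wt2 : ∀ A ∈ wt2, A ∈ l1 := by decide +kernel

def wh : List ℕ := [pg2, pg2, pg1, pg1, pg2, pg2, pg1i, pg1i, pg2, pg2, pg2, pg2, pg2, pg2, pg2]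

theorem sub_wh : ∀ A ∈ wh, A ∈ l1 := by decide +kernel

def wu1 : List ℕ := [pt2i, pt2i, pt1, pt2i, pt2i, pt2i, pt1, pt2, pt1i, pt2, pt2, pt1, pt2, pt1]

theorem sub_wu1 : ∀ A ∈ wu1, A ∈ l2 := by decide +kernel

def wu2 : List ℕ := [pt2, pt1i, pt1i, pt1i, pt2, pt1, pt1, pt2, pt2, pt1i, pt2i, pt2i, pt2i]

theorem sub_wu2 : ∀ A ∈ wu2, A ∈ l2 := by decide +kernel

def wq1 : List ℕ := [pu1i, pu2, pu2, pu1i, pu2, pu2, pu2, pu1i, pu1i, pu2, pu2, pu2, pu1i, pu2i]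

theorem sub_wq1 : ∀ A ∈ wq1, A ∈ l3 := by decide +kernel

def wq2 : List ℕ := [pu1i, pu2i, pu2i, pu1i, pu1i, pu2, pu1, pu2]

theorem sub_wq2 : ∀ A ∈ wq2, A ∈ l3 := by decide +kernel

def wy : List ℕ := [ph, pt2i, pt1i, pt2, pu1i, pu1i, pu2, pu1, pu2, pu1i, pu2]

theorem sub_wy : ∀ A ∈ wy, A ∈ lm := by decide +kernel

end Cfsg.Agent.Lib.Helper9.RuWords
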