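import Cfsg.Agent.Lib.Helper9.RuChk1
import Cfsg.Agent.Lib.Helper9.RuChk2
import Cfsg.Agent.Lib.Helper9.RuChk3
import Cfsg.Agent.Lib.Helper9.RuChk6
import Cfsg.Agent.Lib.Helper9.RuChk7
import Cfsg.Agent.Lib.Helper9.RuChk8
import Cfsg.Agent.Lib.Helper9.RuChk9
import Cfsg.Agent.Lib.Helper9.RuWords

set_option autoImplicit false

/-! The group generated by two permutations of order 29 of 4060 points: its stabiliser chain and
its order. -/

namespace Cfsg.Agent.Lib.Helper9.RuMain1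

open Cfsg.Agent.Lib.Helper9.RuBits Cfsg.Agent.Lib.Helper9.RuNet Cfsg.Agent.Lib.Helper9.RuPerm
  Cfsg.Agent.Lib.Helper9.RuGraph Cfsg.Agent.Lib.Helper9.RuTree
  Cfsg.Agent.Lib.Helper9.RuPermData Cfsg.Agent.Lib.Helper9.RuNetData
  Cfsg.Agent.Lib.Helper9.RuTreeData Cfsg.Agent.Lib.Helper9.RuCertData
  Cfsg.Agent.Lib.Helper9.RuRows Cfsg.Agent.Lib.Helper9.RuWords Cfsg.Agent.Lib.Helper9.Chain1
open MulAction

abbrev P := Equiv.Perm (Fin 4060)

/-- stabilisers in the symmetric group -/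
abbrev st (b : Fin 4060) : Subgroup P := stabilizer P b

def γ1 : P := mkPerm pg1 pg1i RuChk1.ok1
def γ2 : P := mkPerm pg2 pg2i RuChk1.ok2

/-- the group -/
def H : Subgroup P := Subgroup.closure {γ1, γ2}
def H1 : Subgroup P := H ⊓ st 0
def H2 : Subgroup P := H1 ⊓ st 1
def H3 : Subgroup P := H2 ⊓ st 2
def H4 : Subgroup P := H3 ⊓ st 3

theorem γ1_mem : γ1 ∈ H := Subgroup.subset_closure (Set.mem_insert _ _)
theorem γ2_mem : γ2 ∈ H := Subgroup.subset_closure (Set.mem_insert_of_mem _ rfl)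

theorem rg1 : Rep H pg1 := ⟨γ1, γ1_mem, fun _ => rfl⟩
theorem rg2 : Rep H pg2 := ⟨γ2, γ2_mem, fun _ => rfl⟩
theorem rg1i : Rep H pg1i :=
  rg1.inv pg1i (fun x hx => (permOK_spec (n := 4060) RuChk1.ok1 x hx).1.2)
theorem rg2i : Rep H pg2i :=
  rg2.inv pg2i (fun x hx => (permOK_spec (n := 4060) RuChk1.ok2 x hx).1.2)

theorem rl1 : ∀ A ∈ l1, Rep H A := by
  intro A hA
  simp only [l1, List.mem_cons, List.not_mem_nil, or_false] at hA
  rcases hA with rfl | rfl | rfl | rfl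
  exacts [rg1, rg2, rg1i, rg2i]

theorem rt1 : Rep H1 pt1 :=
  (Rep.of_word' H wt1 pt1 (fun A hA => rl1 A (sub_wt1 A hA)) RuChk1.w_t1).inf_stab 0
    RuChk1.fix_pt1_0
theorem rt2 : Rep H1 pt2 :=
  (Rep.of_word' H wt2 pt2 (fun A hA => rl1 A (sub_wt2 A hA)) RuChk1.w_t2).inf_stab 0
    RuChk1.fix_pt2_0
theorem rh : Rep H1 ph :=
  (Rep.of_word' H wh ph (fun A hA => rl1 A (sub_wh A hA)) RuChk1.w_h).inf_stab 0
    RuChk1.fix_ph_0

noncomputable def τ1 : P := Classical.choose rt1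
noncomputable def τ2 : P := Classical.choose rt2
theorem τ1_spec : τ1 ∈ H1 ∧ ∀ x : Fin 4060, ((τ1 x : Fin 4060) : ℕ) = ev pt1 x :=
  Classical.choose_spec rt1
theorem τ2_spec : τ2 ∈ H1 ∧ ∀ x : Fin 4060, ((τ2 x : Fin 4060) : ℕ) = ev pt2 x :=
  Classical.choose_spec rt2

/-- the subgroup of the point stabiliser -/
noncomputable def T' : Subgroup P := Subgroup.closure {τ1, τ2}
noncomputable def T1' : Subgroup P := T' ⊓ st 1
noncomputable def T2' : Subgroup P := T1' ⊓ st 2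
noncomputable def T3' : Subgroup P := T2' ⊓ st 3

theorem T'_le : T' ≤ H1 := by
  rw [T', Subgroup.closure_le]
  rintro x (rfl | rfl)
  exacts [τ1_spec.1, τ2_spec.1]

theorem rT1 : Rep T' pt1 := ⟨τ1, Subgroup.subset_closure (Set.mem_insert _ _), τ1_spec.2⟩
theorem rT2 : Rep T' pt2 :=
  ⟨τ2, Subgroup.subset_closure (Set.mem_insert_of_mem _ rfl), τ2_spec.2⟩
theorem rT1i : Rep T' pt1i := rT1.inv' pt1i RuChk1.inv_pt1
theorem rT2i : Rep T' pt2i := rT2.inv' pt2i RuChk1.inv_pt2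

theorem rl2 : ∀ A ∈ l2, Rep T' A := by
  intro A hA
  simp only [l2, List.mem_cons, List.not_mem_nil, or_false] at hA
  rcases hA with rfl | rfl | rfl | rfl
  exacts [rT1, rT2, rT1i, rT2i]

theorem ru1 : Rep T1' pu1 :=
  (Rep.of_word' T' wu1 pu1 (fun A hA => rl2 A (sub_wu1 A hA)) RuChk1.w_u1).inf_stab 1
    RuChk1.fix_pu1_1
theorem ru2 : Rep T1' pu2 :=
  (Rep.of_word' T' wu2 pu2 (fun A hA => rl2 A (sub_wu2 A hA)) RuChk1.w_u2).inf_stab 1
    RuChk1.fix_pu2_1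
theorem ru1i : Rep T1' pu1i := ru1.inv' pu1i RuChk1.inv_pu1
theorem ru2i : Rep T1' pu2i := ru2.inv' pu2i RuChk1.inv_pu2

theorem rl3 : ∀ A ∈ l3, Rep T1' A := by
  intro A hA
  simp only [l3, List.mem_cons, List.not_mem_nil, or_false] at hA
  rcases hA with rfl | rfl | rfl | rfl
  exacts [ru1, ru2, ru1i, ru2i]

theorem rq1 : Rep T2' pq1 :=
  (Rep.of_word' T1' wq1 pq1 (fun A hA => rl3 A (sub_wq1 A hA)) RuChk1.w_q1).inf_stab 2
    RuChk1.fix_pq1_2
theorem rq2 : Rep T2' pq2 :=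
  (Rep.of_word' T1' wq2 pq2 (fun A hA => rl3 A (sub_wq2 A hA)) RuChk1.w_q2).inf_stab 2
    RuChk1.fix_pq2_2

theorem rl4t : ∀ A ∈ l4t, Rep T2' A := by
  intro A hA
  simp only [l4t, List.mem_cons, List.not_mem_nil, or_false] at hA
  rcases hA with rfl | rfl
  exacts [rq1, rq2]

theorem T1'_le : T1' ≤ H2 := inf_le_inf_right _ T'_le
theorem T2'_le : T2' ≤ H3 := inf_le_inf_right _ T1'_le

theorem rlm : ∀ A ∈ lm, Rep H1 A := by
  intro A hA
  simp only [lm, List.mem_cons, List.not_mem_nil, or_false] at hA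
  have h1 : T1' ≤ H1 := le_trans inf_le_left T'_le
  rcases hA with rfl | rfl | rfl | rfl | rfl | rfl | rfl | rfl | rfl
  exacts [rh, rT1.mono T'_le, rT2.mono T'_le, rT1i.mono T'_le, rT2i.mono T'_le,
    ru1.mono h1, ru2.mono h1, ru1i.mono h1, ru2i.mono h1]

theorem ry : Rep H3 py :=
  ((Rep.of_word' H1 wy py (fun A hA => rlm A (sub_wy A hA)) RuChk1.w_y).inf_stab 1
    RuChk1.fix_py_1).inf_stab 2 RuChk1.fix_py_2
theorem ryi : Rep H3 pyi := ry.inv' pyi RuChk1.inv_py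

theorem rl4 : ∀ A ∈ l4, Rep H3 A := by
  intro A hA
  simp only [l4, List.mem_cons, List.not_mem_nil, or_false] at hA
  rcases hA with rfl | rfl | rfl | rfl
  exacts [rq1.mono T2'_le, rq2.mono T2'_le, ry, ryi]

/-! ### the graph -/

theorem γ1_aut : γ1 ∈ Aut 4060 grow :=
  isAut_of_chk' 4060 grow γ1 pg1 ng1 (fun _ => rfl) RuChk2.oks RuChk2.aut RuChk2.tau
theorem γ2_aut : γ2 ∈ Aut 4060 grow :=
  isAut_of_chk' 4060 grow γ2 pg2 ng2 (fun _ => rfl) RuChk3.oks RuChk3.aut RuChk3.tau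

theorem H_le : H ≤ Aut 4060 grow := by
  rw [H, Subgroup.closure_le]
  rintro x (rfl | rfl)
  exacts [γ1_aut, γ2_aut]

theorem hrow : ∀ v < 4060, grow v < 2 ^ 4060 := rowBd_spec 4060 grow RuChk6.bdg

theorem fix0 {σ : P} (h : σ ∈ H1) : σ 0 = 0 := ((mem_inf_stab H 0 σ).mp h).2
theorem fix1 {σ : P} (h : σ ∈ H2) : σ 1 = 1 := ((mem_inf_stab H1 1 σ).mp h).2
theorem fix2 {σ : P} (h : σ ∈ H3) : σ 2 = 2 := ((mem_inf_stab H2 2 σ).mp h).2
theorem fix3 {σ : P} (h : σ ∈ H4) : σ 3 = 3 := ((mem_inf_stab H3 3 σ).mp h).2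

theorem H2_le : H2 ≤ H1 := inf_le_left
theorem H3_le : H3 ≤ H2 := inf_le_left
theorem H4_le : H4 ≤ H3 := inf_le_left

theorem val_eq {x : Fin 4060} {k : ℕ} (hk : k < 4060) (h : (x : ℕ) = k) : x = ⟨k, hk⟩ :=
  Fin.ext h

theorem hfix1 : ∀ σ ∈ H1, ∀ x : Fin 4060, (x : ℕ) ∈ [0] → σ x = x := by
  intro σ hσ x hx
  simp only [List.mem_cons, List.not_mem_nil, or_false] at hx
  have : x = 0 := Fin.ext hx
  rw [this]; exact fix0 hσ

theorem hfix2 : ∀ σ ∈ H2, ∀ x : Fin 4060, (x : ℕ) ∈ [0, 1] → σ x = x := by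
  intro σ hσ x hx
  simp only [List.mem_cons, List.not_mem_nil, or_false] at hx
  rcases hx with h | h
  · have : x = 0 := Fin.ext h
    rw [this]; exact fix0 (H2_le hσ)
  · have : x = 1 := Fin.ext h
    rw [this]; exact fix1 hσ

theorem hfix3 : ∀ σ ∈ H3, ∀ x : Fin 4060, (x : ℕ) ∈ [0, 1, 2] → σ x = x := by
  intro σ hσ x hx
  simp only [List.mem_cons, List.not_mem_nil, or_false] at hx
  rcases hx with h | h | h
  · have : x = 0 := Fin.ext h
    rw [this]; exact fix0 (H2_le (H3_le hσ))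
  · have : x = 1 := Fin.ext h
    rw [this]; exact fix1 (H3_le hσ)
  · have : x = 2 := Fin.ext h
    rw [this]; exact fix2 hσ

theorem hfix4 : ∀ σ ∈ H4, ∀ x : Fin 4060, (x : ℕ) ∈ [0, 1, 2, 3] → σ x = x := by
  intro σ hσ x hx
  simp only [List.mem_cons, List.not_mem_nil, or_false] at hx
  rcases hx with h | h | h | h
  · have : x = 0 := Fin.ext h
    rw [this]; exact fix0 (H2_le (H3_le (H4_le hσ)))
  · have : x = 1 := Fin.ext h
    rw [this]; exact fix1 (H3_le (H4_le hσ))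
  · have : x = 2 := Fin.ext h
    rw [this]; exact fix2 (H4_le hσ)
  · have : x = 3 := Fin.ext h
    rw [this]; exact fix3 hσ

theorem H1_le : H1 ≤ Aut 4060 grow := le_trans inf_le_left H_le
theorem H2_le' : H2 ≤ Aut 4060 grow := le_trans H2_le H1_le
theorem H3_le' : H3 ≤ Aut 4060 grow := le_trans H3_le H2_le'
theorem H4_le' : H4 ≤ Aut 4060 grow := le_trans H4_le H3_le'

/-- the tree conditions from the range check -/
theorem tree_all {letters : List ℕ} {orbP parP letP m : ℕ}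
    (h : allRange (treeChk letters orbP parP letP) 0 (m - 1) = true) :
    ∀ j, j + 1 < m → treeChk letters orbP parP letP j = true :=
  fun j hj => allRange_all _ _ h j (by omega)

/-! ### the upper bounds -/

theorem up1 : ∀ σ ∈ H, σ 0 ∈ maskSet 4060 mskA := by
  intro σ _
  rw [mem_maskSet]
  exact allRange_all _ 4060 RuChk9.allA _ (σ 0).2

theorem up2 : ∀ σ ∈ H1, σ 1 ∈ maskSet 4060 mskB := by
  intro σ hσ
  rw [mem_maskSet]
  exact walk_class H1_le (by norm_num) hrow q steps1 (initc [0]) (inv_initc [0] hfix1) mskB kfin1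
    (allRange_all _ 4060 RuChk6.w1) 1 RuChk9.b1 σ hσ

theorem up3 : ∀ σ ∈ H2, σ 2 ∈ maskSet 4060 mskC := by
  intro σ hσ
  rw [mem_maskSet]
  exact walk_class H2_le' (by norm_num) hrow q steps2 (initc [0, 1]) (inv_initc [0, 1] hfix2)
    mskC kfin2 (allRange_all _ 4060 RuChk6.w2) 2 RuChk9.b2 σ hσ

theorem up4 : ∀ σ ∈ H3, σ 3 ∈ maskSet 4060 mskD := by
  intro σ hσ
  rw [mem_maskSet]
  exact walk_class H3_le' (by norm_num) hrow q steps3 (initc [0, 1, 2])
    (inv_initc [0, 1, 2] hfix3) mskD kfin3 (allRange_all _ 4060 RuChk6.w3) 3 RuChk9.b3 σ hσ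

theorem H4_bot : H4 = ⊥ :=
  walk_discrete H4_le' (by norm_num) hrow q steps4 (initc [0, 1, 2, 3])
    (inv_initc [0, 1, 2, 3] hfix4) ks4 li4 lp4 (allRange_all _ 4060 RuChk7.w4)
    (fun i hi => allRange_all _ 4059 RuChk7.inc i (by omega))

/-! ### the lower bounds -/

theorem low1 : ∀ x ∈ maskSet 4060 mskA, ∃ σ ∈ H, σ 0 = x := by
  intro x hx
  rw [mem_maskSet] at hx
  exact cover_sound H l1 rl1 orbA parA letA posA 4060 mskA 0 RuChk8.rootA
    (tree_all RuChk8.treeA) (allRange_all _ 4060 RuChk8.covA) x hx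

theorem low2' : ∀ x : Fin 4060, mskB.testBit x = true → ∃ σ ∈ T', σ 1 = x :=
  cover_sound T' l2 rl2 orbB parB letB posB 1755 mskB 1 RuChk8.rootB
    (tree_all RuChk8.treeB) (allRange_all _ 4060 RuChk8.covB)

theorem low2 : ∀ x ∈ maskSet 4060 mskB, ∃ σ ∈ H1, σ 1 = x := by
  intro x hx
  rw [mem_maskSet] at hx
  obtain ⟨σ, hσ, h⟩ := low2' x hx
  exact ⟨σ, T'_le hσ, h⟩

theorem low3' : ∀ x : Fin 4060, mskC.testBit x = true → ∃ σ ∈ T1', σ 2 = x :=
  cover_sound T1' l3 rl3 orbC parC letC posC 1024 mskC 2 RuChk8.rootC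
    (tree_all RuChk8.treeC) (allRange_all _ 4060 RuChk8.covC)

theorem low3 : ∀ x ∈ maskSet 4060 mskC, ∃ σ ∈ H2, σ 2 = x := by
  intro x hx
  rw [mem_maskSet] at hx
  obtain ⟨σ, hσ, h⟩ := low3' x hx
  exact ⟨σ, T1'_le hσ, h⟩

theorem low4 : ∀ x ∈ maskSet 4060 mskD, ∃ σ ∈ H3, σ 3 = x := by
  intro x hx
  rw [mem_maskSet] at hx
  exact cover_sound H3 l4 rl4 orbD parD letD posD 20 mskD 3 RuChk8.rootD
    (tree_all RuChk8.treeD) (allRange_all _ 4060 RuChk8.covD) x hx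

theorem low4' : ∀ x : Fin 4060, mskDT.testBit x = true → ∃ σ ∈ T2', σ 3 = x :=
  cover_sound T2' l4t rl4t orbDT parDT letDT posDT 10 mskDT 3 RuChk8.rootDT
    (tree_all RuChk8.treeDT) (allRange_all _ 4060 RuChk8.covDT)

/-! ### the orders -/

theorem cardA : (maskSet 4060 mskA).card = 4060 := by
  rw [card_maskSet mskA (by norm_num) RuChk8.bdA, RuChk8.cardA]
theorem cardB : (maskSet 4060 mskB).card = 1755 := by
  rw [card_maskSet mskB (by norm_num) RuChk8.bdB, RuChk8.cardB]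
theorem cardC : (maskSet 4060 mskC).card = 1024 := by
  rw [card_maskSet mskC (by norm_num) RuChk8.bdC, RuChk8.cardC]
theorem cardD : (maskSet 4060 mskD).card = 20 := by
  rw [card_maskSet mskD (by norm_num) RuChk8.bdD, RuChk8.cardD]
theorem cardDT : (maskSet 4060 mskDT).card = 10 := by
  rw [card_maskSet mskDT (by norm_num) RuChk8.bdDT, RuChk8.cardDT]

theorem card_H4 : Nat.card ↥H4 = 1 := by
  rw [H4_bot]
  exact Subgroup.card_bot

theorem card_H3 : Nat.card ↥H3 = 20 := by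
  have := card_step H3 3 (maskSet 4060 mskD) up4 low4
  rw [cardD] at this
  rw [this]
  show 20 * Nat.card ↥H4 = 20
  rw [card_H4]

theorem card_H2 : Nat.card ↥H2 = 20480 := by
  have := card_step H2 2 (maskSet 4060 mskC) up3 low3
  rw [cardC] at this
  rw [this]
  show 1024 * Nat.card ↥H3 = 20480
  rw [card_H3]

theorem card_H1 : Nat.card ↥H1 = 35942400 := by
  have := card_step H1 1 (maskSet 4060 mskB) up2 low2
  rw [cardB] at this
  rw [this]
  show 1755 * Nat.card ↥H2 = 35942400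
  rw [card_H2]

theorem card_H : Nat.card ↥H = 145926144000 := by
  have := card_step H 0 (maskSet 4060 mskA) up1 low1
  rw [cardA] at this
  rw [this]
  show 4060 * Nat.card ↥H1 = 145926144000
  rw [card_H1]

end Cfsg.Agent.Lib.Helper9.RuMain1
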