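import Cfsg.Agent.Lib.Helper9.RuMain2
import Cfsg.Agent.Lib.Helper9.RuChk4
import Cfsg.Agent.Lib.Helper9.RuChk5

set_option autoImplicit false

/-! The subgroup of order 17971200 of the point stabiliser, and its simplicity. -/

namespace Cfsg.Agent.Lib.Helper9.RuMain3

open Cfsg.Agent.Lib.Helper9.RuBits Cfsg.Agent.Lib.Helper9.RuNet Cfsg.Agent.Lib.Helper9.RuPerm
  Cfsg.Agent.Lib.Helper9.RuGraph Cfsg.Agent.Lib.Helper9.RuTree
  Cfsg.Agent.Lib.Helper9.RuPermData Cfsg.Agent.Lib.Helper9.RuNetData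
  Cfsg.Agent.Lib.Helper9.RuTreeData Cfsg.Agent.Lib.Helper9.RuCertData
  Cfsg.Agent.Lib.Helper9.RuRows Cfsg.Agent.Lib.Helper9.RuRowsTh Cfsg.Agent.Lib.Helper9.RuWords
  Cfsg.Agent.Lib.Helper9.Chain1
  Cfsg.Agent.Lib.Helper9.RuMain1 Cfsg.Agent.Lib.Helper9.RuMain2 Cfsg.Agent.Lib.Helper9.RuSimple
open MulAction

/-- one step of a stabiliser chain: the lower bound -/
theorem card_step_ge {α : Type*} [Fintype α] [DecidableEq α] (K : Subgroup (Equiv.Perm α)) (b : α)
    (Δ : Finset α) (hlow : ∀ x ∈ Δ, ∃ h ∈ K, h b = x) :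
    Δ.card * Nat.card ↥(K ⊓ stabilizer (Equiv.Perm α) b) ≤ Nat.card ↥K := by
  classical
  let O : Finset α := Finset.univ.filter (fun x => ∃ h ∈ K, h b = x)
  have h1 := card_step K b O (fun h hh => by
    simp only [O, Finset.mem_filter, Finset.mem_univ, true_and]
    exact ⟨h, hh, rfl⟩) (fun x hx => by
    simpa only [O, Finset.mem_filter, Finset.mem_univ, true_and] using hx)
  rw [h1]
  apply Nat.mul_le_mul_right
  apply Finset.card_le_card
  intro x hx
  simp only [O, Finset.mem_filter, Finset.mem_univ, true_and]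
  exact hlow x hx

/-! ### the second relation -/

theorem τ1_aut : τ1 ∈ Aut 4060 trow :=
  isAut_of_chk' 4060 trow τ1 pt1 nt1 τ1_spec.2 RuChk4.oks RuChk4.aut RuChk4.tau
theorem τ2_aut : τ2 ∈ Aut 4060 trow :=
  isAut_of_chk' 4060 trow τ2 pt2 nt2 τ2_spec.2 RuChk5.oks RuChk5.aut RuChk5.tau

theorem T'_le_aut : T' ≤ Aut 4060 trow := by
  rw [T', Subgroup.closure_le]
  rintro x (rfl | rfl)
  exacts [τ1_aut, τ2_aut]

theorem T'_ne : T' ≠ H1 := by
  intro heq
  obtain ⟨σ, hσ, hx⟩ := rh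
  have h1 : σ ∈ Aut 4060 trow := T'_le_aut (heq ▸ hσ)
  have h2 := h1 1 2396
  rw [hx 1, hx 2396] at h2
  have e1 : (trow (ev ph ((1 : Fin 4060) : ℕ))).testBit (ev ph ((2396 : Fin 4060) : ℕ)) = false :=
    RuChk9.wit2
  have e2 : (trow ((1 : Fin 4060) : ℕ)).testBit ((2396 : Fin 4060) : ℕ) = true := RuChk9.wit1
  rw [e1, e2] at h2
  exact Bool.false_ne_true h2

/-! ### the order -/

theorem card_T'_ge : 17971200 ≤ Nat.card ↥T' := by
  have h1 : 1755 * Nat.card ↥T1' ≤ Nat.card ↥T' := by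
    have := card_step_ge T' (1 : Fin 4060) (maskSet 4060 mskB)
      (fun x hx => low2' x ((mem_maskSet _ _).mp hx))
    rw [cardB] at this
    exact this
  have h2 : 1024 * Nat.card ↥T2' ≤ Nat.card ↥T1' := by
    have := card_step_ge T1' (2 : Fin 4060) (maskSet 4060 mskC)
      (fun x hx => low3' x ((mem_maskSet _ _).mp hx))
    rw [cardC] at this
    exact this
  have h3 : 10 * Nat.card ↥T3' ≤ Nat.card ↥T2' := by
    have := card_step_ge T2' (3 : Fin 4060) (maskSet 4060 mskDT)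
      (fun x hx => low4' x ((mem_maskSet _ _).mp hx))
    rw [cardDT] at this
    exact this
  have h4 : 1 ≤ Nat.card ↥T3' := Nat.card_pos
  calc 17971200 = 1755 * (1024 * (10 * 1)) := by norm_num
    _ ≤ 1755 * (1024 * (10 * Nat.card ↥T3')) :=
        Nat.mul_le_mul_left _ (Nat.mul_le_mul_left _ (Nat.mul_le_mul_left _ h4))
    _ ≤ 1755 * (1024 * Nat.card ↥T2') := Nat.mul_le_mul_left _ (Nat.mul_le_mul_left _ h3)
    _ ≤ 1755 * Nat.card ↥T1' := Nat.mul_le_mul_left _ h2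
    _ ≤ Nat.card ↥T' := h1

theorem card_T' : Nat.card ↥T' = 17971200 := by
  have hd : Nat.card ↥T' ∣ Nat.card ↥H1 := Subgroup.card_dvd_of_le T'_le
  rw [card_H1] at hd
  have hne : Nat.card ↥T' ≠ 35942400 := by
    intro h
    apply T'_ne
    apply Subgroup.eq_of_le_of_card_ge T'_le
    rw [card_H1, h]
  obtain ⟨k, hk⟩ := hd
  have hge := card_T'_ge
  have hk2 : 2 ≤ k := by
    rcases k with _ | _ | k
    · omega
    · omega
    · omega
  nlinarith

/-! ### simplicity -/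

theorem smul_eqT (g : ↥T') (y : Fin 4060) : g • y = (g : P) y := rfl

theorem orbit_eq : orbit ↥T' (1 : Fin 4060) = mset mskB := by
  ext v
  constructor
  · rintro ⟨g, rfl⟩
    have := up2 (g : P) (T'_le g.2)
    rw [mem_maskSet] at this
    exact this
  · intro hv
    obtain ⟨σ, hσ, h⟩ := low2' v hv
    exact ⟨⟨σ, hσ⟩, h⟩

/-- the points moved among themselves -/
abbrev X : Type := ↥(orbit ↥T' (1 : Fin 4060))

theorem card_X : Nat.card X = 1755 := by
  show Nat.card ↥(orbit ↥T' (1 : Fin 4060)) = 1755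
  rw [Nat.card_coe_set_eq, orbit_eq, ncard_mset mskB RuChk8.bdB, RuChk8.cardB]

def x0 : X := ⟨1, mem_orbit_self 1⟩

theorem coe_smul (g : ↥T') (y : X) : ((g • y : X) : Fin 4060) = (g : P) (y : Fin 4060) := rfl

theorem mem_X (v : Fin 4060) : v ∈ orbit ↥T' (1 : Fin 4060) ↔ mskB.testBit v = true := by
  rw [orbit_eq]; rfl

theorem htransX : ∀ y z : X, ∃ g : ↥T', g • y = z := by
  rintro ⟨y, gy, rfl⟩ ⟨z, gz, rfl⟩
  refine ⟨gz * gy⁻¹, ?_⟩
  apply Subtype.ext
  rw [coe_smul]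
  show ((gz * gy⁻¹ : ↥T') : P) ((gy : P) 1) = (gz : P) 1
  rw [Subgroup.coe_mul, Subgroup.coe_inv, Equiv.Perm.mul_apply, inv_apply_self']

def mk : Fin 4 → ℕ := ![mskF10, mskF80, mskF640, mskC]

/-- the classes of the stabiliser of `1` -/
def CX (i : Fin 4) : Set X := {y | (mk i).testBit (y : Fin 4060) = true}

def nX : Fin 4 → ℕ := ![10, 80, 640, 1024]

theorem lowF10 : ∀ x : Fin 4060, mskF10.testBit x = true → ∃ σ ∈ T1', σ 1026 = x :=
  cover_sound T1' l3 rl3 orbF10 parF10 letF10 posF10 10 mskF10 1026 RuChk8.rootF10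
    (tree_all RuChk8.treeF10) (allRange_all _ 4060 RuChk8.covF10)

theorem lowF80 : ∀ x : Fin 4060, mskF80.testBit x = true → ∃ σ ∈ T1', σ 1540 = x :=
  cover_sound T1' l3 rl3 orbF80 parF80 letF80 posF80 80 mskF80 1540 RuChk8.rootF80
    (tree_all RuChk8.treeF80) (allRange_all _ 4060 RuChk8.covF80)

theorem lowF640 : ∀ x : Fin 4060, mskF640.testBit x = true → ∃ σ ∈ T1', σ 1027 = x :=
  cover_sound T1' l3 rl3 orbF640 parF640 letF640 posF640 640 mskF640 1027 RuChk8.rootF640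
    (tree_all RuChk8.treeF640) (allRange_all _ 4060 RuChk8.covF640)

theorem fixT1 {σ : P} (h : σ ∈ T1') : σ 1 = 1 := ((mem_inf_stab T' 1 σ).mp h).2

/-- two points of a set covered by a tree over the stabiliser of `1` are exchanged by an element
fixing `1` -/
theorem exchX (r : Fin 4060) (i : Fin 4)
    (low : ∀ x : Fin 4060, (mk i).testBit x = true → ∃ σ ∈ T1', σ r = x) :
    ∀ a ∈ CX i, ∀ a' ∈ CX i, ∃ g : ↥T', g • x0 = x0 ∧ g • a = a' := by
  intro a ha a' ha'
  obtain ⟨s, hs, hsa⟩ := low a ha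
  obtain ⟨s', hs', hsa'⟩ := low a' ha'
  have h1 : s' * s⁻¹ ∈ T1' := T1'.mul_mem hs' (T1'.inv_mem hs)
  refine ⟨⟨s' * s⁻¹, (inf_le_left : T1' ≤ T') h1⟩, ?_, ?_⟩
  · apply Subtype.ext
    rw [coe_smul]
    exact fixT1 h1
  · apply Subtype.ext
    rw [coe_smul]
    show (s' * s⁻¹) (a : Fin 4060) = a'
    rw [Equiv.Perm.mul_apply, ← hsa, inv_apply_self', hsa']

theorem disj_of_and {D E : ℕ} (h : D &&& E = 0) (v : ℕ) (h1 : D.testBit v = true)
    (h2 : E.testBit v = true) : False := by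
  have h3 : (D &&& E).testBit v = true := by
    rw [Nat.testBit_and, h1, h2]
    rfl
  rw [h] at h3
  simp at h3

theorem sub_B (i : Fin 4) (v : Fin 4060) (h : (mk i).testBit v = true) :
    mskB.testBit v = true := by
  have := allRange_all _ 4060 RuChk9.subT v v.2
  simp only [Bool.or_eq_true, Bool.not_eq_true'] at this
  rcases this with h' | h'
  · exfalso
    simp only [Bool.or_eq_false_iff] at h'
    fin_cases i
    · exact Bool.false_ne_true (h'.1 ▸ h)
    · exact Bool.false_ne_true (h'.2.1 ▸ h)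
    · exact Bool.false_ne_true (h'.2.2.1 ▸ h)
    · exact Bool.false_ne_true (h'.2.2.2 ▸ h)
  · exact h'

theorem ncard_CX (i : Fin 4) : (CX i).ncard = popc (mk i) := by
  have hbd : mk i < 2 ^ 4060 := by
    fin_cases i
    exacts [RuChk8.bdF10, RuChk8.bdF80, RuChk8.bdF640, RuChk8.bdC]
  rw [← ncard_mset (mk i) hbd, ← Set.ncard_image_of_injective (CX i) Subtype.val_injective]
  congr 1
  ext v
  constructor
  · rintro ⟨y, hy, rfl⟩
    exact hy
  · intro hv
    exact ⟨⟨v, (mem_X v).mpr (sub_B i v hv)⟩, hv, rfl⟩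

instance : Fact (Nat.Prime 13) := ⟨by norm_num⟩

theorem τ1_pow : τ1 ^ 13 = 1 := pow_eq_one_of_table' τ1 pt1 13 τ1_spec.2 RuChk1.o_pt1
theorem τ2_pow : τ2 ^ 13 = 1 := pow_eq_one_of_table' τ2 pt2 13 τ2_spec.2 RuChk1.o_pt2

theorem T'_simple : IsSimpleGroup ↥T' := by
  have hcover : ∀ y : X, y = x0 ∨ ∃ i, y ∈ CX i := by
    intro y
    have hy : mskB.testBit (y : Fin 4060) = true := (mem_X _).mp y.2
    have := allRange_all _ 4060 RuChk9.covT (y : Fin 4060) (y : Fin 4060).2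
    simp only [Bool.or_eq_true, Bool.not_eq_true'] at this
    rcases this with h | h | h | h | h | h
    · rw [hy] at h
      exact absurd h (by simp)
    · left
      apply Subtype.ext
      exact Fin.ext (Nat.eq_of_beq_eq_true h)
    · right; exact ⟨0, h⟩
    · right; exact ⟨1, h⟩
    · right; exact ⟨2, h⟩
    · right; exact ⟨3, h⟩
  have hx : ∀ i, x0 ∉ CX i := by
    intro i hi
    have h1 : (mk i).testBit 1 = true := hi
    fin_cases i
    · exact Bool.false_ne_true (RuChk9.n1_mskF10 ▸ h1)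
    · exact Bool.false_ne_true (RuChk9.n1_mskF80 ▸ h1)
    · exact Bool.false_ne_true (RuChk9.n1_mskF640 ▸ h1)
    · exact Bool.false_ne_true (RuChk9.n1_mskC ▸ h1)
  have hand : ∀ i j : Fin 4, i ≠ j → mk i &&& mk j = 0 := by
    intro i j hij
    fin_cases i <;> fin_cases j
    · exact absurd rfl hij
    · exact RuChk9.dj_0_1
    · exact RuChk9.dj_0_2
    · exact RuChk9.dj_0_3
    · exact (Nat.land_comm _ _).trans RuChk9.dj_0_1
    · exact absurd rfl hij
    · exact RuChk9.dj_1_2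
    · exact RuChk9.dj_1_3
    · exact (Nat.land_comm _ _).trans RuChk9.dj_0_2
    · exact (Nat.land_comm _ _).trans RuChk9.dj_1_2
    · exact absurd rfl hij
    · exact RuChk9.dj_2_3
    · exact (Nat.land_comm _ _).trans RuChk9.dj_0_3
    · exact (Nat.land_comm _ _).trans RuChk9.dj_1_3
    · exact (Nat.land_comm _ _).trans RuChk9.dj_2_3
    · exact absurd rfl hij
  have hdisj : ∀ i j, i ≠ j → Disjoint (CX i) (CX j) := by
    intro i j hij
    rw [Set.disjoint_left]
    intro y h1 h2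
    exact disj_of_and (hand i j hij) _ h1 h2
  have hC : ∀ i, ∀ a ∈ CX i, ∀ a' ∈ CX i, ∃ g : ↥T', g • x0 = x0 ∧ g • a = a' := by
    intro i
    fin_cases i
    · exact exchX 1026 0 lowF10
    · exact exchX 1540 1 lowF80
    · exact exchX 1027 2 lowF640
    · exact exchX 2 3 low3'
  have hn : ∀ i, (CX i).ncard = nX i := by
    intro i
    rw [ncard_CX]
    fin_cases i
    exacts [RuChk8.cardF10, RuChk8.cardF80, RuChk8.cardF640, RuChk8.cardC]
  have hdiv : ∀ S : Finset (Fin 4), (1 + ∑ i ∈ S, nX i) ∣ Nat.card X →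
      S = ∅ ∨ S = Finset.univ := by
    rw [card_X]
    decide
  have hfaith : ∀ g : ↥T', (∀ y : X, g • y = y) → g = 1 := by
    intro g hg
    have hfix : ∀ v : Fin 4060, mskB.testBit v = true → (g : P) v = v := by
      intro v hv
      have := hg ⟨v, (mem_X v).mpr hv⟩
      exact congrArg Subtype.val this
    have h0 : (g : P) ∈ H1 := T'_le g.2
    have h1 : (g : P) ∈ H2 := (mem_inf_stab H1 1 _).mpr ⟨h0, hfix 1 RuChk9.b1⟩
    have h2 : (g : P) ∈ H3 := (mem_inf_stab H2 2 _).mpr ⟨h1, hfix 2 RuChk9.bB2⟩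
    have h3 : (g : P) ∈ H4 := (mem_inf_stab H3 3 _).mpr ⟨h2, hfix 3 RuChk9.bB3⟩
    rw [H4_bot, Subgroup.mem_bot] at h3
    exact Subtype.ext h3
  have hA : Subgroup.closure (((↑) : ↥T' → P) ⁻¹' {τ1, τ2}) = ⊤ :=
    Subgroup.closure_closure_coe_preimage
  have hAp : ∀ a ∈ (((↑) : ↥T' → P) ⁻¹' {τ1, τ2}), a ^ 13 = 1 := by
    intro a ha
    apply Subtype.ext
    rw [Subgroup.coe_pow]
    rcases ha with h | h
    · rw [h]; exact τ1_pow
    · rw [Set.mem_singleton_iff] at h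
      rw [h]; exact τ2_pow
  have hnt : Nontrivial ↥T' := by
    rw [← Finite.one_lt_card_iff_nontrivial, card_T']
    norm_num
  exact simple_of_prim_prime htransX x0 CX nX hcover hx hdisj hC hn hdiv hfaith 13 1382400
    (by rw [card_T']) (by norm_num) (by rw [card_X]; norm_num) _ hA hAp hnt

end Cfsg.Agent.Lib.Helper9.RuMain3
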