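import Cfsg.Agent.Lib.Helper9.RuMain3
import Cfsg.Prelude.Def_Sporadic
import Cfsg.Prelude.Def_Exceptional

set_option autoImplicit false

/-! The Rudvalis group on 4060 points, with the Tits group inside a point stabiliser. -/

namespace Cfsg.Agent.Lib.Helper9.RuMain4

open Cfsg.Agent.Lib.Helper9.RuMain1 Cfsg.Agent.Lib.Helper9.RuMain2 Cfsg.Agent.Lib.Helper9.RuMain3

theorem main : ∃ H : Subgroup (Equiv.Perm (Fin 4060)), Cfsg.IsRu H ∧
    MulAction.IsPretransitive H (Fin 4060) ∧
    Nat.card (MulAction.stabilizer H (0 : Fin 4060)) = 35942400 ∧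
    ∃ T : Subgroup (MulAction.stabilizer H (0 : Fin 4060)), Cfsg.IsTits T := by
  classical
  refine ⟨H, ⟨H_simple, card_H⟩, ⟨htrans⟩, ?_, ?_⟩
  · -- the order of the point stabiliser
    have h1 := Subgroup.card_mul_index (MulAction.stabilizer ↥H (0 : Fin 4060))
    rw [MulAction.index_stabilizer] at h1
    have h2 : MulAction.orbit ↥H (0 : Fin 4060) = Set.univ := by
      ext y
      simp only [Set.mem_univ, iff_true]
      obtain ⟨g, hg⟩ := htrans 0 y
      exact ⟨g, hg⟩
    rw [h2, Set.ncard_univ, Nat.card_eq_fintype_card (α := Fin 4060), Fintype.card_fin,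
      card_H] at h1
    have h3 : (145926144000 : ℕ) = 35942400 * 4060 := by norm_num
    rw [h3] at h1
    exact Nat.eq_of_mul_eq_mul_right (by norm_num) h1
  · -- the simple subgroup
    have hle : T'.subgroupOf H ≤ MulAction.stabilizer ↥H (0 : Fin 4060) := by
      intro g hg
      rw [Subgroup.mem_subgroupOf] at hg
      rw [MulAction.mem_stabilizer_iff]
      exact fix0 (T'_le hg)
    have hle2 : T' ≤ H := le_trans T'_le inf_le_left
    let e1 := Subgroup.subgroupOfEquivOfLe hle
    let e2 := Subgroup.subgroupOfEquivOfLe hle2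
    refine ⟨(T'.subgroupOf H).subgroupOf (MulAction.stabilizer ↥H (0 : Fin 4060)), ?_, ?_⟩
    · haveI := T'_simple
      exact MulEquiv.isSimpleGroup (e1.trans e2)
    · rw [Nat.card_congr (e1.trans e2).toEquiv, card_T']

end Cfsg.Agent.Lib.Helper9.RuMain4
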