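import Cfsg.Agent.Lib.Helper9.RuGraph
import Cfsg.Agent.Lib.Helper9.OutJ

set_option autoImplicit false

/-! Centralisers in the group of a graph given by bit masks: an automorphism commuting with an
element `a` is determined by the image of a point `b` when the automorphisms fixing some points of
the cycle of `b` are trivial, and that image is restricted by the adjacencies and by the numbers of
common neighbours along the cycle (S2077). -/

namespace Cfsg.Agent.Lib.Helper9.RuOutA

open Cfsg.Agent.Lib.Helper9.RuBits Cfsg.Agent.Lib.Helper9.RuNet Cfsg.Agent.Lib.Helper9.RuPerm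
  Cfsg.Agent.Lib.Helper9.RuGraph Cfsg.Agent.Lib.Helper9.OutJ

/-- the pointwise stabiliser of the points with numbers in a list -/
def fixL (n : ℕ) (bs : List ℕ) : Subgroup (Equiv.Perm (Fin n)) where
  carrier := {σ | ∀ x : Fin n, (x : ℕ) ∈ bs → σ x = x}
  one_mem' := fun _ _ => rfl
  mul_mem' := by
    intro a b ha hb x hx
    rw [Equiv.Perm.mul_apply, hb x hx, ha x hx]
  inv_mem' := by
    intro a ha x hx
    have h := ha x hx
    calc a⁻¹ x = a⁻¹ (a x) := by rw [h]
      _ = x := Cfsg.Agent.Lib.Helper9.Chain1.inv_apply_self' a x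

theorem evw_append : ∀ (A B : List ℕ) (x : ℕ), evw (A ++ B) x = evw B (evw A x) := by
  intro A
  induction A with
  | nil => intro B x; rfl
  | cons c A ih =>
    intro B x
    show evw (A ++ B) (ev c x) = evw B (evw A (ev c x))
    exact ih B (ev c x)

variable {n : ℕ} {row : ℕ → ℕ}

theorem pow_table (σ : Equiv.Perm (Fin n)) (L : ℕ)
    (hσ : ∀ x : Fin n, ((σ x : Fin n) : ℕ) = ev L x) :
    ∀ (j : ℕ) (x : Fin n), (((σ ^ j) x : Fin n) : ℕ) = evw (List.replicate j L) x := by
  intro j
  induction j with
  | zero => intro x; rfl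
  | succ j ih =>
    intro x
    rw [pow_succ, Equiv.Perm.mul_apply, ih, hσ, List.replicate_succ, evw]

theorem comm_pow_apply (a w : Equiv.Perm (Fin n)) (hw : w * a = a * w) (k : ℕ) (p : Fin n) :
    w ((a ^ k) p) = (a ^ k) (w p) := by
  have h : Commute w a := hw
  have h2 : w * a ^ k = a ^ k * w := h.pow_right k
  have h3 := congrArg (fun f : Equiv.Perm (Fin n) => f p) h2
  simpa only [Equiv.Perm.mul_apply] using h3

/-- two automorphisms commuting with `a` that agree at `b` are equal, when the automorphisms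
fixing some points of the cycle of `b` are trivial -/
theorem eq_of_cycle (a : Equiv.Perm (Fin n)) (b : Fin n) (bs : List ℕ)
    (hdisc : Aut n row ⊓ fixL n bs = ⊥)
    (hbs : ∀ x : Fin n, (x : ℕ) ∈ bs → ∃ k : ℕ, x = (a ^ k) b)
    (y y' : Equiv.Perm (Fin n)) (hy : y ∈ Aut n row) (hy' : y' ∈ Aut n row)
    (hc : y * a = a * y) (hc' : y' * a = a * y') (hb : y b = y' b) : y = y' := by
  have hmem : y'⁻¹ * y ∈ Aut n row ⊓ fixL n bs := by
    refine ⟨Subgroup.mul_mem _ (Subgroup.inv_mem _ hy') hy, ?_⟩
    intro x hx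
    obtain ⟨k, rfl⟩ := hbs x hx
    show (y'⁻¹ * y) ((a ^ k) b) = (a ^ k) b
    rw [Equiv.Perm.mul_apply, comm_pow_apply a y hc k, hb, ← comm_pow_apply a y' hc' k]
    exact Cfsg.Agent.Lib.Helper9.Chain1.inv_apply_self' _ _
  rw [hdisc, Subgroup.mem_bot] at hmem
  exact (inv_mul_eq_one.mp hmem).symm

/-- the adjacencies of `c` with the next `k` points after `p` along the map `L` -/
def adjL (row : ℕ → ℕ) (L c : ℕ) : ℕ → ℕ → List Bool
  | 0, _ => []
  | k + 1, p => (row c).testBit (ev L p) :: adjL row L c k (ev L p)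

theorem adjL_inv (a y : Equiv.Perm (Fin n)) (L : ℕ)
    (ha : ∀ x : Fin n, ((a x : Fin n) : ℕ) = ev L x)
    (hy : y ∈ Aut n row) (hc : y * a = a * y) (b : Fin n) :
    ∀ (k : ℕ) (p : Fin n), adjL row L (y b) k (y p) = adjL row L b k p := by
  intro k
  induction k with
  | zero => intro p; rfl
  | succ k ih =>
    intro p
    have e1 : ev L (y p) = ((y (a p) : Fin n) : ℕ) := by
      rw [← ha (y p)]
      have := comm_pow_apply a y hc 1 p
      rw [pow_one] at this
      rw [this]
    have e2 : ev L p = ((a p : Fin n) : ℕ) := (ha p).symm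
    show ((row (y b)).testBit (ev L (y p)) :: adjL row L (y b) k (ev L (y p))) =
      ((row b).testBit (ev L p) :: adjL row L b k (ev L p))
    rw [e1, e2, hy b (a p), ih (a p)]

/-- the common neighbours of points along the map `L`, at the distances of the list -/
def landW (row : ℕ → ℕ) (L : ℕ) : List ℕ → ℕ → ℕ → ℕ
  | [], _, acc => acc
  | d :: ds, p, acc =>
    landW row L ds (evw (List.replicate d L) p)
      (Nat.land acc (row (evw (List.replicate d L) p)))

theorem landW_le (L : ℕ) : ∀ (ds : List ℕ) (p acc : ℕ), landW row L ds p acc ≤ acc := by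
  intro ds
  induction ds with
  | nil => intro p acc; exact le_refl _
  | cons d ds ih =>
    intro p acc
    exact le_trans (ih _ _) Nat.and_le_left

theorem landW_inv (a y : Equiv.Perm (Fin n)) (L : ℕ)
    (ha : ∀ x : Fin n, ((a x : Fin n) : ℕ) = ev L x)
    (hy : y ∈ Aut n row) (hc : y * a = a * y) :
    ∀ (ds : List ℕ) (p : Fin n) (acc acc' : ℕ),
      (∀ w : Fin n, acc'.testBit (y w) = acc.testBit w) →
      ∀ w : Fin n, (landW row L ds (y p) acc').testBit (y w) = (landW row L ds p acc).testBit w := by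
  intro ds
  induction ds with
  | nil => intro p acc acc' h w; exact h w
  | cons d ds ih =>
    intro p acc acc' h w
    have e1 : evw (List.replicate d L) (y p) = ((y ((a ^ d) p) : Fin n) : ℕ) := by
      rw [← pow_table a L ha d (y p), comm_pow_apply a y hc d p]
    have e2 : evw (List.replicate d L) p = (((a ^ d) p : Fin n) : ℕ) := (pow_table a L ha d p).symm
    show (landW row L ds (evw (List.replicate d L) (y p))
      (Nat.land acc' (row (evw (List.replicate d L) (y p))))).testBit (y w) =
      (landW row L ds (evw (List.replicate d L) p)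
        (Nat.land acc (row (evw (List.replicate d L) p)))).testBit w
    rw [e1, e2]
    apply ih
    intro w'
    have t1 : (Nat.land acc' (row (y ((a ^ d) p)))).testBit (y w') =
        (acc'.testBit (y w') && (row (y ((a ^ d) p))).testBit (y w')) := Nat.testBit_and _ _ _
    have t2 : (Nat.land acc (row ((a ^ d) p))).testBit w' =
        (acc.testBit w' && (row ((a ^ d) p)).testBit w') := Nat.testBit_and _ _ _
    rw [t1, t2, h w', hy ((a ^ d) p) w']

theorem popc_perm (hn : n ≤ 4096) (σ : Equiv.Perm (Fin n)) (X Y : ℕ) (hX : X < 2 ^ n)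
    (hY : Y < 2 ^ n) (h : ∀ w : Fin n, Y.testBit (σ w) = X.testBit w) : popc Y = popc X := by
  rw [popc_card n _ hn hX, popc_card n _ hn hY]
  symm
  apply Finset.card_bijective σ σ.bijective
  intro w
  simp only [Finset.mem_filter, Finset.mem_univ, true_and]
  rw [h w]

/-- the number of common neighbours along the cycle is kept by automorphisms commuting with `a` -/
theorem popc_landW_inv (hn : n ≤ 4096) (hrow : ∀ v < n, row v < 2 ^ n)
    (a y : Equiv.Perm (Fin n)) (L : ℕ) (ha : ∀ x : Fin n, ((a x : Fin n) : ℕ) = ev L x)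
    (hy : y ∈ Aut n row) (hc : y * a = a * y) (ds : List ℕ) (b : Fin n) :
    popc (landW row L ds (y b) (row (y b))) = popc (landW row L ds b (row b)) := by
  apply popc_perm hn y
  · exact lt_of_le_of_lt (landW_le L ds _ _) (hrow b b.2)
  · exact lt_of_le_of_lt (landW_le L ds _ _) (hrow (y b) (y b).2)
  · exact landW_inv a y L ha hy hc ds b (row b) (row (y b)) (fun w => hy b w)

/-- the list is a piece of the cycle of `p` under the map `L` -/
def cycChk (L : ℕ) : List ℕ → ℕ → Bool
  | [], _ => true
  | c :: cs, p => Nat.beq c p && cycChk L cs (ev L p)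

theorem cycChk_spec (L : ℕ) : ∀ (cs : List ℕ) (p : ℕ), cycChk L cs p = true →
    ∀ c ∈ cs, ∃ k : ℕ, c = evw (List.replicate k L) p := by
  intro cs
  induction cs with
  | nil => intro p _ c hc; exact absurd hc (List.not_mem_nil)
  | cons c0 cs ih =>
    intro p h c hc
    rw [cycChk, Bool.and_eq_true] at h
    rcases List.mem_cons.mp hc with rfl | hc'
    · exact ⟨0, Nat.eq_of_beq_eq_true h.1⟩
    · obtain ⟨k, hk⟩ := ih (ev L p) h.2 c hc'
      exact ⟨k + 1, by rw [hk, List.replicate_succ, evw]⟩

/-- membership in a list of numbers -/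
def memL : List ℕ → ℕ → Bool
  | [], _ => false
  | c :: cs, x => Nat.beq c x || memL cs x

theorem memL_spec : ∀ (l : List ℕ) (x : ℕ), memL l x = true → x ∈ l := by
  intro l
  induction l with
  | nil => intro x h; exact absurd h (by simp [memL])
  | cons c cs ih =>
    intro x h
    rw [memL, Bool.or_eq_true] at h
    rcases h with h | h
    · exact List.mem_cons.mpr (Or.inl (Nat.eq_of_beq_eq_true h).symm)
    · exact List.mem_cons.mpr (Or.inr (ih x h))

/-- the list is the list of the values of `f` from `j` on -/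
def listChk (f : ℕ → ℕ) : List ℕ → ℕ → Bool
  | [], _ => true
  | c :: cs, j => Nat.beq c (f j) && listChk f cs (j + 1)

theorem listChk_spec (f : ℕ → ℕ) : ∀ (l : List ℕ) (j : ℕ), listChk f l j = true →
    ∀ c ∈ l, ∃ i : ℕ, j ≤ i ∧ i < j + l.length ∧ c = f i := by
  intro l
  induction l with
  | nil => intro j _ c hc; exact absurd hc (List.not_mem_nil)
  | cons c0 cs ih =>
    intro j h c hc
    rw [listChk, Bool.and_eq_true] at h
    rcases List.mem_cons.mp hc with rfl | hc'
    · exact ⟨j, le_refl _, by rw [List.length_cons]; omega, Nat.eq_of_beq_eq_true h.1⟩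
    · obtain ⟨i, h1, h2, h3⟩ := ih (j + 1) h.2 c hc'
      exact ⟨i, by omega, by rw [List.length_cons]; omega, h3⟩

/-- the word of tables of a word in three elements with words of tables `Wx`, `Wn`, `Wz`, the
first letter applied last -/
def flat3 (Wx Wn Wz : List ℕ) : List ℕ → List ℕ
  | [] => []
  | c :: w => flat3 Wx Wn Wz w ++ (bif Nat.beq c 0 then Wx else bif Nat.beq c 1 then Wn else Wz)

theorem evalG3_table (x nn z : Equiv.Perm (Fin n)) (Wx Wn Wz : List ℕ)
    (hx : ∀ p : Fin n, ((x p : Fin n) : ℕ) = evw Wx p)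
    (hnn : ∀ p : Fin n, ((nn p : Fin n) : ℕ) = evw Wn p)
    (hz : ∀ p : Fin n, ((z p : Fin n) : ℕ) = evw Wz p) :
    ∀ (ρ : List ℕ) (p : Fin n),
      ((evalG3 x nn z ρ p : Fin n) : ℕ) = evw (flat3 Wx Wn Wz ρ) p := by
  intro ρ
  induction ρ with
  | nil => intro p; rfl
  | cons c w ih =>
    intro p
    rw [evalG3_cons, Equiv.Perm.mul_apply, flat3, evw_append, ← ih p]
    cases Nat.beq c 0 <;> cases Nat.beq c 1 <;> simp only [cond_true, cond_false]
    · exact hz _
    · exact hnn _
    · exact hx _
    · exact hx _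

end Cfsg.Agent.Lib.Helper9.RuOutA
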