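import Cfsg.Agent.Lib.Helper9.RuOutA
import Cfsg.Agent.Lib.Helper9.RuOutData2
import Cfsg.Agent.Lib.Helper9.RuRows

set_option autoImplicit false

/-! The conditions on the image of a point under an automorphism of the graph on 4060 points that
commutes with the element of order 29, or with the element of order 7, and the elimination of
the wrong images of the generators (S2077). -/

namespace Cfsg.Agent.Lib.Helper9.RuOutB

open Cfsg.Agent.Lib.Helper9.RuBits Cfsg.Agent.Lib.Helper9.RuNet Cfsg.Agent.Lib.Helper9.RuPerm
  Cfsg.Agent.Lib.Helper9.RuGraph Cfsg.Agent.Lib.Helper9.RuPermData Cfsg.Agent.Lib.Helper9.RuRows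
  Cfsg.Agent.Lib.Helper9.RuOutData Cfsg.Agent.Lib.Helper9.RuOutData2
  Cfsg.Agent.Lib.Helper9.RuOutA

/-- equality of lists of bits -/
def eqLB : List Bool → List Bool → Bool
  | [], [] => true
  | a :: as, b :: bs => (bif a then b else !b) && eqLB as bs
  | _, _ => false

theorem eqLB_spec : ∀ (l l' : List Bool), eqLB l l' = true → l = l' := by
  intro l
  induction l with
  | nil =>
    intro l' h
    cases l' with
    | nil => rfl
    | cons b bs => exact absurd h (by simp [eqLB])
  | cons a as ih =>
    intro l' h
    cases l' with
    | nil => exact absurd h (by simp [eqLB])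
    | cons b bs =>
      rw [eqLB, Bool.and_eq_true] at h
      have h1 : a = b := by
        have := h.1
        cases a <;> cases b <;> simp_all
      rw [h1, ih bs h.2]

theorem eqLB_refl : ∀ l : List Bool, eqLB l l = true := by
  intro l
  induction l with
  | nil => rfl
  | cons a as ih =>
    rw [eqLB, ih]
    cases a <;> rfl

/-- the conditions on the image `c` of the point 0 under an automorphism commuting with the
element of order 29 -/
def candX (c : ℕ) : Bool :=
  eqLB (adjL grow pg1 c 28 c) adjXc &&
    Nat.beq (popc (landW grow pg1 [1, 1, 5] c (grow c))) quadXc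

/-- the conditions on the image `c` of the point 35 under an automorphism commuting with the
element of order 7 -/
def candU (c : ℕ) : Bool :=
  eqLB (adjL grow pnn c 6 c) adjUc &&
    Nat.beq (popc (landW grow pnn [1, 1] c (grow c))) tripUc

/-- the word of tables of the `j`-th element of the centraliser of the element of order 7 -/
def wcu (j : ℕ) : List ℕ := List.replicate (j % 2) pz ++ List.replicate (j / 2) pn

/-- the pair of the `k0`-th power of the element of order 29 and the `j`-th element of the
centraliser is the pair of the generators, or it breaks a relation at the point 0 -/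
def elimChk (k0 j : ℕ) : Bool :=
  (Nat.beq k0 1 && Nat.beq j 1) ||
    REL.any (fun ρ => !(Nat.beq (evw (flat3 (List.replicate k0 pg1) [pn] (wcu j) ρ) 0) 0))

/-- the relation holds at the point `v` -/
def relChk (ρ : List ℕ) (v : ℕ) : Bool := Nat.beq (evw (flat3 [pg1] [pn] [pz] ρ) v) v

end Cfsg.Agent.Lib.Helper9.RuOutB
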