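import Cfsg.Agent.Lib.Helper9.RuTree
import Cfsg.Agent.Lib.Helper9.RuRows
import Cfsg.Agent.Lib.Helper9.RuRowsTh
import Cfsg.Agent.Lib.Helper9.RuPermData
import Cfsg.Agent.Lib.Helper9.RuNetData
import Cfsg.Agent.Lib.Helper9.RuTreeData
import Cfsg.Agent.Lib.Helper9.RuCertData
import Cfsg.Agent.Lib.Helper9.RuOutData

set_option autoImplicit false

/-! Colour refinement of the graph on 4060 points from points of a cycle of an element of order 29 and of a cycle of an element of order 7 ends with all points apart (S2077). -/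

namespace Cfsg.Agent.Lib.Helper9.RuOutChk3

open Cfsg.Agent.Lib.Helper9.RuBits Cfsg.Agent.Lib.Helper9.RuNet Cfsg.Agent.Lib.Helper9.RuPerm Cfsg.Agent.Lib.Helper9.RuGraph Cfsg.Agent.Lib.Helper9.RuTree
  Cfsg.Agent.Lib.Helper9.RuPermData Cfsg.Agent.Lib.Helper9.RuNetData Cfsg.Agent.Lib.Helper9.RuTreeData Cfsg.Agent.Lib.Helper9.RuCertData Cfsg.Agent.Lib.Helper9.RuRows Cfsg.Agent.Lib.Helper9.RuRowsTh
  Cfsg.Agent.Lib.Helper9.RuOutData

theorem wX_0 : allRange (fun v => walk q stepsX (grow v) v (initc [0, 3231, 3355, 2687, 3497, 3346] v) (finDisc 4060 ksX liX lpX v)) 0 256 = true := by decide +kernel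

theorem wX_1 : allRange (fun v => walk q stepsX (grow v) v (initc [0, 3231, 3355, 2687, 3497, 3346] v) (finDisc 4060 ksX liX lpX v)) 256 256 = true := by decide +kernel

theorem wX_2 : allRange (fun v => walk q stepsX (grow v) v (initc [0, 3231, 3355, 2687, 3497, 3346] v) (finDisc 4060 ksX liX lpX v)) 512 256 = true := by decide +kernel

theorem wX_3 : allRange (fun v => walk q stepsX (grow v) v (initc [0, 3231, 3355, 2687, 3497, 3346] v) (finDisc 4060 ksX liX lpX v)) 768 256 = true := by decide +kernel

theorem wX_4 : allRange (fun v => walk q stepsX (grow v) v (initc [0, 3231, 3355, 2687, 3497, 3346] v) (finDisc 4060 ksX liX lpX v)) 1024 256 = true := by decide +kernel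

theorem wX_5 : allRange (fun v => walk q stepsX (grow v) v (initc [0, 3231, 3355, 2687, 3497, 3346] v) (finDisc 4060 ksX liX lpX v)) 1280 256 = true := by decide +kernel

theorem wX_6 : allRange (fun v => walk q stepsX (grow v) v (initc [0, 3231, 3355, 2687, 3497, 3346] v) (finDisc 4060 ksX liX lpX v)) 1536 256 = true := by decide +kernel

theorem wX_7 : allRange (fun v => walk q stepsX (grow v) v (initc [0, 3231, 3355, 2687, 3497, 3346] v) (finDisc 4060 ksX liX lpX v)) 1792 256 = true := by decide +kernel

theorem wX_8 : allRange (fun v => walk q stepsX (grow v) v (initc [0, 3231, 3355, 2687, 3497, 3346] v) (finDisc 4060 ksX liX lpX v)) 2048 256 = true := by decide +kernel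

theorem wX_9 : allRange (fun v => walk q stepsX (grow v) v (initc [0, 3231, 3355, 2687, 3497, 3346] v) (finDisc 4060 ksX liX lpX v)) 2304 256 = true := by decide +kernel

theorem wX_10 : allRange (fun v => walk q stepsX (grow v) v (initc [0, 3231, 3355, 2687, 3497, 3346] v) (finDisc 4060 ksX liX lpX v)) 2560 256 = true := by decide +kernel

theorem wX_11 : allRange (fun v => walk q stepsX (grow v) v (initc [0, 3231, 3355, 2687, 3497, 3346] v) (finDisc 4060 ksX liX lpX v)) 2816 256 = true := by decide +kernel

theorem wX_12 : allRange (fun v => walk q stepsX (grow v) v (initc [0, 3231, 3355, 2687, 3497, 3346] v) (finDisc 4060 ksX liX lpX v)) 3072 256 = true := by decide +kernel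

theorem wX_13 : allRange (fun v => walk q stepsX (grow v) v (initc [0, 3231, 3355, 2687, 3497, 3346] v) (finDisc 4060 ksX liX lpX v)) 3328 256 = true := by decide +kernel

theorem wX_14 : allRange (fun v => walk q stepsX (grow v) v (initc [0, 3231, 3355, 2687, 3497, 3346] v) (finDisc 4060 ksX liX lpX v)) 3584 256 = true := by decide +kernel

theorem wX_15 : allRange (fun v => walk q stepsX (grow v) v (initc [0, 3231, 3355, 2687, 3497, 3346] v) (finDisc 4060 ksX liX lpX v)) 3840 220 = true := by decide +kernel

theorem wX_acc1 : allRange (fun v => walk q stepsX (grow v) v (initc [0, 3231, 3355, 2687, 3497, 3346] v) (finDisc 4060 ksX liX lpX v)) 0 512 = true :=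
  allRange_append _ 256 0 256 wX_0 wX_1

theorem wX_acc2 : allRange (fun v => walk q stepsX (grow v) v (initc [0, 3231, 3355, 2687, 3497, 3346] v) (finDisc 4060 ksX liX lpX v)) 0 768 = true :=
  allRange_append _ 512 0 256 wX_acc1 wX_2

theorem wX_acc3 : allRange (fun v => walk q stepsX (grow v) v (initc [0, 3231, 3355, 2687, 3497, 3346] v) (finDisc 4060 ksX liX lpX v)) 0 1024 = true :=
  allRange_append _ 768 0 256 wX_acc2 wX_3

theorem wX_acc4 : allRange (fun v => walk q stepsX (grow v) v (initc [0, 3231, 3355, 2687, 3497, 3346] v) (finDisc 4060 ksX liX lpX v)) 0 1280 = true :=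
  allRange_append _ 1024 0 256 wX_acc3 wX_4

theorem wX_acc5 : allRange (fun v => walk q stepsX (grow v) v (initc [0, 3231, 3355, 2687, 3497, 3346] v) (finDisc 4060 ksX liX lpX v)) 0 1536 = true :=
  allRange_append _ 1280 0 256 wX_acc4 wX_5

theorem wX_acc6 : allRange (fun v => walk q stepsX (grow v) v (initc [0, 3231, 3355, 2687, 3497, 3346] v) (finDisc 4060 ksX liX lpX v)) 0 1792 = true :=
  allRange_append _ 1536 0 256 wX_acc5 wX_6

theorem wX_acc7 : allRange (fun v => walk q stepsX (grow v) v (initc [0, 3231, 3355, 2687, 3497, 3346] v) (finDisc 4060 ksX liX lpX v)) 0 2048 = true :=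
  allRange_append _ 1792 0 256 wX_acc6 wX_7

theorem wX_acc8 : allRange (fun v => walk q stepsX (grow v) v (initc [0, 3231, 3355, 2687, 3497, 3346] v) (finDisc 4060 ksX liX lpX v)) 0 2304 = true :=
  allRange_append _ 2048 0 256 wX_acc7 wX_8

theorem wX_acc9 : allRange (fun v => walk q stepsX (grow v) v (initc [0, 3231, 3355, 2687, 3497, 3346] v) (finDisc 4060 ksX liX lpX v)) 0 2560 = true :=
  allRange_append _ 2304 0 256 wX_acc8 wX_9

theorem wX_acc10 : allRange (fun v => walk q stepsX (grow v) v (initc [0, 3231, 3355, 2687, 3497, 3346] v) (finDisc 4060 ksX liX lpX v)) 0 2816 = true :=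
  allRange_append _ 2560 0 256 wX_acc9 wX_10

theorem wX_acc11 : allRange (fun v => walk q stepsX (grow v) v (initc [0, 3231, 3355, 2687, 3497, 3346] v) (finDisc 4060 ksX liX lpX v)) 0 3072 = true :=
  allRange_append _ 2816 0 256 wX_acc10 wX_11

theorem wX_acc12 : allRange (fun v => walk q stepsX (grow v) v (initc [0, 3231, 3355, 2687, 3497, 3346] v) (finDisc 4060 ksX liX lpX v)) 0 3328 = true :=
  allRange_append _ 3072 0 256 wX_acc11 wX_12

theorem wX_acc13 : allRange (fun v => walk q stepsX (grow v) v (initc [0, 3231, 3355, 2687, 3497, 3346] v) (finDisc 4060 ksX liX lpX v)) 0 3584 = true :=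
  allRange_append _ 3328 0 256 wX_acc12 wX_13

theorem wX_acc14 : allRange (fun v => walk q stepsX (grow v) v (initc [0, 3231, 3355, 2687, 3497, 3346] v) (finDisc 4060 ksX liX lpX v)) 0 3840 = true :=
  allRange_append _ 3584 0 256 wX_acc13 wX_14

theorem wX : allRange (fun v => walk q stepsX (grow v) v (initc [0, 3231, 3355, 2687, 3497, 3346] v) (finDisc 4060 ksX liX lpX v)) 0 4060 = true :=
  allRange_append _ 3840 0 220 wX_acc14 wX_15

theorem incX_0 : allRange (incChk ksX) 0 2048 = true := by decide +kernel

theorem incX_1 : allRange (incChk ksX) 2048 2011 = true := by decide +kernel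

theorem incX : allRange (incChk ksX) 0 4059 = true :=
  allRange_append _ 2048 0 2011 incX_0 incX_1

theorem wU_0 : allRange (fun v => walk q stepsU (grow v) v (initc [35, 3388, 3881, 1194, 3756] v) (finDisc 4060 ksU liU lpU v)) 0 256 = true := by decide +kernel

theorem wU_1 : allRange (fun v => walk q stepsU (grow v) v (initc [35, 3388, 3881, 1194, 3756] v) (finDisc 4060 ksU liU lpU v)) 256 256 = true := by decide +kernel

theorem wU_2 : allRange (fun v => walk q stepsU (grow v) v (initc [35, 3388, 3881, 1194, 3756] v) (finDisc 4060 ksU liU lpU v)) 512 256 = true := by decide +kernel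

theorem wU_3 : allRange (fun v => walk q stepsU (grow v) v (initc [35, 3388, 3881, 1194, 3756] v) (finDisc 4060 ksU liU lpU v)) 768 256 = true := by decide +kernel

theorem wU_4 : allRange (fun v => walk q stepsU (grow v) v (initc [35, 3388, 3881, 1194, 3756] v) (finDisc 4060 ksU liU lpU v)) 1024 256 = true := by decide +kernel

theorem wU_5 : allRange (fun v => walk q stepsU (grow v) v (initc [35, 3388, 3881, 1194, 3756] v) (finDisc 4060 ksU liU lpU v)) 1280 256 = true := by decide +kernel

theorem wU_6 : allRange (fun v => walk q stepsU (grow v) v (initc [35, 3388, 3881, 1194, 3756] v) (finDisc 4060 ksU liU lpU v)) 1536 256 = true := by decide +kernel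

theorem wU_7 : allRange (fun v => walk q stepsU (grow v) v (initc [35, 3388, 3881, 1194, 3756] v) (finDisc 4060 ksU liU lpU v)) 1792 256 = true := by decide +kernel

theorem wU_8 : allRange (fun v => walk q stepsU (grow v) v (initc [35, 3388, 3881, 1194, 3756] v) (finDisc 4060 ksU liU lpU v)) 2048 256 = true := by decide +kernel

theorem wU_9 : allRange (fun v => walk q stepsU (grow v) v (initc [35, 3388, 3881, 1194, 3756] v) (finDisc 4060 ksU liU lpU v)) 2304 256 = true := by decide +kernel

theorem wU_10 : allRange (fun v => walk q stepsU (grow v) v (initc [35, 3388, 3881, 1194, 3756] v) (finDisc 4060 ksU liU lpU v)) 2560 256 = true := by decide +kernel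

theorem wU_11 : allRange (fun v => walk q stepsU (grow v) v (initc [35, 3388, 3881, 1194, 3756] v) (finDisc 4060 ksU liU lpU v)) 2816 256 = true := by decide +kernel

theorem wU_12 : allRange (fun v => walk q stepsU (grow v) v (initc [35, 3388, 3881, 1194, 3756] v) (finDisc 4060 ksU liU lpU v)) 3072 256 = true := by decide +kernel

theorem wU_13 : allRange (fun v => walk q stepsU (grow v) v (initc [35, 3388, 3881, 1194, 3756] v) (finDisc 4060 ksU liU lpU v)) 3328 256 = true := by decide +kernel

theorem wU_14 : allRange (fun v => walk q stepsU (grow v) v (initc [35, 3388, 3881, 1194, 3756] v) (finDisc 4060 ksU liU lpU v)) 3584 256 = true := by decide +kernel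

theorem wU_15 : allRange (fun v => walk q stepsU (grow v) v (initc [35, 3388, 3881, 1194, 3756] v) (finDisc 4060 ksU liU lpU v)) 3840 220 = true := by decide +kernel

theorem wU_acc1 : allRange (fun v => walk q stepsU (grow v) v (initc [35, 3388, 3881, 1194, 3756] v) (finDisc 4060 ksU liU lpU v)) 0 512 = true :=
  allRange_append _ 256 0 256 wU_0 wU_1

theorem wU_acc2 : allRange (fun v => walk q stepsU (grow v) v (initc [35, 3388, 3881, 1194, 3756] v) (finDisc 4060 ksU liU lpU v)) 0 768 = true :=
  allRange_append _ 512 0 256 wU_acc1 wU_2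

theorem wU_acc3 : allRange (fun v => walk q stepsU (grow v) v (initc [35, 3388, 3881, 1194, 3756] v) (finDisc 4060 ksU liU lpU v)) 0 1024 = true :=
  allRange_append _ 768 0 256 wU_acc2 wU_3

theorem wU_acc4 : allRange (fun v => walk q stepsU (grow v) v (initc [35, 3388, 3881, 1194, 3756] v) (finDisc 4060 ksU liU lpU v)) 0 1280 = true :=
  allRange_append _ 1024 0 256 wU_acc3 wU_4

theorem wU_acc5 : allRange (fun v => walk q stepsU (grow v) v (initc [35, 3388, 3881, 1194, 3756] v) (finDisc 4060 ksU liU lpU v)) 0 1536 = true :=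
  allRange_append _ 1280 0 256 wU_acc4 wU_5

theorem wU_acc6 : allRange (fun v => walk q stepsU (grow v) v (initc [35, 3388, 3881, 1194, 3756] v) (finDisc 4060 ksU liU lpU v)) 0 1792 = true :=
  allRange_append _ 1536 0 256 wU_acc5 wU_6

theorem wU_acc7 : allRange (fun v => walk q stepsU (grow v) v (initc [35, 3388, 3881, 1194, 3756] v) (finDisc 4060 ksU liU lpU v)) 0 2048 = true :=
  allRange_append _ 1792 0 256 wU_acc6 wU_7

theorem wU_acc8 : allRange (fun v => walk q stepsU (grow v) v (initc [35, 3388, 3881, 1194, 3756] v) (finDisc 4060 ksU liU lpU v)) 0 2304 = true :=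
  allRange_append _ 2048 0 256 wU_acc7 wU_8

theorem wU_acc9 : allRange (fun v => walk q stepsU (grow v) v (initc [35, 3388, 3881, 1194, 3756] v) (finDisc 4060 ksU liU lpU v)) 0 2560 = true :=
  allRange_append _ 2304 0 256 wU_acc8 wU_9

theorem wU_acc10 : allRange (fun v => walk q stepsU (grow v) v (initc [35, 3388, 3881, 1194, 3756] v) (finDisc 4060 ksU liU lpU v)) 0 2816 = true :=
  allRange_append _ 2560 0 256 wU_acc9 wU_10

theorem wU_acc11 : allRange (fun v => walk q stepsU (grow v) v (initc [35, 3388, 3881, 1194, 3756] v) (finDisc 4060 ksU liU lpU v)) 0 3072 = true :=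
  allRange_append _ 2816 0 256 wU_acc10 wU_11

theorem wU_acc12 : allRange (fun v => walk q stepsU (grow v) v (initc [35, 3388, 3881, 1194, 3756] v) (finDisc 4060 ksU liU lpU v)) 0 3328 = true :=
  allRange_append _ 3072 0 256 wU_acc11 wU_12

theorem wU_acc13 : allRange (fun v => walk q stepsU (grow v) v (initc [35, 3388, 3881, 1194, 3756] v) (finDisc 4060 ksU liU lpU v)) 0 3584 = true :=
  allRange_append _ 3328 0 256 wU_acc12 wU_13

theorem wU_acc14 : allRange (fun v => walk q stepsU (grow v) v (initc [35, 3388, 3881, 1194, 3756] v) (finDisc 4060 ksU liU lpU v)) 0 3840 = true :=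
  allRange_append _ 3584 0 256 wU_acc13 wU_14

theorem wU : allRange (fun v => walk q stepsU (grow v) v (initc [35, 3388, 3881, 1194, 3756] v) (finDisc 4060 ksU liU lpU v)) 0 4060 = true :=
  allRange_append _ 3840 0 220 wU_acc14 wU_15

theorem incU_0 : allRange (incChk ksU) 0 2048 = true := by decide +kernel

theorem incU_1 : allRange (incChk ksU) 2048 2011 = true := by decide +kernel

theorem incU : allRange (incChk ksU) 0 4059 = true :=
  allRange_append _ 2048 0 2011 incU_0 incU_1


end Cfsg.Agent.Lib.Helper9.RuOutChk3
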