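import Cfsg.Agent.Lib.Helper9.RuOutB

set_option autoImplicit false

/-! The checks on the tables for the automorphisms of the group of the graph on 4060 points
(S2077). -/

namespace Cfsg.Agent.Lib.Helper9.RuOutChk4

open Cfsg.Agent.Lib.Helper9.RuBits Cfsg.Agent.Lib.Helper9.RuNet Cfsg.Agent.Lib.Helper9.RuPerm
  Cfsg.Agent.Lib.Helper9.RuGraph Cfsg.Agent.Lib.Helper9.RuPermData Cfsg.Agent.Lib.Helper9.RuRows
  Cfsg.Agent.Lib.Helper9.RuOutData Cfsg.Agent.Lib.Helper9.RuOutData2
  Cfsg.Agent.Lib.Helper9.RuOutA Cfsg.Agent.Lib.Helper9.RuOutB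

theorem okpnn : allRange (wordChk [pn, pn] pnn) 0 4060 = true := by decide +kernel

theorem conjn : allRange (fun v => Nat.beq (ev pn (ev pg1 v)) (evw [pn, pg1, pg1, pg1, pg1] v))
    0 4060 = true := by decide +kernel

theorem commz : allRange (fun v => Nat.beq (ev pz (ev pn v)) (ev pn (ev pz v))) 0 4060 = true := by
  decide +kernel

theorem wg2ok : allRange (wordChk wg2 pg2) 0 4060 = true := by decide +kernel

theorem sub_wg2 : ∀ A ∈ wg2, A ∈ lK := by decide +kernel

theorem bsXok : cycChk pg1 bsX 0 = true := by decide +kernel

theorem bsUok : cycChk pnn bsU 35 = true := by decide +kernel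

theorem cycXok : cycChk pg1 cycX 0 = true := by decide +kernel

theorem imgUok : listChk (fun j => evw (wcu j) 35) imgU 0 = true := by decide +kernel

theorem sigX0 : candX 0 = true := by decide +kernel

theorem sigU0 : candU 35 = true := by decide +kernel

theorem candXok : allRange (fun c => !(candX c) || memL cycX c) 0 4060 = true := by decide +kernel

theorem candUok : allRange (fun c => !(candU c) || memL imgU c) 0 4060 = true := by decide +kernel

theorem elim1 : allRange (elimChk 1) 0 28 = true := by decide +kernel

theorem elim2 : allRange (elimChk 2) 0 28 = true := by decide +kernel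

theorem rel0 : allRange (relChk (REL.getD 0 [])) 0 4060 = true := by decide +kernel

theorem rel1 : allRange (relChk (REL.getD 1 [])) 0 4060 = true := by decide +kernel

theorem rel2 : allRange (relChk (REL.getD 2 [])) 0 4060 = true := by decide +kernel

theorem relL : REL = [REL.getD 0 [], REL.getD 1 [], REL.getD 2 []] := by decide +kernel

end Cfsg.Agent.Lib.Helper9.RuOutChk4
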