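import Cfsg.Agent.Lib.Helper9.RuAutK
import Cfsg.Agent.Lib.Helper9.RuOutChk1
import Cfsg.Agent.Lib.Helper9.RuOutChk2
import Cfsg.Agent.Lib.Helper9.RuOutChk3
import Cfsg.Agent.Lib.Helper9.RuOutChk4

set_option autoImplicit false

/-! Every automorphism of the group of the graph on 4060 points is inner (S2077). -/

namespace Cfsg.Agent.Lib.Helper9.RuOutC

open Cfsg.Agent.Lib.Helper9.RuBits Cfsg.Agent.Lib.Helper9.RuNet Cfsg.Agent.Lib.Helper9.RuPerm
  Cfsg.Agent.Lib.Helper9.RuGraph Cfsg.Agent.Lib.Helper9.RuPermData Cfsg.Agent.Lib.Helper9.RuRows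
  Cfsg.Agent.Lib.Helper9.RuCertData
  Cfsg.Agent.Lib.Helper9.RuOutData Cfsg.Agent.Lib.Helper9.RuOutData2
  Cfsg.Agent.Lib.Helper9.RuOutA Cfsg.Agent.Lib.Helper9.RuOutB Cfsg.Agent.Lib.Helper9.RuMain1
  Cfsg.Agent.Lib.Helper9.OutJ Cfsg.Agent.Lib.Helper9.OutG Cfsg.Agent.Lib.Helper9.J1O

/-- the element normalising the element of order 29 -/
def ν : P := mkPerm pn pni RuOutChk1.okp
/-- the involution commuting with `ν` -/
def ζ : P := mkPerm pz pz RuOutChk2.okp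

theorem ν_aut : ν ∈ Aut 4060 grow :=
  isAut_of_chk' 4060 grow ν pn netn (fun _ => rfl) RuOutChk1.oks RuOutChk1.aut RuOutChk1.tau
theorem ζ_aut : ζ ∈ Aut 4060 grow :=
  isAut_of_chk' 4060 grow ζ pz netz (fun _ => rfl) RuOutChk2.oks RuOutChk2.aut RuOutChk2.tau

theorem ν_mem : ν ∈ H := by rw [← RuAutF.A_eq_H]; exact ν_aut
theorem ζ_mem : ζ ∈ H := by rw [← RuAutF.A_eq_H]; exact ζ_aut

theorem tγ1 (x : Fin 4060) : ((γ1 x : Fin 4060) : ℕ) = ev pg1 x := rfl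
theorem tν (x : Fin 4060) : ((ν x : Fin 4060) : ℕ) = ev pn x := rfl
theorem tζ (x : Fin 4060) : ((ζ x : Fin 4060) : ℕ) = ev pz x := rfl

theorem γ1_pow : γ1 ^ 29 = 1 := pow_eq_one_of_table' γ1 pg1 29 tγ1 RuChk1.o_pg1

theorem γ1_ne : γ1 ≠ 1 := by
  intro h
  have h1 := congrArg (fun f : P => ((f 0 : Fin 4060) : ℕ)) h
  exact RuChk1.ne_g1 h1

theorem ν_conj : ν * γ1 * ν⁻¹ = γ1 ^ 4 := by
  have h : ν * γ1 = γ1 ^ 4 * ν := by
    ext v
    rw [Equiv.Perm.mul_apply, Equiv.Perm.mul_apply, tν, tγ1, pow_table γ1 pg1 tγ1 4, tν]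
    exact Nat.eq_of_beq_eq_true (allRange_all _ 4060 RuOutChk4.conjn v v.2)
  rw [h]
  group

theorem tνν (x : Fin 4060) : (((ν ^ 2) x : Fin 4060) : ℕ) = ev pnn x := by
  rw [pow_table ν pn tν 2]
  exact Nat.eq_of_beq_eq_true (allRange_all _ 4060 RuOutChk4.okpnn x x.2)

theorem ζν : ζ * ν = ν * ζ := by
  ext v
  rw [Equiv.Perm.mul_apply, Equiv.Perm.mul_apply, tζ, tν, tν, tζ]
  exact Nat.eq_of_beq_eq_true (allRange_all _ 4060 RuOutChk4.commz v v.2)

theorem ζνν : ζ * ν ^ 2 = ν ^ 2 * ζ := by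
  have h : Commute ζ ν := ζν
  exact h.pow_right 2

/-! ### the centraliser of the element of order 29 -/

theorem discX : Aut 4060 grow ⊓ fixL 4060 bsX = ⊥ :=
  walk_discrete inf_le_left (by norm_num) hrow q stepsX (initc bsX)
    (inv_initc bsX (fun σ hσ x hx => hσ.2 x hx)) ksX liX lpX
    (allRange_all _ 4060 RuOutChk3.wX)
    (fun i hi => allRange_all _ 4059 RuOutChk3.incX i (by omega))

theorem discU : Aut 4060 grow ⊓ fixL 4060 bsU = ⊥ :=
  walk_discrete inf_le_left (by norm_num) hrow q stepsU (initc bsU)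
    (inv_initc bsU (fun σ hσ x hx => hσ.2 x hx)) ksU liU lpU
    (allRange_all _ 4060 RuOutChk3.wU)
    (fun i hi => allRange_all _ 4059 RuOutChk3.incU i (by omega))

/-- the point 0 -/
def p0 : Fin 4060 := ⟨0, by norm_num⟩
/-- the point 35 -/
def p35 : Fin 4060 := ⟨35, by norm_num⟩

theorem hbsX : ∀ x : Fin 4060, (x : ℕ) ∈ bsX → ∃ k : ℕ, x = (γ1 ^ k) p0 := by
  intro x hx
  obtain ⟨k, hk⟩ := cycChk_spec pg1 bsX 0 RuOutChk4.bsXok x hx
  refine ⟨k, Fin.ext ?_⟩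
  rw [pow_table γ1 pg1 tγ1 k p0]
  exact hk

theorem hbsU : ∀ x : Fin 4060, (x : ℕ) ∈ bsU → ∃ k : ℕ, x = ((ν ^ 2) ^ k) p35 := by
  intro x hx
  obtain ⟨k, hk⟩ := cycChk_spec pnn bsU 35 RuOutChk4.bsUok x hx
  refine ⟨k, Fin.ext ?_⟩
  rw [pow_table (ν ^ 2) pnn tνν k p35]
  exact hk

theorem candX_of_comm (y : P) (hy : y ∈ Aut 4060 grow) (hc : y * γ1 = γ1 * y) :
    candX (y p0) = true := by
  have h0 := RuOutChk4.sigX0
  rw [candX, Bool.and_eq_true] at h0 ⊢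
  have e1 : adjL grow pg1 (y p0) 28 (y p0) = adjL grow pg1 p0 28 p0 :=
    adjL_inv γ1 y pg1 tγ1 hy hc p0 28 p0
  have e2 : popc (landW grow pg1 [1, 1, 5] (y p0) (grow (y p0))) =
      popc (landW grow pg1 [1, 1, 5] p0 (grow p0)) :=
    popc_landW_inv (by norm_num) hrow γ1 y pg1 tγ1 hy hc [1, 1, 5] p0
  rw [e1, e2]
  exact h0

theorem candU_of_comm (y : P) (hy : y ∈ Aut 4060 grow) (hc : y * ν ^ 2 = ν ^ 2 * y) :
    candU (y p35) = true := by
  have h0 := RuOutChk4.sigU0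
  rw [candU, Bool.and_eq_true] at h0 ⊢
  have e1 : adjL grow pnn (y p35) 6 (y p35) = adjL grow pnn p35 6 p35 :=
    adjL_inv (ν ^ 2) y pnn tνν hy hc p35 6 p35
  have e2 : popc (landW grow pnn [1, 1] (y p35) (grow (y p35))) =
      popc (landW grow pnn [1, 1] p35 (grow p35)) :=
    popc_landW_inv (by norm_num) hrow (ν ^ 2) y pnn tνν hy hc [1, 1] p35
  rw [e1, e2]
  exact h0

theorem γ1_pow_aut (k : ℕ) : γ1 ^ k ∈ Aut 4060 grow := Subgroup.pow_mem _ γ1_aut k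

/-- the centraliser of the element of order 29 is generated by it -/
theorem cent_X (y : P) (hy : y ∈ H) (hc : y * γ1 = γ1 * y) : ∃ i : ℕ, y = γ1 ^ i := by
  have hya : y ∈ Aut 4060 grow := H_le hy
  have h1 := candX_of_comm y hya hc
  have h2 := allRange_all _ 4060 RuOutChk4.candXok (y p0) (y p0).2
  simp only [h1, Bool.not_true, Bool.false_or] at h2
  obtain ⟨k, hk⟩ := cycChk_spec pg1 cycX 0 RuOutChk4.cycXok _ (memL_spec _ _ h2)
  refine ⟨k, ?_⟩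
  apply eq_of_cycle γ1 p0 bsX discX hbsX y (γ1 ^ k) hya (γ1_pow_aut k) hc
  · exact ((Commute.refl γ1).pow_left k).eq
  · apply Fin.ext
    rw [pow_table γ1 pg1 tγ1 k p0]
    exact hk

/-! ### the centraliser of the element of order 7 -/

/-- the elements of the centraliser of the element of order 7 -/
def cuP (j : ℕ) : P := ν ^ (j / 2) * ζ ^ (j % 2)

theorem cuP_mem (j : ℕ) : cuP j ∈ H :=
  Subgroup.mul_mem _ (Subgroup.pow_mem _ ν_mem _) (Subgroup.pow_mem _ ζ_mem _)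

theorem cuP_comm (j : ℕ) : cuP j * ν ^ 2 = ν ^ 2 * cuP j := by
  have h1 : Commute (ν ^ (j / 2)) (ν ^ 2) := (Commute.refl ν).pow_pow _ _
  have h2 : Commute (ζ ^ (j % 2)) (ν ^ 2) := (show Commute ζ (ν ^ 2) from ζνν).pow_left _
  exact (h1.mul_left h2).eq

theorem tcuP (j : ℕ) (x : Fin 4060) : ((cuP j x : Fin 4060) : ℕ) = evw (wcu j) x := by
  rw [cuP, Equiv.Perm.mul_apply, pow_table ν pn tν, pow_table ζ pz tζ, wcu, evw_append]

theorem cent_U (y : P) (hy : y ∈ H) (hc : y * ν ^ 2 = ν ^ 2 * y) : ∃ j < 28, y = cuP j := by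
  have hya : y ∈ Aut 4060 grow := H_le hy
  have h1 := candU_of_comm y hya hc
  have h2 := allRange_all _ 4060 RuOutChk4.candUok (y p35) (y p35).2
  simp only [h1, Bool.not_true, Bool.false_or] at h2
  obtain ⟨j, -, hj, hk⟩ := listChk_spec _ imgU 0 RuOutChk4.imgUok _ (memL_spec _ _ h2)
  have hj' : j < 28 := by
    have : imgU.length = 28 := rfl
    omega
  refine ⟨j, hj', ?_⟩
  apply eq_of_cycle (ν ^ 2) p35 bsU discU hbsU y (cuP j) hya (H_le (cuP_mem j)) hc (cuP_comm j)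
  apply Fin.ext
  rw [tcuP j p35]
  exact hk

/-! ### the relations -/

theorem rel_P : ∀ ρ ∈ REL, evalG3 γ1 ν ζ ρ = 1 := by
  have key : ∀ ρ : List ℕ, allRange (relChk ρ) 0 4060 = true → evalG3 γ1 ν ζ ρ = 1 := by
    intro ρ h
    ext v
    rw [evalG3_table γ1 ν ζ [pg1] [pn] [pz] tγ1 tν tζ ρ v]
    exact Nat.eq_of_beq_eq_true (allRange_all _ 4060 h v v.2)
  intro ρ hρ
  rw [RuOutChk4.relL] at hρ
  simp only [List.mem_cons, List.not_mem_nil, or_false] at hρ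
  rcases hρ with rfl | rfl | rfl
  · exact key _ RuOutChk4.rel0
  · exact key _ RuOutChk4.rel1
  · exact key _ RuOutChk4.rel2

theorem elim_P (k0 : ℕ) (hk0 : k0 = 1 ∨ k0 = 2) (j : ℕ) (hj : j < 28)
    (h : ∀ ρ ∈ REL, evalG3 (γ1 ^ k0) ν (cuP j) ρ = 1) : k0 = 1 ∧ cuP j = ζ := by
  have hchk : elimChk k0 j = true := by
    rcases hk0 with rfl | rfl
    · exact allRange_all _ 28 RuOutChk4.elim1 j hj
    · exact allRange_all _ 28 RuOutChk4.elim2 j hj
  rw [elimChk, Bool.or_eq_true] at hchk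
  rcases hchk with h1 | h1
  · rw [Bool.and_eq_true] at h1
    have e1 : k0 = 1 := Nat.eq_of_beq_eq_true h1.1
    have e2 : j = 1 := Nat.eq_of_beq_eq_true h1.2
    refine ⟨e1, ?_⟩
    rw [e2, cuP]
    show ν ^ 0 * ζ ^ 1 = ζ
    rw [pow_zero, pow_one, one_mul]
  · exfalso
    rw [List.any_eq_true] at h1
    obtain ⟨ρ, hρ, hne⟩ := h1
    have h2 := h ρ hρ
    have h3 := evalG3_table (γ1 ^ k0) ν (cuP j) (List.replicate k0 pg1) [pn] (wcu j)
      (pow_table γ1 pg1 tγ1 k0) tν (tcuP j) ρ p0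
    rw [h2] at h3
    have h4 : evw (flat3 (List.replicate k0 pg1) [pn] (wcu j) ρ) 0 = 0 := h3.symm
    rw [h4] at hne
    exact absurd hne (by decide)

/-! ### generation -/

/-- the group generated by the three elements -/
def K3 : Subgroup P := Subgroup.closure {γ1, ν, ζ}

theorem K3_le : K3 ≤ H := by
  rw [K3, Subgroup.closure_le]
  rintro x (rfl | rfl | rfl)
  exacts [γ1_mem, ν_mem, ζ_mem]

theorem rK : ∀ A ∈ lK, Rep K3 A := by
  have r1 : Rep K3 pg1 := ⟨γ1, Subgroup.subset_closure (Set.mem_insert _ _), tγ1⟩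
  have r2 : Rep K3 pn :=
    ⟨ν, Subgroup.subset_closure (Set.mem_insert_of_mem _ (Set.mem_insert _ _)), tν⟩
  have r3 : Rep K3 pz :=
    ⟨ζ, Subgroup.subset_closure (Set.mem_insert_of_mem _ (Set.mem_insert_of_mem _ rfl)), tζ⟩
  have r1i : Rep K3 pg1i :=
    r1.inv pg1i (fun x hx => (permOK_spec (n := 4060) RuChk1.ok1 x hx).1.2)
  have r2i : Rep K3 pni :=
    r2.inv pni (fun x hx => (permOK_spec (n := 4060) RuOutChk1.okp x hx).1.2)
  intro A hA
  simp only [lK, List.mem_cons, List.not_mem_nil, or_false] at hA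
  rcases hA with rfl | rfl | rfl | rfl | rfl
  exacts [r1, r1i, r2, r2i, r3]

theorem γ2_mem_K3 : γ2 ∈ K3 := by
  obtain ⟨σ, hσ, hx⟩ := Rep.of_word' K3 wg2 pg2 (fun A hA => rK A (RuOutChk4.sub_wg2 A hA))
    RuOutChk4.wg2ok
  have : σ = γ2 := by
    ext v
    rw [hx v]
    rfl
  rw [← this]
  exact hσ

theorem K3_eq : K3 = H := by
  apply le_antisymm K3_le
  rw [H, Subgroup.closure_le]
  rintro x (rfl | rfl)
  · exact Subgroup.subset_closure (Set.mem_insert _ _)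
  · exact γ2_mem_K3

/-! ### the conclusion -/

/-- the generators as elements of the group -/
def x0H : ↥H := ⟨γ1, γ1_mem⟩
def nnH : ↥H := ⟨ν, ν_mem⟩
def zH : ↥H := ⟨ζ, ζ_mem⟩
def cuH (j : ℕ) : ↥H := ⟨cuP j, cuP_mem j⟩

theorem triple_top : Subgroup.closure ({x0H, nnH, zH} : Set ↥H) = ⊤ := by
  apply closure_subtype_top
  have : Subtype.val '' ({x0H, nnH, zH} : Set ↥H) = {γ1, ν, ζ} := by
    rw [Set.image_insert_eq, Set.image_insert_eq, Set.image_singleton]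
    rfl
  rw [this]
  exact K3_eq

theorem card_H_fac : (Nat.card ↥H).factorization 29 = 1 := by
  rw [card_H]
  exact factorization_of_dvd 29 _ 1 (by norm_num) (by norm_num) (by norm_num) (by norm_num)

/-- every automorphism is inner -/
theorem aut_inner (φ : ↥H ≃* ↥H) : ∃ k : ↥H, ∀ g : ↥H, φ g = k * g * k⁻¹ := by
  have hx29 : x0H ^ 29 = 1 := Subtype.ext (by
    rw [Subgroup.coe_pow]
    exact γ1_pow)
  have hx1 : x0H ≠ 1 := fun h => γ1_ne (congrArg Subtype.val h)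
  have hn : nnH * x0H * nnH⁻¹ = x0H ^ 4 := Subtype.ext (by
    rw [Subgroup.coe_mul, Subgroup.coe_mul, Subgroup.coe_inv, Subgroup.coe_pow]
    exact ν_conj)
  have hcx : ∀ y : ↥H, y * x0H = x0H * y → ∃ i : ℕ, y = x0H ^ i := by
    intro y hy
    have h1 : y.1 * γ1 = γ1 * y.1 := congrArg Subtype.val hy
    obtain ⟨i, hi⟩ := cent_X y.1 y.2 h1
    exact ⟨i, Subtype.ext (by rw [Subgroup.coe_pow]; exact hi)⟩
  have hcu : ∀ y : ↥H, y * nnH ^ 2 = nnH ^ 2 * y → ∃ j < 28, y = cuH j := by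
    intro y hy
    have h1 : y.1 * ν ^ 2 = ν ^ 2 * y.1 := by
      have := congrArg Subtype.val hy
      rw [Subgroup.coe_mul, Subgroup.coe_mul, Subgroup.coe_pow] at this
      exact this
    obtain ⟨j, hj, hjy⟩ := cent_U y.1 y.2 h1
    exact ⟨j, hj, Subtype.ext hjy⟩
  have hzu : zH * nnH ^ 2 = nnH ^ 2 * zH := Subtype.ext (by
    rw [Subgroup.coe_mul, Subgroup.coe_mul, Subgroup.coe_pow]
    exact ζνν)
  have hrel : ∀ ρ ∈ REL, evalG3 x0H nnH zH ρ = 1 := by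
    intro ρ hρ
    apply Subtype.ext
    have := map_evalG3 H.subtype x0H nnH zH ρ
    exact this.trans (rel_P ρ hρ)
  apply aut_inner_of_triple card_H_fac x0H nnH zH hx29 hx1 hn triple_top hcx cuH 28 hcu hzu REL hrel
  intro k0 hk0 j hj hr
  have h5 : ∀ ρ ∈ REL, evalG3 (γ1 ^ k0) ν (cuP j) ρ = 1 := by
    intro ρ hρ
    have h3 := map_evalG3 H.subtype (x0H ^ k0) nnH (cuH j) ρ
    rw [hr ρ hρ, map_one] at h3
    have e1 : H.subtype (x0H ^ k0) = γ1 ^ k0 := by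
      show ((x0H ^ k0 : ↥H) : P) = _
      rw [Subgroup.coe_pow]
      rfl
    rw [e1] at h3
    exact h3.symm
  obtain ⟨a1, a2⟩ := elim_P k0 hk0 j hj h5
  exact ⟨a1, Subtype.ext a2⟩

theorem card_out_H : Nat.card (Cfsg.Out ↥H) = 1 :=
  card_out_one aut_inner

theorem card_out_Ru : Nat.card (Cfsg.Out Cfsg.Spor.Ru) = 1 := by
  rw [card_out_iso Cfsg.Agent.Lib.Helper9.RuL.ruEquiv]
  exact card_out_H

end Cfsg.Agent.Lib.Helper9.RuOutC
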