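import Cfsg.Agent.Lib.Helper9.RuGraph

set_option autoImplicit false

/-! Trees of rows, and Schreier trees certifying that a set lies in one orbit. -/

namespace Cfsg.Agent.Lib.Helper9.RuTree

open Cfsg.Agent.Lib.Helper9.RuBits Cfsg.Agent.Lib.Helper9.RuNet Cfsg.Agent.Lib.Helper9.RuPerm
  Cfsg.Agent.Lib.Helper9.RuGraph

/-- binary trees of numbers -/
inductive RT : Type
  | lf : ℕ → RT
  | nd : RT → RT → RT

/-- the entry at the index `v`, read from bit `d - 1` downwards -/
def RT.get : RT → ℕ → ℕ → ℕ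
  | RT.lf r, _, _ => r
  | RT.nd _ _, 0, _ => 0
  | RT.nd l r, d + 1, v => bif v.testBit d then r.get d v else l.get d v

variable {n : ℕ}

/-- the entry `j` of the tree: its parent comes before it and a letter maps the parent to it -/
def treeChk (letters : List ℕ) (orbP parP letP : ℕ) (j : ℕ) : Bool :=
  Nat.blt (ev parP (j + 1)) (j + 1) && (Nat.blt (ev letP (j + 1)) letters.length &&
    Nat.beq (ev (letters.getD (ev letP (j + 1)) 0) (ev orbP (ev parP (j + 1)))) (ev orbP (j + 1)))

theorem tree_sound (K : Subgroup (Equiv.Perm (Fin n))) (letters : List ℕ)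
    (hL : ∀ A ∈ letters, Rep K A) (orbP parP letP m : ℕ) (b : Fin n) (hb : ev orbP 0 = b)
    (h : ∀ j, j + 1 < m → treeChk letters orbP parP letP j = true) :
    ∀ j, j < m → ∃ σ ∈ K, ((σ b : Fin n) : ℕ) = ev orbP j := by
  intro j
  induction j using Nat.strong_induction_on with
  | _ j ih =>
    intro hj
    rcases Nat.eq_zero_or_pos j with rfl | hpos
    · exact ⟨1, K.one_mem, by rw [Equiv.Perm.one_apply, hb]⟩
    · obtain ⟨i, rfl⟩ : ∃ i, j = i + 1 := ⟨j - 1, by omega⟩
      have hc := h i hj
      unfold treeChk at hc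
      rw [Bool.and_eq_true, Bool.and_eq_true] at hc
      have h1 : ev parP (i + 1) < i + 1 := Nat.le_of_ble_eq_true hc.1
      have h2 : ev letP (i + 1) < letters.length := Nat.le_of_ble_eq_true hc.2.1
      have h3 := Nat.eq_of_beq_eq_true hc.2.2
      obtain ⟨σ, hσ, hσb⟩ := ih _ h1 (by omega)
      have hA : Rep K (letters.getD (ev letP (i + 1)) 0) := by
        apply hL
        rw [List.getD_eq_getElem _ _ h2]
        exact List.getElem_mem _
      obtain ⟨ρ, hρ, hρx⟩ := hA
      refine ⟨ρ * σ, K.mul_mem hρ hσ, ?_⟩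
      rw [Equiv.Perm.mul_apply, hρx, hσb, h3]

/-- a vertex in the set with mask `D` is an entry of the tree -/
def coverChk (D orbP posP m v : ℕ) : Bool :=
  cond (D.testBit v) (Nat.beq (ev orbP (ev posP v)) v && Nat.blt (ev posP v) m) true

theorem cover_sound (K : Subgroup (Equiv.Perm (Fin n))) (letters : List ℕ)
    (hL : ∀ A ∈ letters, Rep K A) (orbP parP letP posP m D : ℕ) (b : Fin n)
    (hb : ev orbP 0 = b)
    (h : ∀ j, j + 1 < m → treeChk letters orbP parP letP j = true)
    (hc : ∀ v < n, coverChk D orbP posP m v = true) :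
    ∀ x : Fin n, D.testBit x = true → ∃ σ ∈ K, σ b = x := by
  intro x hx
  have := hc x x.2
  unfold coverChk at this
  rw [hx, cond_true, Bool.and_eq_true] at this
  have h1 := Nat.eq_of_beq_eq_true this.1
  have h2 : ev posP x < m := Nat.le_of_ble_eq_true this.2
  obtain ⟨σ, hσ, hσb⟩ := tree_sound K letters hL orbP parP letP m b hb h _ h2
  exact ⟨σ, hσ, Fin.ext (by rw [hσb, h1])⟩

/-- the vertices in the set with mask `D` -/
def maskSet (n D : ℕ) : Finset (Fin n) := Finset.univ.filter (fun x => D.testBit x = true)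

theorem mem_maskSet (D : ℕ) (x : Fin n) : x ∈ maskSet n D ↔ D.testBit x = true := by
  simp [maskSet]

theorem card_maskSet (D : ℕ) (hn : n ≤ 4096) (hD : D < 2 ^ n) : (maskSet n D).card = popc D := by
  rw [popc_card n D hn hD]
  rfl

end Cfsg.Agent.Lib.Helper9.RuTree
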