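import Mathlib
import Cfsg.Agent.Lib.Helper1.S1233Defs

set_option autoImplicit false

/-! S1233 farm, unit U-B3 (Lemma B), part a: commuting modulo a normal subgroup. -/

namespace Cfsg.Agent.Lib.Helper9.S1233

open Cfsg.Agent.Lib.Helper1.S1233

variable {S : Type*} [Group S]

theorem conj_pow (x c : S) (k : ℕ) : x⁻¹ * c ^ k * x = (x⁻¹ * c * x) ^ k := by
  induction k with
  | zero => simp
  | succ k ih =>
    rw [pow_succ, pow_succ, ← ih]
    group

theorem zs_normal {z : S} (hzc : ∀ g : S, g * z = z * g) : (Zs z).Normal := by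
  refine ⟨fun n hn g => ?_⟩
  obtain ⟨k, rfl⟩ := Subgroup.mem_zpowers_iff.mp hn
  have hc : Commute g z := hzc g
  have : g * z ^ k * g⁻¹ = z ^ k := by
    rw [(hc.zpow_right k).eq, mul_inv_cancel_right]
  rw [this]
  exact Subgroup.zpow_mem_zpowers z k

theorem cm_mem_iff (N : Subgroup S) [N.Normal] (a b : S) :
    cm a b ∈ N ↔ Commute (a : S ⧸ N) (b : S ⧸ N) := by
  unfold cm
  rw [← QuotientGroup.eq_one_iff]
  simp only [QuotientGroup.mk_mul, QuotientGroup.mk_inv]
  constructor
  · intro h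
    show _ * _ = _ * _
    have := congrArg (fun t => ((b : S ⧸ N) * (a : S ⧸ N)) * t) h
    simp only [mul_one] at this
    rw [← this]
    group
  · intro h
    have h' : (a : S ⧸ N) * (b : S ⧸ N) = (b : S ⧸ N) * (a : S ⧸ N) := h
    calc (a : S ⧸ N)⁻¹ * (b : S ⧸ N)⁻¹ * (a : S ⧸ N) * (b : S ⧸ N)
        = (a : S ⧸ N)⁻¹ * (b : S ⧸ N)⁻¹ * ((a : S ⧸ N) * (b : S ⧸ N)) := by group
      _ = 1 := by rw [h']; group

theorem cm_mem_of_commute (N : Subgroup S) {a b : S} (h : a * b = b * a) : cm a b ∈ N := by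
  unfold cm
  have : a⁻¹ * b⁻¹ * a * b = 1 := by
    calc a⁻¹ * b⁻¹ * a * b = a⁻¹ * b⁻¹ * (a * b) := by group
      _ = 1 := by rw [h]; group
  rw [this]
  exact Subgroup.one_mem _

theorem cm_mem_symm (N : Subgroup S) [N.Normal] {a b : S} (h : cm a b ∈ N) : cm b a ∈ N := by
  rw [cm_mem_iff] at h ⊢
  exact h.symm

/-- the elements commuting with `a` modulo `N` form a subgroup -/
def czSub (N : Subgroup S) [N.Normal] (a : S) : Subgroup S :=
  (Subgroup.centralizer {(a : S ⧸ N)}).comap (QuotientGroup.mk' N)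

theorem mem_czSub (N : Subgroup S) [N.Normal] (a x : S) :
    x ∈ czSub N a ↔ cm x a ∈ N := by
  unfold czSub
  rw [Subgroup.mem_comap, Subgroup.mem_centralizer_iff, cm_mem_iff]
  constructor
  · intro h
    exact (h _ rfl).symm
  · intro h y hy
    rw [Set.mem_singleton_iff] at hy
    rw [hy]
    exact h.symm

/-- if `w` commutes modulo `N` with the generators of `H`, it commutes modulo `N` with `H` -/
theorem cm_mem_of_closure (N : Subgroup S) [N.Normal] (w : S) (s : Set S)
    (h : ∀ q ∈ s, cm w q ∈ N) : ∀ q ∈ Subgroup.closure s, cm w q ∈ N := by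
  intro q hq
  have hle : Subgroup.closure s ≤ czSub N w := by
    rw [Subgroup.closure_le]
    intro x hx
    rw [SetLike.mem_coe, mem_czSub]
    exact cm_mem_symm N (h x hx)
  have := hle hq
  rw [mem_czSub] at this
  exact cm_mem_symm N this

end Cfsg.Agent.Lib.Helper9.S1233
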