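import Mathlib
import Cfsg.Agent.Lib.Helper9.S1233B3a

set_option autoImplicit false

/-! S1233 farm, unit U-B3 (Lemma B), part b: the exact conjugation computation. -/

namespace Cfsg.Agent.Lib.Helper9.S1233

open Cfsg.Agent.Lib.Helper1.S1233

variable {S : Type*} [Group S]

theorem pow_of_mod4 {a : S} (ha4 : a ^ 4 = 1) {e : ℕ} (he : e % 4 = 3) : a ^ e = a ^ 3 := by
  have : e = 4 * (e / 4) + 3 := by omega
  rw [this, pow_add, pow_mul, ha4, one_pow, one_mul]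

/-- exact conjugation computation -/
theorem half {c d j a b : S} {e : ℕ} (he : e % 4 = 3)
    (hw : cm c d = a * b) (ha4 : a ^ 4 = 1) (hb4 : b ^ 4 = 1)
    (hab : Commute a b) (had : Commute a d) (hbd : Commute b d)
    (hjc : Commute j c) (hja : Commute j a) (hjb : j⁻¹ * b * j = b⁻¹) (hjd : j⁻¹ * d * j = d ^ e) :
    a * a = 1 := by
  set w := a * b with hwdef
  have hwd : Commute w d := had.mul_left hbd
  have hu : c⁻¹ * d * c = d * w⁻¹ := by
    rw [← hw]; unfold cm; group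
  -- conjugate by `j`
  have h1 : j⁻¹ * (c⁻¹ * d * c) * j = (d * w⁻¹) ^ e := by
    have : j⁻¹ * (c⁻¹ * d * c) * j = c⁻¹ * (j⁻¹ * d * j) * c := by
      have e1 : j⁻¹ * c⁻¹ = c⁻¹ * j⁻¹ := (hjc.inv_left.inv_right).eq
      have e2 : c * j = j * c := hjc.eq.symm
      calc j⁻¹ * (c⁻¹ * d * c) * j = (j⁻¹ * c⁻¹) * d * (c * j) := by group
        _ = (c⁻¹ * j⁻¹) * d * (j * c) := by rw [e1, e2]
        _ = c⁻¹ * (j⁻¹ * d * j) * c := by group
    rw [this, hjd]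
    have h2 : c⁻¹ * d ^ e * c = (c⁻¹ * d * c) ^ e := conj_pow c d e
    rw [h2, hu]
  have h2 : j⁻¹ * (d * w⁻¹) * j = d ^ e * (j⁻¹ * w * j)⁻¹ := by
    rw [← hjd]; group
  rw [hu] at h1
  rw [h1] at h2
  have hdw : Commute d w⁻¹ := hwd.symm.inv_right
  rw [hdw.mul_pow] at h2
  have h3 : (w⁻¹) ^ e = (j⁻¹ * w * j)⁻¹ := mul_left_cancel h2
  have h4 : j⁻¹ * w * j = w ^ e := by
    have := congrArg (fun t => t⁻¹) h3
    simp only [inv_inv] at this
    rw [← this, inv_pow, inv_inv]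
  -- left side
  have h5 : j⁻¹ * w * j = a * b⁻¹ := by
    have e1 : j⁻¹ * a = a * j⁻¹ := (hja.inv_left).eq
    calc j⁻¹ * w * j = (j⁻¹ * a) * b * j := by rw [hwdef]; group
      _ = (a * j⁻¹) * b * j := by rw [e1]
      _ = a * (j⁻¹ * b * j) := by group
      _ = a * b⁻¹ := by rw [hjb]
  -- right side
  have h6 : w ^ e = a ^ 3 * b⁻¹ := by
    rw [hwdef, hab.mul_pow, pow_of_mod4 ha4 he, pow_of_mod4 hb4 he]
    congr 1
    have : b ^ 3 * b = 1 := by rw [← pow_succ]; exact hb4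
    exact eq_inv_of_mul_eq_one_left this
  rw [h5, h6] at h4
  have h7 : a = a ^ 3 := mul_right_cancel h4
  have h8 : a * a = a ^ 4 := by
    calc a * a = a ^ 3 * a := by rw [← h7]
      _ = a ^ 4 := by rw [← pow_succ]
  rw [h8, ha4]

/-- conjugating the first entry of a commutator to an odd power, when its square commutes with the
second entry -/
theorem conj_odd {G : Type*} [Group G] {C D : G} (h : Commute (C * C) D) (m : ℕ) :
    (C ^ (2 * m + 1))⁻¹ * D⁻¹ * C ^ (2 * m + 1) * D = C⁻¹ * D⁻¹ * C * D := by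
  have hpow : C ^ (2 * m + 1) = (C * C) ^ m * C := by
    rw [pow_succ, pow_mul, pow_two]
  have hc : Commute ((C * C) ^ m) D⁻¹ := (h.pow_left m).inv_right
  rw [hpow, mul_inv_rev]
  calc C⁻¹ * ((C * C) ^ m)⁻¹ * D⁻¹ * ((C * C) ^ m * C) * D
      = C⁻¹ * ((C * C) ^ m)⁻¹ * (D⁻¹ * (C * C) ^ m) * C * D := by group
    _ = C⁻¹ * ((C * C) ^ m)⁻¹ * ((C * C) ^ m * D⁻¹) * C * D := by rw [hc.eq]
    _ = C⁻¹ * D⁻¹ * C * D := by group

theorem conj_odd' {G : Type*} [Group G] {C D : G} (h : Commute C (D * D)) (m : ℕ) :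
    C⁻¹ * (D ^ (2 * m + 1))⁻¹ * C * D ^ (2 * m + 1) = C⁻¹ * D⁻¹ * C * D := by
  have hpow : D ^ (2 * m + 1) = D * (D * D) ^ m := by
    rw [pow_succ', pow_mul, pow_two]
  set E := (D * D) ^ m with hE
  have hCE : Commute C E := h.pow_right m
  have hDE : Commute D E := by
    rw [hE]
    exact ((Commute.refl D).mul_right (Commute.refl D)).pow_right m
  rw [hpow, mul_inv_rev]
  have e1 : C⁻¹ * E⁻¹ = E⁻¹ * C⁻¹ := (hCE.inv_left.inv_right).eq
  have e2 : C * D * E = E * C * D := by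
    calc C * D * E = C * (D * E) := by group
      _ = C * (E * D) := by rw [hDE.eq]
      _ = (C * E) * D := by group
      _ = E * C * D := by rw [hCE.eq]
  have e3 : D⁻¹ * E = E * D⁻¹ := (hDE.inv_left).eq
  calc C⁻¹ * (E⁻¹ * D⁻¹) * C * (D * E) = (C⁻¹ * E⁻¹) * D⁻¹ * (C * D * E) := by group
    _ = (E⁻¹ * C⁻¹) * D⁻¹ * (E * C * D) := by rw [e1, e2]
    _ = E⁻¹ * C⁻¹ * (D⁻¹ * E) * C * D := by group
    _ = E⁻¹ * C⁻¹ * (E * D⁻¹) * C * D := by rw [e3]
    _ = E⁻¹ * (C⁻¹ * E) * D⁻¹ * C * D := by group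
    _ = E⁻¹ * (E * C⁻¹) * D⁻¹ * C * D := by rw [(hCE.inv_left).eq]
    _ = C⁻¹ * D⁻¹ * C * D := by group

theorem commute_of_conj_eq {G : Type*} [Group G] {J W : G} (h : J⁻¹ * W * J = W) : Commute W J := by
  show W * J = J * W
  calc W * J = J * (J⁻¹ * W * J) := by group
    _ = J * W := by rw [h]

theorem odd_of_mod4 {e : ℕ} (he : e % 4 = 3) : e = 2 * (e / 2) + 1 := by omega

/-- `⟨i⟩` has exponent 4 -/
theorem pow_four_of_mem {z i a : S} (hii : i * i = z) (hzz : z * z = 1)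
    (ha : a ∈ Subgroup.zpowers i) : a ^ 4 = 1 := by
  obtain ⟨k, rfl⟩ := Subgroup.mem_zpowers_iff.mp ha
  have : i ^ 4 = 1 := by
    have : i ^ 4 = (i * i) * (i * i) := by
      rw [show (4 : ℕ) = 2 + 2 from rfl, pow_add, pow_two]
    rw [this, hii, hzz]
  rw [← zpow_natCast, ← zpow_mul, mul_comm, zpow_mul, zpow_natCast, this, one_zpow]

/-- an involution of `⟨i⟩` lies in `⟨z⟩` -/
theorem mem_zs_of_sq {z i a : S} (hii : i * i = z) (hzz : z * z = 1) (hz1 : z ≠ 1)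
    (ha : a ∈ Subgroup.zpowers i) (haa : a * a = 1) : a ∈ Zs z := by
  obtain ⟨k, rfl⟩ := Subgroup.mem_zpowers_iff.mp ha
  have h2 : i ^ (2 : ℤ) = z := by
    rw [← hii, zpow_two]
  rcases Int.even_or_odd' k with ⟨m, hm | hm⟩
  · rw [hm, zpow_mul, h2]
    exact Subgroup.zpow_mem_zpowers z m
  · exfalso
    have hz2 : z ^ (2 : ℤ) = 1 := by
      rw [← hzz, zpow_two]
    have h3 : i ^ k * i ^ k = z := by
      rw [← zpow_add, ← two_mul, zpow_mul, h2, hm, zpow_add, zpow_mul, hz2, one_zpow, one_mul,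
        zpow_one]
    rw [haa] at h3
    exact hz1 h3.symm

theorem conj_zpow' (x c : S) (k : ℤ) : x⁻¹ * c ^ k * x = (x⁻¹ * c * x) ^ k := by
  have := conj_zpow (a := x⁻¹) (b := c) (i := k)
  rw [inv_inv] at this
  exact this.symm

end Cfsg.Agent.Lib.Helper9.S1233
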