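import Mathlib
import Cfsg.Agent.Lib.Helper9.S1233B3b

set_option autoImplicit false

/-! S1233 farm, unit U-B3 (Lemma B), part c: facts derived from `Side`, and the step lemma. -/

namespace Cfsg.Agent.Lib.Helper9.S1233

open Cfsg.Agent.Lib.Helper1.S1233

variable {S : Type*} [Group S]

section side
variable {Qk X : Subgroup S} {z c i j : S} {n ε : ℕ}

theorem side_ii (hs : Side Qk X z c i j n ε) : i * i = z := by
  have h2 := hs.two_le
  obtain ⟨k, hk⟩ : ∃ k, n = k + 2 := ⟨n - 2, by omega⟩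
  rw [hs.i_eq, ← pow_add, ← hs.c_pow]
  congr 1
  have e1 : n - 2 = k := by omega
  have e2 : n - 1 = k + 1 := by omega
  rw [e1, e2, pow_succ]
  omega

theorem side_eps4 (hs : Side Qk X z c i j n ε) : ε % 4 = 3 := by
  have h2 := hs.two_le
  obtain ⟨k, rfl⟩ : ∃ k, n = k + 2 := ⟨n - 2, by omega⟩
  rcases hs.eps with h | ⟨h3, h⟩
  · rw [h, pow_add]
    have : 1 ≤ 2 ^ k := Nat.one_le_two_pow
    omega
  · obtain ⟨l, rfl⟩ : ∃ l, k = l + 1 := ⟨k - 1, by omega⟩
    rw [h]
    have : l + 1 + 2 - 1 = l + 2 := by omega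
    rw [this, pow_add]
    have : 1 ≤ 2 ^ l := Nat.one_le_two_pow
    omega

theorem side_i_mem_zpowers (hs : Side Qk X z c i j n ε) : i ∈ Subgroup.zpowers c := by
  rw [hs.i_eq]
  exact Subgroup.pow_mem _ (Subgroup.mem_zpowers c) _

theorem side_j_act (hs : Side Qk X z c i j n ε) (hjX : j ∈ X) : j⁻¹ * c * j = c ^ ε :=
  hs.act j hjX hs.j_not

theorem side_j_inv (hs : Side Qk X z c i j n ε) (hjX : j ∈ X) (hzz : z * z = 1) :
    j⁻¹ * i * j = i⁻¹ := by
  rw [hs.i_eq, conj_pow, side_j_act hs hjX, ← pow_mul, mul_comm, pow_mul, ← hs.i_eq]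
  have h4 : i ^ 4 = 1 :=
    pow_four_of_mem (side_ii hs) hzz (Subgroup.mem_zpowers i)
  rw [pow_of_mod4 h4 (side_eps4 hs)]
  have : i ^ 3 * i = 1 := by rw [← pow_succ]; exact h4
  exact eq_inv_of_mul_eq_one_left this

end side

/-- centralizer of an element of order 4 in a quaternion group (from the Q8 facts of unit A1) -/
theorem mem_zpowers_of_commute {Qk : Subgroup S} {z i x : S} (hz1 : z ≠ 1)
    (hq8 : ∀ x ∈ Qk, x ∈ Zs z ∨ x * x = z)
    (hgen : ∀ x ∈ Qk, ∀ y ∈ Qk, x * x = z → y * y = z → y ∉ Subgroup.zpowers x →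
      y⁻¹ * x * y = x⁻¹ ∧ Qk = Subgroup.closure {x, y})
    (hi : i ∈ Qk) (hii : i * i = z) (hx : x ∈ Qk) (hxi : x * i = i * x) :
    x ∈ Subgroup.zpowers i := by
  rcases hq8 x hx with h | h
  · have hle : Zs z ≤ Subgroup.zpowers i := by
      rw [Subgroup.zpowers_le]
      rw [← hii, ← pow_two]
      exact Subgroup.pow_mem _ (Subgroup.mem_zpowers i) 2
    exact hle h
  · by_contra hnot
    have h1 := (hgen i hi x hx hii h hnot).1
    have h2 : x⁻¹ * i * x = i := by
      rw [mul_assoc, ← hxi]; group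
    rw [h2] at h1
    apply hz1
    rw [← hii]
    calc i * i = i⁻¹ * i := by rw [← h1]
      _ = 1 := inv_mul_cancel i

/-- decomposition of an element of `Q₁ ⊔ Q₂` -/
theorem exists_mul_of_mem_sup {Q₁ Q₂ : Subgroup S} (hcomm : ∀ a ∈ Q₁, ∀ b ∈ Q₂, a * b = b * a)
    {w : S} (hw : w ∈ Q₁ ⊔ Q₂) : ∃ a ∈ Q₁, ∃ b ∈ Q₂, w = a * b := by
  have hle : Q₁ ≤ Subgroup.normalizer (Q₂ : Set S) := by
    intro a ha
    rw [Subgroup.mem_normalizer_iff]
    intro b
    constructor
    · intro hb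
      have : a * b * a⁻¹ = b := by rw [hcomm a ha b hb]; group
      rw [this]; exact hb
    · intro hb
      have h1 : a * (a * b * a⁻¹) = (a * b * a⁻¹) * a := hcomm a ha _ hb
      have : b = a * b * a⁻¹ := by
        have h2 : a * a * b * a⁻¹ = a * b := by
          calc a * a * b * a⁻¹ = a * (a * b * a⁻¹) := by group
            _ = (a * b * a⁻¹) * a := h1
            _ = a * b := by group
        calc b = a⁻¹ * (a * b) := by group
          _ = a⁻¹ * (a * a * b * a⁻¹) := by rw [h2]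
          _ = a * b * a⁻¹ := by group
      rw [this]; exact hb
  have := Subgroup.coe_mul_of_left_le_normalizer_right Q₁ Q₂ hle
  have hw' : w ∈ ((Q₁ ⊔ Q₂ : Subgroup S) : Set S) := hw
  rw [this] at hw'
  obtain ⟨a, ha, b, hb, rfl⟩ := hw'
  exact ⟨a, ha, b, hb, rfl⟩

end Cfsg.Agent.Lib.Helper9.S1233
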