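import Mathlib
import Cfsg.Agent.Lib.Helper9.S1233B3c

set_option autoImplicit false

/-! S1233 farm, unit U-B3 (Lemma B), part d: the step lemma. -/

namespace Cfsg.Agent.Lib.Helper9.S1233

open Cfsg.Agent.Lib.Helper1.S1233

variable {S : Type*} [Group S]

theorem commute_of_mem_zpowers {c x : S} (h : x ∈ Subgroup.zpowers c) : Commute c x := by
  obtain ⟨k, rfl⟩ := Subgroup.mem_zpowers_iff.mp h
  exact (Commute.refl c).zpow_right k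

theorem conj_inv_of_mem_zpowers {j i b : S} (hji : j⁻¹ * i * j = i⁻¹) (hb : b ∈ Subgroup.zpowers i) :
    j⁻¹ * b * j = b⁻¹ := by
  obtain ⟨k, rfl⟩ := Subgroup.mem_zpowers_iff.mp hb
  rw [conj_zpow', hji, inv_zpow]

theorem step_B {Q₁ Q₂ : Subgroup S} {z c d i₁ j₁ i₂ j₂ : S} {ε₁ ε₂ : ℕ} (hB : Base Q₁ Q₂ z)
    (hA2 : ∀ x : S, (∀ q ∈ Q₁ ⊔ Q₂, cm x q ∈ Zs z) → x ∈ Q₁ ⊔ Q₂)
    (hq8₁ : ∀ x ∈ Q₁, x ∈ Zs z ∨ x * x = z) (hq8₂ : ∀ x ∈ Q₂, x ∈ Zs z ∨ x * x = z)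
    (hgen₁ : ∀ x ∈ Q₁, ∀ y ∈ Q₁, x * x = z → y * y = z → y ∉ Subgroup.zpowers x →
      y⁻¹ * x * y = x⁻¹ ∧ Q₁ = Subgroup.closure {x, y})
    (hgen₂ : ∀ x ∈ Q₂, ∀ y ∈ Q₂, x * x = z → y * y = z → y ∉ Subgroup.zpowers x →
      y⁻¹ * x * y = x⁻¹ ∧ Q₂ = Subgroup.closure {x, y})
    (hi₁ : i₁ ∈ Q₁) (hj₁ : j₁ ∈ Q₁) (hi₂ : i₂ ∈ Q₂) (hj₂ : j₂ ∈ Q₂)
    (hii₁ : i₁ * i₁ = z) (hii₂ : i₂ * i₂ = z)
    (hgenQ₁ : Q₁ = Subgroup.closure {i₁, j₁}) (hgenQ₂ : Q₂ = Subgroup.closure {i₂, j₂})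
    (hc : c ∈ cen Q₂) (hd : d ∈ cen Q₁)
    (hic : i₁ ∈ Subgroup.zpowers c) (hid : i₂ ∈ Subgroup.zpowers d)
    (hjc : j₁⁻¹ * c * j₁ = c ^ ε₁) (hjd : j₂⁻¹ * d * j₂ = d ^ ε₂)
    (he₁ : ε₁ % 4 = 3) (he₂ : ε₂ % 4 = 3)
    (hji₁ : j₁⁻¹ * i₁ * j₁ = i₁⁻¹) (hji₂ : j₂⁻¹ * i₂ * j₂ = i₂⁻¹)
    (hcc : cm (c * c) d ∈ Zs z) (hdd : cm c (d * d) ∈ Zs z) : cm c d ∈ Zs z := by
  have hzc := hB.z_central
  have hzz := hB.z_sq
  have hz1 := hB.z_ne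
  have : (Zs z).Normal := zs_normal hzc
  -- exact commutation
  have hcQ₂ : ∀ b ∈ Q₂, Commute c b := fun b hb =>
    ((Subgroup.mem_centralizer_iff.mp hc) b hb).symm
  have hdQ₁ : ∀ a ∈ Q₁, Commute d a := fun a ha =>
    ((Subgroup.mem_centralizer_iff.mp hd) a ha).symm
  have hci₁ : Commute c i₁ := commute_of_mem_zpowers hic
  have hdi₂ : Commute d i₂ := commute_of_mem_zpowers hid
  have hci₂ : Commute c i₂ := hcQ₂ i₂ hi₂
  have hcj₂ : Commute c j₂ := hcQ₂ j₂ hj₂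
  have hdi₁ : Commute d i₁ := hdQ₁ i₁ hi₁
  have hdj₁ : Commute d j₁ := hdQ₁ j₁ hj₁
  set w := cm c d with hwdef
  have hwi₁ : Commute w i₁ :=
    ((hci₁.inv_left.mul_left hdi₁.inv_left).mul_left hci₁).mul_left hdi₁
  have hwi₂ : Commute w i₂ :=
    ((hci₂.inv_left.mul_left hdi₂.inv_left).mul_left hci₂).mul_left hdi₂
  -- modulo `z`
  have hCC : Commute ((c : S ⧸ Zs z) * (c : S ⧸ Zs z)) (d : S ⧸ Zs z) := by
    have := (cm_mem_iff (Zs z) (c * c) d).mp hcc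
    rwa [QuotientGroup.mk_mul] at this
  have hDD : Commute (c : S ⧸ Zs z) ((d : S ⧸ Zs z) * (d : S ⧸ Zs z)) := by
    have := (cm_mem_iff (Zs z) c (d * d)).mp hdd
    rwa [QuotientGroup.mk_mul] at this
  have hwj₁ : cm w j₁ ∈ Zs z := by
    rw [cm_mem_iff]
    apply commute_of_conj_eq
    have h1 : j₁⁻¹ * w * j₁ = (c ^ ε₁)⁻¹ * d⁻¹ * c ^ ε₁ * d := by
      have e1 : j₁⁻¹ * d * j₁ = d := by
        rw [mul_assoc, hdj₁.eq]; group
      calc j₁⁻¹ * w * j₁ = (j₁⁻¹ * c * j₁)⁻¹ * (j₁⁻¹ * d * j₁)⁻¹ * (j₁⁻¹ * c * j₁) * (j₁⁻¹ * d * j₁) := by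
            rw [hwdef]; unfold cm; group
        _ = (c ^ ε₁)⁻¹ * d⁻¹ * c ^ ε₁ * d := by rw [hjc, e1]
    have h2 : ((j₁⁻¹ * w * j₁ : S) : S ⧸ Zs z) = (w : S ⧸ Zs z) := by
      rw [h1, hwdef]
      unfold cm
      simp only [QuotientGroup.mk_mul, QuotientGroup.mk_inv, QuotientGroup.mk_pow]
      rw [odd_of_mod4 he₁]
      exact conj_odd hCC _
    simpa only [QuotientGroup.mk_mul, QuotientGroup.mk_inv] using h2
  have hwj₂ : cm w j₂ ∈ Zs z := by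
    rw [cm_mem_iff]
    apply commute_of_conj_eq
    have h1 : j₂⁻¹ * w * j₂ = c⁻¹ * (d ^ ε₂)⁻¹ * c * d ^ ε₂ := by
      have e1 : j₂⁻¹ * c * j₂ = c := by
        rw [mul_assoc, hcj₂.eq]; group
      calc j₂⁻¹ * w * j₂ = (j₂⁻¹ * c * j₂)⁻¹ * (j₂⁻¹ * d * j₂)⁻¹ * (j₂⁻¹ * c * j₂) * (j₂⁻¹ * d * j₂) := by
            rw [hwdef]; unfold cm; group
        _ = c⁻¹ * (d ^ ε₂)⁻¹ * c * d ^ ε₂ := by rw [hjd, e1]
    have h2 : ((j₂⁻¹ * w * j₂ : S) : S ⧸ Zs z) = (w : S ⧸ Zs z) := by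
      rw [h1, hwdef]
      unfold cm
      simp only [QuotientGroup.mk_mul, QuotientGroup.mk_inv, QuotientGroup.mk_pow]
      rw [odd_of_mod4 he₂]
      exact conj_odd' hDD _
    simpa only [QuotientGroup.mk_mul, QuotientGroup.mk_inv] using h2
  -- `w ∈ Q`
  have hwQ : w ∈ Q₁ ⊔ Q₂ := by
    apply hA2
    have hle : Q₁ ⊔ Q₂ ≤ czSub (Zs z) w := by
      apply sup_le
      · rw [hgenQ₁, Subgroup.closure_le]
        intro x hx
        rw [SetLike.mem_coe, mem_czSub]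
        rcases hx with rfl | hx
        · exact cm_mem_symm _ (cm_mem_of_commute _ hwi₁.eq)
        · rw [Set.mem_singleton_iff] at hx
          rw [hx]
          exact cm_mem_symm _ hwj₁
      · rw [hgenQ₂, Subgroup.closure_le]
        intro x hx
        rw [SetLike.mem_coe, mem_czSub]
        rcases hx with rfl | hx
        · exact cm_mem_symm _ (cm_mem_of_commute _ hwi₂.eq)
        · rw [Set.mem_singleton_iff] at hx
          rw [hx]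
          exact cm_mem_symm _ hwj₂
    intro q hq
    have := hle hq
    rw [mem_czSub] at this
    exact cm_mem_symm _ this
  obtain ⟨a, ha, b, hb, hwab⟩ := exists_mul_of_mem_sup hB.comm hwQ
  have hab : Commute a b := hB.comm a ha b hb
  -- `a ∈ ⟨i₁⟩`, `b ∈ ⟨i₂⟩`
  have hai : a * i₁ = i₁ * a := by
    have hbi : Commute b i₁ := (hB.comm i₁ hi₁ b hb).symm
    have h1 : a = w * b⁻¹ := by rw [hwab]; group
    rw [h1]
    exact (hwi₁.mul_left hbi.inv_left).eq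
  have hbi : b * i₂ = i₂ * b := by
    have hai₂ : Commute a i₂ := hB.comm a ha i₂ hi₂
    have h1 : b = a⁻¹ * w := by rw [hwab]; group
    rw [h1]
    exact (hai₂.inv_left.mul_left hwi₂).eq
  have haz : a ∈ Subgroup.zpowers i₁ := mem_zpowers_of_commute hz1 hq8₁ hgen₁ hi₁ hii₁ ha hai
  have hbz : b ∈ Subgroup.zpowers i₂ := mem_zpowers_of_commute hz1 hq8₂ hgen₂ hi₂ hii₂ hb hbi
  have ha4 : a ^ 4 = 1 := pow_four_of_mem hii₁ hzz haz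
  have hb4 : b ^ 4 = 1 := pow_four_of_mem hii₂ hzz hbz
  have had : Commute a d := (hdQ₁ a ha).symm
  have hbc : Commute b c := (hcQ₂ b hb).symm
  have hbd : Commute b d := by
    have h1 : Commute i₂ b := commute_of_mem_zpowers hbz
    obtain ⟨k, hk⟩ := Subgroup.mem_zpowers_iff.mp hbz
    obtain ⟨l, hl⟩ := Subgroup.mem_zpowers_iff.mp hid
    rw [← hk, ← hl]
    exact (((Commute.refl d).zpow_left l).zpow_left k)
  have hac : Commute a c := by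
    obtain ⟨k, hk⟩ := Subgroup.mem_zpowers_iff.mp haz
    obtain ⟨l, hl⟩ := Subgroup.mem_zpowers_iff.mp hic
    rw [← hk, ← hl]
    exact (((Commute.refl c).zpow_left l).zpow_left k)
  -- first half
  have haa : a * a = 1 :=
    half he₂ hwab ha4 hb4 hab had hbd hcj₂.symm (hB.comm a ha j₂ hj₂).symm
      (conj_inv_of_mem_zpowers hji₂ hbz) hjd
  -- second half
  have hbb' : b⁻¹ * b⁻¹ = 1 := by
    have hw' : cm d c = b⁻¹ * a⁻¹ := by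
      have : cm d c = (cm c d)⁻¹ := by unfold cm; group
      rw [this, ← hwdef, hwab, mul_inv_rev]
    have h1 : (b⁻¹) ^ 4 = 1 := by rw [inv_pow, hb4, inv_one]
    have h2 : (a⁻¹) ^ 4 = 1 := by rw [inv_pow, ha4, inv_one]
    have h3 : j₁⁻¹ * a⁻¹ * j₁ = (a⁻¹)⁻¹ := by
      have := conj_inv_of_mem_zpowers hji₁ haz
      rw [inv_inv]
      have h4 : j₁⁻¹ * a⁻¹ * j₁ = (j₁⁻¹ * a * j₁)⁻¹ := by group
      rw [h4, this, inv_inv]
    exact half he₁ hw' h1 h2 hab.symm.inv_left.inv_right hbc.inv_left hac.inv_left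
      hdj₁.symm (Commute.inv_right (hB.comm j₁ hj₁ b hb)) h3 hjc
  have hbb : b * b = 1 := by
    have := congrArg (fun t => t⁻¹) hbb'
    simpa using this
  rw [hwab]
  exact Subgroup.mul_mem _ (mem_zs_of_sq hii₁ hzz hz1 haz haa) (mem_zs_of_sq hii₂ hzz hz1 hbz hbb)

end Cfsg.Agent.Lib.Helper9.S1233
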