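import Mathlib
import Cfsg.Agent.Lib.Helper9.S1233B3d

set_option autoImplicit false

/-! S1233 farm, unit U-B3 (Lemma B): `[X₁, X₂] ≤ ⟨z⟩`, in of-pattern (the facts of units A1, A2 and
B2api that are used are explicit hypotheses). -/

namespace Cfsg.Agent.Lib.Helper9.S1233

open Cfsg.Agent.Lib.Helper1.S1233

variable {S : Type*} [Group S]

theorem lemma_B_of {Q₁ Q₂ : Subgroup S} {z c₁ i₁ j₁ c₂ i₂ j₂ : S} {n₁ ε₁ n₂ ε₂ : ℕ}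
    (hB : Base Q₁ Q₂ z)
    (h1 : Side Q₁ (cen Q₂) z c₁ i₁ j₁ n₁ ε₁) (h2 : Side Q₂ (cen Q₁) z c₂ i₂ j₂ n₂ ε₂)
    (hA2 : ∀ x : S, (∀ q ∈ Q₁ ⊔ Q₂, cm x q ∈ Zs z) → x ∈ Q₁ ⊔ Q₂)
    (hq8₁ : ∀ x ∈ Q₁, x ∈ Zs z ∨ x * x = z) (hq8₂ : ∀ x ∈ Q₂, x ∈ Zs z ∨ x * x = z)
    (hgen₁ : ∀ x ∈ Q₁, ∀ y ∈ Q₁, x * x = z → y * y = z → y ∉ Subgroup.zpowers x →
      y⁻¹ * x * y = x⁻¹ ∧ Q₁ = Subgroup.closure {x, y})
    (hgen₂ : ∀ x ∈ Q₂, ∀ y ∈ Q₂, x * x = z → y * y = z → y ∉ Subgroup.zpowers x →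
      y⁻¹ * x * y = x⁻¹ ∧ Q₂ = Subgroup.closure {x, y})
    (hmem₁ : ∀ x ∈ cen Q₂, x ∈ Subgroup.zpowers c₁ ∨ ∃ y ∈ Subgroup.zpowers c₁, x = y * j₁)
    (hmem₂ : ∀ x ∈ cen Q₁, x ∈ Subgroup.zpowers c₂ ∨ ∃ y ∈ Subgroup.zpowers c₂, x = y * j₂)
    (hjj₁ : j₁ * j₁ = z) (hjj₂ : j₂ * j₂ = z) :
    ∀ x ∈ cen Q₂, ∀ y ∈ cen Q₁, cm x y ∈ Zs z := by
  have hzc := hB.z_central
  have hzz := hB.z_sq
  have : (Zs z).Normal := zs_normal hzc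
  have hQ1X : Q₁ ≤ cen Q₂ := by
    intro a ha
    rw [Subgroup.mem_centralizer_iff]
    intro b hb
    exact (hB.comm a ha b hb).symm
  have hQ2X : Q₂ ≤ cen Q₁ := by
    intro b hb
    rw [Subgroup.mem_centralizer_iff]
    intro a ha
    exact hB.comm a ha b hb
  have hj₁X := hQ1X h1.j_mem
  have hj₂X := hQ2X h2.j_mem
  have hii₁ := side_ii h1
  have hii₂ := side_ii h2
  have hjc₁ := side_j_act h1 hj₁X
  have hjc₂ := side_j_act h2 hj₂X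
  have hji₁ := side_j_inv h1 hj₁X hzz
  have hji₂ := side_j_inv h2 hj₂X hzz
  have hic₁ := side_i_mem_zpowers h1
  have hic₂ := side_i_mem_zpowers h2
  have hnot₁ : j₁ ∉ Subgroup.zpowers i₁ := fun h =>
    h1.j_not ((Subgroup.zpowers_le.mpr hic₁) h)
  have hnot₂ : j₂ ∉ Subgroup.zpowers i₂ := fun h =>
    h2.j_not ((Subgroup.zpowers_le.mpr hic₂) h)
  have hgenQ₁ := (hgen₁ i₁ h1.i_mem j₁ h1.j_mem hii₁ hjj₁ hnot₁).2
  have hgenQ₂ := (hgen₂ i₂ h2.i_mem j₂ h2.j_mem hii₂ hjj₂ hnot₂).2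
  -- elements of `X₂` commute with elements of `Q₁`
  have hX₂Q₁ : ∀ y ∈ cen Q₁, ∀ a ∈ Q₁, Commute y a := fun y hy a ha =>
    ((Subgroup.mem_centralizer_iff.mp hy) a ha).symm
  have hX₁Q₂ : ∀ x ∈ cen Q₂, ∀ b ∈ Q₂, Commute x b := fun x hx b hb =>
    ((Subgroup.mem_centralizer_iff.mp hx) b hb).symm
  -- the induction
  have key : ∀ t a b : ℕ, a ≤ n₁ - 2 → b ≤ n₂ - 2 → (n₁ - 2 - a) + (n₂ - 2 - b) = t →
      cm (c₁ ^ (2 ^ a)) (c₂ ^ (2 ^ b)) ∈ Zs z := by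
    intro t
    induction t with
    | zero =>
      intro a b ha hb ht
      have ha' : a = n₁ - 2 := by omega
      rw [ha', ← h1.i_eq]
      apply cm_mem_of_commute
      exact ((hX₂Q₁ _ (Subgroup.pow_mem _ h2.c_mem _) i₁ h1.i_mem).symm).eq
    | succ t ih =>
      intro a b ha hb ht
      by_cases ha' : a = n₁ - 2
      · rw [ha', ← h1.i_eq]
        apply cm_mem_of_commute
        exact ((hX₂Q₁ _ (Subgroup.pow_mem _ h2.c_mem _) i₁ h1.i_mem).symm).eq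
      by_cases hb' : b = n₂ - 2
      · rw [hb', ← h2.i_eq]
        apply cm_mem_of_commute
        exact (hX₁Q₂ _ (Subgroup.pow_mem _ h1.c_mem _) i₂ h2.i_mem).eq
      have hsq : ∀ (c : S) (a : ℕ), c ^ (2 ^ a) * c ^ (2 ^ a) = c ^ (2 ^ (a + 1)) := by
        intro c a
        rw [← pow_add, pow_succ, mul_two]
      have hconj : ∀ (j c : S) (ε a : ℕ), j⁻¹ * c * j = c ^ ε →
          j⁻¹ * c ^ (2 ^ a) * j = (c ^ (2 ^ a)) ^ ε := by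
        intro j c ε a h
        rw [conj_pow, h, ← pow_mul, mul_comm, pow_mul]
      have hpowmem : ∀ (c i : S) (n a : ℕ), i = c ^ (2 ^ (n - 2)) → a ≤ n - 2 →
          i ∈ Subgroup.zpowers (c ^ (2 ^ a)) := by
        intro c i n a hi ha
        have : i = (c ^ (2 ^ a)) ^ (2 ^ (n - 2 - a)) := by
          rw [hi, ← pow_mul, ← pow_add]
          congr 2
          omega
        rw [this]
        exact Subgroup.pow_mem _ (Subgroup.mem_zpowers _) _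
      apply step_B hB hA2 hq8₁ hq8₂ hgen₁ hgen₂ h1.i_mem h1.j_mem h2.i_mem h2.j_mem hii₁ hii₂
        hgenQ₁ hgenQ₂ (Subgroup.pow_mem _ h1.c_mem _) (Subgroup.pow_mem _ h2.c_mem _)
        (hpowmem c₁ i₁ n₁ a h1.i_eq ha) (hpowmem c₂ i₂ n₂ b h2.i_eq hb)
        (hconj j₁ c₁ ε₁ a hjc₁) (hconj j₂ c₂ ε₂ b hjc₂) (side_eps4 h1) (side_eps4 h2) hji₁ hji₂
      · rw [hsq]
        exact ih (a + 1) b (by omega) hb (by omega)
      · rw [hsq]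
        exact ih a (b + 1) ha (by omega) (by omega)
  have hcc : cm c₁ c₂ ∈ Zs z := by
    have := key _ 0 0 (Nat.zero_le _) (Nat.zero_le _) rfl
    simpa using this
  -- all of `X₁`, `X₂`
  have hC12 : Commute (c₁ : S ⧸ Zs z) (c₂ : S ⧸ Zs z) := (cm_mem_iff _ _ _).mp hcc
  have hmk : ∀ {a b : S}, Commute a b → Commute (a : S ⧸ Zs z) (b : S ⧸ Zs z) := by
    intro a b h
    show (a : S ⧸ Zs z) * (b : S ⧸ Zs z) = (b : S ⧸ Zs z) * (a : S ⧸ Zs z)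
    rw [← QuotientGroup.mk_mul, ← QuotientGroup.mk_mul, h.eq]
  have hC1J2 : Commute (c₁ : S ⧸ Zs z) (j₂ : S ⧸ Zs z) := hmk (hX₁Q₂ c₁ h1.c_mem j₂ h2.j_mem)
  have hJ1C2 : Commute (j₁ : S ⧸ Zs z) (c₂ : S ⧸ Zs z) := hmk (hX₂Q₁ c₂ h2.c_mem j₁ h1.j_mem).symm
  have hJ1J2 : Commute (j₁ : S ⧸ Zs z) (j₂ : S ⧸ Zs z) := hmk (hB.comm j₁ h1.j_mem j₂ h2.j_mem)
  intro x hx y hy
  rw [cm_mem_iff]
  -- `y` commutes mod `z` with `c₁` and `j₁`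
  have hy1 : Commute (c₁ : S ⧸ Zs z) (y : S ⧸ Zs z) ∧ Commute (j₁ : S ⧸ Zs z) (y : S ⧸ Zs z) := by
    rcases hmem₂ y hy with h | ⟨y', h, rfl⟩
    · obtain ⟨l, rfl⟩ := Subgroup.mem_zpowers_iff.mp h
      rw [QuotientGroup.mk_zpow]
      exact ⟨hC12.zpow_right l, hJ1C2.zpow_right l⟩
    · obtain ⟨l, rfl⟩ := Subgroup.mem_zpowers_iff.mp h
      rw [QuotientGroup.mk_mul, QuotientGroup.mk_zpow]
      exact ⟨(hC12.zpow_right l).mul_right hC1J2, (hJ1C2.zpow_right l).mul_right hJ1J2⟩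
  rcases hmem₁ x hx with h | ⟨x', h, rfl⟩
  · obtain ⟨k, rfl⟩ := Subgroup.mem_zpowers_iff.mp h
    rw [QuotientGroup.mk_zpow]
    exact hy1.1.zpow_left k
  · obtain ⟨k, rfl⟩ := Subgroup.mem_zpowers_iff.mp h
    rw [QuotientGroup.mk_mul, QuotientGroup.mk_zpow]
    exact (hy1.1.zpow_left k).mul_left hy1.2

end Cfsg.Agent.Lib.Helper9.S1233
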