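import Mathlib
import Cfsg.Agent.Lib.Helper9.S1233B3
import Cfsg.Agent.Lib.Helper1.S1233Glue
import Cfsg.Agent.Lib.Helper6.S1233A2
import Cfsg.Agent.Lib.Helper3.S1233B2a

set_option autoImplicit false

/-! S1233 farm, unit U-B3 (Lemma B) in the exact stub shape. -/

namespace Cfsg.Agent.Lib.Helper9.S1233

open Cfsg.Agent.Lib.Helper1.S1233

variable {S : Type*} [Group S] {Q₁ Q₂ : Subgroup S} {z : S}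

theorem lemma_B {c₁ i₁ j₁ c₂ i₂ j₂ : S} {n₁ ε₁ n₂ ε₂ : ℕ} (hB : Base Q₁ Q₂ z)
    (h1 : Side Q₁ (cen Q₂) z c₁ i₁ j₁ n₁ ε₁) (h2 : Side Q₂ (cen Q₁) z c₂ i₂ j₂ n₂ ε₂) :
    ∀ x ∈ cen Q₂, ∀ y ∈ cen Q₁, cm x (y) ∈ Zs z := by
  have hB' := base_symm hB
  have hq8₁ := Cfsg.Agent.Lib.Helper6.S1233A.A1_q8 hB
  have hq8₂ := Cfsg.Agent.Lib.Helper6.S1233A.A1_q8 hB'
  exact lemma_B_of hB h1 h2 (Cfsg.Agent.Lib.Helper6.S1233A.A2 hB) hq8₁ hq8₂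
    (Cfsg.Agent.Lib.Helper6.S1233A.A1_q8_gen hB) (Cfsg.Agent.Lib.Helper6.S1233A.A1_q8_gen hB')
    (Cfsg.Agent.Lib.Helper3.S1233B2.side_mem hB h1) (Cfsg.Agent.Lib.Helper3.S1233B2.side_mem hB' h2)
    (Cfsg.Agent.Lib.Helper3.S1233B2.side_j_sq hq8₁ h1) (Cfsg.Agent.Lib.Helper3.S1233B2.side_j_sq hq8₂ h2)

end Cfsg.Agent.Lib.Helper9.S1233
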