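import Mathlib
import Cfsg.Agent.Lib.Helper1.S1233Defs
import Cfsg.Agent.Lib.Helper9.S1233B3a

set_option autoImplicit false

/-! S1233 farm, unit U-D3 (β): an element normalizing `⟨c₁⟩` and `⟨c₂⟩` and centralizing `B = ⟨i₁, i₂⟩`
lies in `R₁`.  `D2` (for both sides) is taken as a hypothesis. -/

namespace Cfsg.Agent.Lib.Helper9.S1233

open Cfsg.Agent.Lib.Helper1.S1233

variable {S : Type*} [Group S]

/-- the statement of unit D2 for one side -/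
def D2Stmt (z c : S) : Prop :=
  ∀ x : S, x⁻¹ * c * x ∈ Subgroup.zpowers c →
    x⁻¹ * c * x = c ∨ x⁻¹ * c * x = c * z ∨ x⁻¹ * c * x = c⁻¹ ∨ x⁻¹ * c * x = c⁻¹ * z

/-- one side of D3 -/
theorem D3_side {Qk X : Subgroup S} {z c i j : S} {n ε : ℕ} (hs : Side Qk X z c i j n ε)
    (h3 : 3 ≤ n) (hz1 : z ≠ 1) (hzz : z * z = 1) (hzc : ∀ g : S, g * z = z * g)
    (hD2 : D2Stmt z c) (x : S)
    (hx : x⁻¹ * c * x ∈ Subgroup.zpowers c) (hxi : i * x = x * i) : cm x c ∈ Zs z := by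
  have hcm : cm x c = (x⁻¹ * c * x)⁻¹ * c := by
    unfold cm; group
  have hzmem : z ∈ Zs z := Subgroup.mem_zpowers z
  -- `i * i = z`
  have hii : i * i = z := by
    rw [hs.i_eq, ← pow_add, ← two_mul, ← pow_succ', ← hs.c_pow]
    congr 2
    omega
  have hieven : ∃ m, 2 ^ (n - 2) = 2 * m := ⟨2 ^ (n - 3), by
    rw [← pow_succ']; congr 1; omega⟩
  have hbad : ∀ δ : S, δ * δ = 1 → (∀ g : S, g * δ = δ * g) → x⁻¹ * c * x = c⁻¹ * δ → False := by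
    intro δ hδ hδc hconj
    have h1 : x⁻¹ * i * x = i := by
      rw [mul_assoc, hxi]; group
    rw [hs.i_eq, conj_pow, hconj] at h1
    obtain ⟨m, hm⟩ := hieven
    have hcomm : Commute c⁻¹ δ := (hδc c⁻¹)
    rw [hcomm.mul_pow, hm, pow_mul δ, pow_two, hδ, one_pow, mul_one, ← hm, inv_pow] at h1
    -- `i⁻¹ = i`
    rw [← hs.i_eq] at h1
    have : i * i = 1 := by
      calc i * i = i⁻¹ * i := by rw [h1]
        _ = 1 := inv_mul_cancel i
    rw [hii] at this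
    exact hz1 this
  rcases hD2 x hx with h | h | h | h
  · rw [hcm, h, inv_mul_cancel]; exact Subgroup.one_mem _
  · rw [hcm, h]
    have : (c * z)⁻¹ * c = z⁻¹ := by
      rw [mul_inv_rev, mul_assoc, inv_mul_cancel, mul_one]
    rw [this]
    exact Subgroup.inv_mem _ hzmem
  · exfalso
    exact hbad 1 (by simp) (by simp) (by rw [h, mul_one])
  · exfalso
    exact hbad z hzz hzc h

/-- U-D3 in of-pattern: `hD2₁`, `hD2₂` are the statements of D2 for the two sides -/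
theorem D3_of {Q₁ Q₂ : Subgroup S} {d : Dat S} (hC : Ctx Q₁ Q₂ d) (h1 : 3 ≤ d.n₁) (h2 : 3 ≤ d.n₂)
    (hD2₁ : D2Stmt d.z d.c₁) (hD2₂ : D2Stmt d.z d.c₂) : ∀ x : S,
    x⁻¹ * d.c₁ * x ∈ Subgroup.zpowers d.c₁ → x⁻¹ * d.c₂ * x ∈ Subgroup.zpowers d.c₂ →
    x ∈ Rs d.i₁ d.i₂ → InR1 d x := by
  intro x hx1 hx2 hxR
  rw [Subgroup.mem_centralizer_iff] at hxR
  have hi1 : d.i₁ * x = x * d.i₁ := hxR d.i₁ (by simp)
  have hi2 : d.i₂ * x = x * d.i₂ := hxR d.i₂ (by simp)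
  exact ⟨D3_side hC.s1 h1 hC.base.z_ne hC.base.z_sq hC.base.z_central hD2₁ x hx1 hi1,
    D3_side hC.s2 h2 hC.base.z_ne hC.base.z_sq hC.base.z_central hD2₂ x hx2 hi2⟩

end Cfsg.Agent.Lib.Helper9.S1233
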