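import Mathlib
import Cfsg.Agent.Lib.Helper9.S1233B3w
import Cfsg.Agent.Lib.Helper3.S1233B2b

set_option autoImplicit false

/-! S1233 farm, unit U-D7, part a: `X₁X₂` is GOOD. -/

namespace Cfsg.Agent.Lib.Helper9.S1233

open Cfsg.Agent.Lib.Helper1.S1233

variable {S : Type*} [Group S] {Q₁ Q₂ : Subgroup S} {d : Dat S}

/-- conjugation by `g` maps `⟨a, b⟩` into `⟨g⁻¹ a g, g⁻¹ b g⟩` -/
theorem conj_mem_closure_pair (g a b : S) {x : S} (hx : x ∈ Subgroup.closure ({a, b} : Set S)) :
    g⁻¹ * x * g ∈ Subgroup.closure ({g⁻¹ * a * g, g⁻¹ * b * g} : Set S) := by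
  have hle : Subgroup.closure ({a, b} : Set S) ≤
      (Subgroup.closure ({g⁻¹ * a * g, g⁻¹ * b * g} : Set S)).comap
        (MulAut.conj g⁻¹).toMonoidHom := by
    rw [Subgroup.closure_le]
    intro y hy
    rw [SetLike.mem_coe, Subgroup.mem_comap]
    show (MulAut.conj g⁻¹) y ∈ _
    rw [MulAut.conj_apply, inv_inv]
    apply Subgroup.subset_closure
    rcases hy with rfl | hy
    · left; rfl
    · rw [Set.mem_singleton_iff] at hy
      right; rw [hy]; rfl
  have := hle hx
  rw [Subgroup.mem_comap] at this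
  have h2 : (MulAut.conj g⁻¹).toMonoidHom x = g⁻¹ * x * g := by
    show (MulAut.conj g⁻¹) x = _
    rw [MulAut.conj_apply, inv_inv]
  rwa [h2] at this

/-- if `g` and `g⁻¹` conjugate the generators of `B` into `B`, then `g` normalizes `B` -/
theorem mem_normalizer_of_gens (g a b : S)
    (h1 : g⁻¹ * a * g ∈ Subgroup.closure ({a, b} : Set S))
    (h2 : g⁻¹ * b * g ∈ Subgroup.closure ({a, b} : Set S))
    (h3 : g * a * g⁻¹ ∈ Subgroup.closure ({a, b} : Set S))
    (h4 : g * b * g⁻¹ ∈ Subgroup.closure ({a, b} : Set S)) :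
    g ∈ Subgroup.normalizer ((Subgroup.closure ({a, b} : Set S) : Subgroup S) : Set S) := by
  set B := Subgroup.closure ({a, b} : Set S) with hBdef
  have hP : ∀ x ∈ B, g⁻¹ * x * g ∈ B := by
    intro x hx
    have := conj_mem_closure_pair g a b hx
    have hle : Subgroup.closure ({g⁻¹ * a * g, g⁻¹ * b * g} : Set S) ≤ B := by
      rw [Subgroup.closure_le]
      intro y hy
      rcases hy with rfl | hy
      · exact h1
      · rw [Set.mem_singleton_iff] at hy; rw [hy]; exact h2
    exact hle this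
  have hP' : ∀ x ∈ B, g * x * g⁻¹ ∈ B := by
    intro x hx
    have := conj_mem_closure_pair g⁻¹ a b hx
    rw [inv_inv] at this
    have hle : Subgroup.closure ({g * a * g⁻¹, g * b * g⁻¹} : Set S) ≤ B := by
      rw [Subgroup.closure_le]
      intro y hy
      rcases hy with rfl | hy
      · exact h3
      · rw [Set.mem_singleton_iff] at hy; rw [hy]; exact h4
    exact hle this
  rw [Subgroup.mem_normalizer_iff]
  intro x
  constructor
  · exact hP' x
  · intro hx
    have := hP _ hx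
    have e : g⁻¹ * (g * x * g⁻¹) * g = x := by group
    rwa [e] at this

/-- an element of `X = C_S(Q')` conjugates `i` into `⟨i⟩` -/
theorem side_conj_i {Qk X : Subgroup S} {z c i j : S} {n ε : ℕ} (hs : Side Qk X z c i j n ε)
    (x : S) (hx : x ∈ X) : x⁻¹ * i * x ∈ Subgroup.zpowers i := by
  have hc : ∃ m : ℕ, x⁻¹ * c * x = c ^ m := by
    by_cases hxc : x ∈ Subgroup.zpowers c
    · refine ⟨1, ?_⟩
      have := commute_of_mem_zpowers hxc
      rw [pow_one, mul_assoc, this.eq]
      group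
    · exact ⟨ε, hs.act x hx hxc⟩
  obtain ⟨m, hm⟩ := hc
  rw [hs.i_eq, conj_pow, hm, ← pow_mul, mul_comm, pow_mul]
  exact Subgroup.pow_mem _ (Subgroup.mem_zpowers _) _

theorem zpowers_le_Bs_left (a b : S) : Subgroup.zpowers a ≤ Bs a b := by
  rw [Subgroup.zpowers_le]
  exact Subgroup.subset_closure (by simp)

theorem zpowers_le_Bs_right (a b : S) : Subgroup.zpowers b ≤ Bs a b := by
  rw [Subgroup.zpowers_le]
  exact Subgroup.subset_closure (by simp)

/-- `X₁` normalizes `B` -/
theorem X1_le_normalizer (hC : Ctx Q₁ Q₂ d) :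
    cen Q₂ ≤ Subgroup.normalizer ((Bs d.i₁ d.i₂ : Subgroup S) : Set S) := by
  intro x hx
  have hi₂ : ∀ y ∈ cen Q₂, y⁻¹ * d.i₂ * y = d.i₂ := by
    intro y hy
    have := (Subgroup.mem_centralizer_iff.mp hy) d.i₂ hC.s2.i_mem
    rw [mul_assoc, this]; group
  have hxi : x⁻¹ ∈ cen Q₂ := Subgroup.inv_mem _ hx
  apply mem_normalizer_of_gens
  · exact zpowers_le_Bs_left _ _ (side_conj_i hC.s1 x hx)
  · rw [hi₂ x hx]; exact Subgroup.subset_closure (by simp)
  · have := side_conj_i hC.s1 x⁻¹ hxi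
    rw [inv_inv] at this
    exact zpowers_le_Bs_left _ _ this
  · have := hi₂ x⁻¹ hxi
    rw [inv_inv] at this
    rw [this]; exact Subgroup.subset_closure (by simp)

end Cfsg.Agent.Lib.Helper9.S1233
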