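import Mathlib
import Cfsg.Agent.Lib.Helper9.S1233D7a

set_option autoImplicit false

/-! S1233 farm, unit U-D7, part b: `X₁X₂` is GOOD (base of the induction). -/

namespace Cfsg.Agent.Lib.Helper9.S1233

open Cfsg.Agent.Lib.Helper1.S1233

variable {S : Type*} [Group S] {Q₁ Q₂ : Subgroup S} {d : Dat S}

theorem X2_le_normalizer (hC : Ctx Q₁ Q₂ d) :
    cen Q₁ ≤ Subgroup.normalizer ((Bs d.i₁ d.i₂ : Subgroup S) : Set S) := by
  have := X1_le_normalizer (ctx_symm hC)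
  rw [Bs_comm] at this
  exact this

theorem conj_mem_of_mem_normalizer {B : Subgroup S} {g b : S}
    (hg : g ∈ Subgroup.normalizer (B : Set S)) (hb : b ∈ B) : g⁻¹ * b * g ∈ B := by
  have hg' : g⁻¹ ∈ Subgroup.normalizer (B : Set S) := Subgroup.inv_mem _ hg
  have := (Subgroup.mem_normalizer_iff.mp hg' b).mp hb
  rwa [inv_inv] at this

/-- decomposition of `X₁X₂` -/
theorem exists_mul_of_mem_X12 (hC : Ctx Q₁ Q₂ d) {r : S} (hr : r ∈ cen Q₂ ⊔ cen Q₁) :
    ∃ x ∈ cen Q₂, ∃ y ∈ cen Q₁, r = y * x := by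
  have hzX : Zs d.z ≤ cen Q₂ := by
    rw [Subgroup.zpowers_le]
    exact Cfsg.Agent.Lib.Helper3.S1233B2.side_le hC.base hC.base.z_mem₁
  have hle : cen Q₁ ≤ Subgroup.normalizer ((cen Q₂ : Subgroup S) : Set S) := by
    intro y hy
    -- `y⁻¹ x y = x * cm x y ∈ X₁`
    have hP : ∀ y ∈ cen Q₁, ∀ x ∈ cen Q₂, y⁻¹ * x * y ∈ cen Q₂ := by
      intro y hy x hx
      have h1 : y⁻¹ * x * y = x * cm x y := by unfold cm; group
      rw [h1]
      exact Subgroup.mul_mem _ hx (hzX (hC.lemB x hx y hy))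
    rw [Subgroup.mem_normalizer_iff]
    intro x
    constructor
    · intro hx
      have := hP y⁻¹ (Subgroup.inv_mem _ hy) x hx
      rwa [inv_inv] at this
    · intro hx
      have := hP y hy _ hx
      have e : y⁻¹ * (y * x * y⁻¹) * y = x := by group
      rwa [e] at this
  have h := Subgroup.coe_mul_of_left_le_normalizer_right (cen Q₁) (cen Q₂) hle
  have hr' : r ∈ ((cen Q₁ ⊔ cen Q₂ : Subgroup S) : Set S) := by
    rw [sup_comm]; exact hr
  rw [h] at hr'
  obtain ⟨y, hy, x, hx, rfl⟩ := hr'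
  exact ⟨x, hx, y, hy, rfl⟩

/-- base of the induction: `X₁X₂` is GOOD -/
theorem good_base (hC : Ctx Q₁ Q₂ d) (h1 : 3 ≤ d.n₁) (h2 : 3 ≤ d.n₂) :
    Good Q₁ Q₂ d (cen Q₂ ⊔ cen Q₁) := by
  have hzc := hC.base.z_central
  have hN : (Zs d.z).Normal := zs_normal hzc
  refine ⟨le_sup_left, le_sup_right, ?_, ?_⟩
  · intro m hm
    have hle : cen Q₂ ⊔ cen Q₁ ≤ Subgroup.normalizer ((Bs d.i₁ d.i₂ : Subgroup S) : Set S) :=
      sup_le (X1_le_normalizer hC) (X2_le_normalizer hC)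
    have hmN := hle hm
    exact ⟨conj_mem_of_mem_normalizer hmN (Subgroup.subset_closure (by simp)),
      conj_mem_of_mem_normalizer hmN (Subgroup.subset_closure (by simp))⟩
  · intro r hr hrR
    obtain ⟨x, hx, y, hy, rfl⟩ := exists_mul_of_mem_X12 hC hr
    rw [Subgroup.mem_centralizer_iff] at hrR
    have hr1 : d.i₁ * (y * x) = (y * x) * d.i₁ := hrR d.i₁ (by simp)
    have hr2 : d.i₂ * (y * x) = (y * x) * d.i₂ := hrR d.i₂ (by simp)
    -- `y` commutes with `i₁`, `x` commutes with `i₂`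
    have hyi₁ : Commute y d.i₁ :=
      ((Subgroup.mem_centralizer_iff.mp hy) d.i₁ hC.s1.i_mem).symm
    have hxi₂ : Commute x d.i₂ :=
      ((Subgroup.mem_centralizer_iff.mp hx) d.i₂ hC.s2.i_mem).symm
    have hri₁ : Commute (y * x) d.i₁ := hr1.symm
    have hri₂ : Commute (y * x) d.i₂ := hr2.symm
    have hxi₁ : Commute x d.i₁ := by
      have : x = y⁻¹ * (y * x) := by group
      rw [this]
      exact hyi₁.inv_left.mul_left hri₁
    have hyi₂ : Commute y d.i₂ := by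
      have : y = (y * x) * x⁻¹ := by group
      rw [this]
      exact hri₂.mul_left hxi₂.inv_left
    have hxc : x ∈ Subgroup.zpowers d.c₁ :=
      Cfsg.Agent.Lib.Helper3.S1233B2.side_cent_i hC.base hC.s1 h1 x hx hxi₁.eq
    have hyc : y ∈ Subgroup.zpowers d.c₂ :=
      Cfsg.Agent.Lib.Helper3.S1233B2.side_cent_i (base_symm hC.base) hC.s2 h2 y hy hyi₂.eq
    have hmk : ∀ {a b : S}, Commute a b → Commute (a : S ⧸ Zs d.z) (b : S ⧸ Zs d.z) := by
      intro a b h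
      show (a : S ⧸ Zs d.z) * (b : S ⧸ Zs d.z) = (b : S ⧸ Zs d.z) * (a : S ⧸ Zs d.z)
      rw [← QuotientGroup.mk_mul, ← QuotientGroup.mk_mul, h.eq]
    constructor
    · show cm (y * x) d.c₁ ∈ Zs d.z
      rw [cm_mem_iff, QuotientGroup.mk_mul]
      have h3 : Commute (y : S ⧸ Zs d.z) (d.c₁ : S ⧸ Zs d.z) := by
        have := hC.lemB d.c₁ hC.s1.c_mem y hy
        exact ((cm_mem_iff _ _ _).mp this).symm
      have h4 : Commute (x : S ⧸ Zs d.z) (d.c₁ : S ⧸ Zs d.z) :=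
        hmk (commute_of_mem_zpowers hxc).symm
      exact h3.mul_left h4
    · show cm (y * x) d.c₂ ∈ Zs d.z
      rw [cm_mem_iff, QuotientGroup.mk_mul]
      have h3 : Commute (x : S ⧸ Zs d.z) (d.c₂ : S ⧸ Zs d.z) := by
        have := hC.lemB x hx d.c₂ hC.s2.c_mem
        exact (cm_mem_iff _ _ _).mp this
      have h4 : Commute (y : S ⧸ Zs d.z) (d.c₂ : S ⧸ Zs d.z) :=
        hmk (commute_of_mem_zpowers hyc).symm
      exact h4.mul_left h3

end Cfsg.Agent.Lib.Helper9.S1233
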