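import Mathlib
import Cfsg.Agent.Lib.Helper9.S1233D7b

set_option autoImplicit false

/-! S1233 farm, unit U-D7 + case I, in of-pattern: `D3`, `D5`, `D6` (and `D1_comm`, `D1_sq` for
case I) are explicit hypotheses in their stub shapes. -/

namespace Cfsg.Agent.Lib.Helper9.S1233

open Cfsg.Agent.Lib.Helper1.S1233

variable {S : Type*} [Group S] {Q₁ Q₂ : Subgroup S} {d : Dat S}

/-- statement of stub `D3` -/
def D3Stmt (d : Dat S) : Prop := ∀ x : S,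
    x⁻¹ * d.c₁ * x ∈ Subgroup.zpowers d.c₁ → x⁻¹ * d.c₂ * x ∈ Subgroup.zpowers d.c₂ →
    x ∈ Rs d.i₁ d.i₂ → InR1 d x

/-- statement of stub `D5` -/
def D5Stmt (Q₁ Q₂ : Subgroup S) (d : Dat S) : Prop :=
  ∀ (M : Subgroup S) (_ : Good Q₁ Q₂ d M) (y₁ y₂ : S) (_ : y₁ ∈ M) (_ : y₂ ∈ M)
    (_ : y₁ * y₁ = d.z) (_ : y₂ * y₂ = d.z) (_ : y₁ * y₂ = y₂ * y₁)
    (_ : y₂ ∉ Subgroup.zpowers y₁)
    (_ : ∀ m ∈ M, m⁻¹ * y₁ * m ∈ Subgroup.closure {y₁, y₂} ∧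
      m⁻¹ * y₂ * m ∈ Subgroup.closure {y₁, y₂}),
    Subgroup.closure {y₁, y₂} = Bs d.i₁ d.i₂

/-- statement of stub `D6` -/
def D6Stmt (Q₁ Q₂ : Subgroup S) (d : Dat S) : Prop :=
  ∀ (M : Subgroup S) (_ : Good Q₁ Q₂ d M) (x : S) (_ : ∀ m ∈ M, x⁻¹ * m * x ∈ M)
    (_ : x ∈ Rs d.i₁ d.i₂),
    x⁻¹ * d.c₁ * x ∈ Subgroup.zpowers d.c₁ ∧ x⁻¹ * d.c₂ * x ∈ Subgroup.zpowers d.c₂

theorem conj_mem_of_normalizer {M : Subgroup S} {g m : S}
    (hg : g ∈ Subgroup.normalizer (M : Set S)) (hm : m ∈ M) :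
    g⁻¹ * m * g ∈ M ∧ g * m * g⁻¹ ∈ M :=
  ⟨conj_mem_of_mem_normalizer hg hm, (Subgroup.mem_normalizer_iff.mp hg m).mp hm⟩

/-- the induction step: the normalizer of a GOOD subgroup is GOOD -/
theorem good_normalizer (hC : Ctx Q₁ Q₂ d) (hD3 : D3Stmt d) (hD5 : D5Stmt Q₁ Q₂ d)
    (hD6 : D6Stmt Q₁ Q₂ d) (M : Subgroup S) (hM : Good Q₁ Q₂ d M) :
    Good Q₁ Q₂ d (Subgroup.normalizer (M : Set S)) := by
  have hMN : M ≤ Subgroup.normalizer (M : Set S) := Subgroup.le_normalizer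
  have hzc := hC.base.z_central
  have hii₁ := side_ii hC.s1
  have hii₂ := side_ii hC.s2
  have hi₁M : d.i₁ ∈ M :=
    hM.le1 (Cfsg.Agent.Lib.Helper3.S1233B2.side_le hC.base hC.s1.i_mem)
  have hi₂M : d.i₂ ∈ M :=
    hM.le2 (Cfsg.Agent.Lib.Helper3.S1233B2.side_le (base_symm hC.base) hC.s2.i_mem)
  have hcomm : d.i₁ * d.i₂ = d.i₂ * d.i₁ := hC.base.comm _ hC.s1.i_mem _ hC.s2.i_mem
  -- `i₂ ∉ ⟨i₁⟩`
  have hne : d.i₂ ∉ Subgroup.zpowers d.i₁ := by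
    intro h
    have h1 : d.i₂ ∈ Q₁ := (Subgroup.zpowers_le.mpr hC.s1.i_mem) h
    have h2 : d.i₂ ∈ Q₁ ⊓ Q₂ := ⟨h1, hC.s2.i_mem⟩
    rw [Cfsg.Agent.Lib.Helper6.S1233A.A1_inf hC.base] at h2
    have h3 : d.i₂ * d.i₂ = 1 := by
      obtain ⟨k, hk⟩ := Subgroup.mem_zpowers_iff.mp h2
      rw [← hk, ← zpow_add, ← two_mul, zpow_mul]
      have : d.z ^ (2 : ℤ) = 1 := by rw [zpow_two]; exact hC.base.z_sq
      rw [this, one_zpow]
    rw [hii₂] at h3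
    exact hC.base.z_ne h3
  refine ⟨hM.le1.trans hMN, hM.le2.trans hMN, ?_, ?_⟩
  · intro g hg
    set y₁ := g⁻¹ * d.i₁ * g with hy₁
    set y₂ := g⁻¹ * d.i₂ * g with hy₂
    have key : Subgroup.closure {y₁, y₂} = Bs d.i₁ d.i₂ := by
      apply hD5 M hM y₁ y₂ (conj_mem_of_normalizer hg hi₁M).1 (conj_mem_of_normalizer hg hi₂M).1
      · have : y₁ * y₁ = g⁻¹ * (d.i₁ * d.i₁) * g := by rw [hy₁]; group
        rw [this, hii₁, mul_assoc, ← hzc g]; group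
      · have : y₂ * y₂ = g⁻¹ * (d.i₂ * d.i₂) * g := by rw [hy₂]; group
        rw [this, hii₂, mul_assoc, ← hzc g]; group
      · have e1 : y₁ * y₂ = g⁻¹ * (d.i₁ * d.i₂) * g := by rw [hy₁, hy₂]; group
        have e2 : y₂ * y₁ = g⁻¹ * (d.i₂ * d.i₁) * g := by rw [hy₁, hy₂]; group
        rw [e1, e2, hcomm]
      · intro h
        apply hne
        obtain ⟨k, hk⟩ := Subgroup.mem_zpowers_iff.mp h
        rw [hy₁, ← conj_zpow'] at hk
        have : d.i₁ ^ k = d.i₂ := by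
          have := congrArg (fun t => g * t * g⁻¹) hk
          simp only [hy₂] at this
          have e1 : g * (g⁻¹ * d.i₁ ^ k * g) * g⁻¹ = d.i₁ ^ k := by group
          have e2 : g * (g⁻¹ * d.i₂ * g) * g⁻¹ = d.i₂ := by group
          rw [e1, e2] at this
          exact this
        rw [← this]
        exact Subgroup.zpow_mem_zpowers _ _
      · intro m hm
        -- `m⁻¹ (g⁻¹ i g) m = g⁻¹ (m'⁻¹ i m') g` with `m' = g m g⁻¹ ∈ M`
        have hm' : g * m * g⁻¹ ∈ M := (conj_mem_of_normalizer hg hm).2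
        have hB := hM.nB _ hm'
        constructor
        · have := conj_mem_closure_pair g d.i₁ d.i₂ hB.1
          have e : g⁻¹ * ((g * m * g⁻¹)⁻¹ * d.i₁ * (g * m * g⁻¹)) * g = m⁻¹ * y₁ * m := by
            rw [hy₁]; group
          rwa [e] at this
        · have := conj_mem_closure_pair g d.i₁ d.i₂ hB.2
          have e : g⁻¹ * ((g * m * g⁻¹)⁻¹ * d.i₂ * (g * m * g⁻¹)) * g = m⁻¹ * y₂ * m := by
            rw [hy₂]; group
          rwa [e] at this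
    rw [← key]
    exact ⟨Subgroup.subset_closure (by simp), Subgroup.subset_closure (by simp)⟩
  · intro r hr hrR
    have h := hD6 M hM r (fun m hm => (conj_mem_of_normalizer hr hm).1) hrR
    exact hD3 r h.1 h.2 hrR

/-- restriction of GOOD to a smaller subgroup -/
theorem good_mono {M N : Subgroup S} (hN : Good Q₁ Q₂ d N) (hMN : M ≤ N)
    (hM1 : cen Q₂ ≤ M) (hM2 : cen Q₁ ≤ M) : Good Q₁ Q₂ d M :=
  ⟨hM1, hM2, fun m hm => hN.nB m (hMN hm), fun r hr hrR => hN.rM r (hMN hr) hrR⟩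

/-- U-D7 in of-pattern -/
theorem D7_of (hC : Ctx Q₁ Q₂ d) (h1 : 3 ≤ d.n₁) (h2 : 3 ≤ d.n₂) (hD3 : D3Stmt d)
    (hD5 : D5Stmt Q₁ Q₂ d) (hD6 : D6Stmt Q₁ Q₂ d) (M : Subgroup S)
    (hM1 : cen Q₂ ≤ M) (hM2 : cen Q₁ ≤ M) : Good Q₁ Q₂ d M := by
  have hfin : Finite S := hC.base.fin
  have : Fact (Nat.Prime 2) := ⟨Nat.prime_two⟩
  have hnil : Group.IsNilpotent S := hC.base.pS.isNilpotent
  have hnc : NormalizerCondition S := Group.normalizerCondition_of_isNilpotent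
  -- a GOOD subgroup of maximal order
  have hex : ∃ N : Subgroup S, Good Q₁ Q₂ d N ∧ ∀ N' : Subgroup S, Good Q₁ Q₂ d N' → N ≤ N' → N' ≤ N := by
    let T : Set (Subgroup S) := {N | Good Q₁ Q₂ d N}
    have hT : T.Finite := Set.toFinite T
    have hne : (cen Q₂ ⊔ cen Q₁) ∈ T := good_base hC h1 h2
    obtain ⟨N, -, hNmax⟩ := hT.exists_le_maximal hne
    exact ⟨N, hNmax.prop, fun N' hN' hle => hNmax.le_of_ge hN' hle⟩
  obtain ⟨N, hN, hNmax⟩ := hex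
  have hNtop : N = ⊤ := by
    by_contra hne
    have hlt : N < Subgroup.normalizer (N : Set S) := hnc N (lt_top_iff_ne_top.mpr hne)
    have hgood := good_normalizer hC hD3 hD5 hD6 N hN
    exact (not_le_of_gt hlt) (hNmax _ hgood hlt.le)
  rw [hNtop] at hN
  exact good_mono hN le_top hM1 hM2

/-- case I in of-pattern -/
theorem case_I_of (hC : Ctx Q₁ Q₂ d) (h1 : 3 ≤ d.n₁) (h2 : 3 ≤ d.n₂) (hD3 : D3Stmt d)
    (hD5 : D5Stmt Q₁ Q₂ d) (hD6 : D6Stmt Q₁ Q₂ d)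
    (hD1c : ∀ r s : S, InR1 d r → InR1 d s → cm r (s) ∈ Zs d.z)
    (hD1s : ∀ r : S, InR1 d r → r * r ∈ Zs d.z → r ∈ Bs d.i₁ d.i₂) : Sigma Q₁ Q₂ d.z := by
  have hG := D7_of hC h1 h2 hD3 hD5 hD6 ⊤ le_top le_top
  refine ⟨d.i₁, hC.s1.i_mem, d.i₂, hC.s2.i_mem, side_ii hC.s1, side_ii hC.s2, ?_, ?_, ?_⟩
  · intro g
    exact hG.nB g (Subgroup.mem_top g)
  · intro r hr s hs
    exact hD1c r s (hG.rM r (Subgroup.mem_top r) hr) (hG.rM s (Subgroup.mem_top s) hs)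
  · intro r hr hrr
    exact hD1s r (hG.rM r (Subgroup.mem_top r) hr) hrr

end Cfsg.Agent.Lib.Helper9.S1233
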