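import Mathlib
import Cfsg.Agent.Lib.Helper9.S1233D3
import Cfsg.Agent.Lib.Helper9.S1233D7
import Cfsg.Agent.Lib.Helper1.S1233D1
import Cfsg.Agent.Lib.Helper4.QQD5
import Cfsg.Agent.Lib.Helper5.S1233D5w
import Cfsg.Agent.Lib.Helper3.S1233D6

set_option autoImplicit false

/-! S1233: VERBATIM wrappers `D3`, `D7`, `case_I` (helper1's stub shapes). -/

namespace Cfsg.Agent.Lib.Helper9.S1233

open Cfsg.Agent.Lib.Helper1.S1233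

variable {S : Type*} [Group S] {Q₁ Q₂ : Subgroup S} {d : Dat S}

/-- D3, verbatim -/
theorem D3 (hC : Ctx Q₁ Q₂ d) (h1 : 3 ≤ d.n₁) (h2 : 3 ≤ d.n₂) : ∀ x : S,
    x⁻¹ * d.c₁ * x ∈ Subgroup.zpowers d.c₁ → x⁻¹ * d.c₂ * x ∈ Subgroup.zpowers d.c₂ →
    x ∈ Rs d.i₁ d.i₂ → InR1 d x :=
  D3_of hC h1 h2 (Cfsg.Agent.Lib.Helper4.QQD.D2 hC h1)
    (Cfsg.Agent.Lib.Helper4.QQD.D2 (d := d.swap) (ctx_symm hC) h2)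

/-- D7, verbatim -/
theorem D7 (hC : Ctx Q₁ Q₂ d) (h1 : 3 ≤ d.n₁) (h2 : 3 ≤ d.n₂) (M : Subgroup S)
    (hM1 : cen Q₂ ≤ M) (hM2 : cen Q₁ ≤ M) : Good Q₁ Q₂ d M :=
  D7_of hC h1 h2 (D3 hC h1 h2)
    (fun M hM y₁ y₂ hy₁ hy₂ h11 h22 h12 hne hn =>
      Cfsg.Agent.Lib.Helper5.S1233.D5 hC h1 h2 M hM y₁ y₂ hy₁ hy₂ h11 h22 h12 hne hn)
    (fun M hM x hx hxR => Cfsg.Agent.Lib.Helper3.S1233D6.D6 hC h1 h2 M hM x hx hxR)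
    M hM1 hM2

/-- case I, verbatim -/
theorem case_I (hC : Ctx Q₁ Q₂ d) (h1 : 3 ≤ d.n₁) (h2 : 3 ≤ d.n₂) : Sigma Q₁ Q₂ d.z :=
  case_I_of hC h1 h2 (D3 hC h1 h2)
    (fun M hM y₁ y₂ hy₁ hy₂ h11 h22 h12 hne hn =>
      Cfsg.Agent.Lib.Helper5.S1233.D5 hC h1 h2 M hM y₁ y₂ hy₁ hy₂ h11 h22 h12 hne hn)
    (fun M hM x hx hxR => Cfsg.Agent.Lib.Helper3.S1233D6.D6 hC h1 h2 M hM x hx hxR)
    (D1_comm hC h1 h2) (D1_sq hC h1 h2)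

end Cfsg.Agent.Lib.Helper9.S1233
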