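import Mathlib
import Cfsg.Agent.Lib.Helper7.ProdSet

set_option autoImplicit false

/-! S1234, unit U-SMALL, part 1: facts on `Q = E ∪ sE` (`E` elementary abelian of order 16, `s` an involution
outside `E` with `|C_E(s)| = 4`, `|Q| = 32`). -/

namespace Cfsg.Agent.Lib.Helper9.S1234

variable {S : Type*} [Group S]

/-- index two, elementwise -/
theorem idx2 [Finite S] (H K : Subgroup S) (hHK : H ≤ K) (hcard : Nat.card K = 2 * Nat.card H) :
    ∀ a ∈ K, ∀ b ∈ K, (a * b ∈ H ↔ (a ∈ H ↔ b ∈ H)) := by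
  intro a ha b hb
  have hidx : (H.subgroupOf K).index = 2 := by
    have h1 := (H.subgroupOf K).card_mul_index
    rw [Nat.card_congr (Subgroup.subgroupOfEquivOfLe hHK).toEquiv, hcard] at h1
    have hpos : 0 < Nat.card H := Nat.card_pos
    have h2 : Nat.card H * (H.subgroupOf K).index = Nat.card H * 2 := by rw [h1]; ring
    exact Nat.eq_of_mul_eq_mul_left hpos h2
  have := Subgroup.mul_mem_iff_of_index_two hidx (a := ⟨a, ha⟩) (b := ⟨b, hb⟩)
  simpa [Subgroup.mem_subgroupOf] using this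

/-- the standing hypotheses on `Q`, `E`, `s`, elementwise -/
structure QData (Q E : Subgroup S) (s : S) : Prop where
  fin : Finite S
  EQ : E ≤ Q
  Ec : ∀ a ∈ E, ∀ b ∈ E, a * b = b * a
  E2 : ∀ a ∈ E, a * a = 1
  E16 : Nat.card E = 16
  Q32 : Nat.card Q = 32
  sQ : s ∈ Q
  sE : s ∉ E
  ss : s * s = 1
  fix : Nat.card ↥(E ⊓ Subgroup.centralizer ({s} : Set S)) = 4

variable {Q E : Subgroup S} {s : S}

theorem QData.coset (h : QData Q E s) : ∀ q ∈ Q, q ∉ E → s * q ∈ E := by
  intro q hq hqE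
  have := h.fin
  have h1 := idx2 E Q h.EQ (by rw [h.E16, h.Q32]) s h.sQ q hq
  rw [h1]
  exact ⟨fun hs => absurd hs h.sE, fun hq' => absurd hq' hqE⟩

theorem QData.s_inv (h : QData Q E s) : s⁻¹ = s := inv_eq_of_mul_eq_one_right h.ss

/-- `q = s * e'` for `q ∈ Q \ E` -/
theorem QData.decomp (h : QData Q E s) : ∀ q ∈ Q, q ∉ E → ∃ e ∈ E, q = s * e := by
  intro q hq hqE
  refine ⟨s * q, h.coset q hq hqE, ?_⟩
  rw [← mul_assoc, h.ss, one_mul]

theorem QData.mem_U_iff (_h : QData Q E s) (y : S) :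
    y ∈ E ⊓ Subgroup.centralizer ({s} : Set S) ↔ y ∈ E ∧ s * y = y * s := by
  rw [Subgroup.mem_inf, Subgroup.mem_centralizer_iff]
  constructor
  · rintro ⟨h1, h2⟩
    exact ⟨h1, h2 s (Set.mem_singleton s)⟩
  · rintro ⟨h1, h2⟩
    refine ⟨h1, ?_⟩
    intro t ht
    rw [Set.mem_singleton_iff] at ht
    rw [ht]; exact h2

/-- `s` does not centralize `E` -/
theorem QData.exists_not_comm (h : QData Q E s) : ∃ e ∈ E, s * e ≠ e * s := by
  by_contra hcon
  push Not at hcon
  have : E ⊓ Subgroup.centralizer ({s} : Set S) = E := by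
    apply le_antisymm inf_le_left
    intro e he
    rw [h.mem_U_iff]
    exact ⟨he, hcon e he⟩
  have h4 := h.fix
  rw [this, h.E16] at h4
  omega

/-- elements of `C_E(s)` commute with all of `Q` -/
theorem QData.U_central (h : QData Q E s) : ∀ y ∈ E ⊓ Subgroup.centralizer ({s} : Set S),
    ∀ q ∈ Q, q * y = y * q := by
  intro y hy q hq
  rw [h.mem_U_iff] at hy
  obtain ⟨hyE, hys⟩ := hy
  by_cases hqE : q ∈ E
  · exact h.Ec q hqE y hyE
  · obtain ⟨e, he, rfl⟩ := h.decomp q hq hqE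
    rw [mul_assoc, h.Ec e he y hyE, ← mul_assoc, hys, mul_assoc]

/-- the centre of `Q` is `C_E(s)` -/
theorem QData.center_eq (h : QData Q E s) :
    (Subgroup.center Q).map Q.subtype = E ⊓ Subgroup.centralizer ({s} : Set S) := by
  apply le_antisymm
  · rintro _ ⟨⟨y, hyQ⟩, hy, rfl⟩
    rw [SetLike.mem_coe, Subgroup.mem_center_iff] at hy
    have hyc : ∀ q ∈ Q, q * y = y * q := fun q hq => congrArg Subtype.val (hy ⟨q, hq⟩)
    show y ∈ _
    rw [h.mem_U_iff]
    by_cases hyE : y ∈ E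
    · exact ⟨hyE, hyc s h.sQ⟩
    · exfalso
      obtain ⟨e', he', rfl⟩ := h.decomp y hyQ hyE
      obtain ⟨e, he, hne⟩ := h.exists_not_comm
      apply hne
      have h1 := hyc e (h.EQ he)
      -- e * (s * e') = s * e' * e = s * e * e'
      rw [mul_assoc s e' e, h.Ec e' he' e he, ← mul_assoc, ← mul_assoc] at h1
      exact (mul_right_cancel h1).symm
  · intro y hy
    have hyE : y ∈ E := (Subgroup.mem_inf.mp hy).1
    refine ⟨⟨y, h.EQ hyE⟩, ?_, rfl⟩
    rw [SetLike.mem_coe, Subgroup.mem_center_iff]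
    intro q
    apply Subtype.ext
    exact h.U_central y hy q q.2

/-- conjugation by `s` preserves `E` -/
theorem QData.conj_s (h : QData Q E s) : ∀ e ∈ E, s * e * s ∈ E := by
  intro e he
  have h1 : e * s ∉ E := fun hc => h.sE (by
    have := E.mul_mem (E.inv_mem he) hc
    rwa [inv_mul_cancel_left] at this)
  have := h.coset (e * s) (Q.mul_mem (h.EQ he) h.sQ) h1
  rwa [← mul_assoc] at this

end Cfsg.Agent.Lib.Helper9.S1234
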