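import Mathlib
import Cfsg.Agent.Lib.Helper9.S1234Small1

set_option autoImplicit false

/-! S1234, unit U-SMALL, part 2: the squares of `Q` fill `C_E(s)`; abelian subgroups of order `≥ 16` lie in `E`. -/

namespace Cfsg.Agent.Lib.Helper9.S1234

open scoped Pointwise

variable {S : Type*} [Group S] {Q E : Subgroup S} {s : S}

/-- the map `e ↦ e * e^s = (e s)^2` on `E` -/
noncomputable def sqHom (h : QData Q E s) : ↥E →* ↥E :=
  MonoidHom.mk' (fun e => ⟨(e : S) * (s * e * s), E.mul_mem e.2 (h.conj_s e e.2)⟩) (by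
    intro a b
    apply Subtype.ext
    show (a : S) * b * (s * (a * b) * s) = a * (s * a * s) * (b * (s * b * s))
    have h1 : s * ((a : S) * b) * s = (s * a * s) * (s * b * s) := by
      calc s * ((a : S) * b) * s = s * a * (1 : S) * b * s := by group
        _ = s * a * (s * s) * b * s := by rw [h.ss]
        _ = (s * a * s) * (s * b * s) := by group
    have h2 : (b : S) * (s * a * s) = (s * a * s) * b := h.Ec _ b.2 _ (h.conj_s a a.2)
    calc (a : S) * b * (s * (a * b) * s) = a * (b * (s * a * s)) * (s * b * s) := by rw [h1]; group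
      _ = a * ((s * a * s) * b) * (s * b * s) := by rw [h2]
      _ = a * (s * a * s) * (b * (s * b * s)) := by group)

theorem sqHom_apply (h : QData Q E s) (e : ↥E) : ((sqHom h e : ↥E) : S) = (e : S) * (s * e * s) := rfl

theorem sqHom_ker (h : QData Q E s) :
    (sqHom h).ker.map E.subtype = E ⊓ Subgroup.centralizer ({s} : Set S) := by
  ext y
  rw [h.mem_U_iff]
  constructor
  · rintro ⟨e, he, rfl⟩
    refine ⟨e.2, ?_⟩
    rw [SetLike.mem_coe, MonoidHom.mem_ker] at he
    have h1 : (e : S) * (s * e * s) = 1 := by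
      rw [← sqHom_apply h e, he]; rfl
    have h2 : (e : S) * e = 1 := h.E2 e e.2
    show s * (e : S) = e * s
    have h3 : s * (e : S) * s = e := by
      have : (e : S) * (s * e * s) = e * e := by rw [h1, h2]
      exact mul_left_cancel this
    calc s * (e : S) = s * e * (s * s) := by rw [h.ss, mul_one]
      _ = (s * e * s) * s := by group
      _ = e * s := by rw [h3]
  · rintro ⟨hyE, hys⟩
    refine ⟨⟨y, hyE⟩, ?_, rfl⟩
    rw [SetLike.mem_coe, MonoidHom.mem_ker]
    apply Subtype.ext
    rw [sqHom_apply]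
    show y * (s * y * s) = 1
    rw [hys, mul_assoc y s s, h.ss, mul_one, h.E2 y hyE]

/-- the squares `(e s)^2`, `e ∈ E`, fill a subgroup of order 4 -/
theorem QData.four_le_of_sq (h : QData Q E s) (M : Subgroup S)
    (hM : ∀ e ∈ E, (e * s) * (e * s) ∈ M) : 4 ≤ Nat.card M := by
  have := h.fin
  have hk : Nat.card (sqHom h).ker = 4 := by
    rw [← Subgroup.card_map_of_injective (K := (sqHom h).ker) (E.subtype_injective), sqHom_ker h, h.fix]
  have hr : Nat.card (sqHom h).range = 4 := by
    have h1 := (sqHom h).ker.card_mul_index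
    rw [Subgroup.index_ker, hk, h.E16] at h1
    omega
  have hle : (sqHom h).range.map E.subtype ≤ M := by
    rintro _ ⟨_, ⟨e, rfl⟩, rfl⟩
    show ((sqHom h e : ↥E) : S) ∈ M
    rw [sqHom_apply]
    have := hM e e.2
    have h2 : (e : S) * (s * e * s) = (e * s) * (e * s) := by group
    rw [h2]; exact this
  have h3 := Subgroup.card_le_of_le hle
  rw [Subgroup.card_map_of_injective (E.subtype_injective), hr] at h3
  exact h3

/-- abelian subgroups of `Q` of order at least 16 lie in `E` -/
theorem QData.abelian_le (h : QData Q E s) (A : Subgroup S) (hAQ : A ≤ Q)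
    (hAc : ∀ a ∈ A, ∀ b ∈ A, a * b = b * a) (hA16 : 16 ≤ Nat.card A) : A ≤ E := by
  have := h.fin
  by_contra hcon
  obtain ⟨a, haA, haE⟩ := SetLike.not_le_iff_exists.mp hcon
  obtain ⟨e', he', rfl⟩ := h.decomp a (hAQ haA) haE
  have hle : A ⊓ E ≤ E ⊓ Subgroup.centralizer ({s} : Set S) := by
    intro y hy
    obtain ⟨hyA, hyE⟩ := Subgroup.mem_inf.mp hy
    rw [h.mem_U_iff]
    refine ⟨hyE, ?_⟩
    have h1 := hAc y hyA _ haA
    -- y * (s * e') = s * e' * y = s * y * e'
    rw [mul_assoc s e' y, h.Ec e' he' y hyE, ← mul_assoc, ← mul_assoc] at h1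
    exact (mul_right_cancel h1).symm
  have h4 : Nat.card (A ⊓ E : Subgroup S) ≤ 4 := by
    have := Subgroup.card_le_of_le hle
    rwa [h.fix] at this
  have hprod := Cfsg.Agent.Lib.Helper7.card_mul_set_mul_card_inf A E
  have hsub : ((A : Set S) * (E : Set S) : Set S) ⊆ (Q : Set S) := by
    rintro _ ⟨x, hx, y, hy, rfl⟩
    exact Q.mul_mem (hAQ hx) (h.EQ hy)
  have h32 : Nat.card ((A : Set S) * (E : Set S) : Set S) ≤ 32 := by
    have := Nat.card_mono (Set.toFinite (Q : Set S)) hsub
    have hQ : Nat.card (Q : Set S) = 32 := h.Q32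
    omega
  rw [h.E16] at hprod
  nlinarith

end Cfsg.Agent.Lib.Helper9.S1234
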