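import Mathlib
import Cfsg.Agent.Lib.Helper9.S1234Small2

set_option autoImplicit false

/-! S1234, unit U-SMALL, part 3: `|S| ≤ 64` when `U = Z(Q) = C_E(s)` is normal in `S` and `C_S(U) = Q`. -/

namespace Cfsg.Agent.Lib.Helper9.S1234

variable {S : Type*} [Group S] {Q E : Subgroup S} {s : S}

theorem mem_zpowers_of_sq {z v : S} (hzz : z * z = 1) (hv : v ∈ Subgroup.zpowers z) : v = 1 ∨ v = z := by
  obtain ⟨k, rfl⟩ := Subgroup.mem_zpowers_iff.mp hv
  have h2 : z ^ (2 : ℤ) = 1 := by
    rw [zpow_ofNat, pow_two, hzz]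
  rcases Int.even_or_odd' k with ⟨m, hm | hm⟩
  · left
    rw [hm, zpow_mul, h2, one_zpow]
  · right
    rw [hm, zpow_add, zpow_mul, h2, one_zpow, one_mul, zpow_one]

/-- the data of the small case -/
structure SmallData (Q E : Subgroup S) (s : S) : Prop extends QData Q E s where
  pS : IsPGroup 2 S
  cen : Subgroup.centralizer ((E ⊓ Subgroup.centralizer ({s} : Set S) : Subgroup S) : Set S) = Q
  nU : ∀ g : S, ∀ y ∈ E ⊓ Subgroup.centralizer ({s} : Set S),
    g * y * g⁻¹ ∈ E ⊓ Subgroup.centralizer ({s} : Set S)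

theorem SmallData.card_le (h : SmallData Q E s) : Nat.card S ≤ 64 := by
  have hfin := h.fin
  have : Fact (Nat.Prime 2) := ⟨Nat.prime_two⟩
  have hq := h.toQData
  -- a central involution in `U`
  have hnt : Nontrivial S := by
    refine ⟨⟨s, 1, ?_⟩⟩
    intro hs1
    exact h.sE (hs1 ▸ E.one_mem)
  have hcn := h.pS.center_nontrivial
  obtain ⟨z, hzc, hz1⟩ := (Subgroup.nontrivial_iff_exists_ne_one _).mp hcn
  have hzcomm : ∀ g : S, g * z = z * g := fun g => Subgroup.mem_center_iff.mp hzc g
  have hzQ : z ∈ Q := by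
    rw [← h.cen, Subgroup.mem_centralizer_iff]
    intro y _
    exact hzcomm y
  have hzU : z ∈ E ⊓ Subgroup.centralizer ({s} : Set S) := by
    rw [← hq.center_eq]
    refine ⟨⟨z, hzQ⟩, ?_, rfl⟩
    rw [SetLike.mem_coe, Subgroup.mem_center_iff]
    intro q
    apply Subtype.ext
    exact hzcomm q
  have hzE : z ∈ E := (Subgroup.mem_inf.mp hzU).1
  have hzz : z * z = 1 := h.E2 z hzE
  have hZU : Subgroup.zpowers z ≤ E ⊓ Subgroup.centralizer ({s} : Set S) := by
    rw [Subgroup.zpowers_le]; exact hzU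
  have hZcard : Nat.card (Subgroup.zpowers z) = 2 := by
    rw [Nat.card_zpowers]
    exact orderOf_eq_prime (by rw [pow_two, hzz]) hz1
  have hZc : ∀ w ∈ Subgroup.zpowers z, ∀ g : S, g * w = w * g := by
    intro w hw g
    rcases mem_zpowers_of_sq hzz hw with rfl | rfl
    · rw [mul_one, one_mul]
    · exact hzcomm g
  have hidx := idx2 (Subgroup.zpowers z) (E ⊓ Subgroup.centralizer ({s} : Set S)) hZU
    (by rw [h.fix, hZcard])
  -- an element of `U` outside `⟨z⟩`
  obtain ⟨u, huU, huZ⟩ : ∃ u ∈ E ⊓ Subgroup.centralizer ({s} : Set S), u ∉ Subgroup.zpowers z := by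
    by_contra hcon
    push Not at hcon
    have hle : E ⊓ Subgroup.centralizer ({s} : Set S) ≤ Subgroup.zpowers z := hcon
    have := Subgroup.card_le_of_le hle
    rw [h.fix, hZcard] at this
    omega
  have huE : u ∈ E := (Subgroup.mem_inf.mp huU).1
  have huu : u * u = 1 := h.E2 u huE
  have hu_inv : u⁻¹ = u := inv_eq_of_mul_eq_one_right huu
  -- the centralizer of `u` is `Q`
  have hcu : ∀ g : S, g * u = u * g → g ∈ Q := by
    intro g hg
    rw [← h.cen, Subgroup.mem_centralizer_iff]
    intro v hv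
    by_cases hvZ : v ∈ Subgroup.zpowers z
    · exact (hZc v hvZ g).symm
    · have h1 : u * v ∈ Subgroup.zpowers z := by
        rw [hidx u huU v hv]
        exact ⟨fun hc => absurd hc huZ, fun hc => absurd hc hvZ⟩
      have h2 := hZc _ h1 g
      -- g * (u * v) = u * v * g, g * u = u * g
      have h3 : u * (g * v) = u * (v * g) := by
        rw [← mul_assoc, ← hg, mul_assoc, h2, mul_assoc]
      exact (mul_left_cancel h3).symm
  -- conjugates of `u`
  have hconj : ∀ g : S, g ∉ Q → g * u * g⁻¹ = u * z := by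
    intro g hg
    have hvU := h.nU g u huU
    have hvZ : g * u * g⁻¹ ∉ Subgroup.zpowers z := by
      intro hc
      have h1 := hZc _ hc g
      -- g * (g u g⁻¹) = (g u g⁻¹) * g = g u
      have h2 : g * (g * u * g⁻¹) = g * u := by
        rw [h1]; group
      have h3 : g * u * g⁻¹ = u := mul_left_cancel h2
      rw [h3] at hc
      exact huZ hc
    have h1 : u * (g * u * g⁻¹) ∈ Subgroup.zpowers z := by
      rw [hidx u huU _ hvU]
      exact ⟨fun hc => absurd hc huZ, fun hc => absurd hc hvZ⟩
    rcases mem_zpowers_of_sq hzz h1 with h2 | h2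
    · exfalso
      apply hg
      apply hcu
      have h3 : g * u * g⁻¹ = u := by
        have : u * (g * u * g⁻¹) = u * u := by rw [h2, huu]
        exact mul_left_cancel this
      calc g * u = (g * u * g⁻¹) * g := by group
        _ = u * g := by rw [h3]
    · have : u * (g * u * g⁻¹) = u * (u * z) := by rw [h2, ← mul_assoc, huu, one_mul]
      exact mul_left_cancel this
  -- index at most two
  have hpair : ∀ g k : S, g ∉ Q → k ∉ Q → k⁻¹ * g ∈ Q := by
    intro g k hg hk
    apply hcu
    have h1 : g * u = u * z * g := by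
      rw [← hconj g hg]; group
    have h2 : k * u = u * z * k := by
      rw [← hconj k hk]; group
    have h3 : k⁻¹ * u = u * z * k⁻¹ := by
      have : k * (k⁻¹ * u) = k * (u * z * k⁻¹) := by
        rw [mul_inv_cancel_left, ← mul_assoc, ← mul_assoc, h2, mul_assoc (u * z) k z, hzcomm k,
          ← mul_assoc, mul_assoc u z z, hzz, mul_one, mul_inv_cancel_right]
      exact mul_left_cancel this
    calc k⁻¹ * g * u = k⁻¹ * (g * u) := by group
      _ = k⁻¹ * (u * z * g) := by rw [h1]
      _ = (k⁻¹ * u) * z * g := by group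
      _ = u * z * k⁻¹ * z * g := by rw [h3]
      _ = u * z * (k⁻¹ * z) * g := by group
      _ = u * z * (z * k⁻¹) * g := by rw [hzcomm k⁻¹]
      _ = u * (z * z) * k⁻¹ * g := by group
      _ = u * (k⁻¹ * g) := by rw [hzz]; group
  by_cases htop : Q = ⊤
  · have := h.Q32
    rw [htop, Subgroup.card_top] at this
    omega
  · obtain ⟨k, hk⟩ : ∃ k : S, k ∉ Q := by
      by_contra hcon
      push Not at hcon
      exact htop (top_le_iff.mp fun x _ => hcon x)
    have hi : Q.index = 2 := by
      rw [Subgroup.index_eq_two_iff]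
      refine ⟨k, fun b => ?_⟩
      by_cases hb : b ∈ Q
      · right
        refine ⟨hb, fun hc => hk ?_⟩
        have := Q.mul_mem (Q.inv_mem hb) hc
        rwa [inv_mul_cancel_left] at this
      · left
        refine ⟨?_, hb⟩
        have hb' : b⁻¹ ∉ Q := fun hc => hb (by simpa using Q.inv_mem hc)
        have := hpair k b⁻¹ hk hb'
        rwa [inv_inv] at this
    have := Q.card_mul_index
    rw [hi, h.Q32] at this
    omega

end Cfsg.Agent.Lib.Helper9.S1234
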