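import Mathlib
import Cfsg.Prelude.Def_CaseTheorems
import Cfsg.Prelude.Def_Transfer
import Cfsg.Agent.Lib.Helper5.HDU1
import Cfsg.Agent.Lib.Helper9.S1234Small3

set_option autoImplicit false

/-! S1234, unit U-SMALL: the small case (`U = Z(Q)` normal in `S`). -/

namespace Cfsg.Agent.Lib.Helper9.S1234

open scoped Pointwise

variable {S : Type*} [Group S] {Q E : Subgroup S} {s : S}

theorem dvd_64_cases {r : ℕ} (hr : r ∣ 64) (h16 : 16 < r) : r = 32 ∨ r = 64 := by
  obtain ⟨k, hk⟩ := hr
  have hk3 : k ≤ 3 := by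
    by_contra hcon
    push Not at hcon
    nlinarith
  interval_cases k <;> omega

/-- the count: every section of exponent 2 has order at most 16 -/
theorem SmallData.count (h : SmallData Q E s) (R M : Subgroup S) (hMR : M ≤ R)
    (_hn : ∀ r ∈ R, ∀ m ∈ M, r * m * r⁻¹ ∈ M) (hsq : ∀ r ∈ R, r * r ∈ M) :
    Nat.card R ≤ 16 * Nat.card M := by
  have hfin := h.fin
  have : Fact (Nat.Prime 2) := ⟨Nat.prime_two⟩
  have hq := h.toQData
  by_contra hcon
  push Not at hcon
  have hS64 := h.card_le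
  obtain ⟨n, hn⟩ := IsPGroup.iff_card.mp h.pS
  have hn6 : n ≤ 6 := by
    by_contra hc
    push Not at hc
    have : 2 ^ 7 ≤ 2 ^ n := Nat.pow_le_pow_right (by norm_num) hc
    omega
  have hSd : Nat.card S ∣ 64 := by
    rw [hn]
    exact pow_dvd_pow 2 hn6
  have hRd : Nat.card R ∣ 64 := (Subgroup.card_subgroup_dvd_card R).trans hSd
  have hMd : Nat.card M ∣ Nat.card R := Subgroup.card_dvd_of_le hMR
  have hMpos : 0 < Nat.card M := Nat.card_pos
  have hRle : Nat.card R ≤ Nat.card S := Subgroup.card_le_card_group R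
  rcases dvd_64_cases hRd (by omega) with hR | hR
  · -- `|R| = 32`, `M = 1`
    have hM1 : Nat.card M = 1 := by omega
    have hMbot : M = ⊥ := Subgroup.eq_bot_of_card_eq M hM1
    have hR2 : ∀ r ∈ R, r * r = 1 := by
      intro r hr
      have := hsq r hr
      rwa [hMbot, Subgroup.mem_bot] at this
    have hRc : ∀ a ∈ R, ∀ b ∈ R, a * b = b * a := by
      intro a ha b hb
      have h1 := hR2 (a * b) (R.mul_mem ha hb)
      have h2 := hR2 a ha
      have h3 := hR2 b hb
      have hab : (a * b)⁻¹ = a * b := inv_eq_of_mul_eq_one_right h1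
      have ha' : a⁻¹ = a := inv_eq_of_mul_eq_one_right h2
      have hb' : b⁻¹ = b := inv_eq_of_mul_eq_one_right h3
      calc a * b = (a * b)⁻¹ := hab.symm
        _ = b⁻¹ * a⁻¹ := mul_inv_rev a b
        _ = b * a := by rw [ha', hb']
    have hprod := Cfsg.Agent.Lib.Helper7.card_mul_set_mul_card_inf R Q
    have h64 : Nat.card ((R : Set S) * (Q : Set S) : Set S) ≤ 64 := by
      have := Finite.card_subtype_le (fun x : S => x ∈ ((R : Set S) * (Q : Set S) : Set S))
      exact le_trans this hS64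
    rw [hR, h.Q32] at hprod
    have hA16 : 16 ≤ Nat.card (R ⊓ Q : Subgroup S) := by nlinarith
    have hAE : R ⊓ Q ≤ E := hq.abelian_le (R ⊓ Q) inf_le_right
      (fun a ha b hb => hRc a (Subgroup.mem_inf.mp ha).1 b (Subgroup.mem_inf.mp hb).1) hA16
    have hAeq : R ⊓ Q = E := Subgroup.eq_of_le_of_card_ge hAE (by rw [h.E16]; exact hA16)
    have hER : E ≤ R := by rw [← hAeq]; exact inf_le_left
    have hRQ : R ≤ Q := by
      intro r hr
      rw [← h.cen, Subgroup.mem_centralizer_iff]
      intro y hy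
      exact hRc y (hER (Subgroup.mem_inf.mp hy).1) r hr
    have hReq : R = Q := Subgroup.eq_of_le_of_card_ge hRQ (by rw [h.Q32, hR])
    obtain ⟨e, he, hne⟩ := hq.exists_not_comm
    exact hne (hRc s (hReq ▸ h.sQ) e (hER he))
  · -- `|R| = 64`: `R = S`
    have hRtop : R = ⊤ := Subgroup.eq_top_of_card_eq R (by omega)
    have h4 := hq.four_le_of_sq M (fun e _ => hsq _ (hRtop ▸ Subgroup.mem_top _))
    omega

/-- **U-SMALL** -/
theorem small_case {S : Type*} [Group S] [Finite S] (hS : IsPGroup 2 S) (Q E : Subgroup S) (hEQ : E ≤ Q)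
    (hE : Cfsg.IsElementaryAbelian 2 E) (hE16 : Nat.card E = 16) (hQ32 : Nat.card Q = 32) (s : S)
    (hsQ : s ∈ Q) (hsE : s ∉ E) (hs : orderOf s = 2)
    (hfix : Nat.card ↥(E ⊓ Subgroup.centralizer ({s} : Set S)) = 4)
    (hC : Subgroup.centralizer (((Subgroup.center Q).map Q.subtype : Subgroup S) : Set S) = Q)
    (hU : ∀ g : S, ∀ y ∈ (Subgroup.center Q).map Q.subtype, g * y * g⁻¹ ∈ (Subgroup.center Q).map Q.subtype) :
    Cfsg.SectionalPRankLE 2 4 S := by
  have hq : QData Q E s :=
    { fin := inferInstance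
      EQ := hEQ
      Ec := fun a ha b hb => by
        have := hE.1
        exact congrArg Subtype.val (mul_comm' (⟨a, ha⟩ : ↥E) ⟨b, hb⟩)
      E2 := fun a ha => by rw [← pow_two]; exact hE.2 a ha
      E16 := hE16
      Q32 := hQ32
      sQ := hsQ
      sE := hsE
      ss := by rw [← pow_two, ← hs]; exact pow_orderOf_eq_one s
      fix := hfix }
  have hd : SmallData Q E s :=
    { toQData := hq
      pS := hS
      cen := by rw [← hq.center_eq]; exact hC
      nU := by rw [← hq.center_eq]; exact hU }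
  have : Fact (Nat.Prime 2) := ⟨Nat.prime_two⟩
  let P : Sylow 2 S :=
    { toSubgroup := ⊤
      isPGroup' := hS.to_subgroup ⊤
      is_maximal' := fun _ h => top_le_iff.mp h }
  refine Cfsg.Agent.Lib.Helper5.HDU1.sectionalPRankLE_of_sylow 4 P ?_
  intro R M _ hMR hn hsq
  have := hd.count R M hMR hn hsq
  norm_num at this ⊢
  exact this

end Cfsg.Agent.Lib.Helper9.S1234
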