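import Cfsg.Agent.Lib.Helper9.S24a
import Cfsg.Agent.Lib.Helper9.Syl2M24b

set_option autoImplicit false
set_option maxRecDepth 100000

/-! The quotient of an explicit Sylow `2`-subgroup of `M24` by its centre: elements, products and
commutation as functions of table indices. -/

namespace Cfsg.Agent.Lib.Helper9.S24

open Cfsg Cfsg.Agent.Lib.Helper9.M24F1 Cfsg.Agent.Lib.Helper9.M24T1 Cfsg.Agent.Lib.Helper9.M24U1
  Cfsg.Agent.Lib.Helper9.M24T3 Cfsg.Agent.Lib.Helper9.Syl2B Cfsg.Agent.Lib.Helper9.Syl2B.Tab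
  Cfsg.Agent.Lib.Helper9.Syl2M24

/-- the Sylow subgroup -/
abbrev T0 : Subgroup (Equiv.Perm GolayPt) := tab.S0 gg

theorem ex_el (i : ℕ) (hi : i < 1024) : ∃ y ∈ T0, Rep y (tab.E i) :=
  Tab.exists_elt ok rep_gg i hi

/-- the element with a given index -/
noncomputable def el (i : ℕ) : Equiv.Perm GolayPt :=
  if h : i < 1024 then Classical.choose (ex_el i h) else 1

theorem el_mem (i : ℕ) : el i ∈ T0 := by
  unfold el
  split_ifs with h
  · exact (Classical.choose_spec (ex_el i h)).1
  · exact T0.one_mem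

theorem el_rep {i : ℕ} (hi : i < 1024) : Rep (el i) (tab.E i) := by
  unfold el
  rw [dif_pos hi]
  exact (Classical.choose_spec (ex_el i hi)).2

theorem el_inj {i j : ℕ} (hi : i < 1024) (hj : j < 1024) (h : el i = el j) : i = j :=
  Tab.index_unique ok hi hj (el_rep hi) (h ▸ el_rep hj)

theorem exists_el {x : Equiv.Perm GolayPt} (hx : x ∈ T0) : ∃ i < 1024, x = el i := by
  obtain ⟨i, hi, hr⟩ := Tab.exists_rep ok rep_gg x hx
  exact ⟨i, hi, hr.ext (el_rep hi)⟩

theorem el_zero : el 0 = 1 := (el_rep (by norm_num)).ext (Tab.rep_one ok)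

theorem gen_mul_el {a i : ℕ} (ha : a < 5) (hi : i < 1024) :
    tab.nxt a i < 1024 ∧ gg a * el i = el (tab.nxt a i) := by
  obtain ⟨h1, h2⟩ := Tab.rep_mul ok rep_gg ha hi (el_rep hi)
  exact ⟨h1, h2.ext (el_rep h1)⟩

theorem tree_spec {i : ℕ} (hi : i < 1024) (h0 : i ≠ 0) :
    tab.pc i < 5 ∧ tab.pp i < 1024 ∧ tab.dp (tab.pp i) < tab.dp i ∧
      tab.nxt (tab.pc i) (tab.pp i) = i := by
  have h1 := ok.tree
  unfold Tab.okTree at h1
  rw [allB_iff] at h1
  have h2 := h1 i hi
  rw [Bool.or_eq_true] at h2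
  rcases h2 with h2 | h2
  · exact absurd ((beq_iff _ _).mp h2) h0
  · simp only [Bool.and_eq_true] at h2
    obtain ⟨⟨⟨h3, h4⟩, h5⟩, h6⟩ := h2
    exact ⟨(Tab.blt_iff _ _).mp h3, (Tab.blt_iff _ _).mp h4, (Tab.blt_iff _ _).mp h5,
      (beq_iff _ _).mp h6⟩

/-- the index of a product, by descent along the spanning tree -/
def mulF (j : ℕ) (f : ℕ) : ℕ → ℕ :=
  Nat.rec (motive := fun _ => ℕ → ℕ) (fun _ => j)
    (fun _ ih i => bif Nat.beq i 0 then j else tab.nxt (tab.pc i) (ih (tab.pp i))) f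

theorem mulF_succ (j f i : ℕ) : mulF j (f + 1) i =
    bif Nat.beq i 0 then j else tab.nxt (tab.pc i) (mulF j f (tab.pp i)) := rfl

/-- the index of a product -/
def mulI (i j : ℕ) : ℕ := mulF j (tab.dp i) i

theorem mulF_spec {j : ℕ} (hj : j < 1024) : ∀ f i : ℕ, i < 1024 → tab.dp i ≤ f →
    mulF j f i < 1024 ∧ el i * el j = el (mulF j f i) := by
  intro f
  induction f with
  | zero =>
    intro i hi hd
    have h0 : i = 0 := by
      by_contra h0
      have := (tree_spec hi h0).2.2.1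
      omega
    subst h0
    refine ⟨hj, ?_⟩
    rw [el_zero, one_mul]
    rfl
  | succ f ih =>
    intro i hi hd
    rw [mulF_succ]
    by_cases h0 : i = 0
    · subst h0
      refine ⟨hj, ?_⟩
      rw [el_zero, one_mul]
      rfl
    · have hb : Nat.beq i 0 = false := by
        rw [← Bool.not_eq_true, beq_iff]
        exact h0
      rw [hb]
      obtain ⟨h1, h2, h3, h4⟩ := tree_spec hi h0
      obtain ⟨h5, h6⟩ := ih (tab.pp i) h2 (by omega)
      obtain ⟨h7, h8⟩ := gen_mul_el h1 h5
      obtain ⟨-, h9⟩ := gen_mul_el h1 h2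
      rw [h4] at h9
      refine ⟨h7, ?_⟩
      show el i * el j = el (tab.nxt (tab.pc i) (mulF j f (tab.pp i)))
      rw [← h8, ← h6, ← mul_assoc, h9]

theorem el_mul {i j : ℕ} (hi : i < 1024) (hj : j < 1024) :
    mulI i j < 1024 ∧ el i * el j = el (mulI i j) :=
  mulF_spec hj (tab.dp i) i hi le_rfl

/-! ### the group and its centre -/

/-- the elements as members of the subgroup -/
noncomputable def eT (i : ℕ) : ↥T0 := ⟨el i, el_mem i⟩

theorem eT_mul {i j : ℕ} (hi : i < 1024) (hj : j < 1024) : eT i * eT j = eT (mulI i j) :=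
  Subtype.ext (el_mul hi hj).2

theorem eT_inj {i j : ℕ} (hi : i < 1024) (hj : j < 1024) (h : eT i = eT j) : i = j :=
  el_inj hi hj (congrArg Subtype.val h)

theorem exists_eT (x : ↥T0) : ∃ i < 1024, x = eT i := by
  obtain ⟨i, hi, h⟩ := exists_el x.2
  exact ⟨i, hi, Subtype.ext h⟩

theorem eT_zero : eT 0 = 1 := Subtype.ext el_zero

theorem c0_eq : c0 = el 374 := hz.ext (el_rep (by norm_num))

theorem z_comm_chk : allB 1024 (fun i => Nat.beq (mulI 374 i) (mulI i 374)) = true := by
  decide +kernel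

theorem z_mul_chk : allB 1024 (fun i => Nat.beq (mulI 374 i) (tab.nxt 0 i)) = true := by
  decide +kernel

theorem z_mem_center : eT 374 ∈ Subgroup.center ↥T0 := by
  rw [Subgroup.mem_center_iff]
  intro x
  obtain ⟨i, hi, rfl⟩ := exists_eT x
  have h := z_comm_chk
  rw [allB_iff] at h
  have h2 := (beq_iff _ _).mp (h i hi)
  rw [eT_mul hi (by norm_num), eT_mul (by norm_num) hi, h2]

theorem mem_center_iff (x : ↥T0) : x ∈ Subgroup.center ↥T0 ↔ x = 1 ∨ x = eT 374 := by
  constructor
  · intro hx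
    rw [Subgroup.mem_center_iff] at hx
    have := Tab.center_cases ok rep_gg 374 ok_cen c0 hz x.1 x.2 (by
      intro y hy
      have := hx ⟨y, hy⟩
      exact (congrArg Subtype.val this).symm)
    rcases this with h | h
    · left; exact Subtype.ext h
    · right; apply Subtype.ext; rw [h, c0_eq]; rfl
  · rintro (rfl | rfl)
    · exact Subgroup.one_mem _
    · exact z_mem_center

theorem z_mul {i : ℕ} (hi : i < 1024) : eT 374 * eT i = eT (tab.nxt 0 i) := by
  have h := z_mul_chk
  rw [allB_iff] at h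
  rw [eT_mul (by norm_num) hi, (beq_iff _ _).mp (h i hi)]

theorem nxt0_lt {i : ℕ} (hi : i < 1024) : tab.nxt 0 i < 1024 :=
  (gen_mul_el (by norm_num) hi).1

/-- the quotient by the centre -/
abbrev SS : Type := ↥T0 ⧸ Subgroup.center ↥T0

/-- the elements of the quotient, by indices of the table -/
noncomputable def sI (i : ℕ) : SS := QuotientGroup.mk (eT i)

theorem sI_mul {i j : ℕ} (hi : i < 1024) (hj : j < 1024) : sI i * sI j = sI (mulI i j) := by
  unfold sI
  rw [← QuotientGroup.mk_mul, eT_mul hi hj]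

theorem sI_eq_iff {i j : ℕ} (hi : i < 1024) (hj : j < 1024) :
    sI i = sI j ↔ j = i ∨ j = tab.nxt 0 i := by
  unfold sI
  rw [QuotientGroup.eq, mem_center_iff]
  constructor
  · rintro (h | h)
    · left
      have : eT j = eT i := by
        have := congrArg (fun t => eT i * t) h
        simpa using this
      exact eT_inj hj hi this
    · right
      have h2 : eT j = eT i * eT 374 := by
        have := congrArg (fun t => eT i * t) h
        simpa using this
      have h3 : eT i * eT 374 = eT 374 * eT i :=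
        (Subgroup.mem_center_iff.mp z_mem_center (eT i))
      rw [h3, z_mul hi] at h2
      exact eT_inj hj (nxt0_lt hi) h2
  · intro h
    rcases h with h | h
    · left
      rw [h]
      group
    · right
      rw [h, ← z_mul hi]
      have h3 : eT i * eT 374 = eT 374 * eT i :=
        (Subgroup.mem_center_iff.mp z_mem_center (eT i))
      rw [← h3]
      group

theorem exists_sI (s : SS) : ∃ i < 1024, s = sI i := by
  obtain ⟨x, rfl⟩ := QuotientGroup.mk_surjective s
  obtain ⟨i, hi, rfl⟩ := exists_eT x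
  exact ⟨i, hi, rfl⟩

theorem sI_zero : sI 0 = 1 := by
  unfold sI
  rw [eT_zero]
  rfl

/-! ### indices of the quotient -/

/-- the representative of a coset -/
def rp (k : ℕ) : ℕ := lane 10 1023 REPSL k

/-- the coset of an element -/
def ki (i : ℕ) : ℕ := lane 9 511 KIL i

theorem rp_ki_chk : allB 1024 (fun i => Nat.blt (ki i) 512 &&
    (Nat.beq (rp (ki i)) i || Nat.beq (tab.nxt 0 (rp (ki i))) i)) = true := by decide +kernel

theorem ki_rp_chk : allB 512 (fun k => Nat.blt (rp k) 1024 && Nat.beq (ki (rp k)) k &&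
    Nat.beq (ki (tab.nxt 0 (rp k))) k) = true := by decide +kernel

theorem rp_lt {k : ℕ} (hk : k < 512) : rp k < 1024 := by
  have h := ki_rp_chk
  rw [allB_iff] at h
  have h2 := h k hk
  simp only [Bool.and_eq_true] at h2
  exact (Tab.blt_iff _ _).mp h2.1.1

theorem ki_rp {k : ℕ} (hk : k < 512) : ki (rp k) = k ∧ ki (tab.nxt 0 (rp k)) = k := by
  have h := ki_rp_chk
  rw [allB_iff] at h
  have h2 := h k hk
  simp only [Bool.and_eq_true] at h2
  exact ⟨(beq_iff _ _).mp h2.1.2, (beq_iff _ _).mp h2.2⟩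

theorem ki_lt {i : ℕ} (hi : i < 1024) : ki i < 512 := by
  have h := rp_ki_chk
  rw [allB_iff] at h
  have h2 := h i hi
  simp only [Bool.and_eq_true] at h2
  exact (Tab.blt_iff _ _).mp h2.1

/-- the elements of the quotient, by their own indices -/
noncomputable def sS (k : ℕ) : SS := sI (rp k)

theorem sI_eq_sS {i : ℕ} (hi : i < 1024) : sI i = sS (ki i) := by
  have h := rp_ki_chk
  rw [allB_iff] at h
  have h2 := h i hi
  simp only [Bool.and_eq_true, Bool.or_eq_true] at h2
  have hk := (Tab.blt_iff _ _).mp h2.1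
  unfold sS
  rcases h2.2 with h3 | h3
  · rw [(beq_iff _ _).mp h3]
  · have h4 := (beq_iff _ _).mp h3
    exact ((sI_eq_iff (rp_lt hk) hi).mpr (Or.inr h4.symm)).symm

theorem sS_inj {k l : ℕ} (hk : k < 512) (hl : l < 512) (h : sS k = sS l) : k = l := by
  unfold sS at h
  rcases (sI_eq_iff (rp_lt hk) (rp_lt hl)).mp h with h2 | h2
  · have := (ki_rp hl).1
    rw [h2, (ki_rp hk).1] at this
    exact this
  · have := (ki_rp hl).1
    rw [h2, (ki_rp hk).2] at this
    exact this

theorem exists_sS (s : SS) : ∃ k < 512, s = sS k := by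
  obtain ⟨i, hi, rfl⟩ := exists_sI s
  exact ⟨ki i, ki_lt hi, sI_eq_sS hi⟩

/-- the index of a product in the quotient -/
def mulS (k l : ℕ) : ℕ := ki (mulI (rp k) (rp l))

theorem mulS_lt {k l : ℕ} (hk : k < 512) (hl : l < 512) : mulS k l < 512 :=
  ki_lt (el_mul (rp_lt hk) (rp_lt hl)).1

theorem sS_mul {k l : ℕ} (hk : k < 512) (hl : l < 512) : sS k * sS l = sS (mulS k l) := by
  unfold sS
  rw [sI_mul (rp_lt hk) (rp_lt hl), sI_eq_sS (el_mul (rp_lt hk) (rp_lt hl)).1]
  rfl

theorem rp_zero : rp 0 = 0 := by decide +kernel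

theorem sS_zero : sS 0 = 1 := by
  unfold sS
  rw [rp_zero, sI_zero]


/-- commutation in the quotient -/
def cmD (k l : ℕ) : Bool := Nat.beq (mulS k l) (mulS l k)

theorem commute_iff {k l : ℕ} (hk : k < 512) (hl : l < 512) :
    Commute (sS k) (sS l) ↔ cmD k l = true := by
  unfold cmD
  rw [beq_iff]
  unfold Commute SemiconjBy
  rw [sS_mul hk hl, sS_mul hl hk]
  constructor
  · intro h5
    exact sS_inj (mulS_lt hk hl) (mulS_lt hl hk) h5
  · intro h5
    rw [h5]

end Cfsg.Agent.Lib.Helper9.S24
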