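import Cfsg.Agent.Lib.Helper9.S24b

set_option autoImplicit false
set_option maxRecDepth 100000

/-! Kernel-checked certificates for the quotient of a Sylow `2`-subgroup of `M24` by its centre. -/

namespace Cfsg.Agent.Lib.Helper9.S24

open Cfsg Cfsg.Agent.Lib.Helper9.M24F1 Cfsg.Agent.Lib.Helper9.Syl2B Cfsg.Agent.Lib.Helper9.Syl2B.Tab
  Cfsg.Agent.Lib.Helper9.Syl2M24

/-- a bit of a mask -/
def tb (m n : ℕ) : Bool := Nat.beq (Nat.land (Nat.shiftRight m n) 1) 1

/-- the index of a generator in the quotient -/
def gkS (a : ℕ) : ℕ := ki (tab.nxt a 0)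

/-- conjugation by a generator -/
def conjG (g x : ℕ) : ℕ := mulS (mulS (gkS g) x) (gkS g)

def clT (a : ℕ) : ℕ := lane 6 63 CLL a
def parT (a : ℕ) : ℕ := lane 9 511 PARL a
def genT (a : ℕ) : ℕ := lane 3 7 GENL a
def depT (a : ℕ) : ℕ := lane 3 7 DEPL a
def rootT (c : ℕ) : ℕ := lane 9 511 ROOTL c
def wxT (c : ℕ) : ℕ := lane 9 511 WXL c
def wyT (c : ℕ) : ℕ := lane 9 511 WYL c

theorem gen_sq_chk : allB 5 (fun a => Nat.blt (gkS a) 512 && Nat.beq (mulS (gkS a) (gkS a)) 0) = true := by
  decide +kernel

/-- the spanning forest of the conjugacy classes -/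
theorem forest_chk : allB 512 (fun a => Nat.blt (clT a) 56 && Nat.blt (rootT (clT a)) 512 &&
    ((Nat.beq (depT a) 0 && Nat.beq (rootT (clT a)) a) ||
      (Nat.blt (parT a) 512 && Nat.blt (depT (parT a)) (depT a) && Nat.blt (genT a) 5 &&
        Nat.beq (clT (parT a)) (clT a) && Nat.beq (conjG (genT a) (parT a)) a))) = true := by
  decide +kernel

/-- the size of a class -/
def csz (c : ℕ) : ℕ := countB 512 (fun a => Nat.beq (clT a) c)

/-- the certificate of a class -/
def okCls (c : ℕ) : Bool :=
  tb EMASK (rootT c) || tb UMASK (rootT c) || Nat.ble 16 (csz c) ||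
    (Nat.ble 8 (csz c) && Nat.blt (wxT c) 512 && Nat.blt (wyT c) 512 &&
      cmD (rootT c) (wxT c) && cmD (rootT c) (wyT c) && !cmD (wxT c) (wyT c))

theorem cls_chk : allB 56 okCls = true := by decide +kernel

theorem mask_chk : allB 512 (fun a =>
    !(tb EMASK (rootT (clT a)) || tb UMASK (rootT (clT a))) || (tb EMASK a || tb UMASK a)) = true := by
  decide +kernel

theorem U_count : countB 512 (fun a => tb UMASK a) = 16 := by decide +kernel

theorem E_count : countB 512 (fun a => tb EMASK a) = 64 := by decide +kernel

theorem E_zero : tb EMASK 0 = true := by decide +kernel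

/-- the elementary abelian subgroup is closed under products, and its elements are involutions -/
theorem E_chk : allB 512 (fun k => !tb EMASK k || (Nat.beq (mulS k k) 0 &&
    allB 512 (fun l => !tb EMASK l || tb EMASK (mulS k l)))) = true := by decide +kernel

/-! ### maximal subgroups -/

/-- the parity of an element with respect to a character given on the generators -/
def parF (v : ℕ) (f : ℕ) : ℕ → Bool :=
  Nat.rec (motive := fun _ => ℕ → Bool) (fun _ => false)
    (fun _ ih i => bif Nat.beq i 0 then false else xor (tb v (tab.pc i)) (ih (tab.pp i))) f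

theorem parF_succ (v f i : ℕ) : parF v (f + 1) i =
    bif Nat.beq i 0 then false else xor (tb v (tab.pc i)) (parF v f (tab.pp i)) := rfl

def par (v i : ℕ) : Bool := parF v (tab.dp i) i

def MMr (v : ℕ) : ℕ :=
  lane 512 13407807929942597099574024998205846127479365820592393377723561443721764030073546976801874298166903427690031858186486050853753882811946569946433649006084095 MML v

def ZMr (v : ℕ) : ℕ :=
  lane 512 13407807929942597099574024998205846127479365820592393377723561443721764030073546976801874298166903427690031858186486050853753882811946569946433649006084095 ZML v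

def wzT (v k : ℕ) : ℕ := lane 9 511 WZL (Nat.add (Nat.mul v 512) k)

/-- the membership masks of the maximal subgroups -/
theorem MM_chk : allB 15 (fun w => allB 512 (fun k =>
    xor (tb (MMr (2 * w + 2)) k) (par (2 * w + 2) (rp k)))) = true := by decide +kernel

theorem ZM_count : allB 15 (fun w => Nat.ble (countB 512 (fun k => tb (ZMr (2 * w + 2)) k)) 8) = true := by
  decide +kernel

/-- the elements of a maximal subgroup outside the listed centre do not commute with a witness -/
def okMax (v : ℕ) : Bool := allB 512 (fun k => !tb (MMr v) k || tb (ZMr v) k ||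
  (Nat.blt (wzT v k) 512 && tb (MMr v) (wzT v k) && !cmD k (wzT v k)))

theorem max_chk_0 : allB 5 (fun w => okMax (2 * w + 2)) = true := by decide +kernel

theorem max_chk_1 : allB 5 (fun w => okMax (2 * w + 12)) = true := by decide +kernel

theorem max_chk_2 : allB 5 (fun w => okMax (2 * w + 22)) = true := by decide +kernel

end Cfsg.Agent.Lib.Helper9.S24
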