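import Cfsg.Agent.Lib.Helper9.S24c
import Cfsg.Agent.Lib.Helper9.GrpCount
import Cfsg.Prelude.Def_Transfer

set_option autoImplicit false
set_option maxRecDepth 100000
set_option linter.unusedVariables false
set_option linter.style.haveILetI false

/-! The quotient of a Sylow `2`-subgroup of `M24` by its centre: the unique abelian subgroup of
order 64. -/

namespace Cfsg.Agent.Lib.Helper9.S24

open Cfsg Cfsg.Agent.Lib.Helper9.M24F1 Cfsg.Agent.Lib.Helper9.Syl2B Cfsg.Agent.Lib.Helper9.Syl2B.Tab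
  Cfsg.Agent.Lib.Helper9.Syl2M24

instance : Finite SS := inferInstance

/-- the set of the elements with indices in a mask -/
theorem ncard_of_mask (X : Set SS) (p : ℕ → Bool)
    (h : ∀ s, s ∈ X ↔ ∃ k < 512, p k = true ∧ s = sS k) : X.ncard = countB 512 p := by
  classical
  rw [countB_eq]
  have hX : X = sS '' (↑((Finset.range 512).filter fun i => p i = true) : Set ℕ) := by
    ext s
    rw [h s]
    constructor
    · rintro ⟨k, hk, hp, rfl⟩
      exact ⟨k, by simp [hk, hp], rfl⟩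
    · rintro ⟨k, hk, rfl⟩
      simp only [Finset.coe_filter, Finset.mem_range, Set.mem_setOf_eq] at hk
      exact ⟨k, hk.1, hk.2, rfl⟩
  rw [hX, Set.ncard_image_of_injOn, Set.ncard_coe_finset]
  intro a ha b hb hab
  simp only [Finset.coe_filter, Finset.mem_range, Set.mem_setOf_eq] at ha hb
  exact sS_inj ha.1 hb.1 hab

theorem ncard_le_of_mask (X : Set SS) (p : ℕ → Bool)
    (h : ∀ s, s ∈ X → ∃ k < 512, p k = true ∧ s = sS k) : X.ncard ≤ countB 512 p := by
  have h2 := ncard_of_mask {s | ∃ k < 512, p k = true ∧ s = sS k} p (fun s => Iff.rfl)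
  rw [← h2]
  exact Set.ncard_le_ncard (fun s hs => h s hs) (Set.toFinite _)

theorem card_SS : Nat.card SS = 512 := by
  have h := ncard_of_mask Set.univ (fun _ => true) (by
    intro s
    simp only [Set.mem_univ, true_and, true_iff]
    obtain ⟨k, hk, rfl⟩ := exists_sS s
    exact ⟨k, hk, rfl⟩)
  rw [Set.ncard_univ] at h
  rw [h]
  decide +kernel

theorem pgroup_SS : IsPGroup 2 SS := IsPGroup.of_card (n := 9) (by rw [card_SS]; norm_num)

/-! ### conjugacy classes -/

theorem gk_lt {a : ℕ} (ha : a < 5) : gkS a < 512 := by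
  have h := gen_sq_chk
  rw [allB_iff] at h
  have h2 := h a ha
  rw [Bool.and_eq_true] at h2
  exact (Tab.blt_iff _ _).mp h2.1

theorem gk_sq {a : ℕ} (ha : a < 5) : sS (gkS a) * sS (gkS a) = 1 := by
  have h := gen_sq_chk
  rw [allB_iff] at h
  have h2 := h a ha
  rw [Bool.and_eq_true] at h2
  rw [sS_mul (gk_lt ha) (gk_lt ha), (beq_iff _ _).mp h2.2, sS_zero]

theorem gk_inv {a : ℕ} (ha : a < 5) : (sS (gkS a))⁻¹ = sS (gkS a) :=
  inv_eq_of_mul_eq_one_left (gk_sq ha)

theorem conjG_spec {g x : ℕ} (hg : g < 5) (hx : x < 512) :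
    conjG g x < 512 ∧ sS (conjG g x) = sS (gkS g) * sS x * (sS (gkS g))⁻¹ := by
  unfold conjG
  refine ⟨mulS_lt (mulS_lt (gk_lt hg) hx) (gk_lt hg), ?_⟩
  rw [gk_inv hg, ← sS_mul (mulS_lt (gk_lt hg) hx) (gk_lt hg), ← sS_mul (gk_lt hg) hx]

theorem forest_spec : ∀ d a : ℕ, a < 512 → depT a = d →
    clT a < 56 ∧ rootT (clT a) < 512 ∧ ∃ c : SS, c * sS (rootT (clT a)) * c⁻¹ = sS a := by
  intro d
  induction d using Nat.strong_induction_on with
  | _ d ih =>
    intro a ha hd
    have h := forest_chk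
    rw [allB_iff] at h
    have h2 := h a ha
    simp only [Bool.and_eq_true, Bool.or_eq_true] at h2
    obtain ⟨⟨h3, h4⟩, h5⟩ := h2
    have h3' := (Tab.blt_iff _ _).mp h3
    have h4' := (Tab.blt_iff _ _).mp h4
    refine ⟨h3', h4', ?_⟩
    rcases h5 with ⟨-, h6⟩ | ⟨⟨⟨⟨h6, h7⟩, h8⟩, h9⟩, h10⟩
    · refine ⟨1, ?_⟩
      rw [(beq_iff _ _).mp h6]
      group
    · have h6' := (Tab.blt_iff _ _).mp h6
      have h7' := (Tab.blt_iff _ _).mp h7
      have h8' := (Tab.blt_iff _ _).mp h8
      have h9' := (beq_iff _ _).mp h9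
      have h10' := (beq_iff _ _).mp h10
      obtain ⟨-, -, c, hc⟩ := ih (depT (parT a)) (by omega) (parT a) h6' rfl
      obtain ⟨-, h11⟩ := conjG_spec h8' h6'
      rw [h10'] at h11
      rw [h9'] at hc
      refine ⟨sS (gkS (genT a)) * c, ?_⟩
      rw [h11, ← hc]
      group

/-- the centraliser of a class representative -/
theorem cent_bound (c : ℕ) :
    csz c * Nat.card (Subgroup.centralizer ({sS (rootT c)} : Set SS)) ≤ 512 := by
  classical
  unfold csz
  rw [countB_eq]
  set F := (Finset.range 512).filter fun i => Nat.beq (clT i) c = true with hF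
  have hmem : ∀ a ∈ F, a < 512 ∧ clT a = c := by
    intro a ha
    rw [hF, Finset.mem_filter, Finset.mem_range] at ha
    exact ⟨ha.1, (beq_iff _ _).mp ha.2⟩
  let e := F.equivFin
  have hconj : ∀ j : Fin F.card, ∃ g : SS, g * sS (rootT c) * g⁻¹ = sS (e.symm j).1 := by
    intro j
    obtain ⟨h1, h2⟩ := hmem (e.symm j).1 (e.symm j).2
    obtain ⟨-, -, g, hg⟩ := forest_spec _ _ h1 rfl
    rw [h2] at hg
    exact ⟨g, hg⟩
  choose g hg using hconj
  have h := Cfsg.Agent.Lib.Helper9.GrpCount.card_centralizer_le (⊤ : Subgroup SS) (sS (rootT c))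
    F.card g (fun _ => Subgroup.mem_top _) (by
      intro j j' hjj
      simp only at hjj
      rw [hg, hg] at hjj
      have h1 := hmem (e.symm j).1 (e.symm j).2
      have h2 := hmem (e.symm j').1 (e.symm j').2
      have := sS_inj h1.1 h2.1 hjj
      exact e.symm.injective (Subtype.ext this))
  rw [top_inf_eq, Subgroup.card_top, card_SS] at h
  exact h

/-! ### abelian subgroups of order 64 -/

/-- an element lying in an abelian subgroup of order 64 -/
def Bad (s : SS) : Prop := ∃ A : Subgroup SS, IsMulCommutative ↥A ∧ Nat.card ↥A = 64 ∧ s ∈ A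

theorem comm_of_mem {A : Subgroup SS} (hA : IsMulCommutative ↥A) {x y : SS} (hx : x ∈ A)
    (hy : y ∈ A) : x * y = y * x :=
  congrArg Subtype.val (hA.is_comm.comm ⟨x, hx⟩ ⟨y, hy⟩)

theorem le_centralizer {A : Subgroup SS} (hA : IsMulCommutative ↥A) {s : SS} (hs : s ∈ A) :
    A ≤ Subgroup.centralizer ({s} : Set SS) := by
  intro x hx
  rw [Subgroup.mem_centralizer_singleton_iff]
  exact comm_of_mem hA hx hs

theorem bad_conj {s c : SS} (h : Bad (c * s * c⁻¹)) : Bad s := by
  obtain ⟨A, hA, hc, hs⟩ := h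
  haveI := hA
  refine ⟨A.map (MulAut.conj c⁻¹).toMonoidHom, inferInstance, ?_, ?_⟩
  · rw [← hc]
    exact (Nat.card_congr ((MulAut.conj c⁻¹).subgroupMap A).toEquiv).symm
  · refine ⟨c * s * c⁻¹, hs, ?_⟩
    simp only [MulEquiv.coe_toMonoidHom, MulAut.conj_apply, inv_inv]
    group

theorem not_bad_root (c : ℕ) (hc : c < 56) (hE : tb EMASK (rootT c) = false)
    (hU : tb UMASK (rootT c) = false) (hr : rootT c < 512) : ¬ Bad (sS (rootT c)) := by
  rintro ⟨A, hA, hcard, hs⟩
  have h := cls_chk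
  rw [allB_iff] at h
  have h2 := h c hc
  unfold okCls at h2
  rw [hE, hU] at h2
  simp only [Bool.false_or, Bool.or_eq_true, Bool.and_eq_true] at h2
  have hle := le_centralizer hA hs
  have hcb := cent_bound c
  have hcard2 := Subgroup.card_le_of_le hle
  rw [hcard] at hcard2
  rcases h2 with h3 | ⟨⟨⟨⟨⟨h3, h4⟩, h5⟩, h6⟩, h7⟩, h8⟩
  · have h3' := Nat.le_of_ble_eq_true h3
    have h16 : 16 * Nat.card (Subgroup.centralizer ({sS (rootT c)} : Set SS)) ≤ 512 :=
      (Nat.mul_le_mul_right _ h3').trans hcb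
    omega
  · have h3' := Nat.le_of_ble_eq_true h3
    have h4' := (Tab.blt_iff _ _).mp h4
    have h5' := (Tab.blt_iff _ _).mp h5
    have hC64 : Nat.card (Subgroup.centralizer ({sS (rootT c)} : Set SS)) ≤ 64 := by
      have h8' : 8 * Nat.card (Subgroup.centralizer ({sS (rootT c)} : Set SS)) ≤ 512 :=
        (Nat.mul_le_mul_right _ h3').trans hcb
      omega
    have hAC : A = Subgroup.centralizer ({sS (rootT c)} : Set SS) :=
      Subgroup.eq_of_le_of_card_ge hle (by rw [hcard]; exact hC64)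
    have hx : sS (wxT c) ∈ A := by
      rw [hAC, Subgroup.mem_centralizer_singleton_iff]
      exact ((commute_iff hr h4').mpr h6).eq.symm
    have hy : sS (wyT c) ∈ A := by
      rw [hAC, Subgroup.mem_centralizer_singleton_iff]
      exact ((commute_iff hr h5').mpr h7).eq.symm
    have hxy : Commute (sS (wxT c)) (sS (wyT c)) := comm_of_mem hA hx hy
    have := (commute_iff h4' h5').mp hxy
    rw [this] at h8
    exact absurd h8 (by decide)

theorem not_bad {a : ℕ} (ha : a < 512) (hE : tb EMASK a = false) (hU : tb UMASK a = false) :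
    ¬ Bad (sS a) := by
  obtain ⟨h1, h2, c, hc⟩ := forest_spec _ a ha rfl
  have h := mask_chk
  rw [allB_iff] at h
  have h3 := h a ha
  rw [hE, hU] at h3
  have h4 : tb EMASK (rootT (clT a)) = false ∧ tb UMASK (rootT (clT a)) = false := by
    cases h5 : tb EMASK (rootT (clT a)) <;> cases h6 : tb UMASK (rootT (clT a)) <;>
      simp [h5, h6] at h3 ⊢
  intro hb
  rw [← hc] at hb
  exact not_bad_root (clT a) h1 h4.1 h4.2 h2 (bad_conj hb)

/-- the elementary abelian subgroup of order 64 -/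
def Es : Subgroup SS where
  carrier := {s | ∃ k < 512, tb EMASK k = true ∧ s = sS k}
  one_mem' := ⟨0, by norm_num, E_zero, sS_zero.symm⟩
  mul_mem' := by
    rintro _ _ ⟨k, hk, hk2, rfl⟩ ⟨l, hl, hl2, rfl⟩
    have h := E_chk
    rw [allB_iff] at h
    have h2 := h k hk
    rw [hk2] at h2
    simp only [Bool.not_true, Bool.false_or, Bool.and_eq_true] at h2
    have h3 := h2.2
    rw [allB_iff] at h3
    have h4 := h3 l hl
    rw [hl2] at h4
    simp only [Bool.not_true, Bool.false_or] at h4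
    exact ⟨mulS k l, mulS_lt hk hl, h4, sS_mul hk hl⟩
  inv_mem' := by
    rintro _ ⟨k, hk, hk2, rfl⟩
    have h := E_chk
    rw [allB_iff] at h
    have h2 := h k hk
    rw [hk2] at h2
    simp only [Bool.not_true, Bool.false_or, Bool.and_eq_true] at h2
    have h3 : sS k * sS k = 1 := by
      rw [sS_mul hk hk, (beq_iff _ _).mp h2.1, sS_zero]
    rw [inv_eq_of_mul_eq_one_left h3]
    exact ⟨k, hk, hk2, rfl⟩

theorem mem_Es (s : SS) : s ∈ Es ↔ ∃ k < 512, tb EMASK k = true ∧ s = sS k := Iff.rfl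

theorem card_Es : Nat.card ↥Es = 64 := by
  show Nat.card ↥(Es : Set SS) = 64
  rw [Nat.card_coe_set_eq, ncard_of_mask (Es : Set SS) (fun a => tb EMASK a) mem_Es, E_count]

theorem sq_Es (s : SS) (hs : s ∈ Es) : s ^ 2 = 1 := by
  obtain ⟨k, hk, hk2, rfl⟩ := hs
  have h := E_chk
  rw [allB_iff] at h
  have h2 := h k hk
  rw [hk2] at h2
  simp only [Bool.not_true, Bool.false_or, Bool.and_eq_true] at h2
  rw [pow_two, sS_mul hk hk, (beq_iff _ _).mp h2.1, sS_zero]

theorem Es_elementary : Cfsg.IsElementaryAbelian 2 Es := by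
  refine ⟨⟨⟨?_⟩⟩, sq_Es⟩
  rintro ⟨x, hx⟩ ⟨y, hy⟩
  apply Subtype.ext
  show x * y = y * x
  have h1 := sq_Es x hx
  have h2 := sq_Es y hy
  have h3 := sq_Es (x * y) (Es.mul_mem hx hy)
  rw [pow_two] at h1 h2 h3
  calc x * y = (y * y) * (x * y) * (x * x) := by rw [h1, h2]; group
    _ = y * ((y * x) * (y * x)) * x := by group
    _ = y * x := by
      have h4 : (y * x) * (y * x) = 1 := by
        have : y * x = (x * y)⁻¹ := by
          rw [mul_inv_rev]
          rw [inv_eq_of_mul_eq_one_left h1, inv_eq_of_mul_eq_one_left h2]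
        rw [this, ← mul_inv_rev, h3, inv_one]
      rw [h4]
      group

theorem unique_abelian (A : Subgroup SS) (hA : IsMulCommutative ↥A) (hc : Nat.card ↥A = 64) :
    A = Es := by
  classical
  -- every element is in the subgroup or among the 16 exceptions
  let Us : Set SS := {s | ∃ k < 512, tb UMASK k = true ∧ s = sS k}
  have hUs : Us.ncard = 16 := by
    rw [ncard_of_mask Us (fun a => tb UMASK a) (fun s => Iff.rfl), U_count]
  have hsub : (A : Set SS) ⊆ ((A ⊓ Es : Subgroup SS) : Set SS) ∪ Us := by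
    intro s hs
    obtain ⟨k, hk, rfl⟩ := exists_sS s
    by_cases hE : tb EMASK k = true
    · left
      exact ⟨hs, k, hk, hE, rfl⟩
    · right
      by_cases hU : tb UMASK k = true
      · exact ⟨k, hk, hU, rfl⟩
      · exfalso
        rw [Bool.not_eq_true] at hE hU
        exact not_bad hk hE hU ⟨A, hA, hc, hs⟩
  have h1 : (A : Set SS).ncard ≤ ((A ⊓ Es : Subgroup SS) : Set SS).ncard + Us.ncard :=
    (Set.ncard_le_ncard hsub (Set.toFinite _)).trans (Set.ncard_union_le _ _)
  rw [← Nat.card_coe_set_eq, ← Nat.card_coe_set_eq, hUs] at h1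
  have h1' : 48 ≤ Nat.card ↥(A ⊓ Es) := by
    have : Nat.card ↥A = 64 := hc
    have h1'' : Nat.card ↥A ≤ Nat.card ↥(A ⊓ Es) + 16 := h1
    omega
  have h2 : Nat.card ↥(A ⊓ Es) ∣ 64 := by
    rw [← hc]
    exact Subgroup.card_dvd_of_le inf_le_left
  have h3 : Nat.card ↥(A ⊓ Es) = 64 := by
    have h4 : Nat.card ↥(A ⊓ Es) ∣ 2 ^ 6 := h2
    obtain ⟨j, hj, hj2⟩ := (Nat.dvd_prime_pow Nat.prime_two).mp h4
    rw [hj2] at h1' ⊢
    interval_cases j <;> simp_all
  have h5 : A ⊓ Es = A :=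
    Subgroup.eq_of_le_of_card_ge inf_le_left (by rw [h3, hc])
  have h6 : A ≤ Es := by
    rw [← h5]
    exact inf_le_right
  exact Subgroup.eq_of_le_of_card_ge h6 (by rw [hc, card_Es])

end Cfsg.Agent.Lib.Helper9.S24
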