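import Cfsg.Agent.Lib.Helper9.S24d
import Cfsg.Agent.Lib.Helper1.FrattiniP

set_option autoImplicit false
set_option maxRecDepth 100000
set_option linter.unusedVariables false
set_option linter.style.haveILetI false

/-! The quotient of a Sylow `2`-subgroup of `M24` by its centre: the centres of the maximal
subgroups. -/

namespace Cfsg.Agent.Lib.Helper9.S24

open Cfsg Cfsg.Agent.Lib.Helper9.M24F1 Cfsg.Agent.Lib.Helper9.Syl2B Cfsg.Agent.Lib.Helper9.Syl2B.Tab
  Cfsg.Agent.Lib.Helper9.Syl2M24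

theorem par0_chk : allB 1024 (fun i => !par 0 i) = true := by decide +kernel

theorem key_bits : ∀ b1 b2 b3 b4 : Bool, ∃ w, w < 16 ∧ tb (2 * w) 0 = false ∧ tb (2 * w) 1 = b1 ∧
    tb (2 * w) 2 = b2 ∧ tb (2 * w) 3 = b3 ∧ tb (2 * w) 4 = b4 := by decide +kernel

theorem el_nxt {a i : ℕ} (ha : a < 5) (hi : i < 1024) :
    el (tab.nxt a i) = el (tab.nxt a 0) * el i := by
  obtain ⟨-, h1⟩ := gen_mul_el ha hi
  obtain ⟨-, h2⟩ := gen_mul_el ha (show 0 < 1024 by norm_num)
  rw [← h1, ← h2, el_zero, mul_one]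

theorem sI_nxt {a i : ℕ} (ha : a < 5) (hi : i < 1024) :
    sI (tab.nxt a i) = sI (tab.nxt a 0) * sI i := by
  unfold sI
  rw [← QuotientGroup.mk_mul]
  have h : eT (tab.nxt a i) = eT (tab.nxt a 0) * eT i := Subtype.ext (el_nxt ha hi)
  rw [h]

theorem sI_nxt0 : sI (tab.nxt 0 0) = 1 := by
  rw [← sI_zero]
  exact ((sI_eq_iff (by norm_num) (nxt0_lt (by norm_num))).mpr (Or.inr rfl)).symm

theorem mem_iff_par (M : Subgroup SS) (hM2 : M.index = 2) (v : ℕ)
    (hv : ∀ a < 5, tb v a = true ↔ sI (tab.nxt a 0) ∉ M) :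
    ∀ f i : ℕ, i < 1024 → tab.dp i ≤ f → (sI i ∈ M ↔ parF v f i = false) := by
  intro f
  induction f with
  | zero =>
    intro i hi hd
    have h0 : i = 0 := by
      by_contra h0
      have := (tree_spec hi h0).2.2.1
      omega
    subst h0
    rw [sI_zero]
    exact ⟨fun _ => rfl, fun _ => M.one_mem⟩
  | succ f ih =>
    intro i hi hd
    rw [parF_succ]
    by_cases h0 : i = 0
    · subst h0
      rw [sI_zero]
      exact ⟨fun _ => rfl, fun _ => M.one_mem⟩
    · obtain ⟨h1, h2, h3, h4⟩ := tree_spec hi h0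
      have hb : Nat.beq i 0 = false := Bool.eq_false_iff.mpr (fun h => h0 ((beq_iff _ _).mp h))
      rw [hb, cond_false]
      have h5 := sI_nxt h1 h2
      rw [h4] at h5
      rw [h5, Subgroup.mul_mem_iff_of_index_two hM2, ih (tab.pp i) h2 (by omega)]
      have h6 := hv (tab.pc i) h1
      cases hb1 : tb v (tab.pc i) <;> cases hb2 : parF v f (tab.pp i) <;>
        simp [hb1] at h6 ⊢ <;> tauto

theorem exists_v (M : Subgroup SS) :
    ∃ w < 16, ∀ a < 5, tb (2 * w) a = true ↔ sI (tab.nxt a 0) ∉ M := by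
  classical
  obtain ⟨w, hw, h0, h1, h2, h3, h4⟩ := key_bits (decide (sI (tab.nxt 1 0) ∉ M))
    (decide (sI (tab.nxt 2 0) ∉ M)) (decide (sI (tab.nxt 3 0) ∉ M)) (decide (sI (tab.nxt 4 0) ∉ M))
  refine ⟨w, hw, ?_⟩
  intro a ha
  interval_cases a
  · rw [h0, sI_nxt0]
    simp [M.one_mem]
  · rw [h1, decide_eq_true_iff]
  · rw [h2, decide_eq_true_iff]
  · rw [h3, decide_eq_true_iff]
  · rw [h4, decide_eq_true_iff]

theorem okMax_all {w : ℕ} (hw : w < 15) : okMax (2 * w + 2) = true := by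
  rcases Nat.lt_or_ge w 5 with h | h
  · exact (allB_iff _ _).mp max_chk_0 w h
  · rcases Nat.lt_or_ge w 10 with h2 | h2
    · obtain ⟨j, rfl⟩ : ∃ j, w = j + 5 := ⟨w - 5, by omega⟩
      have h3 := (allB_iff _ _).mp max_chk_1 j (by omega)
      have h4 : 2 * (j + 5) + 2 = 2 * j + 12 := by ring
      rw [h4]
      exact h3
    · obtain ⟨j, rfl⟩ : ∃ j, w = j + 10 := ⟨w - 10, by omega⟩
      have h3 := (allB_iff _ _).mp max_chk_2 j (by omega)
      have h4 : 2 * (j + 10) + 2 = 2 * j + 22 := by ring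
      rw [h4]
      exact h3

/-- the centre of a maximal subgroup has order at most 8 -/
theorem center_max (M : Subgroup SS) (hM : IsCoatom M) :
    Nat.card ↥(Subgroup.center ↥M) ≤ 8 := by
  classical
  haveI : Fact (Nat.Prime 2) := ⟨Nat.prime_two⟩
  have hM2 : M.index = 2 :=
    Cfsg.Agent.Lib.Helper1.index_eq_prime_of_isCoatom 2 pgroup_SS M hM
  obtain ⟨w, hw, hv⟩ := exists_v M
  have hpar : ∀ i < 1024, sI i ∈ M ↔ par (2 * w) i = false :=
    fun i hi => mem_iff_par M hM2 _ hv _ i hi le_rfl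
  obtain _ | w' := w
  · exfalso
    apply hM.1
    rw [eq_top_iff]
    intro s _
    obtain ⟨i, hi, rfl⟩ := exists_sI s
    rw [hpar i hi]
    have := (allB_iff _ _).mp par0_chk i hi
    simpa using this
  have hw' : w' < 15 := by omega
  have hv2 : 2 * (w' + 1) = 2 * w' + 2 := by ring
  rw [hv2] at hpar
  have hmem : ∀ k < 512, sS k ∈ M ↔ tb (MMr (2 * w' + 2)) k = true := by
    intro k hk
    have h1 := (allB_iff _ _).mp ((allB_iff _ _).mp MM_chk w' hw') k hk
    unfold sS
    rw [hpar (rp k) (rp_lt hk)]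
    cases h2 : tb (MMr (2 * w' + 2)) k <;> cases h3 : par (2 * w' + 2) (rp k) <;>
      simp [h2, h3] at h1 ⊢
  have hok := (allB_iff _ _).mp (okMax_all hw')
  have hcount := Nat.le_of_ble_eq_true ((allB_iff _ _).mp ZM_count w' hw')
  -- the centre injects into the listed set
  let f : ↥(Subgroup.center ↥M) → SS := fun x => x.1.1
  have hinj : Function.Injective f := fun x y h => Subtype.ext (Subtype.ext h)
  have hsub : Set.range f ⊆ {s | ∃ k < 512, tb (ZMr (2 * w' + 2)) k = true ∧ s = sS k} := by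
    rintro _ ⟨x, rfl⟩
    obtain ⟨k, hk, hxk⟩ := exists_sS (f x)
    refine ⟨k, hk, ?_, hxk⟩
    have hkM : sS k ∈ M := by
      rw [← hxk]
      exact x.1.2
    have h1 := hok k hk
    rw [(hmem k hk).mp hkM] at h1
    simp only [Bool.not_true, Bool.false_or, Bool.or_eq_true, Bool.and_eq_true] at h1
    rcases h1 with h1 | ⟨⟨h2, h3⟩, h4⟩
    · exact h1
    · exfalso
      have h2' := (Tab.blt_iff _ _).mp h2
      have hwM : sS (wzT (2 * w' + 2) k) ∈ M := (hmem _ h2').mpr h3
      have hc := Subgroup.mem_center_iff.mp x.2 ⟨sS (wzT (2 * w' + 2) k), hwM⟩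
      have hc2 : sS (wzT (2 * w' + 2) k) * sS k = sS k * sS (wzT (2 * w' + 2) k) := by
        have := congrArg Subtype.val hc
        rw [← hxk]
        exact this
      have hc3 : Commute (sS k) (sS (wzT (2 * w' + 2) k)) := hc2.symm
      have := (commute_iff hk h2').mp hc3
      rw [this] at h4
      exact absurd h4 (by decide)
  have h1 : Nat.card ↥(Subgroup.center ↥M) = (Set.range f).ncard := by
    rw [← Nat.card_coe_set_eq]
    exact (Nat.card_range_of_injective hinj).symm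
  rw [h1]
  refine (Set.ncard_le_ncard hsub (Set.toFinite _)).trans ?_
  refine (ncard_le_of_mask _ (fun k => tb (ZMr (2 * w' + 2)) k) (fun s hs => hs)).trans hcount

end Cfsg.Agent.Lib.Helper9.S24
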