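import Cfsg.Agent.Lib.Helper9.S24e
import Cfsg.Agent.Lib.Helper9.DblCover

set_option autoImplicit false
set_option maxRecDepth 100000
set_option linter.unusedVariables false
set_option linter.style.haveILetI false

/-! The quotient of a Sylow `2`-subgroup of `M24` by its centre: transport to every Sylow
`2`-subgroup. -/

namespace Cfsg.Agent.Lib.Helper9.S24

open Cfsg Cfsg.Agent.Lib.Helper9.M24F1 Cfsg.Agent.Lib.Helper9.Syl2B Cfsg.Agent.Lib.Helper9.Syl2B.Tab
  Cfsg.Agent.Lib.Helper9.Syl2M24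

/-- the three statements on a group of order 512 -/
def Good24 (S : Type*) [Group S] : Prop :=
  (∀ M : Subgroup S, IsCoatom M → Nat.card ↥(Subgroup.center ↥M) ≤ 8) ∧
    (∃ A : Subgroup S, Cfsg.IsElementaryAbelian 2 A ∧ Nat.card ↥A = 64) ∧
      ∀ A B : Subgroup S,
        IsMulCommutative ↥A → Nat.card ↥A = 64 → IsMulCommutative ↥B → Nat.card ↥B = 64 → A = B

theorem good24_SS : Good24 SS :=
  ⟨center_max, ⟨Es, Es_elementary, card_Es⟩, fun A B hA hcA hB hcB =>
    (unique_abelian A hA hcA).trans (unique_abelian B hB hcB).symm⟩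

theorem comm_map {S S' : Type*} [Group S] [Group S'] (e : S ≃* S') (A : Subgroup S)
    (hA : IsMulCommutative ↥A) : IsMulCommutative ↥(A.map e.toMonoidHom) := by
  refine ⟨⟨?_⟩⟩
  rintro ⟨_, x, hx, rfl⟩ ⟨_, y, hy, rfl⟩
  apply Subtype.ext
  show e.toMonoidHom x * e.toMonoidHom y = e.toMonoidHom y * e.toMonoidHom x
  have h := congrArg Subtype.val (hA.is_comm.comm ⟨x, hx⟩ ⟨y, hy⟩)
  have h' : x * y = y * x := h
  rw [← map_mul, ← map_mul, h']

theorem card_map {S S' : Type*} [Group S] [Group S'] (e : S ≃* S') (A : Subgroup S) :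
    Nat.card ↥(A.map e.toMonoidHom) = Nat.card ↥A :=
  (Nat.card_congr (e.subgroupMap A).toEquiv).symm

theorem good24_of_equiv {S S' : Type*} [Group S] [Group S'] (e : S ≃* S') (h : Good24 S) :
    Good24 S' := by
  obtain ⟨h1, ⟨A, ⟨hA1, hA2⟩, hA3⟩, h3⟩ := h
  refine ⟨?_, ⟨A.map e.toMonoidHom, ⟨comm_map e A hA1, ?_⟩, ?_⟩, ?_⟩
  · intro M' hM'
    have hco : IsCoatom (e.symm.mapSubgroup M') := (e.symm.mapSubgroup.isCoatom_iff M').mpr hM'
    have h2 := h1 _ hco
    have h4 : Nat.card ↥(Subgroup.center ↥M') =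
        Nat.card ↥(Subgroup.center ↥(e.symm.mapSubgroup M')) :=
      Nat.card_congr (Subgroup.centerCongr (e.symm.subgroupMap M')).toEquiv
    rw [h4]
    exact h2
  · rintro _ ⟨a, ha, rfl⟩
    show e.toMonoidHom a ^ 2 = 1
    rw [← map_pow, hA2 a ha, map_one]
  · rw [card_map, hA3]
  · intro A' B' hA' hcA' hB' hcB'
    have h5 := h3 (A'.map e.symm.toMonoidHom) (B'.map e.symm.toMonoidHom)
      (comm_map e.symm A' hA') (by rw [card_map, hcA']) (comm_map e.symm B' hB')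
      (by rw [card_map, hcB'])
    exact Subgroup.map_injective e.symm.injective h5

theorem main (P : Sylow 2 ↥Cfsg.M24) :
    Good24 (↥(P : Subgroup ↥Cfsg.M24) ⧸ Subgroup.center ↥(P : Subgroup ↥Cfsg.M24)) := by
  haveI : Fact (Nat.Prime 2) := ⟨Nat.prime_two⟩
  have hc : Nat.card (T0.subgroupOf M24) = 2 ^ (Nat.card ↥M24).factorization 2 := by
    rw [card_G, Cfsg.Agent.Lib.Helper9.Syl2A.fact_two_pow (by norm_num), ← Syl2M24.card_S0]
    exact Nat.card_congr (Subgroup.subgroupOfEquivOfLe hSG).toEquiv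
  let Q : Sylow 2 ↥M24 := Sylow.ofCard (T0.subgroupOf M24) hc
  let e1 : ↥(P : Subgroup ↥M24) ≃* ↥(Q : Subgroup ↥M24) := Sylow.equiv P Q
  let e2 : ↥(Q : Subgroup ↥M24) ≃* ↥T0 := Subgroup.subgroupOfEquivOfLe hSG
  let e : ↥(P : Subgroup ↥M24) ≃* ↥T0 := e1.trans e2
  have hcen : (Subgroup.center ↥(P : Subgroup ↥M24)).map e.toMonoidHom = Subgroup.center ↥T0 :=
    Cfsg.Agent.Lib.Helper9.DblCover.center_map_equiv e
  let eq : (↥(P : Subgroup ↥M24) ⧸ Subgroup.center ↥(P : Subgroup ↥M24)) ≃* SS :=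
    QuotientGroup.congr (Subgroup.center ↥(P : Subgroup ↥M24)) (Subgroup.center ↥T0) e hcen
  exact good24_of_equiv eq.symm good24_SS

end Cfsg.Agent.Lib.Helper9.S24
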