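import Mathlib

/-!
# S3043 piece ZC1: the structural half of the 2-transitive branch core.
-/

set_option autoImplicit false

namespace Cfsg.Agent.Lib.Helper9.S3043

open Subgroup

variable {G : Type*} [Group G]

/-! ### coset action basics -/

theorem smul_mk' (N : Subgroup G) (g a : G) :
    g • (QuotientGroup.mk a : G ⧸ N) = QuotientGroup.mk (g * a) := rfl

theorem mk_eq_mk_iff (N : Subgroup G) (a b : G) :
    (QuotientGroup.mk a : G ⧸ N) = QuotientGroup.mk b ↔ a⁻¹ * b ∈ N := QuotientGroup.eq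

theorem smul_mk_eq_iff (N : Subgroup G) (h g : G) :
    h • (QuotientGroup.mk g : G ⧸ N) = QuotientGroup.mk g ↔ g⁻¹ * h * g ∈ N := by
  rw [smul_mk', mk_eq_mk_iff]
  constructor
  · intro hh
    have := N.inv_mem hh
    simpa [mul_assoc] using this
  · intro hh
    have := N.inv_mem hh
    simpa [mul_assoc] using this

theorem smul_base_eq_iff (N : Subgroup G) (h : G) :
    h • (QuotientGroup.mk 1 : G ⧸ N) = QuotientGroup.mk 1 ↔ h ∈ N := by
  rw [smul_mk_eq_iff]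
  simp

theorem mk_eq_base_iff (N : Subgroup G) (g : G) :
    (QuotientGroup.mk g : G ⧸ N) = QuotientGroup.mk 1 ↔ g ∈ N := by
  rw [mk_eq_mk_iff]
  constructor
  · intro h
    have := N.inv_mem h
    simpa using this
  · intro h
    simpa using N.inv_mem h

theorem mem_map_conj_iff (N : Subgroup G) (g h : G) :
    h ∈ N.map (MulAut.conj g).toMonoidHom ↔ g⁻¹ * h * g ∈ N := by
  rw [Subgroup.mem_map]
  constructor
  · rintro ⟨n, hn, rfl⟩
    simpa [MulAut.conj_apply, mul_assoc] using hn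
  · intro hh
    exact ⟨g⁻¹ * h * g, hh, by simp [MulAut.conj_apply, mul_assoc]⟩

theorem smul_mk_one (N : Subgroup G) (g : G) :
    g • (QuotientGroup.mk 1 : G ⧸ N) = QuotientGroup.mk g := by
  rw [smul_mk', mul_one]

/-! ### the hypotheses -/

/-- the hypotheses of ZC1, bundled. -/
structure ZCHyp (M N K : Subgroup G) (z u : G) : Prop where
  hM1 : M ≠ ⊥
  hMN : M ≤ N
  hKN : K ≤ N
  hMK : M ⊓ K = ⊥
  hnorm : ∀ y ∈ N, ∀ x ∈ M, y * x * y⁻¹ ∈ M
  hKc : ∀ a ∈ K, ∀ b ∈ K, a * b = b * a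
  hz : orderOf z = 2
  hzK : z ∈ K
  hzinv : ∀ x ∈ M, z * x * z⁻¹ = x⁻¹
  hodd : ∀ x ∈ M, x ≠ 1 → ∀ c ∈ K, c * x = x * c → Odd (orderOf c)
  hsemi : ∀ g : G, g ∉ N → M ⊓ N.map (MulAut.conj g).toMonoidHom = ⊥
  hidx : N.index = Nat.card M + 1
  hu : orderOf u = 2
  huN : u ∉ N
  hK : N ⊓ N.map (MulAut.conj u).toMonoidHom = K
  huinv : ∀ h ∈ K, u * h * u⁻¹ = h⁻¹

namespace ZCHyp

variable {M N K : Subgroup G} {z u : G}

theorem odd_card [Finite G] (H : ZCHyp M N K z u) : Odd (Nat.card M) := by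
  by_contra hne
  rw [Nat.not_odd_iff_even] at hne
  have h2 : 2 ∣ Nat.card M := hne.two_dvd
  have : Fact (Nat.Prime 2) := ⟨Nat.prime_two⟩
  obtain ⟨x, hx⟩ := exists_prime_orderOf_dvd_card' 2 h2
  have hx1 : (x : G) ≠ 1 := by
    intro h
    have : x = 1 := Subtype.ext h
    rw [this, orderOf_one] at hx
    omega
  have hx2 : (x : G) ^ 2 = 1 := by
    have := pow_orderOf_eq_one x
    rw [hx] at this
    have h3 := congrArg Subtype.val this
    simpa using h3
  have hinv : (x : G)⁻¹ = x := by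
    rw [inv_eq_iff_mul_eq_one, ← pow_two, hx2]
  have hc : z * (x : G) = (x : G) * z := by
    have := H.hzinv x x.2
    rw [hinv] at this
    calc z * (x : G) = z * x * z⁻¹ * z := by group
      _ = x * z := by rw [this]
  have := H.hodd x x.2 hx1 z H.hzK hc
  rw [H.hz] at this
  exact absurd this (by decide)

theorem semireg (H : ZCHyp M N K z u) {x : G} (hx : x ∈ M) {y : G ⧸ N}
    (hy : y ≠ (QuotientGroup.mk 1 : G ⧸ N)) (hxy : x • y = y) : x = 1 := by
  induction y using QuotientGroup.induction_on with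
  | H g =>
    have hg : g ∉ N := fun h => hy ((mk_eq_base_iff N g).2 h)
    rw [smul_mk_eq_iff] at hxy
    have hmem : x ∈ M ⊓ N.map (MulAut.conj g).toMonoidHom :=
      ⟨hx, (mem_map_conj_iff N g x).2 hxy⟩
    rw [H.hsemi g hg, Subgroup.mem_bot] at hmem
    exact hmem

theorem smul_ne_base {x : G} (hx : x ∈ N) {y : G ⧸ N}
    (hy : y ≠ (QuotientGroup.mk 1 : G ⧸ N)) : x • y ≠ (QuotientGroup.mk 1 : G ⧸ N) := by
  intro h
  apply hy
  have h2 : x⁻¹ • (x • y) = x⁻¹ • (QuotientGroup.mk 1 : G ⧸ N) := by rw [h]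
  rw [inv_smul_smul] at h2
  rw [h2, smul_base_eq_iff]
  exact N.inv_mem hx

theorem regular [Finite G] (H : ZCHyp M N K z u) (y w : G ⧸ N)
    (hy : y ≠ (QuotientGroup.mk 1 : G ⧸ N)) (hw : w ≠ (QuotientGroup.mk 1 : G ⧸ N)) :
    ∃! x : M, (x : G) • y = w := by
  classical
  let f : M → {w : G ⧸ N // w ≠ (QuotientGroup.mk 1 : G ⧸ N)} := fun x =>
    ⟨(x : G) • y, smul_ne_base (H.hMN x.2) hy⟩
  have hinj : Function.Injective f := by
    intro x1 x2 h12
    have h : (x1 : G) • y = (x2 : G) • y := congrArg Subtype.val h12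
    have h2 : ((x2 : G)⁻¹ * x1) • y = y := by
      rw [mul_smul, h, inv_smul_smul]
    have h3 := H.semireg (M.mul_mem (M.inv_mem x2.2) x1.2) hy h2
    apply Subtype.ext
    have : (x1 : G) = x2 := by
      have := congrArg (fun t => (x2 : G) * t) h3
      simpa using this
    exact this
  have hcard : Nat.card {w : G ⧸ N // w ≠ (QuotientGroup.mk 1 : G ⧸ N)} ≤ Nat.card M := by
    have h1 : Nat.card (Option {w : G ⧸ N // w ≠ (QuotientGroup.mk 1 : G ⧸ N)})
        = Nat.card (G ⧸ N) := Nat.card_congr (Equiv.optionSubtypeNe _)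
    rw [Finite.card_option] at h1
    have h2 : Nat.card (G ⧸ N) = Nat.card M + 1 := H.hidx
    omega
  have hbij := hinj.bijective_of_nat_card_le hcard
  obtain ⟨x, hx⟩ := hbij.2 ⟨w, hw⟩
  refine ⟨x, congrArg Subtype.val hx, ?_⟩
  intro x' hx'
  apply hinj
  apply Subtype.ext
  change (x' : G) • y = (x : G) • y
  rw [hx']
  exact (congrArg Subtype.val hx).symm

theorem mkU_ne_base (H : ZCHyp M N K z u) :
    (QuotientGroup.mk u : G ⧸ N) ≠ (QuotientGroup.mk 1 : G ⧸ N) :=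
  fun h => H.huN ((mk_eq_base_iff N u).1 h)

/-- the explicit form of 2-transitivity. -/
theorem two_trans [Finite G] (H : ZCHyp M N K z u) {a b c d : G ⧸ N} (hab : a ≠ b) (hcd : c ≠ d) :
    ∃ g : G, g • a = c ∧ g • b = d := by
  induction a using QuotientGroup.induction_on with
  | H ga =>
  induction c using QuotientGroup.induction_on with
  | H gc =>
    have hb' : ga⁻¹ • b ≠ (QuotientGroup.mk 1 : G ⧸ N) := by
      intro h
      apply hab
      have := congrArg (fun t => ga • t) h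
      simp only [smul_inv_smul] at this
      rw [this, smul_mk_one]
    have hd' : gc⁻¹ • d ≠ (QuotientGroup.mk 1 : G ⧸ N) := by
      intro h
      apply hcd
      have := congrArg (fun t => gc • t) h
      simp only [smul_inv_smul] at this
      rw [this, smul_mk_one]
    obtain ⟨x, hx, -⟩ := H.regular _ _ hb' hd'
    refine ⟨gc * x * ga⁻¹, ?_, ?_⟩
    · rw [smul_mk']
      have hxN : (x : G) ∈ N := H.hMN x.2
      rw [mk_eq_mk_iff]
      have : (gc * ↑x * ga⁻¹ * ga)⁻¹ * gc = (x : G)⁻¹ := by group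
      rw [this]
      exact N.inv_mem hxN
    · rw [mul_smul, mul_smul, hx, smul_inv_smul]

theorem two_pretransitive [Finite G] (H : ZCHyp M N K z u) :
    MulAction.IsMultiplyPretransitive G (G ⧸ N) 2 := by
  rw [MulAction.is_two_pretransitive_iff]
  intro a b c d hab hcd
  exact H.two_trans hab hcd

/-- the stabiliser of the two base points is `K`. -/
theorem mem_K_iff (H : ZCHyp M N K z u) (h : G) :
    h ∈ K ↔ h • (QuotientGroup.mk 1 : G ⧸ N) = QuotientGroup.mk 1 ∧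
      h • (QuotientGroup.mk u : G ⧸ N) = QuotientGroup.mk u := by
  rw [← H.hK, Subgroup.mem_inf, smul_base_eq_iff, smul_mk_eq_iff, mem_map_conj_iff]

/-- an element of `N` fixing two points off the base point commutes with the element of `M`
carrying one to the other. -/
theorem commute_of_fix [Finite G] (H : ZCHyp M N K z u) {y : G} (hy : y ∈ N) {s t : G ⧸ N}
    (hs : s ≠ (QuotientGroup.mk 1 : G ⧸ N)) (ht : t ≠ (QuotientGroup.mk 1 : G ⧸ N))
    (hys : y • s = s) (hyt : y • t = t) {a : G} (ha : a ∈ M) (hast : a • s = t) :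
    y * a * y⁻¹ = a := by
  obtain ⟨x0, -, huniq⟩ := H.regular s t hs ht
  have hmem : y * a * y⁻¹ ∈ M := H.hnorm y hy a ha
  have hys' : y⁻¹ • s = s := by
    have := congrArg (fun w => y⁻¹ • w) hys
    simp only [inv_smul_smul] at this
    exact this.symm
  have h1 : ((⟨y * a * y⁻¹, hmem⟩ : M) : G) • s = t := by
    change (y * a * y⁻¹) • s = t
    rw [mul_smul, mul_smul, hys', hast, hyt]
  have h2 : ((⟨a, ha⟩ : M) : G) • s = t := hast
  have := (huniq _ h1).trans (huniq _ h2).symm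
  exact congrArg Subtype.val this

theorem inv_eq_self_of_orderOf_two {g : G} (hg : orderOf g = 2) : g⁻¹ = g := by
  have h := pow_orderOf_eq_one g
  rw [hg, pow_two] at h
  exact inv_eq_of_mul_eq_one_left h

/-- **the `w = a b x` argument**: `C_K(x) = 1` for `x ∈ M`, `x ≠ 1`. -/
theorem centralizer_trivial [Finite G] (H : ZCHyp M N K z u) {x : G} (hx : x ∈ M) (hx1 : x ≠ 1)
    {y : G} (hy : y ∈ K) (hyx : y * x = x * y) : y = 1 := by
  have hqo : (QuotientGroup.mk u : G ⧸ N) ≠ (QuotientGroup.mk 1 : G ⧸ N) := H.mkU_ne_base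
  have huo : u • (QuotientGroup.mk 1 : G ⧸ N) = QuotientGroup.mk u := smul_mk_one N u
  have huinv' : u⁻¹ = u := inv_eq_self_of_orderOf_two H.hu
  have hyN : y ∈ N := H.hKN hy
  have hyo : y • (QuotientGroup.mk 1 : G ⧸ N) = QuotientGroup.mk 1 := ((H.mem_K_iff y).1 hy).1
  have hyq : y • (QuotientGroup.mk u : G ⧸ N) = QuotientGroup.mk u := ((H.mem_K_iff y).1 hy).2
  have hxo : x • (QuotientGroup.mk 1 : G ⧸ N) = QuotientGroup.mk 1 :=
    (smul_base_eq_iff N x).2 (H.hMN hx)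
  -- the third point
  obtain ⟨r, hr⟩ : ∃ r : G ⧸ N, r = x • (QuotientGroup.mk u : G ⧸ N) := ⟨_, rfl⟩
  have hro : r ≠ (QuotientGroup.mk 1 : G ⧸ N) := hr ▸ smul_ne_base (H.hMN hx) hqo
  have hrq : r ≠ (QuotientGroup.mk u : G ⧸ N) := by
    intro h
    rw [hr] at h
    exact hx1 (H.semireg hx hqo h)
  have hyr : y • r = r := by rw [hr, ← mul_smul, hyx, mul_smul, hyq]
  -- the element `b`
  have hr' : u⁻¹ • r ≠ (QuotientGroup.mk 1 : G ⧸ N) := by
    intro h
    apply hrq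
    have := congrArg (fun w => u • w) h
    simp only [smul_inv_smul] at this
    rw [this, huo]
  have ho' : u⁻¹ • (QuotientGroup.mk 1 : G ⧸ N) ≠ (QuotientGroup.mk 1 : G ⧸ N) := by
    intro h
    rw [smul_base_eq_iff] at h
    exact H.huN (by simpa using N.inv_mem h)
  obtain ⟨xb, hxb, -⟩ := H.regular _ _ hr' ho'
  obtain ⟨b, hb⟩ : ∃ b : G, b = u * xb * u⁻¹ := ⟨_, rfl⟩
  have hbr : b • r = (QuotientGroup.mk 1 : G ⧸ N) := by
    rw [hb, mul_smul, mul_smul, hxb, smul_inv_smul]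
  have hy'N : u⁻¹ * y * u ∈ N := by
    have : y ∈ N ⊓ N.map (MulAut.conj u).toMonoidHom := by rw [H.hK]; exact hy
    exact (mem_map_conj_iff N u y).1 this.2
  have hyb : y * b * y⁻¹ = b := by
    have h1 : (u⁻¹ * y * u) • (u⁻¹ • r) = u⁻¹ • r := by
      rw [← mul_smul]
      have : u⁻¹ * y * u * u⁻¹ = u⁻¹ * y := by group
      rw [this, mul_smul, hyr]
    have h2 : (u⁻¹ * y * u) • (u⁻¹ • (QuotientGroup.mk 1 : G ⧸ N))
        = u⁻¹ • (QuotientGroup.mk 1 : G ⧸ N) := by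
      rw [← mul_smul]
      have : u⁻¹ * y * u * u⁻¹ = u⁻¹ * y := by group
      rw [this, mul_smul, hyo]
    have h3 := H.commute_of_fix hy'N hr' ho' h1 h2 xb.2 hxb
    calc y * b * y⁻¹ = u * ((u⁻¹ * y * u) * (xb : G) * (u⁻¹ * y * u)⁻¹) * u⁻¹ := by
          rw [hb]; group
      _ = b := by rw [h3, hb]
  have hyb' : y * b = b * y := by
    calc y * b = y * b * y⁻¹ * y := by group
      _ = b * y := by rw [hyb]
  -- `b • o ≠ o`
  have hbo : b • (QuotientGroup.mk 1 : G ⧸ N) ≠ (QuotientGroup.mk 1 : G ⧸ N) := by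
    intro h
    have h1 : (xb : G) • (u⁻¹ • (QuotientGroup.mk 1 : G ⧸ N))
        = u⁻¹ • (QuotientGroup.mk 1 : G ⧸ N) := by
      have := congrArg (fun w => u⁻¹ • w) h
      simp only [hb, mul_smul, inv_smul_smul] at this
      exact this
    have h2 : (xb : G) = 1 := H.semireg xb.2 ho' h1
    have h3 : b = 1 := by rw [hb, h2]; group
    rw [h3, one_smul] at hbr
    exact hro hbr
  have hybo : y • (b • (QuotientGroup.mk 1 : G ⧸ N)) = b • (QuotientGroup.mk 1 : G ⧸ N) := by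
    rw [← mul_smul, hyb', mul_smul, hyo]
  -- the element `a`
  obtain ⟨a, ha, -⟩ := H.regular _ _ hbo hqo
  have hya : y * (a : G) * y⁻¹ = a := H.commute_of_fix hyN hbo hqo hybo hyq a.2 ha
  -- the element `w`
  obtain ⟨w, hw⟩ : ∃ w : G, w = (a : G) * b * x := ⟨_, rfl⟩
  have hwo : w • (QuotientGroup.mk 1 : G ⧸ N) = QuotientGroup.mk u := by
    rw [hw, mul_smul, mul_smul, hxo, ha]
  have hwq : w • (QuotientGroup.mk u : G ⧸ N) = QuotientGroup.mk 1 := by
    rw [hw, mul_smul, mul_smul, ← hr, hbr, smul_base_eq_iff]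
    exact H.hMN a.2
  have hkK : u⁻¹ * w ∈ K := by
    rw [H.mem_K_iff]
    constructor
    · rw [mul_smul, hwo, ← huo, inv_smul_smul]
    · rw [mul_smul, hwq, huinv', huo]
  have hyw : y * w * y⁻¹ = w := by
    have hyx' : y * x * y⁻¹ = x := by rw [hyx]; group
    calc y * w * y⁻¹ = (y * (a : G) * y⁻¹) * (y * b * y⁻¹) * (y * x * y⁻¹) := by
          rw [hw]; group
      _ = w := by rw [hya, hyb, hyx', hw]
  -- `y` is inverted by `w = u k`
  have hwy : w * y * w⁻¹ = y⁻¹ := by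
    have hk := H.hKc _ hkK _ hy
    have := H.huinv y hy
    calc w * y * w⁻¹ = u * ((u⁻¹ * w) * y) * (u⁻¹ * w)⁻¹ * u⁻¹ := by group
      _ = u * (y * (u⁻¹ * w)) * (u⁻¹ * w)⁻¹ * u⁻¹ := by rw [hk]
      _ = u * y * u⁻¹ := by group
      _ = y⁻¹ := this
  have hyy : y = y⁻¹ := by
    have h1 : w * y * w⁻¹ = y := by
      calc w * y * w⁻¹ = (y * w * y⁻¹) * y * w⁻¹ := by rw [hyw]
        _ = y * (w * y⁻¹ * y * w⁻¹) := by group
        _ = y := by group
    exact h1.symm.trans hwy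
  have hy2 : y ^ 2 = 1 := by
    rw [pow_two]
    nth_rewrite 2 [hyy]
    exact mul_inv_cancel y
  have hoddy := H.hodd x hx hx1 y hy hyx
  have hdvd : orderOf y ∣ 2 := orderOf_dvd_of_pow_eq_one hy2
  have h12 : orderOf y = 1 ∨ orderOf y = 2 := (Nat.dvd_prime Nat.prime_two).1 hdvd
  rcases h12 with h | h
  · exact orderOf_eq_one_iff.1 h
  · rw [h] at hoddy
    exact absurd hoddy (by decide)

/-- three-point stabilisers are trivial. -/
theorem three_point [Finite G] (H : ZCHyp M N K z u) (g : G) (a b c : G ⧸ N)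
    (hab : a ≠ b) (hbc : b ≠ c) (hac : a ≠ c)
    (hga : g • a = a) (hgb : g • b = b) (hgc : g • c = c) : g = 1 := by
  have hqo : (QuotientGroup.mk u : G ⧸ N) ≠ (QuotientGroup.mk 1 : G ⧸ N) := H.mkU_ne_base
  obtain ⟨t, hta, htb⟩ := H.two_trans hab hqo.symm
  have hta' : t⁻¹ • (QuotientGroup.mk 1 : G ⧸ N) = a := by rw [← hta, inv_smul_smul]
  have htb' : t⁻¹ • (QuotientGroup.mk u : G ⧸ N) = b := by rw [← htb, inv_smul_smul]
  have hg'o : (t * g * t⁻¹) • (QuotientGroup.mk 1 : G ⧸ N) = QuotientGroup.mk 1 := by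
    rw [mul_smul, mul_smul, hta', hga, hta]
  have hg'q : (t * g * t⁻¹) • (QuotientGroup.mk u : G ⧸ N) = QuotientGroup.mk u := by
    rw [mul_smul, mul_smul, htb', hgb, htb]
  have hg'K : t * g * t⁻¹ ∈ K := (H.mem_K_iff _).2 ⟨hg'o, hg'q⟩
  have hc'o : t • c ≠ (QuotientGroup.mk 1 : G ⧸ N) := by
    intro h
    apply hac
    rw [← hta', ← h, inv_smul_smul]
  have hc'q : t • c ≠ (QuotientGroup.mk u : G ⧸ N) := by
    intro h
    apply hbc
    rw [← htb', ← h, inv_smul_smul]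
  have hg'c : (t * g * t⁻¹) • (t • c) = t • c := by
    rw [mul_smul, mul_smul, inv_smul_smul, hgc]
  obtain ⟨x, hx, -⟩ := H.regular _ _ hqo hc'o
  have hx1 : (x : G) ≠ 1 := by
    intro h
    rw [h, one_smul] at hx
    exact hc'q hx.symm
  have hcomm := H.commute_of_fix (H.hKN hg'K) hqo hc'o hg'q hg'c x.2 hx
  have hcomm' : (t * g * t⁻¹) * (x : G) = (x : G) * (t * g * t⁻¹) := by
    calc (t * g * t⁻¹) * (x : G) = (t * g * t⁻¹) * (x : G) * (t * g * t⁻¹)⁻¹ * (t * g * t⁻¹) := by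
          group
      _ = (x : G) * (t * g * t⁻¹) := by rw [hcomm]
  have h1 := H.centralizer_trivial x.2 hx1 hg'K hcomm'
  have : g = t⁻¹ * (t * g * t⁻¹) * t := by group
  rw [this, h1]
  group

theorem faithful [Finite G] (H : ZCHyp M N K z u) : FaithfulSMul G (G ⧸ N) := by
  have hqo : (QuotientGroup.mk u : G ⧸ N) ≠ (QuotientGroup.mk 1 : G ⧸ N) := H.mkU_ne_base
  obtain ⟨x, hx1⟩ := (Subgroup.ne_bot_iff_exists_ne_one).1 H.hM1
  have hx1' : (x : G) ≠ 1 := fun h => hx1 (Subtype.ext h)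
  have hro : (x : G) • (QuotientGroup.mk u : G ⧸ N) ≠ (QuotientGroup.mk 1 : G ⧸ N) :=
    smul_ne_base (H.hMN x.2) hqo
  have hrq : (x : G) • (QuotientGroup.mk u : G ⧸ N) ≠ (QuotientGroup.mk u : G ⧸ N) :=
    fun h => hx1' (H.semireg x.2 hqo h)
  refine ⟨fun {g1 g2} h => ?_⟩
  have hfix : ∀ a : G ⧸ N, (g2⁻¹ * g1) • a = a := by
    intro a
    rw [mul_smul, h a, inv_smul_smul]
  have := H.three_point (g2⁻¹ * g1) _ _ _ hqo.symm hrq.symm hro.symm (hfix _) (hfix _) (hfix _)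
  calc g1 = g2 * (g2⁻¹ * g1) := by group
    _ = g2 := by rw [this, mul_one]

end ZCHyp

/-- ZC1: the structural half. -/
theorem zcore1 [Finite G] (M N K : Subgroup G) (z u : G)
    (hM1 : M ≠ ⊥) (hMN : M ≤ N) (hKN : K ≤ N) (hMK : M ⊓ K = ⊥)
    (hnorm : ∀ y ∈ N, ∀ x ∈ M, y * x * y⁻¹ ∈ M)
    (hKc : ∀ a ∈ K, ∀ b ∈ K, a * b = b * a)
    (hz : orderOf z = 2) (hzK : z ∈ K) (hzinv : ∀ x ∈ M, z * x * z⁻¹ = x⁻¹)
    (hodd : ∀ x ∈ M, x ≠ 1 → ∀ c ∈ K, c * x = x * c → Odd (orderOf c))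
    (hsemi : ∀ g : G, g ∉ N → M ⊓ N.map (MulAut.conj g).toMonoidHom = ⊥)
    (hidx : N.index = Nat.card M + 1)
    (hu : orderOf u = 2) (huN : u ∉ N)
    (hK : N ⊓ N.map (MulAut.conj u).toMonoidHom = K)
    (huinv : ∀ h ∈ K, u * h * u⁻¹ = h⁻¹) :
    Odd (Nat.card M) ∧
    (∀ y w : G ⧸ N, y ≠ (QuotientGroup.mk 1 : G ⧸ N) → w ≠ (QuotientGroup.mk 1 : G ⧸ N) →
        ∃! x : M, (x : G) • y = w) ∧
    MulAction.IsMultiplyPretransitive G (G ⧸ N) 2 ∧
    (∀ h : G, h • (QuotientGroup.mk 1 : G ⧸ N) = QuotientGroup.mk 1 →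
      h • (QuotientGroup.mk u : G ⧸ N) = QuotientGroup.mk u → h ∈ K) ∧
    (∀ x ∈ M, x ≠ 1 → ∀ c ∈ K, c * x = x * c → c = 1) ∧
    (∀ g : G, ∀ a b c : G ⧸ N, a ≠ b → b ≠ c → a ≠ c → g • a = a → g • b = b → g • c = c →
      g = 1) ∧
    FaithfulSMul G (G ⧸ N) := by
  have H : ZCHyp M N K z u :=
    ⟨hM1, hMN, hKN, hMK, hnorm, hKc, hz, hzK, hzinv, hodd, hsemi, hidx, hu, huN, hK, huinv⟩
  refine ⟨H.odd_card, H.regular, H.two_pretransitive, ?_, ?_, H.three_point, H.faithful⟩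
  · intro h h1 h2
    exact (H.mem_K_iff h).2 ⟨h1, h2⟩
  · intro x hx hx1 c hc hcx
    exact H.centralizer_trivial hx hx1 hc hcx


end Cfsg.Agent.Lib.Helper9.S3043
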