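import Mathlib
import Cfsg.Agent.Lib.Helper9.S3043ZC1
import Cfsg.Agent.Lib.Helper4.S3043ZC2

/-!
# S3043 piece ZC: the core of the 2-transitive branch (assembly of ZC1 and ZC2).
-/

set_option autoImplicit false

namespace Cfsg.Agent.Lib.Helper9.S3043

open Subgroup

variable {G : Type*} [Group G] [Finite G]

theorem zcore (M N K : Subgroup G) (z u : G)
    (hM1 : M ≠ ⊥) (hMN : M ≤ N) (hKN : K ≤ N) (hMK : M ⊓ K = ⊥)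
    (hN : ∀ y ∈ N, ∃ x ∈ M, ∃ c ∈ K, y = x * c)
    (hnorm : ∀ y ∈ N, ∀ x ∈ M, y * x * y⁻¹ ∈ M)
    (hMc : ∀ x ∈ M, ∀ y ∈ M, x * y = y * x) (hKc : ∀ a ∈ K, ∀ b ∈ K, a * b = b * a)
    (hz : orderOf z = 2) (hzK : z ∈ K) (hzinv : ∀ x ∈ M, z * x * z⁻¹ = x⁻¹)
    (hodd : ∀ x ∈ M, x ≠ 1 → ∀ c ∈ K, c * x = x * c → Odd (orderOf c))
    (hsemi : ∀ g : G, g ∉ N → M ⊓ N.map (MulAut.conj g).toMonoidHom = ⊥)
    (hidx : N.index = Nat.card M + 1)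
    (hu : orderOf u = 2) (huN : u ∉ N)
    (hK : N ⊓ N.map (MulAut.conj u).toMonoidHom = K)
    (huinv : ∀ h ∈ K, u * h * u⁻¹ = h⁻¹)
    (hCz : Nat.card (centralizer ({z} : Set G)) = 2 * Nat.card K)
    (hcount : Nat.card {t : G // orderOf t = 2} = Nat.card M + Nat.card M * Nat.card K) :
    ∃ p j : ℕ, p.Prime ∧ p ≠ 2 ∧ 1 ≤ j ∧ Nat.card M = p ^ j ∧ (∀ x ∈ M, x ^ p = 1) ∧
      FaithfulSMul G (G ⧸ N) ∧ MulAction.IsMultiplyPretransitive G (G ⧸ N) 2 ∧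
      (∀ g : G, ∀ a b c : G ⧸ N, a ≠ b → b ≠ c → a ≠ c → g • a = a → g • b = b → g • c = c → g = 1) ∧
      (∀ y w : G ⧸ N, y ≠ (QuotientGroup.mk 1 : G ⧸ N) → w ≠ (QuotientGroup.mk 1 : G ⧸ N) →
        ∃! x : M, (x : G) • y = w) ∧
      ((Nat.card K = Nat.card M - 1 ∧ MulAction.IsMultiplyPretransitive G (G ⧸ N) 3 ∧
          ∀ t h : G, ∀ a b : G ⧸ N, a ≠ b → t • a = b → t • b = a → h • a = a → h • b = b →
            t * h * t⁻¹ = h⁻¹) ∨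
        (2 * Nat.card K = Nat.card M - 1 ∧ ∀ t : G, orderOf t = 2 → ∃ g : G, t = g * z * g⁻¹)) := by
  obtain ⟨h1, h2, h3, h4, h5, h6, h7⟩ := zcore1 M N K z u hM1 hMN hKN hMK hnorm hKc hz hzK
    hzinv hodd hsemi hidx hu huN hK huinv
  obtain ⟨p, j, hp, hp2, hj, hcard, hexp, hcase⟩ :=
    Cfsg.Agent.Lib.Helper4.S3043.zcore2 M N K z u hM1 hMN hKN hMK hN hnorm hMc hKc
      hz hzK hidx hu huN huinv hCz hcount h1 h2 h3 h4 h5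
  exact ⟨p, j, hp, hp2, hj, hcard, hexp, h7, h3, h6, h2, hcase⟩

end Cfsg.Agent.Lib.Helper9.S3043
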