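import Mathlib
import Cfsg.Agent.Lib.Helper1.MaxClassSelfCentralizing

set_option autoImplicit false
universe u
namespace Cfsg.Agent.Lib.Helper9.S4079B

theorem b_mem_centralizer {L : Type u} [Group L] (a : MulAut L)
    (x : SemidirectProduct L ↥(Subgroup.zpowers a) (Subgroup.zpowers a).subtype) :
    x ∈ Subgroup.centralizer
        {(SemidirectProduct.inr ⟨a, Subgroup.mem_zpowers a⟩ :
          SemidirectProduct L ↥(Subgroup.zpowers a) (Subgroup.zpowers a).subtype)} ↔
      a x.left = x.left := by
  have hZcomm : ∀ z w : ↥(Subgroup.zpowers a), z * w = w * z := by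
    intro z w
    obtain ⟨z, hz⟩ := z
    obtain ⟨w, hw⟩ := w
    apply Subtype.ext
    obtain ⟨i, rfl⟩ := Subgroup.mem_zpowers_iff.mp hz
    obtain ⟨j, rfl⟩ := Subgroup.mem_zpowers_iff.mp hw
    show a ^ i * a ^ j = a ^ j * a ^ i
    rw [← zpow_add, ← zpow_add, add_comm]
  rw [Subgroup.mem_centralizer_iff]
  constructor
  · intro h
    have h1 := h _ (Set.mem_singleton _)
    have h2 := congrArg SemidirectProduct.left h1
    simpa using h2
  · intro h y hy
    rw [Set.mem_singleton_iff] at hy
    subst hy
    apply SemidirectProduct.ext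
    · simpa using h
    · simp only [SemidirectProduct.mul_right, SemidirectProduct.right_inr]
      exact hZcomm _ _

theorem class_eq {L : Type u} [Group L] [Finite L] (a : MulAut L) (ha : orderOf a = 3)
    (m : ℕ) (hm : Nat.card L = 3 ^ m) (hfix : Nat.card {l : L // a l = l} = 3) :
    Group.nilpotencyClass
      (SemidirectProduct L ↥(Subgroup.zpowers a) (Subgroup.zpowers a).subtype) = m := by
  have : Fact (Nat.Prime 3) := ⟨Nat.prime_three⟩
  have hZcard : Nat.card ↥(Subgroup.zpowers a) = 3 := by rw [Nat.card_zpowers, ha]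
  have : Finite ↥(Subgroup.zpowers a) := Nat.finite_of_card_ne_zero (by rw [hZcard]; norm_num)
  have hXcard : Nat.card (SemidirectProduct L ↥(Subgroup.zpowers a) (Subgroup.zpowers a).subtype)
      = 3 ^ (m + 1) := by
    rw [SemidirectProduct.card, hm, hZcard, pow_succ]
  have : Finite (SemidirectProduct L ↥(Subgroup.zpowers a) (Subgroup.zpowers a).subtype) :=
    Nat.finite_of_card_ne_zero (by rw [hXcard]; positivity)
  have hmem := b_mem_centralizer a
  set ahat : SemidirectProduct L ↥(Subgroup.zpowers a) (Subgroup.zpowers a).subtype :=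
    SemidirectProduct.inr ⟨a, Subgroup.mem_zpowers a⟩ with hahat
  set A : Subgroup (SemidirectProduct L ↥(Subgroup.zpowers a) (Subgroup.zpowers a).subtype) :=
    Subgroup.centralizer {ahat} with hA
  have hAcard : Nat.card A = 3 ^ 2 := by
    have e : A ≃ {l : L // a l = l} × ↥(Subgroup.zpowers a) :=
      { toFun := fun x => (⟨x.1.left, (hmem x.1).mp x.2⟩, x.1.right)
        invFun := fun y => ⟨⟨y.1.1, y.2⟩, (hmem _).mpr y.1.2⟩
        left_inv := fun x => by
          apply Subtype.ext
          apply SemidirectProduct.ext <;> rfl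
        right_inv := fun y => by
          obtain ⟨⟨l, hl⟩, z⟩ := y
          rfl }
    rw [Nat.card_congr e, Nat.card_prod, hfix, hZcard]
    norm_num
  have : Finite A := Nat.finite_of_card_ne_zero (by rw [hAcard]; norm_num)
  have hC : Subgroup.centralizer (A : Set _) = A := by
    apply le_antisymm
    · rw [hA]
      apply Subgroup.centralizer_le
      rw [Set.singleton_subset_iff]
      show ahat ∈ Subgroup.centralizer {ahat}
      rw [Subgroup.mem_centralizer_iff]
      intro y hy
      rw [Set.mem_singleton_iff] at hy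
      rw [hy]
    · have hcomm : ∀ x y : A, x * y = y * x := by
        have hmc := IsPGroup.isMulCommutative_of_card_eq_prime_sq (p := 3) (G := A) hAcard
        intro x y
        exact hmc.is_comm.comm x y
      intro x hx
      rw [Subgroup.mem_centralizer_iff]
      intro y hy
      have := hcomm ⟨y, hy⟩ ⟨x, hx⟩
      exact congrArg Subtype.val this
  have := Cfsg.Agent.Lib.Helper1.max_class_of_self_centralizing (p := 3) (m + 1) hXcard A hAcard hC
  simpa using this

end Cfsg.Agent.Lib.Helper9.S4079B
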