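import Mathlib
import Cfsg.Prelude.Def_OddOrderLocal
import Cfsg.Prelude.Def_PLocal
import Cfsg.Agent.Lib.Helper1.Metacyclic
import Cfsg.Agent.Lib.Helper4.Metacyc1

set_option autoImplicit false
universe u
namespace Cfsg.Agent.Lib.Helper9.S4079C1

/-- `Ω₁` of a non-cyclic metacyclic `p`-group, `p` odd: membership and order. -/
theorem c1_omega {X : Type u} [Group X] [Finite X] {p : ℕ} [Fact p.Prime]
    (hp : p ≠ 2) (hX : IsPGroup p X) (hmc : Cfsg.IsMetacyclic X) (hnc : ¬ IsCyclic X) :
    (∀ x : X, x ∈ Cfsg.omegaOne p (⊤ : Subgroup X) ↔ x ^ p = 1) ∧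
      Nat.card (Cfsg.omegaOne p (⊤ : Subgroup X)) = p ^ 2 := by
  obtain ⟨⟨_, hexp⟩, hcard⟩ := Cfsg.Agent.Lib.Helper1.metacyclic_omegaOne hp hX hmc hnc
  refine ⟨fun x => ⟨fun hx => hexp x hx, fun hx => ?_⟩, hcard⟩
  exact Subgroup.subset_closure ⟨Subgroup.mem_top x, hx⟩

/-- a nontrivial cyclic `p`-group has a cyclic subgroup of index `p` -/
theorem c1_not_cyclic {L : Type u} [Group L] [Finite L] [Nontrivial L] {p : ℕ} [hpp : Fact p.Prime]
    (hL : IsPGroup p L)
    (hnc : ∀ C : Subgroup L, IsCyclic C → C.index ≠ p) : ¬ IsCyclic L := by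
  intro hc
  obtain ⟨n, hn⟩ := hL.exists_card_eq
  have hn1 : n ≠ 0 := by
    rintro rfl
    have : 1 < Nat.card L := Finite.one_lt_card
    rw [hn] at this
    simp at this
  obtain ⟨K, hK⟩ := Sylow.exists_subgroup_card_pow_prime (G := L) p
    (show p ^ (n - 1) ∣ Nat.card L by rw [hn]; exact pow_dvd_pow p (Nat.sub_le n 1))
  have hidx : K.index = p := by
    have h1 := K.index_mul_card
    rw [hK, hn] at h1
    have h2 : p ^ n = p * p ^ (n - 1) := by
      rw [← pow_succ']
      congr 1
      omega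
    rw [h2] at h1
    exact Nat.eq_of_mul_eq_mul_right (pow_pos hpp.out.pos _) h1
  exact hnc K inferInstance hidx

theorem structure1 {L : Type u} [Group L] [Finite L] [Nontrivial L] {p : ℕ} [Fact p.Prime]
    (hp : p ≠ 2) (hL : IsPGroup p L) (hmc : Cfsg.IsMetacyclic L)
    (hnc : ∀ C : Subgroup L, IsCyclic C → C.index ≠ p) :
    ∃ W H : Subgroup L,
      (∀ x : L, x ∈ W ↔ x ^ p = 1) ∧ (∀ x : L, x ∈ H ↔ x ^ p ∈ W) ∧
      Nat.card W = p ^ 2 ∧ Nat.card H = p ^ 4 := by
  have hpp : p.Prime := Fact.out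
  have hLnc : ¬ IsCyclic L := c1_not_cyclic hL hnc
  obtain ⟨hWmem, hWcard⟩ := c1_omega hp hL hmc hLnc
  set W : Subgroup L := Cfsg.omegaOne p (⊤ : Subgroup L) with hWdef
  have hWn : W.Normal := by
    constructor
    intro x hx g
    rw [hWmem] at hx ⊢
    rw [conj_pow, hx, mul_one, mul_inv_cancel]
  have hQmc : Cfsg.IsMetacyclic (L ⧸ W) :=
    Cfsg.Agent.Lib.Helper4.Metacyc.isMetacyclic_of_surjective (QuotientGroup.mk' W)
      (QuotientGroup.mk'_surjective W) hmc
  have hQp : IsPGroup p (L ⧸ W) := hL.to_quotient W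
  have hcardL : Nat.card L = Nat.card (L ⧸ W) * Nat.card W :=
    Subgroup.card_eq_card_quotient_mul_card_subgroup W
  have hQnc : ¬ IsCyclic (L ⧸ W) := by
    intro hQc
    obtain ⟨q, hq⟩ := hQc.exists_generator
    obtain ⟨g, rfl⟩ := QuotientGroup.mk_surjective q
    have hc : orderOf (QuotientGroup.mk g : L ⧸ W) = Nat.card (L ⧸ W) :=
      orderOf_eq_card_of_forall_mem_zpowers hq
    set c := Nat.card (L ⧸ W) with hcdef
    have hcpos : 0 < c := Nat.card_pos
    have hcn : c ∣ orderOf g := by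
      rw [← hc]
      exact orderOf_map_dvd (QuotientGroup.mk' W) g
    have hgcW : g ^ c ∈ W := by
      rw [← QuotientGroup.eq_one_iff, QuotientGroup.mk_pow, ← hc, pow_orderOf_eq_one]
    have hgcp : (g ^ c) ^ p = 1 := (hWmem _).mp hgcW
    by_cases hgc1 : g ^ c = 1
    · -- orderOf g = c
      have hnc' : orderOf g = c := Nat.dvd_antisymm (orderOf_dvd_of_pow_eq_one hgc1) hcn
      by_cases hc1 : c = 1
      · -- L = W
        obtain ⟨x, hx⟩ := exists_ne (1 : L)
        have hxW : x ∈ W := by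
          have : W = ⊤ := by
            apply Subgroup.eq_top_of_card_eq
            rw [hcardL, hc1, one_mul]
          rw [this]; exact Subgroup.mem_top x
        have hxp : x ^ p = 1 := (hWmem x).mp hxW
        have hox : orderOf x = p := orderOf_eq_prime hxp hx
        have hidx : (Subgroup.zpowers x).index = p := by
          have h1 := (Subgroup.zpowers x).index_mul_card
          rw [Nat.card_zpowers, hox, hcardL, hc1, one_mul, hWcard, pow_two] at h1
          exact Nat.eq_of_mul_eq_mul_right hpp.pos h1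
        exact hnc _ inferInstance hidx
      · obtain ⟨j, hj⟩ := hQp.exists_card_eq
        have hj1 : j ≠ 0 := by
          rintro rfl
          exact hc1 (by rw [hcdef, hj, pow_zero])
        have hz : (g ^ (p ^ (j - 1))) ^ p = 1 := by
          rw [← pow_mul, ← pow_succ, show j - 1 + 1 = j by omega, ← hj, ← hcdef]
          exact hgc1
        have hzW : g ^ (p ^ (j - 1)) ∈ W := (hWmem _).mpr hz
        have h1 : (QuotientGroup.mk g : L ⧸ W) ^ (p ^ (j - 1)) = 1 := by
          rw [← QuotientGroup.mk_pow, QuotientGroup.eq_one_iff]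
          exact hzW
        have h2 : p ^ j ∣ p ^ (j - 1) := by
          rw [← hj, ← hcdef, ← hc]
          exact orderOf_dvd_of_pow_eq_one h1
        have h3 := (Nat.pow_dvd_pow_iff_le_right hpp.one_lt).mp h2
        omega
    · have ho : orderOf (g ^ c) = p := orderOf_eq_prime hgcp hgc1
      have ho2 : orderOf (g ^ c) = orderOf g / c := orderOf_pow_of_dvd hcpos.ne' hcn
      have hn : orderOf g = c * p := by
        rw [ho] at ho2
        rw [ho2]
        exact (Nat.mul_div_cancel' hcn).symm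
      have hidx : (Subgroup.zpowers g).index = p := by
        have h1 := (Subgroup.zpowers g).index_mul_card
        rw [Nat.card_zpowers, hn, hcardL, hWcard] at h1
        have h2 : c * p ^ 2 = p * (c * p) := by ring
        rw [h2] at h1
        exact Nat.eq_of_mul_eq_mul_right (Nat.mul_pos hcpos hpp.pos) h1
      exact hnc _ inferInstance hidx
  obtain ⟨hW2mem, hW2card⟩ := c1_omega hp hQp hQmc hQnc
  set W2 : Subgroup (L ⧸ W) := Cfsg.omegaOne p (⊤ : Subgroup (L ⧸ W)) with hW2def
  refine ⟨W, W2.comap (QuotientGroup.mk' W), hWmem, ?_, hWcard, ?_⟩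
  · intro x
    rw [Subgroup.mem_comap, hW2mem, QuotientGroup.mk'_apply, ← QuotientGroup.mk_pow,
      QuotientGroup.eq_one_iff]
  · have hidx : (W2.comap (QuotientGroup.mk' W)).index = W2.index :=
      Subgroup.index_comap_of_surjective W2 (QuotientGroup.mk'_surjective W)
    have h1 := (W2.comap (QuotientGroup.mk' W)).index_mul_card
    have h2 := W2.index_mul_card
    rw [hidx, hcardL, ← h2, hW2card, hWcard] at h1
    have hpos : 0 < W2.index := Nat.pos_of_ne_zero (Subgroup.index_ne_zero_of_finite)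
    have h3 : W2.index * p ^ 2 * p ^ 2 = W2.index * p ^ 4 := by ring
    rw [h3] at h1
    exact Nat.eq_of_mul_eq_mul_left hpos h1

end Cfsg.Agent.Lib.Helper9.S4079C1
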