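import Mathlib
import Cfsg.Prelude.Def_Blocks
import Cfsg.Agent.Lib.Helper3.SLZ1b
import Cfsg.Agent.Lib.Helper2.GLU2
import Cfsg.Agent.Lib.Helper7.SLZ1a
import Cfsg.Agent.Lib.Helper4.SLCard
import Cfsg.Agent.Lib.Helper4.DegSet
import Cfsg.Agent.Lib.Helper6.BlkNormalDef

/-!
# S4538 / S2440 farm, unit Z1 (final glue): `SL_n(F)` has at most one irreducible character of
`p`-defect zero (from helper2's THEOREM GL `gl_final`, helper3's Clifford transfer `z1_SL_det`,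
helper7's `isPGroup_Uni`).
-/

set_option autoImplicit false

namespace Cfsg.Agent.Lib.Helper9.SLZ1u

open Cfsg Cfsg.Agent.Lib.Helper6 Cfsg.Agent.Lib.Helper7.SLY Matrix

variable {n : ℕ} {F : Type*} [Field F]

/-- Z1: uniqueness of the defect-zero character of `SL_n(F)`. -/
theorem z1_unique [Fintype F] (p : ℕ) [Fact p.Prime] [CharP F p] (hn : 2 ≤ n)
    (θ1 θ2 : IrrCharacter (Matrix.SpecialLinearGroup (Fin n) F))
    (h1 : (charDegree θ1.1).factorization p =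
      (Nat.card (Matrix.SpecialLinearGroup (Fin n) F)).factorization p)
    (h2 : (charDegree θ2.1).factorization p =
      (Nat.card (Matrix.SpecialLinearGroup (Fin n) F)).factorization p) : θ1 = θ2 := by
  classical
  have hp : p.Prime := Fact.out
  have : Fintype (GL (Fin n) F) := Fintype.ofFinite _
  set a := (Nat.card (GL (Fin n) F)).factorization p with ha
  have hGLpos : Nat.card (GL (Fin n) F) ≠ 0 := Nat.card_pos.ne'
  have hSLpos : Nat.card (Matrix.SpecialLinearGroup (Fin n) F) ≠ 0 := Nat.card_pos.ne'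
  -- `ν_p |SL| = ν_p |GL|`
  have hSLa : (Nat.card (Matrix.SpecialLinearGroup (Fin n) F)).factorization p = a := by
    have h := Cfsg.Agent.Lib.Helper4.card_SL_mul (F := F) n (by omega)
    obtain ⟨f, _, hqf⟩ := FiniteField.card F p
    have hq1 : ¬ p ∣ Fintype.card F - 1 := by
      rw [hqf]
      intro hd
      have hpf : p ∣ p ^ (f : ℕ) := dvd_pow_self p f.ne_zero
      have hpos : 1 ≤ p ^ (f : ℕ) := Nat.one_le_pow _ _ hp.pos
      have h3 : p ∣ p ^ (f : ℕ) - (p ^ (f : ℕ) - 1) := Nat.dvd_sub hpf hd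
      have h4 : p ^ (f : ℕ) - (p ^ (f : ℕ) - 1) = 1 := by omega
      rw [h4] at h3
      exact hp.one_lt.ne' (Nat.dvd_one.mp h3)
    have hq0 : Fintype.card F - 1 ≠ 0 := by
      have : 1 < Fintype.card F := Fintype.one_lt_card
      omega
    rw [ha, ← h, Nat.factorization_mul hSLpos hq0, Finsupp.add_apply,
      Nat.factorization_eq_zero_of_not_dvd hq1, add_zero]
  -- `Uni` is a `p`-subgroup
  have hUp : IsPGroup p ↥(Uni n F) := isPGroup_Uni p
  obtain ⟨k, hk⟩ := hUp.exists_card_eq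
  have hk_dvd : p ^ k ∣ Nat.card (GL (Fin n) F) := by
    rw [← hk]
    exact Subgroup.card_subgroup_dvd_card _
  have hka : k ≤ a := (hp.pow_dvd_iff_le_factorization hGLpos).mp hk_dvd
  -- vanishing on `Uni ∖ 1`
  have van : ∀ χ : GL (Fin n) F → ℂ, IsIrrCharacter (GL (Fin n) F) χ → p ^ a ∣ charDegree χ →
      ∀ u ∈ Uni n F, u ≠ 1 → χ u = 0 := by
    intro χ hχ hd u hu hu1
    apply IsIrrCharacter.eq_zero_of_defect_zero hχ p a hp (Nat.ordProj_dvd _ _)
      (Nat.pow_succ_factorization_not_dvd hGLpos hp) hd u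
    obtain ⟨m, hm⟩ := z1a_pgroup (n := n) (F := F) p u hu
    have h3 : orderOf u ∣ p ^ m := orderOf_dvd_of_pow_eq_one hm
    obtain ⟨j, _, hj⟩ := (Nat.dvd_prime_pow hp).mp h3
    rcases Nat.eq_zero_or_pos j with h0 | h0
    · exfalso
      rw [h0, pow_zero, orderOf_eq_one_iff] at hj
      exact hu1 hj
    · rw [hj]
      exact dvd_pow_self p h0.ne'
  -- the GL input of helper3's transfer
  have hGL : ∀ χ₁ χ₂ : GL (Fin n) F → ℂ, Cfsg.IsIrrCharacter (GL (Fin n) F) χ₁ →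
      Cfsg.IsIrrCharacter (GL (Fin n) F) χ₂ →
      p ^ a ∣ Cfsg.charDegree χ₁ → p ^ a ∣ Cfsg.charDegree χ₂ →
      Cfsg.charDegree χ₁ = p ^ a ∧ Cfsg.charDegree χ₂ = p ^ a ∧
        ∃ α : Fˣ →* ℂˣ, ∀ g, χ₂ g = χ₁ g * (α (Matrix.GeneralLinearGroup.det g) : ℂ) := by
    intro χ₁ χ₂ i₁ i₂ d₁ d₂
    obtain ⟨e1, e2, α, hα⟩ := Cfsg.Agent.Lib.Helper2.GLU.gl_final hn ⟨χ₁, i₁⟩ ⟨χ₂, i₂⟩
      (van χ₁ i₁ d₁) (van χ₂ i₂ d₂)
    have c1 : charDegree χ₁ = Nat.card ↥(Uni n F) :=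
      Cfsg.Agent.Lib.Helper4.charDegree_eq_of_apply_one e1
    have c2 : charDegree χ₂ = Nat.card ↥(Uni n F) :=
      Cfsg.Agent.Lib.Helper4.charDegree_eq_of_apply_one e2
    have hak : a ≤ k := by
      rw [c1, hk] at d₁
      exact (Nat.pow_dvd_pow_iff_le_right hp.one_lt).mp d₁
    have hkeq : k = a := le_antisymm hka hak
    rw [c1, c2, hk, hkeq]
    exact ⟨rfl, rfl, α, hα⟩
  have hd : ∀ θ : IrrCharacter (Matrix.SpecialLinearGroup (Fin n) F),
      (charDegree θ.1).factorization p =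
        (Nat.card (Matrix.SpecialLinearGroup (Fin n) F)).factorization p →
      p ^ a ∣ charDegree θ.1 := by
    intro θ h
    rw [← hSLa, ← h]
    exact Nat.ordProj_dvd _ _
  apply Subtype.ext
  exact Cfsg.Agent.Lib.Helper3.SLZ1.z1_SL_det n (p ^ a) hGL θ1.1 θ2.1 θ1.2 θ2.2 (hd θ1 h1) (hd θ2 h2)

end Cfsg.Agent.Lib.Helper9.SLZ1u
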