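import Mathlib
import Cfsg.Prelude.Def_Blocks
import Cfsg.Agent.Lib.Helper9.SLZ3a
import Cfsg.Agent.Lib.Helper4.SLCenter
import Cfsg.Agent.Lib.Helper8.SLZ4

/-!
# S4538 / S2440 farm, unit Z3: the count of `p`-blocks of `SL_n(p)`
-/

set_option autoImplicit false

namespace Cfsg.Agent.Lib.Helper9.SLZ3

open Cfsg Cfsg.Agent.Lib.Helper6 Matrix

/-- `p` divides the order of `SL_n(F)` for `n ≥ 2`, `char F = p`. -/
theorem p_dvd_card_SL {F : Type*} [Field F] [Finite F] (p : ℕ) [Fact p.Prime] [CharP F p]
    (n : ℕ) (hn : 2 ≤ n) : p ∣ Nat.card (Matrix.SpecialLinearGroup (Fin n) F) := by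
  classical
  have hp : p.Prime := Fact.out
  have : Fintype F := Fintype.ofFinite F
  have : Finite (Matrix.SpecialLinearGroup (Fin n) F) := by
    unfold Matrix.SpecialLinearGroup
    infer_instance
  let i : Fin n := ⟨0, by omega⟩
  let j : Fin n := ⟨1, by omega⟩
  have hij : i ≠ j := by
    intro h
    have := congrArg Fin.val h
    simp [i, j] at this
  let t : Matrix.SpecialLinearGroup (Fin n) F :=
    ⟨Matrix.transvection i j (1 : F), Matrix.det_transvection_of_ne i j hij 1⟩
  have hpow : ∀ k : ℕ, ((t ^ k : Matrix.SpecialLinearGroup (Fin n) F) : Matrix (Fin n) (Fin n) F)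
      = Matrix.transvection i j (k : F) := by
    intro k
    induction k with
    | zero => simp [Matrix.transvection_zero]
    | succ k ih =>
      rw [pow_succ, Matrix.SpecialLinearGroup.coe_mul, ih]
      show Matrix.transvection i j (k : F) * Matrix.transvection i j (1 : F) = _
      rw [Matrix.transvection_mul_transvection_same i j hij]
      push_cast
      rfl
  have ht1 : t ≠ 1 := by
    intro h
    have := congrArg (fun x : Matrix.SpecialLinearGroup (Fin n) F =>
      (x : Matrix (Fin n) (Fin n) F) i j) h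
    simp [t, Matrix.transvection, hij] at this
  have htp : t ^ p = 1 := by
    apply Subtype.ext
    rw [hpow p]
    simp [CharP.cast_eq_zero F p, Matrix.transvection_zero]
  have hord : orderOf t = p := orderOf_eq_prime htp ht1
  rw [← hord]
  exact orderOf_dvd_natCard t

/-- **Z3**: the count for S2440. -/
theorem z3_count (p : ℕ) [Fact p.Prime] (n : ℕ) (hn : 2 ≤ n)
    (M : Ideal Cfsg.AlgInt) (hM : Cfsg.IsPModular p M)
    (h0 : Nat.card {B : Set (Cfsg.IrrCharacter (Matrix.SpecialLinearGroup (Fin n) (ZMod p))) //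
      Cfsg.IsPBlock M B ∧ Cfsg.blockDefect p B = 0} = 1)
    (hdich : ∀ B : Set (Cfsg.IrrCharacter (Matrix.SpecialLinearGroup (Fin n) (ZMod p))),
      Cfsg.IsPBlock M B → Cfsg.blockDefect p B = 0 ∨ Cfsg.blockDefect p B =
        (Nat.card (Matrix.SpecialLinearGroup (Fin n) (ZMod p))).factorization p) :
    Nat.card {B : Set (Cfsg.IrrCharacter (Matrix.SpecialLinearGroup (Fin n) (ZMod p))) //
      Cfsg.IsPBlock M B} = Nat.gcd n (p - 1) + 1 := by
  classical
  have hp : p.Prime := Fact.out
  have : Finite (Matrix.SpecialLinearGroup (Fin n) (ZMod p)) := by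
    unfold Matrix.SpecialLinearGroup
    infer_instance
  have : Fintype (Matrix.SpecialLinearGroup (Fin n) (ZMod p)) := Fintype.ofFinite _
  have hdvd := p_dvd_card_SL (F := ZMod p) p n hn
  have hcardZ : Nat.card (Subgroup.center (Matrix.SpecialLinearGroup (Fin n) (ZMod p)))
      = Nat.gcd n (p - 1) := by
    rw [Cfsg.Agent.Lib.Helper4.card_center_SL (F := ZMod p) n (by omega), ZMod.card]
  let P : Sylow p (Matrix.SpecialLinearGroup (Fin n) (ZMod p)) := default
  have hPcard := P.card_eq_multiplicity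
  have hfac : (Nat.card (Matrix.SpecialLinearGroup (Fin n) (ZMod p))).factorization p ≠ 0 := by
    have := hp.factorization_pos_of_dvd (Nat.card_pos).ne' hdvd
    omega
  have hPbot : (P : Subgroup (Matrix.SpecialLinearGroup (Fin n) (ZMod p))) ≠ ⊥ := by
    intro h
    rw [h, Subgroup.card_bot] at hPcard
    have : 1 < p ^ (Nat.card (Matrix.SpecialLinearGroup (Fin n) (ZMod p))).factorization p :=
      Nat.one_lt_pow hfac hp.one_lt
    omega
  have hrad := Cfsg.Agent.S0955.result p M hM (Cfsg.principalBlock M _)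
    (isPBlock_principalBlock) (P : Subgroup (Matrix.SpecialLinearGroup (Fin n) (ZMod p)))
    ((isDefectGroup_principal_iff hM _).mpr ⟨P, rfl⟩)
  have hcen : ∀ x : Matrix.SpecialLinearGroup (Fin n) (ZMod p),
      x ∈ Subgroup.centralizer ((P : Subgroup (Matrix.SpecialLinearGroup (Fin n) (ZMod p))) :
        Set (Matrix.SpecialLinearGroup (Fin n) (ZMod p))) → ¬ p ∣ orderOf x →
      x ∈ Subgroup.center (Matrix.SpecialLinearGroup (Fin n) (ZMod p)) := by
    intro x hx hxp
    exact Cfsg.Agent.Lib.Helper8.SLZ.z2_central p _ hPbot P.isPGroup' hrad x hx hxp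
  have hZ : ∀ z : Matrix.SpecialLinearGroup (Fin n) (ZMod p),
      z ∈ Subgroup.center (Matrix.SpecialLinearGroup (Fin n) (ZMod p)) → ¬ p ∣ orderOf z := by
    intro z hz hdz
    have h1 : orderOf (⟨z, hz⟩ : Subgroup.center (Matrix.SpecialLinearGroup (Fin n) (ZMod p)))
        ∣ Nat.card (Subgroup.center (Matrix.SpecialLinearGroup (Fin n) (ZMod p))) :=
      orderOf_dvd_natCard _
    rw [hcardZ] at h1
    have h2 : orderOf (⟨z, hz⟩ : Subgroup.center (Matrix.SpecialLinearGroup (Fin n) (ZMod p)))
        = orderOf z := by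
      rw [← Subgroup.orderOf_coe]
    rw [h2] at h1
    have h3 : p ∣ p - 1 := (hdz.trans h1).trans (Nat.gcd_dvd_right _ _)
    have h4 : 0 < p - 1 := by have := hp.two_le; omega
    have := Nat.le_of_dvd h4 h3
    omega
  rw [count_abstract hM hdvd h0 hdich P hcen hZ, hcardZ]

end Cfsg.Agent.Lib.Helper9.SLZ3
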