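import Mathlib

set_option autoImplicit false

open scoped Pointwise

namespace Cfsg.Agent.Lib.Helper9.SN17

/-- If `n_17 = 18` then a prime `r ∈ {5, 19}` cannot have `n_r ∈ {136, 153}`. -/
theorem no_extra_prime {G : Type*} [Group G] [Finite G] (h17 : Nat.card (Sylow 17 G) = 18)
    (r : ℕ) [Fact r.Prime] (hr : r = 5 ∨ r = 19)
    (hn : Nat.card (Sylow r G) = 136 ∨ Nat.card (Sylow r G) = 153) : False := by
  have h17p : Fact (Nat.Prime 17) := ⟨by norm_num⟩
  obtain ⟨R⟩ : Nonempty (Sylow r G) := inferInstance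
  -- `R` fixes a Sylow 17-subgroup
  have hfix : ∃ P : Sylow 17 G,
      (R : Subgroup G) ≤ Subgroup.normalizer ((P : Subgroup G) : Set G) := by
    have hmod := R.isPGroup'.card_modEq_card_fixedPoints (Sylow 17 G)
    by_contra hno
    push Not at hno
    have hempty : IsEmpty (MulAction.fixedPoints (↥(R : Subgroup G)) (Sylow 17 G)) := by
      constructor
      rintro ⟨P, hP⟩
      exact hno P ((Subgroup.sylow_mem_fixedPoints_iff (R : Subgroup G)).mp hP)
    rw [h17, Nat.card_of_isEmpty] at hmod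
    have hdvd : r ∣ 18 := (Nat.modEq_zero_iff_dvd.mp hmod)
    rcases hr with rfl | rfl <;> omega
  obtain ⟨P, hRP⟩ := hfix
  -- the subgroup `L = P R`
  set L : Subgroup G := (P : Subgroup G) ⊔ (R : Subgroup G) with hL
  have hPL : (P : Subgroup G) ≤ L := le_sup_left
  have hRL : (R : Subgroup G) ≤ L := le_sup_right
  have hset : ((L : Subgroup G) : Set G) = ((P : Subgroup G) : Set G) * ((R : Subgroup G) : Set G) :=
    Subgroup.coe_mul_of_right_le_normalizer_left (P : Subgroup G) (R : Subgroup G) hRP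
  let RL : Sylow r ↥L := R.subtype hRL
  let PL : Subgroup ↥L := (P : Subgroup G).subgroupOf L
  have hPLp : IsPGroup 17 ↥PL := P.isPGroup'.comap_subtype
  have hRLmem : ∀ x : ↥L, x ∈ (RL : Subgroup ↥L) ↔ (x : G) ∈ R := by
    intro x
    change x ∈ (R : Subgroup G).subgroupOf L ↔ _
    rw [Subgroup.mem_subgroupOf]; rfl
  -- every Sylow `r`-subgroup of `L` is in the `PL`-orbit of `RL`
  have horb : ∀ Q : Sylow r ↥L, Q ∈ MulAction.orbit ↥PL RL := by
    intro Q
    obtain ⟨g, hg⟩ := MulAction.exists_smul_eq ↥L RL Q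
    have hgL : (g : G) ∈ ((L : Subgroup G) : Set G) := g.2
    rw [hset, Set.mem_mul] at hgL
    obtain ⟨p, hp, x, hx, hpx⟩ := hgL
    let p' : ↥L := ⟨p, hPL hp⟩
    let x' : ↥L := ⟨x, hRL hx⟩
    have hgpx : g = p' * x' := Subtype.ext hpx.symm
    have hx' : x' • RL = RL := by
      rw [Sylow.smul_eq_iff_mem_normalizer]
      exact Subgroup.le_normalizer ((hRLmem x').mpr hx)
    have hpPL : p' ∈ PL := by
      change p' ∈ (P : Subgroup G).subgroupOf L
      rw [Subgroup.mem_subgroupOf]; exact hp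
    refine ⟨⟨p', hpPL⟩, ?_⟩
    change p' • RL = Q
    rw [← hg, hgpx, mul_smul, hx']
  obtain ⟨m, hm⟩ := hPLp.card_orbit RL
  have hcardL : Nat.card (Sylow r ↥L) = 17 ^ m := by
    rw [← hm]
    exact (Nat.card_congr (Equiv.subtypeUnivEquiv horb)).symm
  have hmodL : Nat.card (Sylow r ↥L) ≡ 1 [MOD r] := card_sylow_modEq_one r ↥L
  have hle : Nat.card (Sylow r ↥L) ≤ Nat.card (Sylow r G) := by
    have hex : ∀ Q : Sylow r ↥L, ∃ Q' : Sylow r G, Q'.comap L.subtype = Q :=
      fun Q => Q.exists_comap_subtype_eq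
    choose f hf using hex
    apply Nat.card_le_card_of_injective f
    intro Q1 Q2 h12
    apply Sylow.ext
    rw [← hf Q1, ← hf Q2, h12]
  have hle153 : 17 ^ m ≤ 153 := by
    rw [← hcardL]
    rcases hn with h | h <;> omega
  have hm1 : m ≤ 1 := by
    by_contra hcon
    have h2 : 2 ≤ m := by omega
    have : 17 ^ 2 ≤ 17 ^ m := Nat.pow_le_pow_right (by norm_num) h2
    omega
  have hm0 : m = 0 := by
    interval_cases m
    · rfl
    · exfalso
      rw [hcardL] at hmodL
      unfold Nat.ModEq at hmodL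
      rcases hr with rfl | rfl <;> omega
  have hone : Nat.card (Sylow r ↥L) = 1 := by rw [hcardL, hm0, pow_zero]
  -- `P` normalizes `R`
  have hPN : (P : Subgroup G) ≤ Subgroup.normalizer ((R : Subgroup G) : Set G) := by
    intro p hp
    let p' : ↥L := ⟨p, hPL hp⟩
    have hsub : Subsingleton (Sylow r ↥L) := (Nat.card_eq_one_iff_unique.mp hone).1
    have hp' : p' • RL = RL := Subsingleton.elim _ _
    rw [Sylow.smul_eq_iff_mem_normalizer] at hp'
    have hp'' : p' ∈ Subgroup.normalizer ((RL : Subgroup ↥L) : Set ↥L) := hp'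
    rw [Subgroup.mem_normalizer_iff] at hp''
    rw [Subgroup.mem_normalizer_iff]
    intro h
    constructor
    · intro hh
      have := (hp'' ⟨h, hRL hh⟩).mp ((hRLmem _).mpr hh)
      exact (hRLmem _).mp this
    · intro hh
      have hhL : h ∈ L := by
        have h1 : p * h * p⁻¹ ∈ L := hRL hh
        have h2 : h = p⁻¹ * (p * h * p⁻¹) * p := by group
        rw [h2]
        exact L.mul_mem (L.mul_mem (L.inv_mem (hPL hp)) h1) (hPL hp)
      have := (hp'' ⟨h, hhL⟩).mpr ((hRLmem _).mpr hh)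
      exact (hRLmem _).mp this
  have hidx : Nat.card (Sylow r G) ∣ (P : Subgroup G).index := by
    rw [Sylow.card_eq_index_normalizer R]
    exact Subgroup.index_dvd_of_le hPN
  have h17dvd : 17 ∣ Nat.card (Sylow r G) := by
    rcases hn with h | h <;> rw [h] <;> norm_num
  exact P.not_dvd_index (dvd_trans h17dvd hidx)

end Cfsg.Agent.Lib.Helper9.SN17
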