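import Mathlib
import Cfsg.Agent.Lib.Helper8.Ext1

set_option autoImplicit false

namespace Cfsg.Agent.Lib.Helper9.SN17

/-- Baer-type lemma: a normal subgroup normalizing every Sylow subgroup of a centerless finite
group is trivial. -/
theorem baer_trivial {G : Type*} [Group G] [Finite G] (K : Subgroup G) [K.Normal]
    (hK : ∀ (p : ℕ) [Fact p.Prime] (S : Sylow p G), K ≤ Subgroup.normalizer (S : Set G))
    (hZ : Subgroup.center G = ⊥) : K = ⊥ := by
  by_contra hne
  have hcard : Nat.card K ≠ 1 := fun h => hne (Subgroup.card_eq_one.mp h)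
  obtain ⟨s, hs, hsd⟩ := Nat.exists_prime_and_dvd hcard
  have : Fact s.Prime := ⟨hs⟩
  obtain ⟨k, hk⟩ := exists_prime_orderOf_dvd_card' s hsd
  -- (*) every `s`-element of `K` lies in every Sylow `s`-subgroup
  have star : ∀ u : G, u ∈ K → (∃ n : ℕ, u ^ (s ^ n) = 1) → ∀ S' : Sylow s G, u ∈ S' := by
    intro u huK hu S'
    obtain ⟨n, hn⟩ := hu
    have hpg : IsPGroup s (Subgroup.zpowers u) := by
      have hd : orderOf u ∣ s ^ n := orderOf_dvd_of_pow_eq_one hn
      obtain ⟨m, _, hm⟩ := (Nat.dvd_prime_pow hs).mp hd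
      apply IsPGroup.of_card (n := m)
      rw [Nat.card_zpowers, hm]
    have h1 : Subgroup.zpowers u ≤ Subgroup.normalizer (S' : Set G) := by
      rw [Subgroup.zpowers_le]; exact hK s S' huK
    have h2 := hpg.inf_normalizer_sylow S'
    have h3 : Subgroup.zpowers u ≤ Subgroup.zpowers u ⊓ (S' : Subgroup G) := by
      rw [← h2]; exact le_inf le_rfl h1
    exact (h3 (Subgroup.mem_zpowers u)).2
  obtain ⟨S⟩ : Nonempty (Sylow s G) := inferInstance
  have hkS : (k : G) ∈ S := by
    apply star (k : G) k.2 ⟨1, ?_⟩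
    rw [pow_one, ← Subgroup.orderOf_coe, ] at *
    rw [← hk]; exact pow_orderOf_eq_one _
  -- the normal subgroup `K ∩ S` of `S`
  have hMne : K.subgroupOf (S : Subgroup G) ≠ ⊥ := by
    intro hbot
    have hmem : (⟨(k : G), hkS⟩ : (S : Subgroup G)) ∈ K.subgroupOf (S : Subgroup G) := by
      rw [Subgroup.mem_subgroupOf]; exact k.2
    rw [hbot, Subgroup.mem_bot] at hmem
    have h1 : (k : G) = 1 := congrArg Subtype.val hmem
    have h2 : k = 1 := Subtype.ext h1
    rw [h2, orderOf_one] at hk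
    exact hs.one_lt.ne hk
  obtain ⟨x, hxM, hxZ, hx1⟩ :=
    Cfsg.Agent.Lib.Helper8.Ext.normal_inf_center S.isPGroup' (K.subgroupOf (S : Subgroup G)) hMne
  have hzK : (x : G) ∈ K := Subgroup.mem_subgroupOf.mp hxM
  have hzS : (x : G) ∈ S := x.2
  have hz1 : (x : G) ≠ 1 := fun h => hx1 (Subtype.ext h)
  have hzcomm : ∀ y : G, y ∈ S → y * (x : G) = (x : G) * y := by
    intro y hy
    have := (Subgroup.mem_center_iff.mp hxZ) ⟨y, hy⟩
    exact congrArg Subtype.val this
  obtain ⟨n, hn⟩ : ∃ n : ℕ, (x : G) ^ (s ^ n) = 1 := by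
    obtain ⟨n, hn⟩ := S.isPGroup' x
    exact ⟨n, by have := congrArg Subtype.val hn; simpa using this⟩
  -- every Sylow subgroup centralizes `z`
  have hcent : ∀ (r : ℕ) [Fact r.Prime], ∃ P : Sylow r G,
      (P : Subgroup G) ≤ Subgroup.centralizer {(x : G)} := by
    intro r _
    by_cases hrs : r = s
    · subst hrs
      refine ⟨S, fun y hy => ?_⟩
      rw [Subgroup.mem_centralizer_iff]
      intro h hh
      rw [Set.mem_singleton_iff] at hh
      rw [hh]; exact (hzcomm y hy).symm
    · obtain ⟨P⟩ : Nonempty (Sylow r G) := inferInstance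
      refine ⟨P, fun y hy => ?_⟩
      rw [Subgroup.mem_centralizer_iff]
      intro h hh
      rw [Set.mem_singleton_iff] at hh
      rw [hh]
      -- c = z y z⁻¹ y⁻¹
      have hc1 : (x : G) * y * (x : G)⁻¹ * y⁻¹ ∈ (P : Subgroup G) := by
        have hzN : (x : G) ∈ Subgroup.normalizer ((P : Subgroup G) : Set G) := hK r P hzK
        rw [Subgroup.mem_normalizer_iff] at hzN
        exact (P : Subgroup G).mul_mem ((hzN y).mp hy) ((P : Subgroup G).inv_mem hy)
      have hu : y * (x : G)⁻¹ * y⁻¹ ∈ S := by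
        apply star _ (‹K.Normal›.conj_mem _ (K.inv_mem hzK) y) ⟨n, ?_⟩
        rw [conj_pow, inv_pow, hn, inv_one, mul_one, mul_inv_cancel]
      have hc2 : (x : G) * y * (x : G)⁻¹ * y⁻¹ ∈ (S : Subgroup G) := by
        have : (x : G) * y * (x : G)⁻¹ * y⁻¹ = (x : G) * (y * (x : G)⁻¹ * y⁻¹) := by group
        rw [this]; exact (S : Subgroup G).mul_mem hzS hu
      have hdisj : Disjoint (S : Subgroup G) (P : Subgroup G) :=
        IsPGroup.disjoint_of_ne s r (fun h => hrs h.symm) _ _ S.isPGroup' P.isPGroup'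
      have hc : (x : G) * y * (x : G)⁻¹ * y⁻¹ = 1 := by
        have := (Subgroup.disjoint_def.mp hdisj) hc2 hc1
        exact this
      have : (x : G) * y = y * (x : G) := by
        have h2 : (x : G) * y * (x : G)⁻¹ * y⁻¹ * (y * (x : G)) = y * (x : G) := by rw [hc, one_mul]
        rw [← h2]; group
      exact this
  have hidx : (Subgroup.centralizer {(x : G)}).index = 1 := by
    rw [Nat.eq_one_iff_not_exists_prime_dvd]
    intro r hr hdvd
    have : Fact r.Prime := ⟨hr⟩
    obtain ⟨P, hP⟩ := hcent r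
    have h1 : (Subgroup.centralizer {(x : G)}).index ∣ (P : Subgroup G).index :=
      Subgroup.index_dvd_of_le hP
    exact P.not_dvd_index (dvd_trans hdvd h1)
  have htop : Subgroup.centralizer {(x : G)} = ⊤ := Subgroup.index_eq_one.mp hidx
  have hzc : (x : G) ∈ Subgroup.center G := by
    rw [Subgroup.mem_center_iff]
    intro g
    have hg : g ∈ Subgroup.centralizer {(x : G)} := by rw [htop]; trivial
    rw [Subgroup.mem_centralizer_iff] at hg
    exact (hg (x : G) rfl).symm
  rw [hZ, Subgroup.mem_bot] at hzc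
  exact hz1 hzc

end Cfsg.Agent.Lib.Helper9.SN17
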