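import Mathlib

/-!
# SPW bridge lemma ZB (helper9)

A nonzero intertwiner between two irreducible representations is bijective (Schur), hence the
two representations have the same character.
-/

set_option autoImplicit false

namespace Cfsg.Agent.Lib.Helper9.SPW

open Representation

/-- Schur: a nonzero intertwiner between irreducible representations is bijective. -/
theorem bijective_of_intertwiner {k : Type*} [Field k] {G : Type*} [Monoid G]
    {V W : Type*} [AddCommGroup V] [Module k V] [AddCommGroup W] [Module k W]
    (r : Representation k G V) (r2 : Representation k G W)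
    (hr : r.IsIrreducible) (hr2 : r2.IsIrreducible)
    (phi : W →ₗ[k] V) (hphi : phi ≠ 0)
    (hc : ∀ g, phi ∘ₗ r2 g = r g ∘ₗ phi) : Function.Bijective phi := by
  have := hr
  have := hr2
  let f : IntertwiningMap r2 r := ⟨phi, hc⟩
  rcases IsIrreducible.bijective_or_eq_zero f with h | h
  · exact h
  · exfalso
    apply hphi
    have : f.toLinearMap = 0 := by rw [h]; rfl
    exact this

/-- General-field version of `char_eq_of_intertwiner`. -/
theorem char_eq_of_intertwiner_field {k : Type*} [Field k] {G : Type*} [Monoid G]
    {V W : Type*} [AddCommGroup V] [Module k V] [AddCommGroup W] [Module k W]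
    (r : Representation k G V) (r2 : Representation k G W)
    (hr : r.IsIrreducible) (hr2 : r2.IsIrreducible)
    (phi : W →ₗ[k] V) (hphi : phi ≠ 0)
    (hc : ∀ g, phi ∘ₗ r2 g = r g ∘ₗ phi) :
    ∀ g, LinearMap.trace k V (r g) = LinearMap.trace k W (r2 g) := by
  intro g
  have hb := bijective_of_intertwiner r r2 hr hr2 phi hphi hc
  let e : W ≃ₗ[k] V := LinearEquiv.ofBijective phi hb
  have he : (e : W →ₗ[k] V) = phi := by ext x; rfl
  have h1 : r g = e.conj (r2 g) := by
    apply LinearMap.ext
    intro v
    obtain ⟨w, rfl⟩ := e.surjective v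
    have h2 := LinearMap.congr_fun (hc g) w
    simp only [LinearMap.comp_apply] at h2
    rw [LinearEquiv.conj_apply_apply, LinearEquiv.symm_apply_apply]
    exact h2.symm
  rw [h1, LinearMap.trace_conj']

/-- **Unit ZB**: a nonzero intertwiner between irreducible complex representations forces equal
characters. -/
theorem char_eq_of_intertwiner {G : Type*} [Group G]
    {V W : Type*} [AddCommGroup V] [Module ℂ V] [FiniteDimensional ℂ V]
    [AddCommGroup W] [Module ℂ W] [FiniteDimensional ℂ W]
    (r : Representation ℂ G V) (r2 : Representation ℂ G W)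
    (hr : r.IsIrreducible) (hr2 : r2.IsIrreducible)
    (phi : W →ₗ[ℂ] V) (hphi : phi ≠ 0)
    (hc : ∀ g, phi ∘ₗ r2 g = r g ∘ₗ phi) :
    ∀ g, LinearMap.trace ℂ V (r g) = LinearMap.trace ℂ W (r2 g) :=
  char_eq_of_intertwiner_field r r2 hr hr2 phi hphi hc

end Cfsg.Agent.Lib.Helper9.SPW
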