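import Mathlib
import Cfsg.Prelude.Def_Local

set_option autoImplicit false

namespace Cfsg.Agent.Lib.Helper9.SRC

/-- The closure of two commuting elements of square one lies in `{1, a, b, a * b}`. -/
theorem closure_pair_subset {H : Type*} [Group H] {a b : H} (ha : a ^ 2 = 1) (hb : b ^ 2 = 1)
    (hab : a * b = b * a) :
    ((Subgroup.closure ({a, b} : Set H) : Subgroup H) : Set H) ⊆ ({1, a, b, a * b} : Set H) := by
  have haa : a * a = 1 := by rw [← sq]; exact ha
  have hbb : b * b = 1 := by rw [← sq]; exact hb
  have haz : ∀ z : H, a * (a * z) = z := fun z => by rw [← mul_assoc, haa, one_mul]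
  have hbz : ∀ z : H, b * (b * z) = z := fun z => by rw [← mul_assoc, hbb, one_mul]
  have hba : b * a = a * b := hab.symm
  have hbaz : ∀ z : H, b * (a * z) = a * (b * z) := fun z => by
    rw [← mul_assoc, hba, mul_assoc]
  have hai : a⁻¹ = a := inv_eq_of_mul_eq_one_right haa
  have hbi : b⁻¹ = b := inv_eq_of_mul_eq_one_right hbb
  intro x hx
  induction hx using Subgroup.closure_induction with
  | mem y hy =>
    rcases hy with rfl | rfl
    · simp
    · simp
  | one => simp
  | mul y z _ _ ihy ihz =>
    simp only [Set.mem_insert_iff, Set.mem_singleton_iff] at ihy ihz ⊢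
    rcases ihy with rfl | rfl | rfl | rfl <;> rcases ihz with rfl | rfl | rfl | rfl <;>
      simp [mul_assoc, haa, hbb, haz, hbz, hba, hbaz]
  | inv y _ ihy =>
    simp only [Set.mem_insert_iff, Set.mem_singleton_iff] at ihy ⊢
    rcases ihy with rfl | rfl | rfl | rfl <;> simp [mul_inv_rev, hai, hbi, hba]

/-- U0: in a group of 2-rank at most 1, an involution `a` and a commuting element `b` with
`b ^ 2 = 1`: `b = 1` or `b = a`. -/
theorem U0 {H : Type*} [Group H] (hr : Cfsg.PRankLE 2 1 H) {a b : H}
    (ha : a ^ 2 = 1) (hb : b ^ 2 = 1) (hab : a * b = b * a) (ha1 : a ≠ 1) : b = 1 ∨ b = a := by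
  have hc : ∀ x ∈ ({a, b} : Set H), ∀ y ∈ ({a, b} : Set H), x * y = y * x := by
    intro x hx y hy
    rcases hx with rfl | rfl <;> rcases hy with rfl | rfl
    · rfl
    · exact hab
    · exact hab.symm
    · rfl
  have hA : IsMulCommutative (Subgroup.closure ({a, b} : Set H)) :=
    Subgroup.isMulCommutative_closure hc
  have hsub := closure_pair_subset ha hb hab
  have hexp : ∀ x ∈ Subgroup.closure ({a, b} : Set H), x ^ 2 = 1 := by
    intro x hx
    have h := hsub hx
    simp only [Set.mem_insert_iff, Set.mem_singleton_iff] at h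
    rcases h with rfl | rfl | rfl | rfl
    · simp
    · exact ha
    · exact hb
    · rw [(show Commute a b from hab).mul_pow, ha, hb, one_mul]
  have hcard : Nat.card (Subgroup.closure ({a, b} : Set H)) ≤ 2 ^ 1 := hr _ hA hexp
  have hfin : (((Subgroup.closure ({a, b} : Set H) : Subgroup H) : Set H)).Finite :=
    Set.Finite.subset (by simp) hsub
  haveI : Finite ↥(Subgroup.closure ({a, b} : Set H)) := hfin.to_subtype
  have htA : a ∈ Subgroup.closure ({a, b} : Set H) := Subgroup.subset_closure (by simp)
  have hkA : b ∈ Subgroup.closure ({a, b} : Set H) := Subgroup.subset_closure (by simp)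
  have hz : Subgroup.zpowers a ≤ Subgroup.closure ({a, b} : Set H) := by
    rw [Subgroup.zpowers_le]; exact htA
  have hord : orderOf a = 2 := orderOf_eq_prime ha ha1
  have hzc : Nat.card (Subgroup.zpowers a) = 2 := by rw [Nat.card_zpowers, hord]
  have heq : Subgroup.zpowers a = Subgroup.closure ({a, b} : Set H) := by
    apply Subgroup.eq_of_le_of_card_ge hz
    rw [hzc]; simpa using hcard
  have hkz : b ∈ Subgroup.zpowers a := heq ▸ hkA
  rw [Subgroup.mem_zpowers_iff] at hkz
  obtain ⟨n, rfl⟩ := hkz
  rcases Int.emod_two_eq_zero_or_one n with h | h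
  · left
    rw [← zpow_mod_orderOf, hord]
    simp [h]
  · right
    rw [← zpow_mod_orderOf, hord]
    simp [h]

end Cfsg.Agent.Lib.Helper9.SRC
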