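import Mathlib
import Cfsg.Prelude.Def_Local

set_option autoImplicit false

namespace Cfsg.Agent.Lib.Helper9.SRCU14

/-- (U1 core) In a tightly embedded subgroup `K`, the centralizer of an involution of `K`
lies in the normalizer of `K`. -/
theorem centralizer_le_normalizer_of_tight {X : Type*} [Group X] [Finite X] (K : Subgroup X)
    (hK : Cfsg.IsTightlyEmbedded K) (t : X) (ht : orderOf t = 2) (htK : t ∈ K) (x : X)
    (hx : x * t = t * x) : x ∈ Subgroup.normalizer (K : Set X) := by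
  by_contra hxn
  have hodd := hK.2 x hxn
  have htmem : t ∈ K ⊓ K.map (MulAut.conj x).toMonoidHom := by
    refine ⟨htK, ?_⟩
    refine ⟨t, htK, ?_⟩
    show x * t * x⁻¹ = t
    rw [hx, mul_inv_cancel_right]
  have hdvd : orderOf (⟨t, htmem⟩ : ↥(K ⊓ K.map (MulAut.conj x).toMonoidHom)) ∣
      Nat.card ↥(K ⊓ K.map (MulAut.conj x).toMonoidHom) := orderOf_dvd_natCard _
  rw [Subgroup.orderOf_mk, ht] at hdvd
  exact (Nat.not_even_iff_odd.mpr hodd) (even_iff_two_dvd.mpr hdvd)

/-- Elements of `P ⊔ C(P)` are products `p * k`. -/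
theorem mem_sup_centralizer {X : Type*} [Group X] (P : Subgroup X) (s : X)
    (hs : s ∈ P ⊔ Subgroup.centralizer (P : Set X)) :
    ∃ p ∈ P, ∃ k ∈ Subgroup.centralizer (P : Set X), s = p * k := by
  have hcomm : ∀ p ∈ P, ∀ k ∈ Subgroup.centralizer (P : Set X), k * p = p * k := by
    intro p hp k hk
    exact (Subgroup.mem_centralizer_iff.mp hk p hp).symm
  let Q : Subgroup X :=
    { carrier := {x | ∃ p ∈ P, ∃ k ∈ Subgroup.centralizer (P : Set X), x = p * k}
      one_mem' := ⟨1, P.one_mem, 1, Subgroup.one_mem _, by simp⟩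
      mul_mem' := by
        rintro a b ⟨p, hp, k, hk, rfl⟩ ⟨p', hp', k', hk', rfl⟩
        refine ⟨p * p', P.mul_mem hp hp', k * k', Subgroup.mul_mem _ hk hk', ?_⟩
        calc p * k * (p' * k') = p * (k * p') * k' := by group
          _ = p * (p' * k) * k' := by rw [hcomm p' hp' k hk]
          _ = p * p' * (k * k') := by group
      inv_mem' := by
        rintro a ⟨p, hp, k, hk, rfl⟩
        refine ⟨p⁻¹, P.inv_mem hp, k⁻¹, Subgroup.inv_mem _ hk, ?_⟩
        rw [mul_inv_rev]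
        exact hcomm p⁻¹ (P.inv_mem hp) k⁻¹ (Subgroup.inv_mem _ hk) }
  have hle : P ⊔ Subgroup.centralizer (P : Set X) ≤ Q := by
    refine sup_le ?_ ?_
    · intro p hp
      exact ⟨p, hp, 1, Subgroup.one_mem _, by simp⟩
    · intro k hk
      exact ⟨1, P.one_mem, k, hk, by simp⟩
  exact hle hs

/-- Squares in the closure of two commuting involutions are trivial. -/
theorem sq_eq_one_of_mem_closure_pair {G : Type*} [Group G] (a b : G) (ha : a ^ 2 = 1)
    (hb : b ^ 2 = 1) (hab : a * b = b * a) :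
    ∀ x ∈ Subgroup.closure ({a, b} : Set G), x ^ 2 = 1 := by
  have hc : ∀ x ∈ ({a, b} : Set G), ∀ y ∈ ({a, b} : Set G), x * y = y * x := by
    intro x hx y hy
    rcases hx with rfl | rfl <;> rcases hy with rfl | rfl
    · rfl
    · exact hab
    · exact hab.symm
    · rfl
  haveI := Subgroup.isMulCommutative_closure hc
  intro x hx
  induction hx using Subgroup.closure_induction with
  | mem y hy =>
    rcases hy with rfl | rfl
    · exact ha
    · exact hb
  | one => simp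
  | mul y z hy hz ihy ihz =>
    have hyz : y * z = z * y :=
      setLike_mul_comm (s := Subgroup.closure ({a, b} : Set G)) hy hz
    rw [(show Commute y z from hyz).mul_pow, ihy, ihz, one_mul]
  | inv y hy ihy => rw [inv_pow, ihy, inv_one]

/-- In a group of 2-rank at most 1, an involution `t` and an element `k` with `k^2 = 1`
commuting with `t` satisfy `k = 1 ∨ k = t`. -/
theorem eq_one_or_eq_of_prank {G : Type*} [Group G] [Finite G] (hr : Cfsg.PRankLE 2 1 G)
    (t k : G) (ht : orderOf t = 2) (hk : k ^ 2 = 1) (htk : t * k = k * t) : k = 1 ∨ k = t := by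
  have ht2 : t ^ 2 = 1 := by rw [← ht]; exact pow_orderOf_eq_one t
  have hc : ∀ x ∈ ({t, k} : Set G), ∀ y ∈ ({t, k} : Set G), x * y = y * x := by
    intro x hx y hy
    rcases hx with rfl | rfl <;> rcases hy with rfl | rfl
    · rfl
    · exact htk
    · exact htk.symm
    · rfl
  have hA : IsMulCommutative (Subgroup.closure ({t, k} : Set G)) :=
    Subgroup.isMulCommutative_closure hc
  have hcard : Nat.card (Subgroup.closure ({t, k} : Set G)) ≤ 2 ^ 1 :=
    hr _ hA (sq_eq_one_of_mem_closure_pair t k ht2 hk htk)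
  have htA : t ∈ Subgroup.closure ({t, k} : Set G) := Subgroup.subset_closure (by simp)
  have hkA : k ∈ Subgroup.closure ({t, k} : Set G) := Subgroup.subset_closure (by simp)
  have hz : Subgroup.zpowers t ≤ Subgroup.closure ({t, k} : Set G) := by
    rw [Subgroup.zpowers_le]; exact htA
  have hzc : Nat.card (Subgroup.zpowers t) = 2 := by rw [Nat.card_zpowers, ht]
  have heq : Subgroup.zpowers t = Subgroup.closure ({t, k} : Set G) := by
    apply Subgroup.eq_of_le_of_card_ge hz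
    rw [hzc]; simpa using hcard
  have hkz : k ∈ Subgroup.zpowers t := heq ▸ hkA
  rw [Subgroup.mem_zpowers_iff] at hkz
  obtain ⟨n, rfl⟩ := hkz
  rcases Int.emod_two_eq_zero_or_one n with h | h
  · left
    rw [← zpow_mod_orderOf, ht]
    simp [h]
  · right
    rw [← zpow_mod_orderOf, ht]
    simp [h]

/-- (U4 core) Decomposition of an involution `s ∈ P C(P)` commuting with the involution
`t ∈ C(P)`, when `Z(P)` has odd order and `C(P)` has 2-rank at most 1. -/
theorem involution_decomp {X : Type*} [Group X] [Finite X] (P : Subgroup X)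
    (hZ : Odd (Nat.card ↥(Subgroup.center ↥P)))
    (hr : Cfsg.PRankLE 2 1 ↥(Subgroup.centralizer (P : Set X)))
    (t s : X) (ht : orderOf t = 2) (htP : t ∈ Subgroup.centralizer (P : Set X))
    (hs : s ^ 2 = 1) (hst : s * t = t * s)
    (hsPK : s ∈ P ⊔ Subgroup.centralizer (P : Set X)) :
    ∃ p ∈ P, p ^ 2 = 1 ∧ (s = p ∨ s = p * t) := by
  obtain ⟨p0, hp0, k0, hk0, rfl⟩ := mem_sup_centralizer P s hsPK
  have hpk : Commute p0 k0 := (Subgroup.mem_centralizer_iff.mp hk0 p0 hp0)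
  -- p0^2 * k0^2 = 1
  have h1 : p0 ^ 2 * k0 ^ 2 = 1 := by rw [← hpk.mul_pow]; exact hs
  -- p0^2 is in the centre of P
  have hp2c : p0 ^ 2 ∈ Subgroup.centralizer (P : Set X) := by
    have : p0 ^ 2 = (k0 ^ 2)⁻¹ := eq_inv_of_mul_eq_one_left h1
    rw [this]
    exact Subgroup.inv_mem _ (Subgroup.pow_mem _ hk0 2)
  set r := Nat.card ↥(Subgroup.center ↥P) with hrdef
  have hzmem : (⟨p0 ^ 2, P.pow_mem hp0 2⟩ : ↥P) ∈ Subgroup.center ↥P := by
    rw [Subgroup.mem_center_iff]
    intro y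
    apply Subtype.ext
    show (y : X) * p0 ^ 2 = p0 ^ 2 * (y : X)
    exact (Subgroup.mem_centralizer_iff.mp hp2c y y.2)
  have hpr : (p0 ^ 2) ^ r = 1 := by
    have hdvd : orderOf (p0 ^ 2) ∣ r := by
      have h := orderOf_dvd_natCard
        (⟨⟨p0 ^ 2, P.pow_mem hp0 2⟩, hzmem⟩ : ↥(Subgroup.center ↥P))
      rwa [Subgroup.orderOf_mk, Subgroup.orderOf_mk] at h
    exact orderOf_dvd_iff_pow_eq_one.mp hdvd
  have hkr : (k0 ^ 2) ^ r = 1 := by
    have : k0 ^ 2 = (p0 ^ 2)⁻¹ := eq_inv_of_mul_eq_one_right h1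
    rw [this, inv_pow, hpr, inv_one]
  obtain ⟨j, hj⟩ := hZ
  -- p := p0^r, k := k0^r
  have hp2 : (p0 ^ r) ^ 2 = 1 := by rw [← pow_mul, mul_comm, pow_mul]; exact hpr
  have hk2 : (k0 ^ r) ^ 2 = 1 := by rw [← pow_mul, mul_comm, pow_mul]; exact hkr
  have hsr : (p0 * k0) ^ r = p0 * k0 := by
    rw [hj, pow_succ, pow_mul, hs, one_pow, one_mul]
  have hprod : p0 ^ r * k0 ^ r = p0 * k0 := by rw [← hpk.mul_pow]; exact hsr
  have hpP : p0 ^ r ∈ P := P.pow_mem hp0 r
  have hkK : k0 ^ r ∈ Subgroup.centralizer (P : Set X) := Subgroup.pow_mem _ hk0 r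
  -- t commutes with p and with s, hence with k
  have htp : t * p0 ^ r = p0 ^ r * t := (Subgroup.mem_centralizer_iff.mp htP _ hpP).symm
  have htk : t * k0 ^ r = k0 ^ r * t := by
    have hk_eq : k0 ^ r = (p0 ^ r)⁻¹ * (p0 * k0) := by rw [← hprod]; group
    have htpi : t * (p0 ^ r)⁻¹ = (p0 ^ r)⁻¹ * t := by
      have := htp
      calc t * (p0 ^ r)⁻¹ = (p0 ^ r)⁻¹ * (p0 ^ r * t) * (p0 ^ r)⁻¹ := by group
        _ = (p0 ^ r)⁻¹ * (t * p0 ^ r) * (p0 ^ r)⁻¹ := by rw [htp]
        _ = (p0 ^ r)⁻¹ * t := by group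
    rw [hk_eq]
    calc t * ((p0 ^ r)⁻¹ * (p0 * k0)) = (t * (p0 ^ r)⁻¹) * (p0 * k0) := by group
      _ = (p0 ^ r)⁻¹ * t * (p0 * k0) := by rw [htpi]
      _ = (p0 ^ r)⁻¹ * (t * (p0 * k0)) := by group
      _ = (p0 ^ r)⁻¹ * ((p0 * k0) * t) := by rw [hst]
      _ = (p0 ^ r)⁻¹ * (p0 * k0) * t := by group
  -- apply the rank bound inside C(P)
  have hcase := eq_one_or_eq_of_prank hr (⟨t, htP⟩ : ↥(Subgroup.centralizer (P : Set X)))
    ⟨k0 ^ r, hkK⟩ (by rw [Subgroup.orderOf_mk]; exact ht)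
    (by apply Subtype.ext; simpa using hk2)
    (by apply Subtype.ext; simpa using htk)
  refine ⟨p0 ^ r, hpP, hp2, ?_⟩
  rcases hcase with h | h
  · left
    have hk1 : k0 ^ r = 1 := by simpa using congrArg Subtype.val h
    rw [← hprod, hk1, mul_one]
  · right
    have hkt : k0 ^ r = t := by simpa using congrArg Subtype.val h
    rw [← hprod, hkt]

end Cfsg.Agent.Lib.Helper9.SRCU14
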