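import Mathlib
import Cfsg.Prelude.Def_Local
import Cfsg.Agent.Lib.Helper9.SRCU14

set_option autoImplicit false

namespace Cfsg.Agent.Lib.Helper9.SRC

/-- U4: an involution `s ≠ t` of `P C_X(P)` commuting with the involution `t ∈ C_X(P)` is
`p` or `p t` for an involution `p ∈ P`. -/
theorem U4 {X : Type*} [Group X] [Finite X] (P : Subgroup X)
    (hr : Cfsg.PRankLE 2 1 ↥(Subgroup.centralizer (P : Set X)))
    (hZ : Odd (Nat.card ↥(Subgroup.center ↥P)))
    (t : X) (ht : orderOf t = 2) (htP : t ∈ Subgroup.centralizer (P : Set X))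
    (s : X) (hs : orderOf s = 2) (hst : s * t = t * s) (hne : s ≠ t)
    (hsPK : s ∈ P ⊔ Subgroup.centralizer (P : Set X)) :
    ∃ p ∈ P, orderOf p = 2 ∧ (s = p ∨ s = p * t) := by
  have hs2 : s ^ 2 = 1 := by rw [← hs]; exact pow_orderOf_eq_one s
  obtain ⟨p, hpP, hp2, hcase⟩ :=
    Cfsg.Agent.Lib.Helper9.SRCU14.involution_decomp P hZ hr t s ht htP hs2 hst hsPK
  refine ⟨p, hpP, ?_, hcase⟩
  apply orderOf_eq_prime hp2
  intro hp1
  rcases hcase with h | h
  · rw [hp1] at h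
    rw [h, orderOf_one] at hs
    omega
  · rw [hp1, one_mul] at h
    exact hne h

end Cfsg.Agent.Lib.Helper9.SRC
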