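import Cfsg.Agent.Lib.Helper9.SSC
import Cfsg.Agent.Lib.Helper9.OutG
import Cfsg.Agent.Lib.Helper9.OrbCert0

set_option autoImplicit false
set_option linter.unusedSectionVars false
set_option linter.unusedVariables false

/-! Signed words: substitution of signed words for the letters of a word in two generators, and a
search-tree certificate for the distinctness of a list of numbers. -/

namespace Cfsg.Agent.Lib.Helper9.SSE

open Cfsg.Agent.Lib.Helper8.SS Cfsg.Agent.Lib.Helper9.SSC Cfsg.Agent.Lib.Helper9.OutG
  Cfsg.Agent.Lib.Helper9.OrbCert0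

variable {n : ℕ} [NeZero n] {pN pM : ℕ → ℕ} {np : ℕ}

/-- the inverse of a signed word -/
def invS (w : List (ℕ × Bool)) : List (ℕ × Bool) := w.reverse.map (fun l => (l.1, !l.2))

theorem prodS_invS (w : List (ℕ × Bool)) :
    prodS n pN pM (invS w) = (prodS n pN pM w)⁻¹ := prodS_inv w

theorem invS_lt {w : List (ℕ × Bool)} (h : ∀ l ∈ w, l.1 < np) : ∀ l ∈ invS w, l.1 < np := by
  intro l hl
  unfold invS at hl
  rw [List.mem_map] at hl
  obtain ⟨l', hl', rfl⟩ := hl
  exact h l' (List.mem_reverse.mp hl')

/-- substitute signed words for the letters of a word in two generators -/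
def expand (wx wr : List (ℕ × Bool)) : List ℕ → List (ℕ × Bool)
  | [] => []
  | c :: w => (bif Nat.beq c 0 then wx else bif Nat.beq c 1 then invS wx else wr) ++
      expand wx wr w

theorem prodS_expand (wx wr : List (ℕ × Bool)) (w : List ℕ) :
    prodS n pN pM (expand wx wr w) = evalG (prodS n pN pM wx) (prodS n pN pM wr) w := by
  induction w with
  | nil => rfl
  | cons c w ih =>
    show prodS n pN pM (_ ++ expand wx wr w) = _
    rw [prodS_append, ih, evalG_cons]
    congr 1
    cases Nat.beq c 0
    · cases Nat.beq c 1
      · rfl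
      · exact prodS_invS wx
    · rfl

theorem expand_lt {wx wr : List (ℕ × Bool)} (hx : ∀ l ∈ wx, l.1 < np) (hr : ∀ l ∈ wr, l.1 < np)
    (w : List ℕ) : ∀ l ∈ expand wx wr w, l.1 < np := by
  induction w with
  | nil => intro l hl; simp [expand] at hl
  | cons c w ih =>
    intro l hl
    have hl' : l ∈ (bif Nat.beq c 0 then wx else bif Nat.beq c 1 then invS wx else wr) ++
      expand wx wr w := hl
    rcases List.mem_append.mp hl' with h | h
    · cases h0 : Nat.beq c 0
      · rw [h0, cond_false] at h
        cases h1 : Nat.beq c 1
        · rw [h1, cond_false] at h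
          exact hr l h
        · rw [h1, cond_true] at h
          exact invS_lt hx l h
      · rw [h0, cond_true] at h
        exact hx l h
    · exact ih l h

/-- the entries of the list are attached to their positions in the tree -/
def idxB (T : BT) : List ℕ → ℕ → Bool
  | [], _ => true
  | c :: cs, i => Nat.beq (T.look c) i && idxB T cs (i + 1)

theorem idxB_get (T : BT) : ∀ (l : List ℕ) (i : ℕ), idxB T l i = true →
    ∀ (j : ℕ) (hj : j < l.length), T.look l[j] = i + j := by
  intro l
  induction l with
  | nil => intro i _ j hj; simp at hj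
  | cons c cs ih =>
    intro i h j hj
    unfold idxB at h
    rw [Bool.and_eq_true] at h
    cases j with
    | zero => simpa using Nat.eq_of_beq_eq_true h.1
    | succ j =>
      have := ih (i + 1) h.2 j (by simpa using hj)
      simp only [List.getElem_cons_succ]
      rw [this]; ring

theorem nodup_of_idxB (T : BT) (l : List ℕ) (h : idxB T l 0 = true) : l.Nodup := by
  rw [List.nodup_iff_injective_get]
  intro a b hab
  have h1 := idxB_get T l 0 h a.1 a.2
  have h2 := idxB_get T l 0 h b.1 b.2
  have e : l[a.1] = l[b.1] := by simpa [List.get_eq_getElem] using hab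
  rw [e] at h1
  exact Fin.ext (by omega)

end Cfsg.Agent.Lib.Helper9.SSE
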