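import Mathlib
import Cfsg.Prelude.Def_Local
import Cfsg.Agent.Lib.Helper9.HDCaseA

set_option autoImplicit false

namespace Cfsg.Agent.Lib.Helper9.SSX

open Cfsg

/-- V0: cyclic Sylow 2-subgroups give 2-rank at most 1. -/
theorem V0 {H : Type*} [Group H] [Finite H]
    (hcyc : ∀ R : Sylow 2 H, IsCyclic ↥(R : Subgroup H)) : Cfsg.PRankLE 2 1 H := by
  intro A _ hexp
  have hA : IsPGroup 2 ↥A := by
    intro g
    refine ⟨1, ?_⟩
    apply Subtype.ext
    have := hexp g.1 g.2
    simpa using this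
  obtain ⟨Q, hQ⟩ := hA.exists_le_sylow
  haveI := hcyc Q
  have := Cfsg.Agent.Lib.Helper9.HDCaseA.card_le_two_of_le_cyclic (Q : Subgroup H) A hQ hexp
  simpa using this

end Cfsg.Agent.Lib.Helper9.SSX
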