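import Mathlib
import Cfsg.Prelude.Def_Local

set_option autoImplicit false

namespace Cfsg.Agent.Lib.Helper9.SSX

open Cfsg

/-- An involutive self-map of a finite type of even cardinality with a fixed point has a second
fixed point. -/
theorem exists_other_fixed {α : Type*} [Fintype α] [DecidableEq α] (f : α → α)
    (hf : ∀ x, f (f x) = x) (hα : Even (Fintype.card α)) (x₀ : α) (hx₀ : f x₀ = x₀) :
    ∃ x, x ≠ x₀ ∧ f x = x := by
  haveI : Fact (Nat.Prime 2) := ⟨Nat.prime_two⟩
  let g : Function.End α := f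
  have hg : g ^ 2 ^ 1 = 1 := by
    rw [pow_one, sq]
    funext x
    exact hf x
  have h1 := Equiv.Perm.card_fixedPoints_modEq (p := 2) (n := 1) hg
  have h2 : Even (Fintype.card ↥(Function.fixedPoints g)) := by
    rw [Nat.even_iff] at hα ⊢
    have := h1.symm
    unfold Nat.ModEq at this
    rw [this]; exact hα
  have h3 : 1 < Fintype.card ↥(Function.fixedPoints g) := by
    have hpos : 0 < Fintype.card ↥(Function.fixedPoints g) :=
      Fintype.card_pos_iff.mpr ⟨⟨x₀, hx₀⟩⟩
    obtain ⟨k, hk⟩ := h2
    omega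
  obtain ⟨⟨x, hx⟩, hne⟩ := Fintype.exists_ne_of_one_lt_card h3 ⟨x₀, hx₀⟩
  refine ⟨x, ?_, hx⟩
  intro h
  apply hne
  exact Subtype.ext h

/-- V2 (INV): a subgroup of even order normalized by an involution `t` contains an involution
commuting with `t`. -/
theorem V2 {G : Type*} [Group G] [Finite G] (M : Subgroup G) (hM : Even (Nat.card ↥M))
    (t : G) (ht : orderOf t = 2) (hn : ∀ m ∈ M, t * m * t⁻¹ ∈ M) :
    ∃ z ∈ M, orderOf z = 2 ∧ z * t = t * z := by
  classical
  have ht2 : t * t = 1 := by rw [← sq, ← ht]; exact pow_orderOf_eq_one t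
  have hti : t⁻¹ = t := inv_eq_of_mul_eq_one_right ht2
  haveI : Fintype ↥M := Fintype.ofFinite _
  -- step 1: the set of solutions of g⁻¹ = g in M is even
  let F := {g : ↥M // g⁻¹ = g}
  have hFeven : Even (Fintype.card F) := by
    by_contra hodd
    -- if odd, inversion on M would have ... use exists_other_fixed contrapositive via parity
    haveI : Fact (Nat.Prime 2) := ⟨Nat.prime_two⟩
    let g : Function.End ↥M := fun x => x⁻¹
    have hg : g ^ 2 ^ 1 = 1 := by
      rw [pow_one, sq]
      funext x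
      show (x⁻¹)⁻¹ = x
      exact inv_inv x
    have h1 := Equiv.Perm.card_fixedPoints_modEq (p := 2) (n := 1) hg
    apply hodd
    have hcard : Fintype.card F = Fintype.card ↥(Function.fixedPoints g) :=
      Fintype.card_congr (Equiv.refl _)
    rw [hcard, Nat.even_iff]
    have := h1.symm
    unfold Nat.ModEq at this
    rw [this, ← Nat.even_iff, ← Nat.card_eq_fintype_card]
    exact hM
  -- step 2: conjugation by t on F
  let c : F → F := fun g =>
    ⟨⟨t * (g.1 : G) * t⁻¹, hn _ g.1.2⟩, by
      apply Subtype.ext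
      have h := congrArg (fun x : ↥M => (x : G)) g.2
      simp only [Subgroup.coe_inv] at h
      show (t * (g.1 : G) * t⁻¹)⁻¹ = t * (g.1 : G) * t⁻¹
      rw [mul_inv_rev, mul_inv_rev, inv_inv, h, mul_assoc]⟩
  have hc : ∀ x, c (c x) = x := by
    intro x
    apply Subtype.ext
    apply Subtype.ext
    show t * (t * (x.1 : G) * t⁻¹) * t⁻¹ = x.1
    rw [hti]
    calc t * (t * (x.1 : G) * t) * t = (t * t) * x.1 * (t * t) := by group
      _ = x.1 := by rw [ht2, one_mul, mul_one]
  let one : F := ⟨1, inv_one⟩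
  have hone : c one = one := by
    apply Subtype.ext
    apply Subtype.ext
    show t * ((1 : ↥M) : G) * t⁻¹ = ((1 : ↥M) : G)
    simp
  obtain ⟨z, hz1, hzc⟩ := exists_other_fixed c hc hFeven one hone
  refine ⟨(z.1 : G), z.1.2, ?_, ?_⟩
  · apply orderOf_eq_prime
    · have h := congrArg (fun x : ↥M => (x : G)) z.2
      simp only [Subgroup.coe_inv] at h
      rw [sq]
      calc (z.1 : G) * z.1 = (z.1 : G)⁻¹ * z.1 := by rw [h]
        _ = 1 := inv_mul_cancel _
    · intro h
      apply hz1
      apply Subtype.ext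
      apply Subtype.ext
      exact h
  · have h := congrArg (fun x : F => ((x.1 : ↥M) : G)) hzc
    have h' : t * (z.1 : G) * t⁻¹ = z.1 := h
    calc (z.1 : G) * t = (t * (z.1 : G) * t⁻¹) * t := by rw [h']
      _ = t * z.1 := by group

end Cfsg.Agent.Lib.Helper9.SSX
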