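import Mathlib
import Cfsg.Agent.Lib.Lead.SWDefs

/-!
Farm SW (S3211), unit C: `Setting.lower`.
For `s = a*b` (`a ∈ L₁`, `b ∈ L₂`, `a² = b² = j`) the set of square roots of `j` commuting with `s`
contains `a, a⁻¹, b, b⁻¹` and the `2 |C_{L₁}(a)|` elements `d * (x n x⁻¹)`, `d ∈ {1, j}`,
`x ∈ L₁` with `x⁻¹ a x ∈ {a', a' j}`, `a' = n b n⁻¹`.
-/

set_option autoImplicit false

namespace Cfsg.Agent.Lib.Helper9.SWc

open Cfsg.Agent.Lib.Lead.SWD

variable {G : Type*} [Group G]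

theorem conj_fix {x b : G} (h : x * b = b * x) : x * b * x⁻¹ = b := by
  rw [h, mul_assoc, mul_inv_cancel, mul_one]

theorem conj_fix' {x b : G} (h : x * b = b * x) : x⁻¹ * b * x = b := by
  rw [mul_assoc, ← h, ← mul_assoc, inv_mul_cancel, one_mul]

section basics

variable {L₁ L₂ : Subgroup G} {j n : G}

theorem j_sq (S : Setting L₁ L₂ j n) : j * j = 1 := by
  have h := pow_orderOf_eq_one j
  rw [S.hj, pow_two] at h
  exact h

theorem j_ne_one (S : Setting L₁ L₂ j n) : j ≠ 1 := by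
  intro h
  have h2 := S.hj
  rw [h, orderOf_one] at h2
  omega

theorem j_mem1 (S : Setting L₁ L₂ j n) : j ∈ L₁ := by
  have h : j ∈ L₁ ⊓ L₂ := by rw [S.hm]; exact Subgroup.mem_zpowers j
  exact h.1

theorem j_mem2 (S : Setting L₁ L₂ j n) : j ∈ L₂ := by
  have h : j ∈ L₁ ⊓ L₂ := by rw [S.hm]; exact Subgroup.mem_zpowers j
  exact h.2

theorem comm_j1 (S : Setting L₁ L₂ j n) {x : G} (hx : x ∈ L₁) : x * j = j * x := by
  have h : x ∈ Subgroup.centralizer ({j} : Set G) := S.hle (Subgroup.mem_sup_left hx)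
  rw [Subgroup.mem_centralizer_iff] at h
  exact (h j rfl).symm

theorem comm_j2 (S : Setting L₁ L₂ j n) {x : G} (hx : x ∈ L₂) : x * j = j * x := by
  have h : x ∈ Subgroup.centralizer ({j} : Set G) := S.hle (Subgroup.mem_sup_right hx)
  rw [Subgroup.mem_centralizer_iff] at h
  exact (h j rfl).symm

theorem comm_jn (S : Setting L₁ L₂ j n) : n * j = j * n := by
  have h := S.hn
  rw [Subgroup.mem_centralizer_iff] at h
  exact (h j rfl).symm

theorem n_mul_n (S : Setting L₁ L₂ j n) : n * n = j := by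
  rw [← pow_two]; exact S.hn2

theorem inter (S : Setting L₁ L₂ j n) {w : G} (h1 : w ∈ L₁) (h2 : w ∈ L₂) : w = 1 ∨ w = j := by
  have h : w ∈ Subgroup.zpowers j := by rw [← S.hm]; exact ⟨h1, h2⟩
  obtain ⟨k, rfl⟩ := Subgroup.mem_zpowers_iff.mp h
  rcases Int.even_or_odd k with ⟨m, rfl⟩ | ⟨m, rfl⟩
  · left
    rw [← two_mul, zpow_mul, zpow_two, j_sq S, one_zpow]
  · right
    rw [zpow_add, zpow_mul, zpow_two, j_sq S, one_zpow, one_mul, zpow_one]

theorem swap12 (S : Setting L₁ L₂ j n) {x : G} (hx : x ∈ L₁) : n * x * n⁻¹ ∈ L₂ := by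
  rw [← S.hswap]
  exact Subgroup.mem_map.mpr ⟨x, hx, by simp [MulAut.conj_apply]⟩

theorem swap21 (S : Setting L₁ L₂ j n) {y : G} (hy : y ∈ L₂) : n * y * n⁻¹ ∈ L₁ := by
  rw [← S.hswap] at hy
  obtain ⟨x, hx, rfl⟩ := Subgroup.mem_map.mp hy
  have h : n * ((MulAut.conj n).toMonoidHom x) * n⁻¹ = x := by
    simp only [MulEquiv.coe_toMonoidHom, MulAut.conj_apply]
    calc n * (n * x * n⁻¹) * n⁻¹ = (n * n) * x * (n * n)⁻¹ := by group
      _ = j * x * j⁻¹ := by rw [n_mul_n S]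
      _ = x := conj_fix (comm_j1 S hx).symm
  rw [h]; exact hx

theorem n_notin1 (S : Setting L₁ L₂ j n) : n ∉ L₁ := by
  intro h
  have h2 : n ∈ L₂ := by
    have := swap12 S h
    rwa [mul_assoc, mul_inv_cancel, mul_one] at this
  rcases inter S h h2 with h3 | h3
  · have := n_mul_n S
    rw [h3, one_mul] at this
    exact j_ne_one S this.symm
  · have := n_mul_n S
    rw [h3, j_sq S] at this
    exact j_ne_one S this.symm

theorem n_notin2 (S : Setting L₁ L₂ j n) : n ∉ L₂ := by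
  intro h
  have h1 : n ∈ L₁ := by
    have := swap21 S h
    rwa [mul_assoc, mul_inv_cancel, mul_one] at this
  exact n_notin1 S h1

/-- the "central" elements `1, j` -/
def IsZ (j e : G) : Prop := e = 1 ∨ e = j

theorem IsZ.mem1 (S : Setting L₁ L₂ j n) {e : G} (he : IsZ j e) : e ∈ L₁ := by
  rcases he with rfl | rfl
  · exact L₁.one_mem
  · exact j_mem1 S

theorem IsZ.mem2 (S : Setting L₁ L₂ j n) {e : G} (he : IsZ j e) : e ∈ L₂ := by
  rcases he with rfl | rfl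
  · exact L₂.one_mem
  · exact j_mem2 S

theorem IsZ.sq (S : Setting L₁ L₂ j n) {e : G} (he : IsZ j e) : e * e = 1 := by
  rcases he with rfl | rfl
  · exact one_mul 1
  · exact j_sq S

theorem IsZ.comm_n (S : Setting L₁ L₂ j n) {e : G} (he : IsZ j e) : n * e = e * n := by
  rcases he with rfl | rfl
  · rw [mul_one, one_mul]
  · exact comm_jn S

theorem IsZ.comm1 (S : Setting L₁ L₂ j n) {e : G} (he : IsZ j e) {x : G} (hx : x ∈ L₁) :
    x * e = e * x := S.hc x hx e (he.mem2 S)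

theorem IsZ.comm2 (S : Setting L₁ L₂ j n) {e : G} (he : IsZ j e) {y : G} (hy : y ∈ L₂) :
    y * e = e * y := (S.hc e (he.mem1 S) y hy).symm

theorem IsZ.mul (S : Setting L₁ L₂ j n) {d e : G} (hd : IsZ j d) (he : IsZ j e) : IsZ j (d * e) := by
  rcases hd with rfl | rfl
  · rw [one_mul]; exact he
  · rcases he with rfl | rfl
    · rw [mul_one]; exact Or.inr rfl
    · rw [j_sq S]; exact Or.inl rfl

end basics

section main

variable {L₁ L₂ : Subgroup G} {j n : G}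

/-- `x n x⁻¹` sends `b` to `a e` -/
theorem key_b (S : Setting L₁ L₂ j n) {a b x e : G} (hb : b ∈ L₂) (hx1 : x ∈ L₁) (he : IsZ j e)
    (hx : x⁻¹ * a * x = (n * b * n⁻¹) * e) :
    (x * n * x⁻¹) * b * (x * n * x⁻¹)⁻¹ = a * e := by
  have h1 : n * b * n⁻¹ = x⁻¹ * a * x * e := by
    rw [hx, mul_assoc (n * b * n⁻¹) e e, he.sq S, mul_one]
  calc (x * n * x⁻¹) * b * (x * n * x⁻¹)⁻¹ = x * (n * (x⁻¹ * b * x) * n⁻¹) * x⁻¹ := by group
    _ = x * (n * b * n⁻¹) * x⁻¹ := by rw [conj_fix' (S.hc x hx1 b hb)]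
    _ = x * (x⁻¹ * a * x * e) * x⁻¹ := by rw [h1]
    _ = a * (x * e * x⁻¹) := by group
    _ = a * e := by rw [conj_fix (he.comm1 S hx1)]

/-- `x n x⁻¹` sends `a` to `b e` -/
theorem key_a (S : Setting L₁ L₂ j n) {a b x e : G} (hb : b ∈ L₂) (hx1 : x ∈ L₁) (he : IsZ j e)
    (hx : x⁻¹ * a * x = (n * b * n⁻¹) * e) :
    (x * n * x⁻¹) * a * (x * n * x⁻¹)⁻¹ = b * e := by
  have hxb : x * (b * e) = (b * e) * x := by
    rw [← mul_assoc, S.hc x hx1 b hb, mul_assoc, he.comm1 S hx1, mul_assoc]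
  calc (x * n * x⁻¹) * a * (x * n * x⁻¹)⁻¹ = x * (n * (x⁻¹ * a * x) * n⁻¹) * x⁻¹ := by group
    _ = x * (n * ((n * b * n⁻¹) * e) * n⁻¹) * x⁻¹ := by rw [hx]
    _ = x * ((n * n) * b * (n * n)⁻¹ * (n * e * n⁻¹)) * x⁻¹ := by group
    _ = x * (j * b * j⁻¹ * e) * x⁻¹ := by rw [n_mul_n S, conj_fix (he.comm_n S)]
    _ = x * (b * e) * x⁻¹ := by rw [conj_fix (comm_j2 S hb).symm]
    _ = b * e := conj_fix hxb

/-- the elements `d * (x n x⁻¹)` are square roots of `j` commuting with `a*b` -/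
theorem mem_T (S : Setting L₁ L₂ j n) {a b x e d : G} (ha : a ∈ L₁) (hb : b ∈ L₂) (hx1 : x ∈ L₁)
    (he : IsZ j e) (hd : IsZ j d) (hx : x⁻¹ * a * x = (n * b * n⁻¹) * e) :
    (d * (x * n * x⁻¹)) ^ 2 = j ∧ (d * (x * n * x⁻¹)) * (a * b) = (a * b) * (d * (x * n * x⁻¹)) := by
  have hab : a * b = b * a := S.hc a ha b hb
  -- d commutes with r₀
  have hdx : x * d = d * x := hd.comm1 S hx1
  have hdr : d * (x * n * x⁻¹) = (x * n * x⁻¹) * d := by
    have c1 : Commute d x := hdx.symm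
    have c2 : Commute d n := (hd.comm_n S).symm
    exact ((c1.mul_right c2).mul_right c1.inv_right).eq
  constructor
  · calc (d * (x * n * x⁻¹)) ^ 2 = d * ((x * n * x⁻¹) * d) * (x * n * x⁻¹) := by
          rw [pow_two]; group
      _ = d * (d * (x * n * x⁻¹)) * (x * n * x⁻¹) := by rw [hdr]
      _ = (d * d) * (x * (n * n) * x⁻¹) := by group
      _ = x * j * x⁻¹ := by rw [hd.sq S, n_mul_n S, one_mul]
      _ = j := conj_fix (comm_j1 S hx1)
  · have hA := key_a S hb hx1 he hx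
    have hB := key_b S hb hx1 he hx
    have hea : e * a = a * e := (he.comm1 S ha).symm
    have hconj : (x * n * x⁻¹) * (a * b) * (x * n * x⁻¹)⁻¹ = a * b := by
      calc (x * n * x⁻¹) * (a * b) * (x * n * x⁻¹)⁻¹
          = ((x * n * x⁻¹) * a * (x * n * x⁻¹)⁻¹) * ((x * n * x⁻¹) * b * (x * n * x⁻¹)⁻¹) := by group
        _ = (b * e) * (a * e) := by rw [hA, hB]
        _ = b * (e * a) * e := by group
        _ = b * (a * e) * e := by rw [hea]
        _ = (b * a) * (e * e) := by group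
        _ = a * b := by rw [he.sq S, mul_one, hab]
    have hr : (x * n * x⁻¹) * (a * b) = (a * b) * (x * n * x⁻¹) := by
      have := mul_inv_eq_iff_eq_mul.mp hconj
      exact this
    have hda : a * d = d * a := hd.comm1 S ha
    have hdb : b * d = d * b := hd.comm2 S hb
    calc d * (x * n * x⁻¹) * (a * b) = d * ((x * n * x⁻¹) * (a * b)) := by group
      _ = d * ((a * b) * (x * n * x⁻¹)) := by rw [hr]
      _ = (d * a) * b * (x * n * x⁻¹) := by group
      _ = (a * d) * b * (x * n * x⁻¹) := by rw [hda]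
      _ = a * (d * b) * (x * n * x⁻¹) := by group
      _ = a * (b * d) * (x * n * x⁻¹) := by rw [hdb]
      _ = (a * b) * (d * (x * n * x⁻¹)) := by group

/-- fibres of `(d, x) ↦ d * (x n x⁻¹)` -/
theorem fibre (S : Setting L₁ L₂ j n) {x x' d d' : G} (hx : x ∈ L₁) (hx' : x' ∈ L₁)
    (hd : IsZ j d) (hd' : IsZ j d')
    (h : d * (x * n * x⁻¹) = d' * (x' * n * x'⁻¹)) : d = d' ∧ (x' = x ∨ x' = x * j) := by
  have he : IsZ j (d' * d) := IsZ.mul S hd' hd
  have hw1 : x'⁻¹ * x ∈ L₁ := L₁.mul_mem (L₁.inv_mem hx') hx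
  -- (d' d) * (w n w⁻¹) = n
  have hex : x' * (d' * d) = (d' * d) * x' := he.comm1 S hx'
  have h1 : (d' * d) * ((x'⁻¹ * x) * n * (x'⁻¹ * x)⁻¹) = n := by
    have h2 : (d' * d) * (x * n * x⁻¹) = x' * n * x'⁻¹ := by
      calc (d' * d) * (x * n * x⁻¹) = d' * (d * (x * n * x⁻¹)) := by group
        _ = d' * (d' * (x' * n * x'⁻¹)) := by rw [h]
        _ = (d' * d') * (x' * n * x'⁻¹) := by group
        _ = x' * n * x'⁻¹ := by rw [hd'.sq S, one_mul]
    calc (d' * d) * ((x'⁻¹ * x) * n * (x'⁻¹ * x)⁻¹)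
        = (x'⁻¹ * (x' * (d' * d)) * x'⁻¹) * (x * n * x⁻¹) * x' := by group
      _ = (x'⁻¹ * ((d' * d) * x') * x'⁻¹) * (x * n * x⁻¹) * x' := by rw [hex]
      _ = x'⁻¹ * ((d' * d) * (x * n * x⁻¹)) * x' := by group
      _ = x'⁻¹ * (x' * n * x'⁻¹) * x' := by rw [h2]
      _ = n := by group
  -- w = (d' d) * (n w n⁻¹) ∈ L₂
  have hw2 : x'⁻¹ * x ∈ L₂ := by
    have h3 : x'⁻¹ * x = (d' * d) * (n * (x'⁻¹ * x) * n⁻¹) := by
      have h4 : (x'⁻¹ * x) * n * (x'⁻¹ * x)⁻¹ = (d' * d) * n := by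
        calc (x'⁻¹ * x) * n * (x'⁻¹ * x)⁻¹
            = ((d' * d) * (d' * d)) * ((x'⁻¹ * x) * n * (x'⁻¹ * x)⁻¹) := by rw [he.sq S, one_mul]
          _ = (d' * d) * ((d' * d) * ((x'⁻¹ * x) * n * (x'⁻¹ * x)⁻¹)) := by group
          _ = (d' * d) * n := by rw [h1]
      calc x'⁻¹ * x = ((x'⁻¹ * x) * n * (x'⁻¹ * x)⁻¹) * (x'⁻¹ * x) * n⁻¹ := by group
        _ = ((d' * d) * n) * (x'⁻¹ * x) * n⁻¹ := by rw [h4]
        _ = (d' * d) * (n * (x'⁻¹ * x) * n⁻¹) := by group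
    rw [h3]
    exact L₂.mul_mem (he.mem2 S) (swap12 S hw1)
  have hwZ : IsZ j (x'⁻¹ * x) := inter S hw1 hw2
  have hwn : (x'⁻¹ * x) * n * (x'⁻¹ * x)⁻¹ = n := conj_fix (hwZ.comm_n S).symm
  rw [hwn] at h1
  have hde : d' * d = 1 := by
    exact mul_eq_right.mp h1
  constructor
  · calc d = (d' * d') * d := by rw [hd'.sq S, one_mul]
      _ = d' * (d' * d) := by group
      _ = d' := by rw [hde, mul_one]
  · rcases hwZ with h5 | h5
    · left
      have : x = x' := by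
        calc x = x' * (x'⁻¹ * x) := by group
          _ = x' := by rw [h5, mul_one]
      exact this.symm
    · right
      calc x' = x' * (j * j) := by rw [j_sq S, mul_one]
        _ = x' * j * j := by group
        _ = x' * (x'⁻¹ * x) * j := by rw [h5]
        _ = x * j := by group

theorem sqrt_notZ (S : Setting L₁ L₂ j n) {r : G} (hr : r ^ 2 = j) : ¬ IsZ j r := by
  rintro (rfl | rfl)
  · rw [one_pow] at hr; exact j_ne_one S hr.symm
  · rw [pow_two, j_sq S] at hr; exact j_ne_one S hr.symm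

theorem sqrt_inv (S : Setting L₁ L₂ j n) {r : G} (hr : r ^ 2 = j) : r⁻¹ ^ 2 = j := by
  rw [inv_pow, hr]
  exact inv_eq_of_mul_eq_one_left (j_sq S)

theorem sqrt_ne_inv (S : Setting L₁ L₂ j n) {r : G} (hr : r ^ 2 = j) : r ≠ r⁻¹ := by
  intro h
  have h1 : r * r = 1 := by
    calc r * r = r * r⁻¹ := by rw [← h]
      _ = 1 := mul_inv_cancel r
  rw [pow_two, h1] at hr
  exact j_ne_one S hr.symm

theorem sqrt_ne (S : Setting L₁ L₂ j n) {r r' : G} (h1 : r ∈ L₁) (h2 : r' ∈ L₂) (hr : r ^ 2 = j) :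
    r ≠ r' := by
  rintro rfl
  exact sqrt_notZ S hr (inter S h1 h2)

theorem notin1 (S : Setting L₁ L₂ j n) {x d : G} (hx : x ∈ L₁) (hd : d ∈ L₁)
    (h : d * (x * n * x⁻¹) ∈ L₁) : False := by
  apply n_notin1 S
  have : n = x⁻¹ * (d⁻¹ * (d * (x * n * x⁻¹))) * x := by group
  rw [this]
  exact L₁.mul_mem (L₁.mul_mem (L₁.inv_mem hx) (L₁.mul_mem (L₁.inv_mem hd) h)) hx

theorem notin2 (S : Setting L₁ L₂ j n) {x d : G} (hx : x ∈ L₁) (hd : d ∈ L₂)
    (h : d * (x * n * x⁻¹) ∈ L₂) : False := by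
  apply n_notin2 S
  have hw : d⁻¹ * (d * (x * n * x⁻¹)) ∈ L₂ := L₂.mul_mem (L₂.inv_mem hd) h
  have h1 : n = x⁻¹ * (d⁻¹ * (d * (x * n * x⁻¹))) * x := by group
  rw [h1, conj_fix' (S.hc x hx _ hw)]
  exact hw

end main

/-- **Unit C** of the farm SW. -/
theorem lower [Finite G] {L₁ L₂ : Subgroup G} {j n : G} (S : Setting L₁ L₂ j n) (a b : G)
    (ha : a ∈ L₁) (hb : b ∈ L₂) (ha2 : a ^ 2 = j) (hb2 : b ^ 2 = j) :
    4 + 2 * Nat.card {x : G // x ∈ L₁ ∧ x * a = a * x} ≤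
      Nat.card {r : G // r ^ 2 = j ∧ r * (a * b) = (a * b) * r} := by
  classical
  have : Fintype G := Fintype.ofFinite G
  have hab : a * b = b * a := S.hc a ha b hb
  have ha'1 : n * b * n⁻¹ ∈ L₁ := swap21 S hb
  have ha'2 : (n * b * n⁻¹) ^ 2 = j := by
    calc (n * b * n⁻¹) ^ 2 = n * (b ^ 2) * n⁻¹ := by rw [pow_two, pow_two]; group
      _ = n * j * n⁻¹ := by rw [hb2]
      _ = j := conj_fix (comm_jn S)
  have ha'j : ((n * b * n⁻¹) * j) ^ 2 = j := by
    have hc := comm_j1 S ha'1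
    calc ((n * b * n⁻¹) * j) ^ 2 = (n * b * n⁻¹) * (j * (n * b * n⁻¹)) * j := by rw [pow_two]; group
      _ = (n * b * n⁻¹) * ((n * b * n⁻¹) * j) * j := by rw [hc]
      _ = (n * b * n⁻¹) ^ 2 * (j * j) := by rw [pow_two]; group
      _ = j := by rw [ha'2, j_sq S, mul_one]
  obtain ⟨g₀, hg₀, hg₀e⟩ := S.q1.conj4 a ha (n * b * n⁻¹) ha'1 ha2 ha'2
  obtain ⟨g₁, hg₁, hg₁e⟩ := S.q1.conj4 a ha ((n * b * n⁻¹) * j)
    (L₁.mul_mem ha'1 (j_mem1 S)) ha2 ha'j
  let xs : Bool → G := fun ε => if ε then g₁⁻¹ else g₀⁻¹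
  let es : Bool → G := fun ε => if ε then j else 1
  have hxs1 : ∀ ε, xs ε ∈ L₁ := by
    intro ε; cases ε
    · exact L₁.inv_mem hg₀
    · exact L₁.inv_mem hg₁
  have hes : ∀ ε, IsZ j (es ε) := by
    intro ε; cases ε
    · exact Or.inl rfl
    · exact Or.inr rfl
  have hes_inj : ∀ ε ε', es ε = es ε' → ε = ε' := by
    intro ε ε' h
    cases ε <;> cases ε'
    · rfl
    · exact absurd h.symm (j_ne_one S)
    · exact absurd h (j_ne_one S)
    · rfl
  have hxsa : ∀ ε, (xs ε)⁻¹ * a * (xs ε) = (n * b * n⁻¹) * es ε := by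
    intro ε; cases ε
    · show (g₀⁻¹)⁻¹ * a * g₀⁻¹ = (n * b * n⁻¹) * 1
      rw [inv_inv, hg₀e, mul_one]
    · show (g₁⁻¹)⁻¹ * a * g₁⁻¹ = (n * b * n⁻¹) * j
      rw [inv_inv, hg₁e]
  have hy : ∀ y, y * a = a * y → ∀ ε,
      (y * xs ε)⁻¹ * a * (y * xs ε) = (n * b * n⁻¹) * es ε := by
    intro y hya ε
    calc (y * xs ε)⁻¹ * a * (y * xs ε) = (xs ε)⁻¹ * (y⁻¹ * a * y) * xs ε := by group
      _ = (xs ε)⁻¹ * a * xs ε := by rw [conj_fix' hya]
      _ = (n * b * n⁻¹) * es ε := hxsa ε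
  -- the finsets
  set C : Finset G := Finset.univ.filter (fun x : G => x ∈ L₁ ∧ x * a = a * x) with hCdef
  set T : Finset G := Finset.univ.filter (fun r : G => r ^ 2 = j ∧ r * (a * b) = (a * b) * r)
    with hTdef
  have hC : Nat.card {x : G // x ∈ L₁ ∧ x * a = a * x} = C.card := by
    rw [Nat.card_eq_fintype_card, Fintype.card_subtype]
  have hT : Nat.card {r : G // r ^ 2 = j ∧ r * (a * b) = (a * b) * r} = T.card := by
    rw [Nat.card_eq_fintype_card, Fintype.card_subtype]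
  rw [hC, hT]
  have memC : ∀ x, x ∈ C ↔ x ∈ L₁ ∧ x * a = a * x := by
    intro x; simp [hCdef]
  have memT : ∀ r, r ∈ T ↔ r ^ 2 = j ∧ r * (a * b) = (a * b) * r := by
    intro r; simp [hTdef]
  let g : G × Bool × Bool → G :=
    fun p => es p.2.2 * ((p.1 * xs p.2.1) * n * (p.1 * xs p.2.1)⁻¹)
  set D : Finset (G × Bool × Bool) := C ×ˢ (Finset.univ : Finset (Bool × Bool)) with hDdef
  have hDcard : D.card = C.card * 4 := by
    rw [hDdef, Finset.card_product]
    rfl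
  have memD : ∀ p : G × Bool × Bool, p ∈ D ↔ p.1 ∈ C := by
    intro p; simp [hDdef]
  set Img : Finset G := D.image g with hImgdef
  have hImgT : Img ⊆ T := by
    intro v hv
    obtain ⟨p, hp, rfl⟩ := Finset.mem_image.mp hv
    have hp1 := (memC _).mp ((memD p).mp hp)
    rw [memT]
    exact mem_T S ha hb (L₁.mul_mem hp1.1 (hxs1 _)) (hes _) (hes _) (hy _ hp1.2 _)
  -- the four elements
  have hTa : a ∈ T := by
    rw [memT]; refine ⟨ha2, ?_⟩
    calc a * (a * b) = a * (b * a) := by rw [hab]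
      _ = (a * b) * a := by group
  have hTb : b ∈ T := by
    rw [memT]; refine ⟨hb2, ?_⟩
    calc b * (a * b) = (b * a) * b := by group
      _ = (a * b) * b := by rw [hab]
  have hTinv : ∀ r, r ∈ T → r⁻¹ ∈ T := by
    intro r hr
    rw [memT] at hr ⊢
    refine ⟨sqrt_inv S hr.1, ?_⟩
    have c : Commute r (a * b) := hr.2
    exact c.inv_left.eq
  set S₀ : Finset G := {a, a⁻¹, b, b⁻¹} with hS₀def
  have hS₀T : S₀ ⊆ T := by
    intro v hv
    simp only [hS₀def, Finset.mem_insert, Finset.mem_singleton] at hv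
    rcases hv with rfl | rfl | rfl | rfl
    · exact hTa
    · exact hTinv _ hTa
    · exact hTb
    · exact hTinv _ hTb
  have hai2 : a⁻¹ ^ 2 = j := sqrt_inv S ha2
  have hS₀card : S₀.card = 4 := by
    have h1 : a ≠ a⁻¹ := sqrt_ne_inv S ha2
    have h2 : a ≠ b := sqrt_ne S ha hb ha2
    have h3 : a ≠ b⁻¹ := sqrt_ne S ha (L₂.inv_mem hb) ha2
    have h4 : a⁻¹ ≠ b := sqrt_ne S (L₁.inv_mem ha) hb hai2
    have h5 : a⁻¹ ≠ b⁻¹ := sqrt_ne S (L₁.inv_mem ha) (L₂.inv_mem hb) hai2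
    have h6 : b ≠ b⁻¹ := sqrt_ne_inv S hb2
    rw [hS₀def, Finset.card_insert_of_notMem, Finset.card_insert_of_notMem,
      Finset.card_insert_of_notMem, Finset.card_singleton]
    · simp [h6]
    · simp [h4, h5]
    · simp [h1, h2, h3]
  have hdisj : Disjoint S₀ Img := by
    rw [Finset.disjoint_left]
    intro v hv hv'
    obtain ⟨p, hp, hpv⟩ := Finset.mem_image.mp hv'
    have hp1 := (memC _).mp ((memD p).mp hp)
    have hx : p.1 * xs p.2.1 ∈ L₁ := L₁.mul_mem hp1.1 (hxs1 _)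
    simp only [hS₀def, Finset.mem_insert, Finset.mem_singleton] at hv
    have hgp : g p = es p.2.2 * ((p.1 * xs p.2.1) * n * (p.1 * xs p.2.1)⁻¹) := rfl
    rcases hv with rfl | rfl | rfl | rfl
    · exact notin1 S hx ((hes _).mem1 S) (by rw [← hgp, hpv]; exact ha)
    · exact notin1 S hx ((hes _).mem1 S) (by rw [← hgp, hpv]; exact L₁.inv_mem ha)
    · exact notin2 S hx ((hes _).mem2 S) (by rw [← hgp, hpv]; exact hb)
    · exact notin2 S hx ((hes _).mem2 S) (by rw [← hgp, hpv]; exact L₂.inv_mem hb)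
  -- fibres
  have hfib : D.card ≤ 2 * Img.card := by
    apply Finset.card_le_mul_card_image D 2
    intro v hv
    obtain ⟨p, hp, hpv⟩ := Finset.mem_image.mp hv
    have hp1 := (memC _).mp ((memD p).mp hp)
    have hsub : D.filter (fun q => g q = v) ⊆ {p, (p.1 * j, p.2.1, p.2.2)} := by
      intro q hq
      rw [Finset.mem_filter] at hq
      have hq1 := (memC _).mp ((memD q).mp hq.1)
      have hxp : p.1 * xs p.2.1 ∈ L₁ := L₁.mul_mem hp1.1 (hxs1 _)
      have hxq : q.1 * xs q.2.1 ∈ L₁ := L₁.mul_mem hq1.1 (hxs1 _)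
      have heq : es p.2.2 * ((p.1 * xs p.2.1) * n * (p.1 * xs p.2.1)⁻¹)
          = es q.2.2 * ((q.1 * xs q.2.1) * n * (q.1 * xs q.2.1)⁻¹) := by
        show g p = g q
        rw [hpv, hq.2]
      obtain ⟨h1, h2⟩ := fibre S hxp hxq (hes _) (hes _) heq
      have hδ : p.2.2 = q.2.2 := hes_inj _ _ h1
      have hap := hy p.1 hp1.2 p.2.1
      have haq := hy q.1 hq1.2 q.2.1
      -- both cases give the same conjugate of a
      have hsame : (q.1 * xs q.2.1)⁻¹ * a * (q.1 * xs q.2.1)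
          = (p.1 * xs p.2.1)⁻¹ * a * (p.1 * xs p.2.1) := by
        rcases h2 with h2 | h2
        · rw [h2]
        · rw [h2]
          have hm : (p.1 * xs p.2.1)⁻¹ * a * (p.1 * xs p.2.1) ∈ L₁ :=
            L₁.mul_mem (L₁.mul_mem (L₁.inv_mem hxp) ha) hxp
          have hc := comm_j1 S hm
          calc (p.1 * xs p.2.1 * j)⁻¹ * a * (p.1 * xs p.2.1 * j)
              = j⁻¹ * (((p.1 * xs p.2.1)⁻¹ * a * (p.1 * xs p.2.1)) * j) := by group
            _ = j⁻¹ * (j * ((p.1 * xs p.2.1)⁻¹ * a * (p.1 * xs p.2.1))) := by rw [hc]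
            _ = (p.1 * xs p.2.1)⁻¹ * a * (p.1 * xs p.2.1) := by group
      have hε : p.2.1 = q.2.1 := by
        apply hes_inj
        rw [hap, haq] at hsame
        exact (mul_left_cancel hsame).symm
      rw [Finset.mem_insert, Finset.mem_singleton]
      rcases h2 with h2 | h2
      · left
        have : q.1 = p.1 := by
          rw [← hε] at h2
          exact mul_right_cancel h2
        exact Prod.ext this (Prod.ext hε.symm hδ.symm)
      · right
        have : q.1 = p.1 * j := by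
          rw [← hε] at h2
          have hc := comm_j1 S (hxs1 p.2.1)
          have h3 : q.1 * xs p.2.1 = (p.1 * j) * xs p.2.1 := by
            rw [h2]
            calc p.1 * xs p.2.1 * j = p.1 * (xs p.2.1 * j) := by group
              _ = p.1 * (j * xs p.2.1) := by rw [hc]
              _ = (p.1 * j) * xs p.2.1 := by group
          exact mul_right_cancel h3
        exact Prod.ext this (Prod.ext hε.symm hδ.symm)
    calc (D.filter (fun q => g q = v)).card ≤ ({p, (p.1 * j, p.2.1, p.2.2)} : Finset _).card :=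
          Finset.card_le_card hsub
      _ ≤ 2 := Finset.card_le_two
  have hunion : (S₀ ∪ Img).card ≤ T.card := Finset.card_le_card (Finset.union_subset hS₀T hImgT)
  rw [Finset.card_union_of_disjoint hdisj, hS₀card] at hunion
  omega

end Cfsg.Agent.Lib.Helper9.SWc
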