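import Mathlib
import Cfsg.Agent.Lib.Helper9.SchurLoc2
import Cfsg.Agent.Lib.Helper9.SchurLoc3
import Cfsg.Agent.Lib.Helper9.M24P9
import Cfsg.Agent.Lib.Helper2.M11Fus4
import Cfsg.Agent.S3979
import Cfsg.Agent.Lib.Helper9.G42E

set_option autoImplicit false

/-! The Schur multiplier of `M₁₁` is trivial. -/

namespace Cfsg.Agent.Lib.Helper9.SchurM11

open Cfsg Cfsg.Agent.Lib.Helper9.SchurLoc Cfsg.Agent.Lib.Helper2.M11Fus
  Cfsg.Agent.Lib.Helper9.M24T1 Cfsg.Agent.Lib.Helper9.M24T9 Cfsg.Agent.Lib.Helper9.M24U1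
  Cfsg.Agent.Lib.Helper9.M24P6 Cfsg.Agent.Lib.Helper9.M24P9 Cfsg.Agent.Lib.Helper9.M24P1
open scoped Pointwise

/-! ### the semidihedral group of order 16 -/

def aM : M23 := !![0,1;1,1]
def bM : M23 := !![1,0;1,2]

theorem aM_mem : aM ∈ P0m := by decide +kernel
theorem bM_mem : bM ∈ P0m := by decide +kernel

def aP : ↥(P0 : Subgroup H23) :=
  ⟨Matrix.GeneralLinearGroup.mkOfDetNeZero aM (by decide +kernel), aM_mem⟩

def bP : ↥(P0 : Subgroup H23) :=
  ⟨Matrix.GeneralLinearGroup.mkOfDetNeZero bM (by decide +kernel), bM_mem⟩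

theorem P0_ext (x y : ↥(P0 : Subgroup H23)) (h : (x : H23).1 = (y : H23).1) : x = y :=
  Subtype.ext (Units.ext h)

theorem rel_ba : bP * aP * bP⁻¹ = aP ^ (2 + 1) := by
  have hb : bP⁻¹ = bP := by
    apply inv_eq_of_mul_eq_one_right
    apply P0_ext
    show bM * bM = 1
    decide +kernel
  rw [hb]
  apply P0_ext
  show bM * aM * bM = aM ^ 3
  decide +kernel

theorem rel_b2 : bP ^ 2 = aP ^ 0 := by
  apply P0_ext
  show bM ^ 2 = 1
  decide +kernel

theorem aP_pow8 : aP ^ 2 ^ (2 + 1) = 1 := by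
  apply P0_ext
  show aM ^ 8 = 1
  decide +kernel

theorem aP_pow4 : ¬ aP ^ 2 ^ 2 = 1 := by
  intro h
  have h1 : aM ^ 4 = 1 := congrArg (fun x : ↥(P0 : Subgroup H23) => (x : H23).1) h
  revert h1
  decide +kernel

theorem orderOf_aP : orderOf aP = 8 := orderOf_eq_prime_pow aP_pow4 aP_pow8

theorem closure_ab : Subgroup.closure {aP, bP} = (⊤ : Subgroup ↥(P0 : Subgroup H23)) := by
  haveI : Finite ↥(P0 : Subgroup H23) := Nat.finite_of_card_ne_zero (by rw [card_P0]; norm_num)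
  have ha : aP ∈ Subgroup.closure {aP, bP} := Subgroup.subset_closure (by simp)
  have hb : bP ∈ Subgroup.closure {aP, bP} := Subgroup.subset_closure (by simp)
  have hle : Subgroup.zpowers aP ≤ Subgroup.closure {aP, bP} := by
    rw [Subgroup.zpowers_le]
    exact ha
  have hb' : bP ∉ Subgroup.zpowers aP := by
    intro h
    obtain ⟨k, hk⟩ := Subgroup.mem_zpowers_iff.mp h
    have hcomm : bP * aP = aP * bP := by
      rw [← hk]
      exact ((Commute.refl aP).zpow_left k).eq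
    have h1 : bP * aP * bP⁻¹ = aP := by rw [hcomm, mul_inv_cancel_right]
    rw [rel_ba] at h1
    have h2 : aM ^ 3 = aM := congrArg (fun x : ↥(P0 : Subgroup H23) => (x : H23).1) h1
    revert h2
    decide +kernel
  have hlt : 8 < Nat.card (Subgroup.closure {aP, bP}) := by
    by_contra hle'
    have hcard : Nat.card (Subgroup.closure {aP, bP}) ≤ Nat.card (Subgroup.zpowers aP) := by
      rw [Nat.card_zpowers, orderOf_aP]
      omega
    have := Subgroup.eq_of_le_of_card_ge hle hcard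
    rw [this] at hb'
    exact hb' hb
  have hdvd : Nat.card (Subgroup.closure {aP, bP}) ∣ 16 := by
    rw [← card_P0]
    exact Subgroup.card_subgroup_dvd_card _
  have h16 : Nat.card (Subgroup.closure {aP, bP}) = 16 :=
    (Nat.eq_of_dvd_of_lt_two_mul (by norm_num) hdvd (by omega)).symm
  apply (Subgroup.card_eq_iff_eq_top _).mp
  rw [h16, card_P0]

theorem P0_trivial : Cfsg.HasCyclicSchurMultiplier ↥(P0 : Subgroup H23) 1 := by
  haveI : Finite ↥(P0 : Subgroup H23) := Nat.finite_of_card_ne_zero (by rw [card_P0]; norm_num)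
  apply trivial_metacyclic aP bP 8 2 0 closure_ab orderOf_aP rel_ba rel_b2
  intro i hi
  have : Nat.gcd (2 + 2) 0 = 4 := by decide
  rw [this]
  omega

/-! ### elements of order three -/

def u0 : Equiv.Perm GolayPt :=
  tperm [0, 3, 18, 8, 12, 15, 6, 21, 1, 2, 10, 7, 16, 13, 14, 22, 4, 20, 9, 17, 19, 11, 5, 23]
    [0, 8, 9, 1, 16, 22, 6, 11, 3, 18, 10, 21, 4, 13, 14, 5, 12, 19, 2, 20, 17, 7, 15, 23]
    (by decide +kernel) (by decide +kernel)

def v0 : Equiv.Perm GolayPt :=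
  tperm [0, 4, 8, 12, 18, 22, 6, 7, 16, 3, 14, 11, 9, 13, 23, 5, 2, 20, 1, 17, 19, 21, 15, 10]
    [0, 18, 16, 9, 1, 15, 6, 7, 2, 12, 23, 11, 3, 13, 10, 22, 8, 19, 4, 20, 17, 21, 5, 14]
    (by decide +kernel) (by decide +kernel)

def t0 : Equiv.Perm GolayPt :=
  tperm [0, 18, 8, 9, 4, 17, 13, 7, 2, 3, 14, 11, 12, 6, 10, 20, 16, 5, 1, 22, 15, 21, 19, 23]
    [0, 18, 8, 9, 4, 17, 13, 7, 2, 3, 14, 11, 12, 6, 10, 20, 16, 5, 1, 22, 15, 21, 19, 23]
    (by decide +kernel) (by decide +kernel)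

theorem u0_M24 : u0 ∈ M24 := tperm_mem _ _ _ _ (by decide +kernel) (by decide +kernel)
theorem v0_M24 : v0 ∈ M24 := tperm_mem _ _ _ _ (by decide +kernel) (by decide +kernel)
theorem t0_M24 : t0 ∈ M24 := tperm_mem _ _ _ _ (by decide +kernel) (by decide +kernel)

theorem u0_iff : ∀ x : GolayPt, u0 x ∈ Lsq ↔ x ∈ Lsq := by decide +kernel
theorem v0_iff : ∀ x : GolayPt, v0 x ∈ Lsq ↔ x ∈ Lsq := by decide +kernel
theorem t0_iff : ∀ x : GolayPt, t0 x ∈ Lsq ↔ x ∈ Lsq := by decide +kernel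

theorem mem_M11_of (g : Equiv.Perm GolayPt) (h1 : g ∈ M24) (h2 : ∀ x : GolayPt, g x ∈ Lsq ↔ x ∈ Lsq)
    (h3 : g (some 0) = some 0) : g ∈ Spor.M11 := by
  rw [M11_eq, Subgroup.mem_inf, mem_stabF, stab_iff, MulAction.mem_stabilizer_iff]
  refine ⟨⟨h1, fun x => ?_⟩, h3⟩
  rw [mem_sq, mem_sq]
  exact h2 x

theorem u0_mem : u0 ∈ Spor.M11 := mem_M11_of u0 u0_M24 u0_iff (by decide +kernel)
theorem v0_mem : v0 ∈ Spor.M11 := mem_M11_of v0 v0_M24 v0_iff (by decide +kernel)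
theorem t0_mem : t0 ∈ Spor.M11 := mem_M11_of t0 t0_M24 t0_iff (by decide +kernel)

theorem rel_uv : ∀ x : GolayPt, (u0 * v0) x = (v0 * u0) x := by decide +kernel
theorem rel_tu : ∀ x : GolayPt, (t0 * u0 * t0⁻¹) x = u0 x := by decide +kernel
theorem rel_tv : ∀ x : GolayPt, (t0 * v0 * t0⁻¹) x = v0⁻¹ x := by decide +kernel
theorem rel_u3 : ∀ x : GolayPt, (u0 ^ 3) x = x := by decide +kernel
theorem rel_v3 : ∀ x : GolayPt, (v0 ^ 3) x = x := by decide +kernel
theorem u0_ne : u0 (some 1) ≠ some 1 := by decide +kernel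
theorem v0_ne : v0 (some 1) ≠ (1 : Equiv.Perm GolayPt) (some 1) ∧ v0 (some 1) ≠ u0 (some 1) ∧
    v0 (some 1) ≠ (u0 ^ 2) (some 1) := by decide +kernel

def uE : ↥Spor.M11 := ⟨u0, u0_mem⟩
def vE : ↥Spor.M11 := ⟨v0, v0_mem⟩
def tE : ↥Spor.M11 := ⟨t0, t0_mem⟩

theorem E_ext (x y : ↥Spor.M11) (h : ∀ p : GolayPt, (x : Equiv.Perm GolayPt) p = (y : Equiv.Perm GolayPt) p) :
    x = y := Subtype.ext (Equiv.ext h)

theorem huv : uE * vE = vE * uE := E_ext _ _ rel_uv
theorem htu : tE * uE * tE⁻¹ = uE := E_ext _ _ rel_tu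
theorem htv : tE * vE * tE⁻¹ = vE⁻¹ := E_ext _ _ rel_tv
theorem hu3 : uE ^ 3 = 1 := E_ext _ _ rel_u3
theorem hv3 : vE ^ 3 = 1 := E_ext _ _ rel_v3

instance finite_M11 : Finite ↥Spor.M11 := Nat.finite_of_card_ne_zero (by rw [card_M11]; norm_num)

theorem good3 : StemGood (Subgroup.closure {uE, vE}) :=
  stemGood_rank2 uE vE tE huv htu htv 3 (by decide) hv3

theorem orderOf_uE : orderOf uE = 3 := by
  haveI : Fact (Nat.Prime 3) := ⟨Nat.prime_three⟩
  apply orderOf_eq_prime hu3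
  intro h
  apply u0_ne
  have := congrArg (fun x : ↥Spor.M11 => (x : Equiv.Perm GolayPt) (some 1)) h
  exact this

theorem index3 : ¬ 3 ∣ (Subgroup.closure {uE, vE}).index := by
  haveI : Fact (Nat.Prime 3) := ⟨Nat.prime_three⟩
  have hS : ∀ x ∈ ({uE, vE} : Set ↥Spor.M11), ∀ y ∈ ({uE, vE} : Set ↥Spor.M11), x * y = y * x := by
    intro x hx y hy
    rcases hx with rfl | rfl <;> rcases hy with rfl | rfl
    · rfl
    · exact huv
    · exact huv.symm
    · rfl
  have hcomm := Subgroup.isMulCommutative_closure hS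
  have hexp : ∀ x ∈ Subgroup.closure ({uE, vE} : Set ↥Spor.M11), x ^ 3 = 1 := by
    intro x hx
    induction hx using Subgroup.closure_induction with
    | mem x hx =>
      rcases hx with rfl | rfl
      · exact hu3
      · exact hv3
    | one => exact one_pow 3
    | mul x y hx hy ihx ihy =>
      have hc : Commute x y := by
        have := hcomm.is_comm.comm (⟨x, hx⟩ : ↥(Subgroup.closure ({uE, vE} : Set ↥Spor.M11))) ⟨y, hy⟩
        exact congrArg Subtype.val this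
      rw [hc.mul_pow, ihx, ihy, one_mul]
    | inv x hx ih => rw [inv_pow, ih, inv_one]
  have hp : IsPGroup 3 ↥(Subgroup.closure ({uE, vE} : Set ↥Spor.M11)) := by
    intro x
    refine ⟨1, ?_⟩
    rw [pow_one]
    exact Subtype.ext (hexp x x.2)
  obtain ⟨k, hk⟩ := hp.exists_card_eq
  have hle : Subgroup.zpowers uE ≤ Subgroup.closure {uE, vE} := by
    rw [Subgroup.zpowers_le]
    exact Subgroup.subset_closure (by simp)
  have hv : vE ∈ Subgroup.closure ({uE, vE} : Set ↥Spor.M11) := Subgroup.subset_closure (by simp)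
  have hv' : vE ∉ Subgroup.zpowers uE := by
    intro h
    rw [mem_zpowers_iff_mem_range_orderOf, orderOf_uE] at h
    obtain ⟨h1, h2, h3⟩ := v0_ne
    simp only [Finset.mem_image, Finset.mem_range] at h
    obtain ⟨j, hj, hjv⟩ := h
    have hval : (uE ^ j : ↥Spor.M11).1 (some 1) = v0 (some 1) := by rw [hjv]; rfl
    interval_cases j
    · exact h1 hval.symm
    · exact h2 (by rw [pow_one] at hval; exact hval.symm)
    · exact h3 hval.symm
  have hk2 : 2 ≤ k := by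
    by_contra hlt
    have hk1 : k ≤ 1 := by omega
    have hcard : Nat.card (Subgroup.closure ({uE, vE} : Set ↥Spor.M11)) ≤
        Nat.card (Subgroup.zpowers uE) := by
      rw [Nat.card_zpowers, orderOf_uE, hk]
      calc 3 ^ k ≤ 3 ^ 1 := Nat.pow_le_pow_right (by norm_num) hk1
        _ = 3 := by norm_num
    have := Subgroup.eq_of_le_of_card_ge hle hcard
    rw [this] at hv'
    exact hv' hv
  intro h3
  have hmul := Subgroup.card_mul_index (Subgroup.closure ({uE, vE} : Set ↥Spor.M11))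
  rw [hk, card_M11] at hmul
  have h9 : 3 ^ 2 ∣ 3 ^ k := pow_dvd_pow 3 hk2
  have h27 : 27 ∣ 7920 := by
    rw [← hmul]
    have : (27 : ℕ) = 3 ^ 2 * 3 := by norm_num
    rw [this]
    exact Nat.mul_dvd_mul h9 h3
  omega

/-! ### the main statement -/

theorem sylow_good (p : ℕ) [Fact p.Prime] (S : Sylow p ↥Spor.M11)
    (h : Cfsg.HasCyclicSchurMultiplier ↥(S : Subgroup ↥Spor.M11) 1) :
    ∃ U : Subgroup ↥Spor.M11, StemGood U ∧ ¬ p ∣ U.index :=
  ⟨S, stemGood_of_trivial _ h, S.not_dvd_index⟩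

theorem cyclic_sylow (p : ℕ) [hp : Fact p.Prime] (hfac : (7920 : ℕ).factorization p = 1)
    (S : Sylow p ↥Spor.M11) : Cfsg.HasCyclicSchurMultiplier ↥(S : Subgroup ↥Spor.M11) 1 := by
  have hcard : Nat.card ↥(S : Subgroup ↥Spor.M11) = p := by
    rw [S.card_eq_multiplicity, card_M11, hfac, pow_one]
  haveI : IsCyclic ↥(S : Subgroup ↥Spor.M11) := isCyclic_of_prime_card hcard
  exact Cfsg.Agent.S3979.result

theorem main : Cfsg.HasCyclicSchurMultiplier ↥Spor.M11 1 := by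
  apply trivial_of_good
  intro p hp hpd
  rw [card_M11] at hpd
  rcases prime_cases p hp hpd with rfl | rfl | rfl | rfl
  · haveI : Fact (Nat.Prime 2) := ⟨hp⟩
    obtain ⟨S⟩ : Nonempty (Sylow 2 ↥Spor.M11) := inferInstance
    obtain ⟨e⟩ := sylow_equiv_P0 m11_card16 (by norm_num) m11_hC S
    haveI : Finite ↥(P0 : Subgroup H23) := Nat.finite_of_card_ne_zero (by rw [card_P0]; norm_num)
    exact sylow_good 2 S (trivial_of_equiv e.symm P0_trivial)
  · exact ⟨_, good3, index3⟩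
  · haveI : Fact (Nat.Prime 5) := ⟨hp⟩
    obtain ⟨S⟩ : Nonempty (Sylow 5 ↥Spor.M11) := inferInstance
    refine sylow_good 5 S (cyclic_sylow 5 ?_ S)
    exact Cfsg.Agent.Lib.Helper9.G42.factorization_of_dvd 5 7920 1 hp (by norm_num) (by norm_num)
      (by norm_num)
  · haveI : Fact (Nat.Prime 11) := ⟨hp⟩
    obtain ⟨S⟩ : Nonempty (Sylow 11 ↥Spor.M11) := inferInstance
    refine sylow_good 11 S (cyclic_sylow 11 ?_ S)
    exact Cfsg.Agent.Lib.Helper9.G42.factorization_of_dvd 11 7920 1 hp (by norm_num) (by norm_num)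
      (by norm_num)

end Cfsg.Agent.Lib.Helper9.SchurM11
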