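import Mathlib
import Cfsg.Agent.Lib.Helper4.TC11
import Cfsg.Agent.Lib.Helper9.G23Sift

/-!
Sifting through a strong generating set certificate (`Cfsg.Agent.Lib.Helper4.TC.Sgs`) with four levels whose
orbit lengths multiply to the order of the group, and a verified check that every element of the group has
`c ^ 12 = 1`, `c ^ 9 = 1` or `c ^ 5 = 1`.
-/

set_option autoImplicit false

namespace Cfsg.Agent.Lib.Helper9.Sift4

open Cfsg.Agent.Lib.Helper4.TC Cfsg.Agent.Lib.Helper4.TC.Log Cfsg.Agent.Lib.Helper4.TC.Sgs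
  Cfsg.Agent.Lib.Helper9.Sift

/-! ### computable parts -/

/-- the action of a product of four transversal elements -/
def elt (S : Sgs) (F i0 i1 i2 i3 p : ℕ) : ℕ :=
  trAct S 0 F i0 (trAct S 1 F i1 (trAct S 2 F i2 (trAct S 3 F i3 p)))

/-- `t` applications of `c` fix the four base points -/
def fixB (S : Sgs) (c : ℕ → ℕ) (t : ℕ) : Bool :=
  band (Nat.beq (iter c t (S.beta 0)) (S.beta 0)) (band (Nat.beq (iter c t (S.beta 1)) (S.beta 1))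
    (band (Nat.beq (iter c t (S.beta 2)) (S.beta 2)) (Nat.beq (iter c t (S.beta 3)) (S.beta 3))))

/-- the twelfth, the ninth or the fifth power of the product fixes the base points -/
def ordOK (S : Sgs) (F i0 i1 i2 i3 : ℕ) : Bool :=
  bor (fixB S (elt S F i0 i1 i2 i3) 12) (bor (fixB S (elt S F i0 i1 i2 i3) 9) (fixB S (elt S F i0 i1 i2 i3) 5))

/-- all products with first factor `i0` -/
def ordAll (S : Sgs) (F i0 : ℕ) : Bool :=
  allBelow (fun i1 => allBelow (fun i2 => allBelow (fun i3 => ordOK S F i0 i1 i2 i3) (S.n 3)) (S.n 2)) (S.n 1)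

/-- the table of conjugating elements is correct at `i0`: the product of the transversal elements `j1 i0`,
`j2 i0`, `j3 i0` of the levels `1`, `2`, `3` maps the point of the node `i0` to the point of the node `rep i0` -/
def conjOK (S : Sgs) (F : ℕ) (rep j1 j2 j3 : ℕ → ℕ) (i0 : ℕ) : Bool :=
  band (Nat.ble (Nat.succ (rep i0)) (S.n 0)) (band (Nat.ble (Nat.succ (j1 i0)) (S.n 1))
    (band (Nat.ble (Nat.succ (j2 i0)) (S.n 2)) (band (Nat.ble (Nat.succ (j3 i0)) (S.n 3))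
      (Nat.beq (elt S F (S.root 0) (j1 i0) (j2 i0) (j3 i0) (S.pt 0 i0)) (S.pt 0 (rep i0))))))

/-! ### group theory -/

theorem orderOf_eq_twelve {G : Type*} [Group G] (x : G) (h12 : x ^ 12 = 1) (h6 : x ^ 6 ≠ 1) (h4 : x ^ 4 ≠ 1) :
    orderOf x = 12 := by
  have hd : orderOf x ∣ 12 := orderOf_dvd_of_pow_eq_one h12
  have hle : orderOf x ≤ 12 := Nat.le_of_dvd (by norm_num) hd
  have h6' : ¬ orderOf x ∣ 6 := fun h => h6 (orderOf_dvd_iff_pow_eq_one.1 h)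
  have h4' : ¬ orderOf x ∣ 4 := fun h => h4 (orderOf_dvd_iff_pow_eq_one.1 h)
  generalize orderOf x = o at hd hle h6' h4'
  interval_cases o <;> omega

theorem orderOf_eq_nine {G : Type*} [Group G] (x : G) (h9 : x ^ 9 = 1) (h3 : x ^ 3 ≠ 1) : orderOf x = 9 := by
  have : Fact (Nat.Prime 3) := ⟨by norm_num⟩
  have h := orderOf_eq_prime_pow (x := x) (p := 3) (n := 1) (by rw [pow_one]; exact h3) (by exact h9)
  rw [h]; norm_num

theorem orderOf_eq_five {G : Type*} [Group G] (x : G) (h5 : x ^ 5 = 1) (h1 : x ≠ 1) : orderOf x = 5 := by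
  have : Fact (Nat.Prime 5) := ⟨by norm_num⟩
  exact orderOf_eq_prime h5 h1

section sift

variable {S : Sgs} (hok : S.OK) (q0 : ℕ → Equiv.Perm (Fin S.N))
  (h0 : ∀ i, i < S.k → ∀ p : Fin S.N, (q0 i p).1 = S.tab i p.1) (hr : S.r = 4)

include hok h0 hr

theorem apply_b0 (A0 A1 A2 A3 : Equiv.Perm (Fin S.N)) (hA1 : A1 ∈ S.Gam q0 1) (hA2 : A2 ∈ S.Gam q0 2)
    (hA3 : A3 ∈ S.Gam q0 3) :
    (A0 * A1 * A2 * A3) ⟨S.beta 0, beta_lt hok 0 (by omega)⟩ = A0 ⟨S.beta 0, beta_lt hok 0 (by omega)⟩ := by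
  rw [Equiv.Perm.mul_apply, Equiv.Perm.mul_apply, Equiv.Perm.mul_apply,
    Gam_succ_fix hok q0 h0 0 (by omega) A3 (Gam_succ_le q0 1 (Gam_succ_le q0 2 hA3)),
    Gam_succ_fix hok q0 h0 0 (by omega) A2 (Gam_succ_le q0 1 hA2),
    Gam_succ_fix hok q0 h0 0 (by omega) A1 hA1]

theorem apply_b1 (A1 A2 A3 : Equiv.Perm (Fin S.N)) (hA2 : A2 ∈ S.Gam q0 2) (hA3 : A3 ∈ S.Gam q0 3) :
    (A1 * A2 * A3) ⟨S.beta 1, beta_lt hok 1 (by omega)⟩ = A1 ⟨S.beta 1, beta_lt hok 1 (by omega)⟩ := by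
  rw [Equiv.Perm.mul_apply, Equiv.Perm.mul_apply,
    Gam_succ_fix hok q0 h0 1 (by omega) A3 (Gam_succ_le q0 2 hA3),
    Gam_succ_fix hok q0 h0 1 (by omega) A2 hA2]

theorem apply_b2 (A2 A3 : Equiv.Perm (Fin S.N)) (hA3 : A3 ∈ S.Gam q0 3) :
    (A2 * A3) ⟨S.beta 2, beta_lt hok 2 (by omega)⟩ = A2 ⟨S.beta 2, beta_lt hok 2 (by omega)⟩ := by
  rw [Equiv.Perm.mul_apply, Gam_succ_fix hok q0 h0 2 (by omega) A3 hA3]

/-- the product of four transversal elements lies in the group -/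
theorem prod_mem (F i0 i1 i2 i3 : ℕ) (hi0 : i0 < S.n 0) (hi1 : i1 < S.n 1) (hi2 : i2 < S.n 2)
    (hi3 : i3 < S.n 3) :
    tr S q0 0 F i0 * tr S q0 1 F i1 * tr S q0 2 F i2 * tr S q0 3 F i3 ∈
      Subgroup.closure (q0 '' Set.Iio S.k) := by
  have hG0 : S.Gam q0 0 ≤ Subgroup.closure (q0 '' Set.Iio S.k) := Gam_zero_le hok q0 h0
  have hG1 : S.Gam q0 1 ≤ S.Gam q0 0 := Gam_succ_le q0 0
  have hG2 : S.Gam q0 2 ≤ S.Gam q0 1 := Gam_succ_le q0 1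
  have hG3 : S.Gam q0 3 ≤ S.Gam q0 2 := Gam_succ_le q0 2
  exact mul_mem (mul_mem (mul_mem (hG0 (tr_mem hok q0 0 (by omega) F _ hi0))
    (hG0 (hG1 (tr_mem hok q0 1 (by omega) F _ hi1)))) (hG0 (hG1 (hG2 (tr_mem hok q0 2 (by omega) F _ hi2)))))
    (hG0 (hG1 (hG2 (hG3 (tr_mem hok q0 3 (by omega) F _ hi3)))))

/-- every element of the group is a product of four transversal elements -/
theorem sift (F : ℕ) (hF : ∀ j, j < 4 → ∀ idx, idx < S.n j → S.dep j idx < F)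
    (hcard : Nat.card (Subgroup.closure (q0 '' Set.Iio S.k)) ≤ S.n 0 * S.n 1 * S.n 2 * S.n 3) :
    ∀ c ∈ Subgroup.closure (q0 '' Set.Iio S.k), ∃ i0, i0 < S.n 0 ∧ ∃ i1, i1 < S.n 1 ∧ ∃ i2, i2 < S.n 2 ∧
      ∃ i3, i3 < S.n 3 ∧ c = tr S q0 0 F i0 * tr S q0 1 F i1 * tr S q0 2 F i2 * tr S q0 3 F i3 := by
  have hj0 : 0 < S.r := by omega
  have hj1 : 1 < S.r := by omega
  have hj2 : 2 < S.r := by omega
  have hj3 : 3 < S.r := by omega
  let f : Fin (S.n 0) × Fin (S.n 1) × Fin (S.n 2) × Fin (S.n 3) → Subgroup.closure (q0 '' Set.Iio S.k) :=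
    fun x => ⟨tr S q0 0 F x.1.1 * tr S q0 1 F x.2.1.1 * tr S q0 2 F x.2.2.1.1 * tr S q0 3 F x.2.2.2.1,
      prod_mem hok q0 h0 hr F _ _ _ _ x.1.2 x.2.1.2 x.2.2.1.2 x.2.2.2.2⟩
  have hinj : Function.Injective f := by
    rintro ⟨a0, a1, a2, a3⟩ ⟨c0, c1, c2, c3⟩ hac
    have e : tr S q0 0 F a0.1 * tr S q0 1 F a1.1 * tr S q0 2 F a2.1 * tr S q0 3 F a3.1 =
        tr S q0 0 F c0.1 * tr S q0 1 F c1.1 * tr S q0 2 F c2.1 * tr S q0 3 F c3.1 := congrArg Subtype.val hac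
    have e0 := DFunLike.congr_fun e ⟨S.beta 0, beta_lt hok 0 hj0⟩
    rw [apply_b0 hok q0 h0 hr _ _ _ _ (tr_mem hok q0 1 hj1 F _ a1.2) (tr_mem hok q0 2 hj2 F _ a2.2)
        (tr_mem hok q0 3 hj3 F _ a3.2),
      apply_b0 hok q0 h0 hr _ _ _ _ (tr_mem hok q0 1 hj1 F _ c1.2) (tr_mem hok q0 2 hj2 F _ c2.2)
        (tr_mem hok q0 3 hj3 F _ c3.2),
      tr_base hok q0 h0 0 hj0 F _ a0.2 (hF 0 (by omega) _ a0.2),
      tr_base hok q0 h0 0 hj0 F _ c0.2 (hF 0 (by omega) _ c0.2)] at e0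
    have i0eq : a0 = c0 := Fin.ext (pt_injective hok 0 hj0 _ _ a0.2 c0.2 (congrArg Fin.val e0))
    subst i0eq
    rw [mul_assoc, mul_assoc, mul_assoc, mul_assoc] at e
    have e' := mul_left_cancel e
    rw [← mul_assoc, ← mul_assoc] at e'
    have e1 := DFunLike.congr_fun e' ⟨S.beta 1, beta_lt hok 1 hj1⟩
    rw [apply_b1 hok q0 h0 hr _ _ _ (tr_mem hok q0 2 hj2 F _ a2.2) (tr_mem hok q0 3 hj3 F _ a3.2),
      apply_b1 hok q0 h0 hr _ _ _ (tr_mem hok q0 2 hj2 F _ c2.2) (tr_mem hok q0 3 hj3 F _ c3.2),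
      tr_base hok q0 h0 1 hj1 F _ a1.2 (hF 1 (by omega) _ a1.2),
      tr_base hok q0 h0 1 hj1 F _ c1.2 (hF 1 (by omega) _ c1.2)] at e1
    have i1eq : a1 = c1 := Fin.ext (pt_injective hok 1 hj1 _ _ a1.2 c1.2 (congrArg Fin.val e1))
    subst i1eq
    rw [mul_assoc, mul_assoc] at e'
    have e'' := mul_left_cancel e'
    have e2 := DFunLike.congr_fun e'' ⟨S.beta 2, beta_lt hok 2 hj2⟩
    rw [apply_b2 hok q0 h0 hr _ _ (tr_mem hok q0 3 hj3 F _ a3.2),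
      apply_b2 hok q0 h0 hr _ _ (tr_mem hok q0 3 hj3 F _ c3.2),
      tr_base hok q0 h0 2 hj2 F _ a2.2 (hF 2 (by omega) _ a2.2),
      tr_base hok q0 h0 2 hj2 F _ c2.2 (hF 2 (by omega) _ c2.2)] at e2
    have i2eq : a2 = c2 := Fin.ext (pt_injective hok 2 hj2 _ _ a2.2 c2.2 (congrArg Fin.val e2))
    subst i2eq
    have e''' := mul_left_cancel e''
    have e3 := DFunLike.congr_fun e''' ⟨S.beta 3, beta_lt hok 3 hj3⟩
    rw [tr_base hok q0 h0 3 hj3 F _ a3.2 (hF 3 (by omega) _ a3.2),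
      tr_base hok q0 h0 3 hj3 F _ c3.2 (hF 3 (by omega) _ c3.2)] at e3
    have i3eq : a3 = c3 := Fin.ext (pt_injective hok 3 hj3 _ _ a3.2 c3.2 (congrArg Fin.val e3))
    subst i3eq
    rfl
  have hbij : Function.Bijective f := by
    apply hinj.bijective_of_nat_card_le
    rw [Nat.card_prod, Nat.card_prod, Nat.card_prod, Nat.card_fin, Nat.card_fin, Nat.card_fin, Nat.card_fin,
      ← mul_assoc, ← mul_assoc]
    exact hcard
  intro c hc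
  obtain ⟨x, hx⟩ := hbij.2 ⟨c, hc⟩
  exact ⟨x.1.1, x.1.2, x.2.1.1, x.2.1.2, x.2.2.1.1, x.2.2.1.2, x.2.2.2.1, x.2.2.2.2,
    (congrArg Subtype.val hx).symm⟩

/-- an element of the group that fixes the four base points is trivial -/
theorem eq_one_of_fix (F : ℕ) (hF : ∀ j, j < 4 → ∀ idx, idx < S.n j → S.dep j idx < F)
    (hcard : Nat.card (Subgroup.closure (q0 '' Set.Iio S.k)) ≤ S.n 0 * S.n 1 * S.n 2 * S.n 3)
    (c : Equiv.Perm (Fin S.N)) (hc : c ∈ Subgroup.closure (q0 '' Set.Iio S.k))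
    (hfix : ∀ j (hj : j < 4), c ⟨S.beta j, beta_lt hok j (by omega)⟩ = ⟨S.beta j, beta_lt hok j (by omega)⟩) :
    c = 1 := by
  have hj0 : 0 < S.r := by omega
  have hj1 : 1 < S.r := by omega
  have hj2 : 2 < S.r := by omega
  have hj3 : 3 < S.r := by omega
  obtain ⟨i0, hi0, i1, hi1, i2, hi2, i3, hi3, rfl⟩ := sift hok q0 h0 hr F hF hcard c hc
  have f0 := hfix 0 (by omega)
  rw [apply_b0 hok q0 h0 hr _ _ _ _ (tr_mem hok q0 1 hj1 F _ hi1) (tr_mem hok q0 2 hj2 F _ hi2)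
    (tr_mem hok q0 3 hj3 F _ hi3), tr_base hok q0 h0 0 hj0 F _ hi0 (hF 0 (by omega) _ hi0)] at f0
  have e0 : i0 = S.root 0 := pt_injective hok 0 hj0 _ _ hi0 (hok.hroot 0 hj0)
    ((congrArg Fin.val f0).trans (root_pt hok 0 hj0).symm)
  subst e0
  rw [tr_root, one_mul] at hfix ⊢
  have f1 := hfix 1 (by omega)
  rw [apply_b1 hok q0 h0 hr _ _ _ (tr_mem hok q0 2 hj2 F _ hi2) (tr_mem hok q0 3 hj3 F _ hi3),
    tr_base hok q0 h0 1 hj1 F _ hi1 (hF 1 (by omega) _ hi1)] at f1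
  have e1 : i1 = S.root 1 := pt_injective hok 1 hj1 _ _ hi1 (hok.hroot 1 hj1)
    ((congrArg Fin.val f1).trans (root_pt hok 1 hj1).symm)
  subst e1
  rw [tr_root, one_mul] at hfix ⊢
  have f2 := hfix 2 (by omega)
  rw [apply_b2 hok q0 h0 hr _ _ (tr_mem hok q0 3 hj3 F _ hi3),
    tr_base hok q0 h0 2 hj2 F _ hi2 (hF 2 (by omega) _ hi2)] at f2
  have e2 : i2 = S.root 2 := pt_injective hok 2 hj2 _ _ hi2 (hok.hroot 2 hj2)
    ((congrArg Fin.val f2).trans (root_pt hok 2 hj2).symm)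
  subst e2
  rw [tr_root, one_mul] at hfix ⊢
  have f3 := hfix 3 (by omega)
  rw [tr_base hok q0 h0 3 hj3 F _ hi3 (hF 3 (by omega) _ hi3)] at f3
  have e3 : i3 = S.root 3 := pt_injective hok 3 hj3 _ _ hi3 (hok.hroot 3 hj3)
    ((congrArg Fin.val f3).trans (root_pt hok 3 hj3).symm)
  subst e3
  rw [tr_root]

/-- the table of the product of four transversal elements -/
theorem elt_val (F i0 i1 i2 i3 : ℕ) (hi0 : i0 < S.n 0) (hi1 : i1 < S.n 1) (hi2 : i2 < S.n 2)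
    (hi3 : i3 < S.n 3) (p : Fin S.N) :
    ((tr S q0 0 F i0 * tr S q0 1 F i1 * tr S q0 2 F i2 * tr S q0 3 F i3) p).1 = elt S F i0 i1 i2 i3 p.1 := by
  rw [Equiv.Perm.mul_apply, Equiv.Perm.mul_apply, Equiv.Perm.mul_apply,
    tr_val hok q0 h0 0 (by omega) F i0 hi0, tr_val hok q0 h0 1 (by omega) F i1 hi1,
    tr_val hok q0 h0 2 (by omega) F i2 hi2, tr_val hok q0 h0 3 (by omega) F i3 hi3]
  rfl

theorem elt_pow_val (F i0 i1 i2 i3 : ℕ) (hi0 : i0 < S.n 0) (hi1 : i1 < S.n 1) (hi2 : i2 < S.n 2)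
    (hi3 : i3 < S.n 3) (t : ℕ) (p : Fin S.N) :
    (((tr S q0 0 F i0 * tr S q0 1 F i1 * tr S q0 2 F i2 * tr S q0 3 F i3) ^ t) p).1 =
      iter (elt S F i0 i1 i2 i3) t p.1 := by
  induction t with
  | zero => rfl
  | succ t ih =>
    rw [pow_succ', Equiv.Perm.mul_apply, elt_val hok q0 h0 hr F i0 i1 i2 i3 hi0 hi1 hi2 hi3, ih]
    rfl

/-- a power that fixes the base points is trivial -/
theorem pow_eq_one_of_fixB (F : ℕ) (hF : ∀ j, j < 4 → ∀ idx, idx < S.n j → S.dep j idx < F)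
    (hcard : Nat.card (Subgroup.closure (q0 '' Set.Iio S.k)) ≤ S.n 0 * S.n 1 * S.n 2 * S.n 3)
    (i0 i1 i2 i3 : ℕ) (hi0 : i0 < S.n 0) (hi1 : i1 < S.n 1) (hi2 : i2 < S.n 2) (hi3 : i3 < S.n 3) (t : ℕ)
    (h : fixB S (elt S F i0 i1 i2 i3) t = true) :
    (tr S q0 0 F i0 * tr S q0 1 F i1 * tr S q0 2 F i2 * tr S q0 3 F i3) ^ t = 1 := by
  rw [fixB, band_eq_true, band_eq_true, band_eq_true] at h
  obtain ⟨c0, c1, c2, c3⟩ := h
  apply eq_one_of_fix hok q0 h0 hr F hF hcard _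
    (pow_mem (prod_mem hok q0 h0 hr F i0 i1 i2 i3 hi0 hi1 hi2 hi3) t)
  intro j hj
  apply Fin.ext
  rw [elt_pow_val hok q0 h0 hr F i0 i1 i2 i3 hi0 hi1 hi2 hi3]
  interval_cases j
  · exact beq_eq c0
  · exact beq_eq c1
  · exact beq_eq c2
  · exact beq_eq c3

/-- a power that moves a point is not trivial -/
theorem pow_ne_one_of_iter (F i0 i1 i2 i3 : ℕ) (hi0 : i0 < S.n 0) (hi1 : i1 < S.n 1) (hi2 : i2 < S.n 2)
    (hi3 : i3 < S.n 3) (t p : ℕ) (hp : p < S.N) (h : iter (elt S F i0 i1 i2 i3) t p ≠ p) :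
    (tr S q0 0 F i0 * tr S q0 1 F i1 * tr S q0 2 F i2 * tr S q0 3 F i3) ^ t ≠ 1 := by
  intro e
  have := elt_pow_val hok q0 h0 hr F i0 i1 i2 i3 hi0 hi1 hi2 hi3 t ⟨p, hp⟩
  rw [e] at this
  exact h this.symm

/-- every element of the group has order dividing `12`, `9` or `5` -/
theorem pow_cases (F : ℕ) (hF : ∀ j, j < 4 → ∀ idx, idx < S.n j → S.dep j idx < F)
    (hcard : Nat.card (Subgroup.closure (q0 '' Set.Iio S.k)) ≤ S.n 0 * S.n 1 * S.n 2 * S.n 3)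
    (hchk : ∀ i0, i0 < S.n 0 → ordAll S F i0 = true) :
    ∀ c ∈ Subgroup.closure (q0 '' Set.Iio S.k), c ^ 12 = 1 ∨ c ^ 9 = 1 ∨ c ^ 5 = 1 := by
  intro c hc
  obtain ⟨i0, hi0, i1, hi1, i2, hi2, i3, hi3, rfl⟩ := sift hok q0 h0 hr F hF hcard c hc
  have h1 := allBelow_eq_true.1 (hchk i0 hi0) i1 hi1
  have h2 := allBelow_eq_true.1 h1 i2 hi2
  have h3 := allBelow_eq_true.1 h2 i3 hi3
  rw [ordOK, bor_eq_true, bor_eq_true] at h3
  rcases h3 with h | h | h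
  · exact Or.inl (pow_eq_one_of_fixB hok q0 h0 hr F hF hcard i0 i1 i2 i3 hi0 hi1 hi2 hi3 12 h)
  · exact Or.inr (Or.inl (pow_eq_one_of_fixB hok q0 h0 hr F hF hcard i0 i1 i2 i3 hi0 hi1 hi2 hi3 9 h))
  · exact Or.inr (Or.inr (pow_eq_one_of_fixB hok q0 h0 hr F hF hcard i0 i1 i2 i3 hi0 hi1 hi2 hi3 5 h))

/-- the same, when only the first factors `rep i0` are checked: every element is conjugate under the stabiliser of
the first base point to an element whose first factor is some `rep i0` -/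
theorem pow_cases_conj (F : ℕ) (hF : ∀ j, j < 4 → ∀ idx, idx < S.n j → S.dep j idx < F)
    (hcard : Nat.card (Subgroup.closure (q0 '' Set.Iio S.k)) ≤ S.n 0 * S.n 1 * S.n 2 * S.n 3)
    (rep j1 j2 j3 : ℕ → ℕ) (hconj : ∀ i0, i0 < S.n 0 → conjOK S F rep j1 j2 j3 i0 = true)
    (hchk : ∀ i0, i0 < S.n 0 → ∀ i1, i1 < S.n 1 → ∀ i2, i2 < S.n 2 → ∀ i3, i3 < S.n 3 →
      ordOK S F (rep i0) i1 i2 i3 = true) :
    ∀ c ∈ Subgroup.closure (q0 '' Set.Iio S.k), c ^ 12 = 1 ∨ c ^ 9 = 1 ∨ c ^ 5 = 1 := by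
  intro c hc
  have hj0 : 0 < S.r := by omega
  have hj1 : 1 < S.r := by omega
  have hj2 : 2 < S.r := by omega
  have hj3 : 3 < S.r := by omega
  obtain ⟨i0, hi0, i1, hi1, i2, hi2, i3, hi3, rfl⟩ := sift hok q0 h0 hr F hF hcard c hc
  have hk := hconj i0 hi0
  rw [conjOK, band_eq_true, band_eq_true, band_eq_true, band_eq_true] at hk
  obtain ⟨k0, k1, k2, k3, k4⟩ := hk
  have hr0 : rep i0 < S.n 0 := ble_succ k0
  have hr1 : j1 i0 < S.n 1 := ble_succ k1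
  have hr2 : j2 i0 < S.n 2 := ble_succ k2
  have hr3 : j3 i0 < S.n 3 := ble_succ k3
  have hroot : S.root 0 < S.n 0 := hok.hroot 0 hj0
  set C := tr S q0 0 F i0 * tr S q0 1 F i1 * tr S q0 2 F i2 * tr S q0 3 F i3 with hC
  have hCm : C ∈ Subgroup.closure (q0 '' Set.Iio S.k) := prod_mem hok q0 h0 hr F i0 i1 i2 i3 hi0 hi1 hi2 hi3
  set K := tr S q0 0 F (S.root 0) * tr S q0 1 F (j1 i0) * tr S q0 2 F (j2 i0) * tr S q0 3 F (j3 i0) with hK
  have hKm : K ∈ Subgroup.closure (q0 '' Set.Iio S.k) :=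
    prod_mem hok q0 h0 hr F _ _ _ _ hroot hr1 hr2 hr3
  have hKb : K ⟨S.beta 0, beta_lt hok 0 hj0⟩ = ⟨S.beta 0, beta_lt hok 0 hj0⟩ := by
    rw [hK, apply_b0 hok q0 h0 hr _ _ _ _ (tr_mem hok q0 1 hj1 F _ hr1) (tr_mem hok q0 2 hj2 F _ hr2)
      (tr_mem hok q0 3 hj3 F _ hr3), tr_root]
    rfl
  have hKinv : K⁻¹ ⟨S.beta 0, beta_lt hok 0 hj0⟩ = ⟨S.beta 0, beta_lt hok 0 hj0⟩ := by
    rw [Equiv.Perm.inv_eq_iff_eq]
    exact hKb.symm
  have hCb : C ⟨S.beta 0, beta_lt hok 0 hj0⟩ = ⟨S.pt 0 i0, pt_lt hok 0 i0 hj0 hi0⟩ := by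
    rw [hC, apply_b0 hok q0 h0 hr _ _ _ _ (tr_mem hok q0 1 hj1 F _ hi1) (tr_mem hok q0 2 hj2 F _ hi2)
      (tr_mem hok q0 3 hj3 F _ hi3), tr_base hok q0 h0 0 hj0 F _ hi0 (hF 0 (by omega) _ hi0)]
  have hKp : K ⟨S.pt 0 i0, pt_lt hok 0 i0 hj0 hi0⟩ = ⟨S.pt 0 (rep i0), pt_lt hok 0 _ hj0 hr0⟩ := by
    apply Fin.ext
    rw [hK, elt_val hok q0 h0 hr F _ _ _ _ hroot hr1 hr2 hr3]
    exact beq_eq k4
  have hC'm : K * C * K⁻¹ ∈ Subgroup.closure (q0 '' Set.Iio S.k) := mul_mem (mul_mem hKm hCm) (inv_mem hKm)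
  have hC'b : (K * C * K⁻¹) ⟨S.beta 0, beta_lt hok 0 hj0⟩ = ⟨S.pt 0 (rep i0), pt_lt hok 0 _ hj0 hr0⟩ := by
    rw [Equiv.Perm.mul_apply, Equiv.Perm.mul_apply, hKinv, hCb, hKp]
  obtain ⟨i0', hi0', i1', hi1', i2', hi2', i3', hi3', hC'⟩ := sift hok q0 h0 hr F hF hcard _ hC'm
  have hi0eq : i0' = rep i0 := by
    have h := hC'b
    rw [hC', apply_b0 hok q0 h0 hr _ _ _ _ (tr_mem hok q0 1 hj1 F _ hi1') (tr_mem hok q0 2 hj2 F _ hi2')
      (tr_mem hok q0 3 hj3 F _ hi3'), tr_base hok q0 h0 0 hj0 F _ hi0' (hF 0 (by omega) _ hi0')] at h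
    exact pt_injective hok 0 hj0 _ _ hi0' hr0 (congrArg Fin.val h)
  subst hi0eq
  have h3 := hchk i0 hi0 i1' hi1' i2' hi2' i3' hi3'
  rw [ordOK, bor_eq_true, bor_eq_true] at h3
  have key : ∀ t, (K * C * K⁻¹) ^ t = 1 → C ^ t = 1 := by
    intro t ht
    rw [conj_pow] at ht
    have h := congrArg (fun x => K⁻¹ * x * K) ht
    simpa [mul_assoc] using h
  rcases h3 with h | h | h
  · exact Or.inl (key 12 (by
      rw [hC']; exact pow_eq_one_of_fixB hok q0 h0 hr F hF hcard _ i1' i2' i3' hr0 hi1' hi2' hi3' 12 h))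
  · exact Or.inr (Or.inl (key 9 (by
      rw [hC']; exact pow_eq_one_of_fixB hok q0 h0 hr F hF hcard _ i1' i2' i3' hr0 hi1' hi2' hi3' 9 h)))
  · exact Or.inr (Or.inr (key 5 (by
      rw [hC']; exact pow_eq_one_of_fixB hok q0 h0 hr F hF hcard _ i1' i2' i3' hr0 hi1' hi2' hi3' 5 h)))

end sift

end Cfsg.Agent.Lib.Helper9.Sift4
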