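import Mathlib

set_option autoImplicit false

/-! A simplicity criterion via Sylow's theorems and Burnside's transfer theorem. -/

namespace Cfsg.Agent.Lib.Helper9.SimpA

open Subgroup

variable {G : Type*} [Group G] [Finite G]

/-- all Sylow `p`-subgroups have normalizers of the same order -/
theorem card_normalizer_eq (p : ℕ) [Fact p.Prime] (P Q : Sylow p G) :
    Nat.card (normalizer (P : Set G)) = Nat.card (normalizer (Q : Set G)) := by
  have h1 := Sylow.card_eq_index_normalizer P
  have h2 := Sylow.card_eq_index_normalizer Q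
  have h3 := Subgroup.card_mul_index (normalizer (P : Set G))
  have h4 := Subgroup.card_mul_index (normalizer (Q : Set G))
  rw [← h1] at h3
  rw [← h2] at h4
  have hpos : 0 < Nat.card (Sylow p G) := Nat.card_pos
  exact Nat.eq_of_mul_eq_mul_right hpos (h3.trans h4.symm)

theorem sq_not_dvd (p : ℕ) [hp : Fact p.Prime] (P : Sylow p G) (hP : Nat.card P = p) :
    ¬ p ^ 2 ∣ Nat.card G := by
  intro h
  have h1 := P.card_eq_multiplicity
  rw [hP] at h1
  have h2 : (Nat.card G).factorization p = 1 := by
    have : p ^ 1 = p ^ (Nat.card G).factorization p := by rw [pow_one]; exact h1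
    exact (Nat.pow_right_injective hp.out.two_le this).symm
  have h3 := (hp.out.pow_dvd_iff_le_factorization (Nat.card_pos.ne')).mp h
  omega

theorem simple_of_sylow (p q : ℕ) [hp : Fact p.Prime] (hq : q.Prime) (P : Sylow p G)
    (hP : Nat.card P = p) (hN : Nat.card (normalizer (P : Set G)) = p * q)
    (hdiv : ∀ N : Subgroup G, N.Normal → N ≠ ⊥ → p ∣ Nat.card N)
    (hG : Nat.card G ≠ p * q) : IsSimpleGroup G := by
  have hp2 := hp.out.two_le
  have hsq := sq_not_dvd p P hP
  have hnt : Nontrivial G := by
    have : 1 < Nat.card G := by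
      have := Subgroup.card_dvd_of_le (le_top : (P : Subgroup G) ≤ ⊤)
      rw [Subgroup.card_top] at this
      have := Nat.le_of_dvd Nat.card_pos this
      omega
    exact (Finite.one_lt_card_iff_nontrivial).mp this
  refine { exists_pair_ne := hnt.exists_pair_ne, eq_bot_or_eq_top_of_normal := ?_ }
  intro N hNn
  by_cases hbot : N = ⊥
  · exact Or.inl hbot
  right
  have hpN := hdiv N hNn hbot
  -- a Sylow subgroup of G inside N
  obtain ⟨P1⟩ : Nonempty (Sylow p N) := Sylow.nonempty
  have hP1 : Nat.card P1 = p := by
    have h1 := P1.card_eq_multiplicity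
    have hf1 : 1 ≤ (Nat.card N).factorization p :=
      (hp.out.dvd_iff_one_le_factorization (Nat.card_pos.ne')).mp hpN
    have hf2 : (Nat.card N).factorization p ≤ 1 := by
      by_contra hcon
      push Not at hcon
      have : p ^ 2 ∣ Nat.card N :=
        (hp.out.pow_dvd_iff_le_factorization (Nat.card_pos.ne')).mpr hcon
      exact hsq (this.trans (Subgroup.card_subgroup_dvd_card N))
    have : (Nat.card N).factorization p = 1 := le_antisymm hf2 hf1
    rw [this, pow_one] at h1
    exact h1
  have hQp : IsPGroup p ((P1 : Subgroup N).map N.subtype) := P1.isPGroup'.map _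
  obtain ⟨Q, hQ⟩ := hQp.exists_le_sylow
  have hcardQ : Nat.card Q = p := by
    rw [Q.card_eq_multiplicity, ← P.card_eq_multiplicity, hP]
  have hcardmap : Nat.card ((P1 : Subgroup N).map N.subtype) = p := by
    rw [Subgroup.card_map_of_injective N.subtype_injective]
    exact hP1
  have hQeq : (P1 : Subgroup N).map N.subtype = Q :=
    Subgroup.eq_of_le_of_card_ge hQ (by rw [hcardQ, hcardmap])
  have hQN : (Q : Subgroup G) ≤ N := by
    rw [← hQeq]
    exact Subgroup.map_subtype_le _
  have hNQ : Nat.card (normalizer (Q : Set G)) = p * q := by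
    rw [← card_normalizer_eq p P Q, hN]
  -- Frattini
  haveI := hNn
  have hfr := Sylow.normalizer_sup_eq_top' Q hQN
  have hidx : N.index = N.relIndex (normalizer (Q : Set G)) := by
    rw [← relIndex_top_right, ← hfr, relIndex_sup_right]
  have hidx2 : N.relIndex (normalizer (Q : Set G))
      = (N ⊓ normalizer (Q : Set G)).relIndex (normalizer (Q : Set G)) :=
    (Subgroup.inf_relIndex_right N _).symm
  have hQle : (Q : Subgroup G) ≤ N ⊓ normalizer (Q : Set G) := le_inf hQN le_normalizer
  have hcardM : Nat.card ↥(N ⊓ normalizer (Q : Set G))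
      * (N ⊓ normalizer (Q : Set G)).relIndex (normalizer (Q : Set G)) = p * q := by
    rw [← hNQ]
    have := Subgroup.card_mul_index ((N ⊓ normalizer (Q : Set G)).subgroupOf (normalizer (Q : Set G)))
    rw [← this]
    congr 1
    exact Nat.card_congr (Subgroup.subgroupOfEquivOfLe inf_le_right).toEquiv.symm
  obtain ⟨a, ha⟩ : p ∣ Nat.card ↥(N ⊓ normalizer (Q : Set G)) := by
    have := Subgroup.card_dvd_of_le hQle
    rwa [hcardQ] at this
  rw [ha, mul_assoc] at hcardM
  have hcardM' : a * (N ⊓ normalizer (Q : Set G)).relIndex (normalizer (Q : Set G)) = q :=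
    Nat.eq_of_mul_eq_mul_left (by omega) hcardM
  have hdvd : (N ⊓ normalizer (Q : Set G)).relIndex (normalizer (Q : Set G)) ∣ q :=
    Dvd.intro_left _ hcardM'
  rcases (Nat.dvd_prime hq).mp hdvd with h1 | hqq
  · -- index one
    rw [← hidx2, ← hidx] at h1
    exact Subgroup.index_eq_one.mp h1
  · -- index q: derive a contradiction
    exfalso
    rw [hqq] at hcardM'
    have ha1 : a = 1 := by
      have hq0 := hq.pos
      have : a * q = 1 * q := by rw [hcardM', one_mul]
      exact Nat.eq_of_mul_eq_mul_right hq0 this
    rw [ha1, mul_one] at ha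
    have hMeq : (Q : Subgroup G) = N ⊓ normalizer (Q : Set G) :=
      Subgroup.eq_of_le_of_card_ge hQle (by rw [ha, hcardQ])
    have hindexN : N.index = q := by rw [hidx, hidx2, hqq]
    -- Burnside in N
    let P0 : Sylow p N := Q.subtype hQN
    have hP0card : Nat.card P0 = p := by
      rw [P0.card_eq_multiplicity, ← P1.card_eq_multiplicity, hP1]
    have hnorm : normalizer ((P0 : Subgroup N) : Set N) ≤ P0 := by
      intro x hx
      have hx' : (x : G) ∈ normalizer (Q : Set G) := by
        rw [Subgroup.mem_normalizer_iff] at hx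
        rw [Subgroup.mem_set_normalizer_iff]
        intro g
        constructor
        · intro hg
          have h1 : (⟨g, hQN hg⟩ : N) ∈ (P0 : Subgroup N) := by
            show (⟨g, hQN hg⟩ : N) ∈ (Q : Subgroup G).subgroupOf N
            rw [Subgroup.mem_subgroupOf]; exact hg
          have h2 := (hx ⟨g, hQN hg⟩).mp h1
          have h3 : (x * ⟨g, hQN hg⟩ * x⁻¹ : N) ∈ (Q : Subgroup G).subgroupOf N := h2
          rw [Subgroup.mem_subgroupOf] at h3
          exact h3
        · intro hg
          have hgN : g ∈ N := by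
            have : (x : G) * g * (x : G)⁻¹ ∈ N := hQN hg
            have h5 := N.mul_mem (N.mul_mem (N.inv_mem x.2) this) x.2
            have : (x : G)⁻¹ * ((x : G) * g * (x : G)⁻¹) * (x : G) = g := by group
            rwa [this] at h5
          have h1 : (x * ⟨g, hgN⟩ * x⁻¹ : N) ∈ (P0 : Subgroup N) := by
            show (x * ⟨g, hgN⟩ * x⁻¹ : N) ∈ (Q : Subgroup G).subgroupOf N
            rw [Subgroup.mem_subgroupOf]; exact hg
          have h2 := (hx ⟨g, hgN⟩).mpr h1
          have h3 : (⟨g, hgN⟩ : N) ∈ (Q : Subgroup G).subgroupOf N := h2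
          rw [Subgroup.mem_subgroupOf] at h3
          exact h3
      have : (x : G) ∈ (Q : Subgroup G) := by rw [hMeq]; exact ⟨x.2, hx'⟩
      show x ∈ (Q : Subgroup G).subgroupOf N
      rw [Subgroup.mem_subgroupOf]; exact this
    have hcyc : IsCyclic P0 := by
      haveI : Fact (Nat.card P0).Prime := ⟨by rw [hP0card]; exact hp.out⟩
      exact isCyclic_of_prime_card rfl
    have hcomm : ∀ a b : N, a ∈ (P0 : Subgroup N) → b ∈ (P0 : Subgroup N) → a * b = b * a := by
      intro a b ha hb
      have hc : IsMulCommutative P0 := IsCyclic.isMulCommutative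
      have h := hc.is_comm.comm (⟨a, ha⟩ : P0) ⟨b, hb⟩
      exact congrArg Subtype.val h
    have hcent : normalizer ((P0 : Subgroup N) : Set N) ≤ centralizer ((P0 : Subgroup N) : Set N) := by
      intro x hx
      rw [Subgroup.mem_centralizer_iff]
      intro y hy
      exact hcomm y x hy (hnorm hx)
    have hcompl := MonoidHom.ker_transferSylow_isComplement' P0 hcent
    set K := (MonoidHom.transferSylow P0 hcent).ker with hKdef
    have hKcard : Nat.card K * p = Nat.card N := by
      have := hcompl.card_mul_card
      rwa [hP0card] at this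
    have hKcop : ¬ p ∣ Nat.card K := by
      rintro ⟨b, hb⟩
      apply hsq
      have : p ^ 2 ∣ Nat.card N := ⟨b, by rw [← hKcard, hb]; ring⟩
      exact this.trans (Subgroup.card_subgroup_dvd_card N)
    -- K is the set of elements of order prime to p
    have hKchar : ∀ x : N, x ∈ K ↔ (orderOf x).Coprime p := by
      intro x
      constructor
      · intro hx
        have h1 : orderOf (⟨x, hx⟩ : K) ∣ Nat.card K := orderOf_dvd_natCard _
        have h2 : orderOf (⟨x, hx⟩ : K) = orderOf x := Subgroup.orderOf_mk x hx
        rw [h2] at h1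
        exact (Nat.Coprime.symm ((Nat.Prime.coprime_iff_not_dvd hp.out).mpr hKcop)).coprime_dvd_left h1
      · intro hx
        rw [hKdef, MonoidHom.mem_ker]
        have h1 : orderOf (MonoidHom.transferSylow P0 hcent x) ∣ orderOf x := orderOf_map_dvd _ x
        have h2 : orderOf (MonoidHom.transferSylow P0 hcent x) ∣ p := by
          have := orderOf_dvd_natCard (MonoidHom.transferSylow P0 hcent x)
          rwa [hP0card] at this
        have h3 : orderOf (MonoidHom.transferSylow P0 hcent x) ∣ Nat.gcd (orderOf x) p :=
          Nat.dvd_gcd h1 h2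
        rw [hx] at h3
        exact orderOf_eq_one_iff.mp (Nat.dvd_one.mp h3)
    -- K is normal in G
    have hKnormal : (K.map N.subtype).Normal := by
      constructor
      rintro _ ⟨x, hx, rfl⟩ g
      have hmem : g * (x : G) * g⁻¹ ∈ N := hNn.conj_mem _ x.2 g
      refine ⟨⟨g * (x : G) * g⁻¹, hmem⟩, ?_, rfl⟩
      show (⟨g * (x : G) * g⁻¹, hmem⟩ : N) ∈ K
      rw [hKchar]
      have h1 : orderOf (⟨g * (x : G) * g⁻¹, hmem⟩ : N) = orderOf (g * (x : G) * g⁻¹) :=
        Subgroup.orderOf_mk _ _
      have h2 : orderOf (g * (x : G) * g⁻¹) = orderOf (x : G) :=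
        (SemiconjBy.orderOf_eq g (show SemiconjBy g (x : G) (g * (x : G) * g⁻¹) by
          unfold SemiconjBy; group)).symm
      rw [h1, h2, Subgroup.orderOf_coe]
      exact (hKchar x).mp hx
    have hKmapcard : Nat.card (K.map N.subtype) = Nat.card K :=
      Subgroup.card_map_of_injective N.subtype_injective
    by_cases hK0 : K.map N.subtype = ⊥
    · have hK1 : Nat.card K = 1 := by
        rw [← hKmapcard, hK0, Subgroup.card_bot]
      rw [hK1, one_mul] at hKcard
      apply hG
      rw [← Subgroup.card_mul_index N, ← hKcard, hindexN]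
    · have := hdiv _ hKnormal hK0
      rw [hKmapcard] at this
      exact hKcop this

end Cfsg.Agent.Lib.Helper9.SimpA
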