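import Cfsg.Agent.Lib.Helper9.SimpC
import Mathlib.GroupTheory.GroupAction.MultipleTransitivity

set_option autoImplicit false

/-! Sharply multiply transitive groups: order, list form of transitivity. -/

namespace Cfsg.Agent.Lib.Helper9.SimpD

open Cfsg.Agent.Lib.Helper9.SimpA Cfsg.Agent.Lib.Helper9.SimpB Cfsg.Agent.Lib.Helper9.SimpC

variable {α : Type*} [Fintype α] [DecidableEq α]

/-- transport along an equality of membership -/
def subEquiv {G : Type*} [Group G] (H : Subgroup G) (K : Subgroup ↥H) (L : Subgroup G)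
    (hL : L ≤ H) (h : ∀ g : ↥H, g ∈ K ↔ (g : G) ∈ L) : ↥K ≃* ↥L where
  toFun k := ⟨k.1.1, (h k.1).mp k.2⟩
  invFun l := ⟨⟨l.1, hL l.2⟩, (h _).mpr l.2⟩
  left_inv _ := rfl
  right_inv _ := rfl
  map_mul' _ _ := rfl

/-- concrete form of multiple transitivity -/
theorem trans_concrete (G : Subgroup (Equiv.Perm α)) (k : ℕ)
    [h : MulAction.IsMultiplyPretransitive G α k] (x y : Fin k ↪ α) :
    ∃ g ∈ G, ∀ i, g (x i) = y i := by
  obtain ⟨g, hg⟩ := h.exists_smul_eq x y
  refine ⟨g.1, g.2, fun i => ?_⟩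
  have := congrArg (fun z : Fin k ↪ α => z i) hg
  exact this

/-- concrete form of sharpness -/
theorem sharp_concrete (G : Subgroup (Equiv.Perm α)) (k : ℕ)
    (hsharp : ∀ x : Fin k ↪ α, MulAction.stabilizer G x = ⊥) (x : Fin k ↪ α)
    (g : Equiv.Perm α) (hg : g ∈ G) (hfix : ∀ i, g (x i) = x i) : g = 1 := by
  have hmem : (⟨g, hg⟩ : ↥G) ∈ MulAction.stabilizer G x := by
    rw [MulAction.mem_stabilizer_iff]
    apply Function.Embedding.ext
    intro i
    exact hfix i
  rw [hsharp x, Subgroup.mem_bot] at hmem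
  exact congrArg Subtype.val hmem

theorem card_sharp (G : Subgroup (Equiv.Perm α)) (k : ℕ)
    [MulAction.IsMultiplyPretransitive G α k] (hk : k ≤ Fintype.card α)
    (hsharp : ∀ x : Fin k ↪ α, MulAction.stabilizer G x = ⊥) :
    Nat.card G = (Fintype.card α).descFactorial k := by
  obtain ⟨x0⟩ : Nonempty (Fin k ↪ α) :=
    Function.Embedding.nonempty_of_card_le (by rw [Fintype.card_fin]; exact hk)
  have hbij : Function.Bijective
      (fun g : ↥G => (x0.trans (g.1 : Equiv.Perm α).toEmbedding : Fin k ↪ α)) := by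
    constructor
    · intro g g' hgg
      have hgg' : ∀ i, g.1 (x0 i) = g'.1 (x0 i) := fun i =>
        congrArg (fun z : Fin k ↪ α => z i) hgg
      have h1 := sharp_concrete G k hsharp x0 (g'.1⁻¹ * g.1) (G.mul_mem (G.inv_mem g'.2) g.2)
        (fun i => by rw [Equiv.Perm.mul_apply, hgg' i]; exact inv_app _ _)
      exact Subtype.ext (inv_mul_eq_one.mp h1).symm
    · intro y
      obtain ⟨g, hg, hgy⟩ := trans_concrete G k x0 y
      exact ⟨⟨g, hg⟩, Function.Embedding.ext hgy⟩
  rw [Nat.card_eq_of_bijective _ hbij, Nat.card_eq_fintype_card, Fintype.card_embedding_eq,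
    Fintype.card_fin]

/-- list form of multiple transitivity -/
theorem exists_of_lists (G : Subgroup (Equiv.Perm α)) (k : ℕ)
    [MulAction.IsMultiplyPretransitive G α k] (l l' : List α) (hl : l.Nodup) (hl' : l'.Nodup)
    (hk : l.length = k) (hk' : l'.length = k) : ∃ g ∈ G, l.map g = l' := by
  let x : Fin k ↪ α := ⟨fun i => l[i.val]'(by rw [hk]; exact i.2), by
    intro i j hij
    exact Fin.ext ((List.Nodup.getElem_inj_iff hl).mp hij)⟩
  let y : Fin k ↪ α := ⟨fun i => l'[i.val]'(by rw [hk']; exact i.2), by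
    intro i j hij
    exact Fin.ext ((List.Nodup.getElem_inj_iff hl').mp hij)⟩
  obtain ⟨g, hg, hgxy⟩ := trans_concrete G k x y
  refine ⟨g, hg, ?_⟩
  apply List.ext_getElem
  · rw [List.length_map, hk, hk']
  · intro i h1 h2
    rw [List.getElem_map]
    have hi : i < k := by rw [← hk']; exact h2
    exact hgxy ⟨i, hi⟩

theorem twoTrans_of (G : Subgroup (Equiv.Perm α)) (k : ℕ) (hk : 2 ≤ k)
    (hkα : k ≤ Fintype.card α)
    [MulAction.IsMultiplyPretransitive G α k] : TwoTrans G Finset.univ := by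
  haveI : MulAction.IsMultiplyPretransitive G α 2 :=
    MulAction.isMultiplyPretransitive_of_le (n := k) hk (by rw [Nat.card_eq_fintype_card]; exact hkα)
  intro a _ b _ c _ d _ hab hcd
  obtain ⟨g, hg, hmap⟩ := exists_of_lists G 2 [a, b] [c, d] (by simp [hab]) (by simp [hcd]) rfl rfl
  simp only [List.map_cons, List.map_nil, List.cons.injEq, and_true] at hmap
  exact ⟨g, hg, hmap.1, hmap.2⟩

theorem faithful_univ (G : Subgroup (Equiv.Perm α)) : Faithful G Finset.univ :=
  fun _ _ hx => Equiv.ext fun x => hx x (Finset.mem_univ _)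

theorem pres_univ (G : Subgroup (Equiv.Perm α)) : Pres G Finset.univ :=
  fun _ _ _ _ => Finset.mem_univ _

/-- a 2-transitive group of degree 11 and order 7920 is simple -/
theorem simple_7920 {Ω : Type*} [Fintype Ω] [DecidableEq Ω] (H : Subgroup (Equiv.Perm Ω))
    (X : Finset Ω) (h2 : TwoTrans H X) (hf : Faithful H X) (hpres : Pres H X)
    (hX : X.card = 11) (hn : Nat.card H = 7920) : IsSimpleGroup H := by
  haveI : Fact (Nat.Prime 11) := ⟨by norm_num⟩
  refine simple_gen H 11 5 (by norm_num) X h2 hf hpres hX 7920 hn (by norm_num) (by norm_num)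
    ?_ (by norm_num)
  intro e he1 he2 he3
  have hle : e ≤ 10 := Nat.le_of_dvd (by norm_num) he1
  interval_cases e <;> first | rfl | (exfalso; revert he1 he2 he3; decide)

theorem not_pp (n : ℕ) (h2 : 2 ∣ n) (h3 : 3 ∣ n) : ∀ r k : ℕ, r.Prime → n ≠ r ^ k := by
  intro r k hr h
  rw [h] at h2 h3
  have e2 : 2 = r := (Nat.prime_dvd_prime_iff_eq (by norm_num) hr).mp (Nat.Prime.dvd_of_dvd_pow (by norm_num) h2)
  have e3 : 3 = r := (Nat.prime_dvd_prime_iff_eq (by norm_num) hr).mp (Nat.Prime.dvd_of_dvd_pow (by norm_num) h3)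
  omega

theorem sharp4_11 (hα : Fintype.card α = 11) (G : Subgroup (Equiv.Perm α))
    [MulAction.IsMultiplyPretransitive G α 4]
    (hsharp : ∀ x : Fin 4 ↪ α, MulAction.stabilizer G x = ⊥) :
    IsSimpleGroup G ∧ Nat.card G = 7920 := by
  have hcard : Nat.card G = 7920 := by
    rw [card_sharp G 4 (by omega) hsharp, hα]
    rfl
  refine ⟨?_, hcard⟩
  exact simple_7920 G Finset.univ (twoTrans_of G 4 (by omega) (by omega)) (faithful_univ G)
    (pres_univ G) (by rw [Finset.card_univ, hα]) hcard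

theorem sharp5_12 (hα : Fintype.card α = 12) (G : Subgroup (Equiv.Perm α))
    [MulAction.IsMultiplyPretransitive G α 5]
    (hsharp : ∀ x : Fin 5 ↪ α, MulAction.stabilizer G x = ⊥) :
    IsSimpleGroup G ∧ Nat.card G = 95040 := by
  have hcard : Nat.card G = 95040 := by
    rw [card_sharp G 5 (by omega) hsharp, hα]
    rfl
  refine ⟨?_, hcard⟩
  obtain ⟨x0⟩ : Nonempty α := Fintype.card_pos_iff.mp (by omega)
  haveI : MulAction.IsMultiplyPretransitive G α 3 :=
    MulAction.isMultiplyPretransitive_of_le (n := 5) (by omega)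
      (by rw [Nat.card_eq_fintype_card]; omega)
  haveI : MulAction.IsMultiplyPretransitive G α 1 :=
    MulAction.isMultiplyPretransitive_of_le (n := 5) (by omega)
      (by rw [Nat.card_eq_fintype_card]; omega)
  refine simple_of_stab G Finset.univ (twoTrans_of G 5 (by omega) (by omega)) (faithful_univ G)
    (pres_univ G) x0 (Finset.mem_univ _) (by rw [Finset.card_univ, hα]; norm_num) ?_
    (by rw [Finset.card_univ, hα]; exact not_pp 12 (by norm_num) (by norm_num))
  set H0 : Subgroup (Equiv.Perm α) := G ⊓ MulAction.stabilizer (Equiv.Perm α) x0 with hH0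
  have hfix : ∀ h ∈ H0, h x0 = x0 :=
    fun h hh => MulAction.mem_stabilizer_iff.mp (Subgroup.mem_inf.mp hh).2
  have e := subEquiv G ((MulAction.stabilizer (Equiv.Perm α) x0).subgroupOf G) H0 inf_le_left (by
    intro g
    rw [Subgroup.mem_subgroupOf, hH0, Subgroup.mem_inf]
    exact ⟨fun h => ⟨g.2, h⟩, fun h => h.2⟩)
  have e2 := subEquiv G (MulAction.stabilizer G x0) H0 inf_le_left (by
    intro g
    rw [MulAction.mem_stabilizer_iff, hH0, Subgroup.mem_inf, MulAction.mem_stabilizer_iff]
    exact ⟨fun h => ⟨g.2, h⟩, fun h => h.2⟩)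
  have hn0 : Nat.card H0 = 7920 := by
    rw [← Nat.card_congr e2.toEquiv]
    have h := card_orbit_mul (G := G) x0
    have h1 : MulAction.IsPretransitive G α := MulAction.is_one_pretransitive_iff.mp inferInstance
    rw [MulAction.orbit_eq_univ, Nat.card_univ, Nat.card_eq_fintype_card, hα, hcard] at h
    omega
  haveI : IsSimpleGroup H0 := by
    refine simple_7920 H0 (Finset.univ.erase x0) ?_ ?_ ?_
      (by rw [Finset.card_erase_of_mem (Finset.mem_univ _), Finset.card_univ, hα]) hn0
    · intro a ha b hb c hc d hd hab hcd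
      have ha' := (Finset.mem_erase.mp ha).1
      have hb' := (Finset.mem_erase.mp hb).1
      have hc' := (Finset.mem_erase.mp hc).1
      have hd' := (Finset.mem_erase.mp hd).1
      obtain ⟨g, hg, hmap⟩ := exists_of_lists G 3 [x0, a, b] [x0, c, d]
        (by simp [ha'.symm, hb'.symm, hab]) (by simp [hc'.symm, hd'.symm, hcd]) rfl rfl
      simp only [List.map_cons, List.map_nil, List.cons.injEq, and_true] at hmap
      exact ⟨g, Subgroup.mem_inf.mpr ⟨hg, MulAction.mem_stabilizer_iff.mpr hmap.1⟩,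
        hmap.2.1, hmap.2.2⟩
    · intro h hh hx
      apply Equiv.ext
      intro x
      by_cases hxp : x = x0
      · rw [hxp]; exact hfix h hh
      · exact hx x (Finset.mem_erase.mpr ⟨hxp, Finset.mem_univ _⟩)
    · intro h hh x hx
      refine Finset.mem_erase.mpr ⟨?_, Finset.mem_univ _⟩
      intro he
      have := hfix h hh
      rw [← this] at he
      exact (Finset.mem_erase.mp hx).1 (h.injective he)
  exact e.isSimpleGroup

end Cfsg.Agent.Lib.Helper9.SimpD
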