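import Mathlib

/-!
A finite solvable group whose element orders are `1, 2, 3, 4, 5, 6, 9, 12` (those of `PSp₄(3)`).

Over the field `K` with `81` elements and its Frobenius map `σ`, let `A` be the group of the block unitriangular
matrices `[1 r p s; 0 I m q; 0 0 I c; 0 0 0 1]` (blocks of sizes `1, 2, 2, 1`) with `r = (x1, x2)`,
`m = σ x1 • I`, `c = (σ² x2, - σ² x1)ᵀ`; it has order `3 ^ 28`, exponent `9`, and the cube of an element is
`σ x1 * (x1 * σ² x2 - x2 * σ² x1)` in the corner.  The group `F` of the pairs `(u, τ)`, `u ^ 5 = 1`, `τ` a power of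
the Frobenius automorphism (a Frobenius group of order `20`) acts on `A` by a diagonal conjugation followed by
`τ` on the entries.  The elements of order `5` of `F` have no fixed point on `A`, and the cube map vanishes on the
fixed points of the involutions of `F`; so the elements of `A ⋊ F` over an element of order `5` have order `5`,
those over an involution have order `2` or `6`, and those over an element of order `4` have order `4` or `12`.
-/

set_option autoImplicit false
set_option linter.unusedSectionVars false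
set_option linter.unusedSimpArgs false
set_option linter.unusedVariables false

namespace Cfsg.Agent.Lib.Helper9.SolvSp

/-- seven coordinates: the group of block unitriangular matrices
`[1 r p s; 0 I m q; 0 0 I c; 0 0 0 1]` with `r = (x1, x2)`, `m = x1 ^ 3`, `c = (x2 ^ 9, - x1 ^ 9)`. -/
@[ext] structure UA (K : Type) where
  x1 : K
  x2 : K
  p1 : K
  p2 : K
  q1 : K
  q2 : K
  s : K

noncomputable section

variable {K : Type} [Field K] [CharP K 3]

local notation "σ" => (frobenius K 3)

instance instMulUA : Mul (UA K) := ⟨fun a b =>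
  ⟨a.x1 + b.x1, a.x2 + b.x2,
   a.p1 + b.p1 + σ b.x1 * a.x1, a.p2 + b.p2 + σ b.x1 * a.x2,
   a.q1 + b.q1 + σ a.x1 * σ (σ b.x2), a.q2 + b.q2 - σ a.x1 * σ (σ b.x1),
   a.s + b.s + a.x1 * b.q1 + a.x2 * b.q2 + a.p1 * σ (σ b.x2) - a.p2 * σ (σ b.x1)⟩⟩

instance instOneUA : One (UA K) := ⟨⟨0, 0, 0, 0, 0, 0, 0⟩⟩

instance instInvUA : Inv (UA K) := ⟨fun a =>
  ⟨-a.x1, -a.x2, -a.p1 + σ a.x1 * a.x1, -a.p2 + σ a.x1 * a.x2,
   -a.q1 + σ a.x1 * σ (σ a.x2), -a.q2 - σ a.x1 * σ (σ a.x1),
   -a.s + a.x1 * a.q1 + a.x2 * a.q2 + a.p1 * σ (σ a.x2) - a.p2 * σ (σ a.x1)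
     - a.x1 * σ a.x1 * σ (σ a.x2) + a.x2 * σ a.x1 * σ (σ a.x1)⟩⟩

@[simp] theorem mul_x1 (a b : UA K) : (a * b).x1 = a.x1 + b.x1 := rfl
@[simp] theorem mul_x2 (a b : UA K) : (a * b).x2 = a.x2 + b.x2 := rfl
@[simp] theorem mul_p1 (a b : UA K) : (a * b).p1 = a.p1 + b.p1 + σ b.x1 * a.x1 := rfl
@[simp] theorem mul_p2 (a b : UA K) : (a * b).p2 = a.p2 + b.p2 + σ b.x1 * a.x2 := rfl
@[simp] theorem mul_q1 (a b : UA K) : (a * b).q1 = a.q1 + b.q1 + σ a.x1 * σ (σ b.x2) := rfl
@[simp] theorem mul_q2 (a b : UA K) : (a * b).q2 = a.q2 + b.q2 - σ a.x1 * σ (σ b.x1) := rfl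
@[simp] theorem mul_s (a b : UA K) : (a * b).s =
    a.s + b.s + a.x1 * b.q1 + a.x2 * b.q2 + a.p1 * σ (σ b.x2) - a.p2 * σ (σ b.x1) := rfl
@[simp] theorem one_x1 : (1 : UA K).x1 = 0 := rfl
@[simp] theorem one_x2 : (1 : UA K).x2 = 0 := rfl
@[simp] theorem one_p1 : (1 : UA K).p1 = 0 := rfl
@[simp] theorem one_p2 : (1 : UA K).p2 = 0 := rfl
@[simp] theorem one_q1 : (1 : UA K).q1 = 0 := rfl
@[simp] theorem one_q2 : (1 : UA K).q2 = 0 := rfl
@[simp] theorem one_s : (1 : UA K).s = 0 := rfl
@[simp] theorem inv_x1 (a : UA K) : (a⁻¹).x1 = -a.x1 := rfl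
@[simp] theorem inv_x2 (a : UA K) : (a⁻¹).x2 = -a.x2 := rfl
@[simp] theorem inv_p1 (a : UA K) : (a⁻¹).p1 = -a.p1 + σ a.x1 * a.x1 := rfl
@[simp] theorem inv_p2 (a : UA K) : (a⁻¹).p2 = -a.p2 + σ a.x1 * a.x2 := rfl
@[simp] theorem inv_q1 (a : UA K) : (a⁻¹).q1 = -a.q1 + σ a.x1 * σ (σ a.x2) := rfl
@[simp] theorem inv_q2 (a : UA K) : (a⁻¹).q2 = -a.q2 - σ a.x1 * σ (σ a.x1) := rfl
@[simp] theorem inv_s (a : UA K) : (a⁻¹).s =
    -a.s + a.x1 * a.q1 + a.x2 * a.q2 + a.p1 * σ (σ a.x2) - a.p2 * σ (σ a.x1)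
     - a.x1 * σ a.x1 * σ (σ a.x2) + a.x2 * σ a.x1 * σ (σ a.x1) := rfl

instance instGroupUA : Group (UA K) where
  mul_assoc a b c := by
    ext <;> simp only [mul_x1, mul_x2, mul_p1, mul_p2, mul_q1, mul_q2, mul_s, map_add, map_mul, map_sub,
      map_neg] <;> ring
  one_mul a := by
    ext <;> simp
  mul_one a := by
    ext <;> simp
  inv_mul_cancel a := by
    ext <;> simp only [mul_x1, mul_x2, mul_p1, mul_p2, mul_q1, mul_q2, mul_s, inv_x1, inv_x2, inv_p1, inv_p2,
      inv_q1, inv_q2, inv_s, one_x1, one_x2, one_p1, one_p2, one_q1, one_q2, one_s, map_add, map_mul, map_sub,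
      map_neg] <;> ring

theorem three_eq_zero : (3 : K) = 0 := by
  have := CharP.cast_eq_zero K 3
  exact_mod_cast this

/-- the cube of an element -/
theorem pow_three_eq (a : UA K) :
    a ^ 3 = ⟨0, 0, 0, 0, 0, 0, σ a.x1 * (a.x1 * σ (σ a.x2) - a.x2 * σ (σ a.x1))⟩ := by
  have h3 : (3 : K) = 0 := three_eq_zero
  rw [pow_three']
  ext <;> simp only [mul_x1, mul_x2, mul_p1, mul_p2, mul_q1, mul_q2, mul_s, map_add, map_mul, map_sub,
      map_neg]
  · linear_combination a.x1 * h3
  · linear_combination a.x2 * h3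
  · linear_combination (a.p1 + σ a.x1 * a.x1) * h3
  · linear_combination (a.p2 + σ a.x1 * a.x2) * h3
  · linear_combination (a.q1 + σ a.x1 * σ (σ a.x2)) * h3
  · linear_combination (a.q2 - σ a.x1 * σ (σ a.x1)) * h3
  · linear_combination (a.s + a.x1 * a.q1 + a.x2 * a.q2 + a.p1 * σ (σ a.x2) - a.p2 * σ (σ a.x1)) * h3

theorem pow_nine_eq (a : UA K) : a ^ 9 = 1 := by
  have h3 : (3 : K) = 0 := three_eq_zero
  rw [show 9 = 3 * 3 from rfl, pow_mul, pow_three_eq a, pow_three_eq]
  ext <;> simp

/-- the cube is trivial when the two first coordinates are multiplied by the same scalar under `σ ∘ σ` -/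
theorem pow_three_eq_one (a : UA K) (w : K) (h1 : σ (σ a.x1) = w * a.x1) (h2 : σ (σ a.x2) = w * a.x2) :
    a ^ 3 = 1 := by
  rw [pow_three_eq, h1, h2]
  ext <;> simp
  right
  ring

end

noncomputable section

variable (K : Type) [Field K] [Fintype K] [CharP K 3]

/-- ring automorphisms act on the units -/
def psi : RingAut K →* MulAut Kˣ where
  toFun g := Units.mapEquiv (RingEquiv.toMulEquiv g)
  map_one' := by ext; rfl
  map_mul' g h := by ext; rfl

/-- the powers of the Frobenius automorphism -/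
abbrev ZF : Subgroup (RingAut K) := Subgroup.zpowers (frobeniusEquiv K 3)

/-- units and powers of the Frobenius automorphism -/
abbrev G1 : Type := Kˣ ⋊[(psi K).comp (ZF K).subtype] (ZF K)

variable {K}

/-- the unit part, in the field -/
def uu (g : G1 K) : K := ((g.left : Kˣ) : K)

/-- the automorphism part -/
def tt (g : G1 K) : K ≃+* K := g.right.1

theorem uu_mul (g h : G1 K) : uu (g * h) = uu g * tt g (uu h) := rfl
theorem tt_mul (g h : G1 K) (y : K) : tt (g * h) y = tt g (tt h y) := rfl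
theorem uu_one : uu (1 : G1 K) = 1 := rfl
theorem tt_one (y : K) : tt (1 : G1 K) y = y := rfl

theorem tt_frob (g : G1 K) (y : K) : tt g (frobenius K 3 y) = frobenius K 3 (tt g y) := by
  simp [frobenius_def]

local notation "σ" => (frobenius K 3)

/-- the action on the unitriangular group -/
def act (g : G1 K) (a : UA K) : UA K :=
  ⟨uu g * tt g a.x1, uu g * tt g a.x2,
   uu g * σ (uu g) * tt g a.p1, uu g * σ (uu g) * tt g a.p2,
   σ (uu g) * σ (σ (uu g)) * tt g a.q1, σ (uu g) * σ (σ (uu g)) * tt g a.q2,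
   uu g * σ (uu g) * σ (σ (uu g)) * tt g a.s⟩

instance instActUA : MulDistribMulAction (G1 K) (UA K) where
  smul := act
  one_smul a := by
    ext <;> simp [HSMul.hSMul, SMul.smul, act, uu_one, tt_one]
  mul_smul g h a := by
    ext <;> simp only [HSMul.hSMul, SMul.smul, act, uu_mul, tt_mul, map_mul, tt_frob] <;> ring
  smul_mul g a b := by
    ext <;> simp only [HSMul.hSMul, SMul.smul, act, mul_x1, mul_x2, mul_p1, mul_p2, mul_q1, mul_q2, mul_s, map_add,
      map_mul, map_sub, map_neg, tt_frob] <;> ring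
  smul_one g := by
    ext <;> simp [HSMul.hSMul, SMul.smul, act]

theorem smul_def (g : G1 K) (a : UA K) : g • a = act g a := rfl

variable (K)

/-- the big group -/
abbrev H1 : Type := UA K ⋊[MulDistribMulAction.toMulAut (G1 K) (UA K)] (G1 K)

/-- the subgroup where the unit is a fifth root of unity -/
def HH : Subgroup (H1 K) where
  carrier := {h | uu h.right ^ 5 = 1}
  mul_mem' := by
    intro a b ha hb
    have ha' : uu a.right ^ 5 = 1 := ha
    have hb' : uu b.right ^ 5 = 1 := hb
    show uu (a * b).right ^ 5 = 1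
    rw [SemidirectProduct.mul_right, uu_mul, mul_pow, ← map_pow, hb', map_one, mul_one]
    exact ha'
  one_mem' := by
    show uu (1 : G1 K) ^ 5 = 1
    rw [uu_one, one_pow]
  inv_mem' := by
    intro a ha
    have ha' : uu a.right ^ 5 = 1 := ha
    show uu (a⁻¹).right ^ 5 = 1
    rw [SemidirectProduct.inv_right]
    have h1 : uu (a.right⁻¹ * a.right) = 1 := by rw [inv_mul_cancel]; rfl
    rw [uu_mul] at h1
    have h2 := congrArg (· ^ 5) h1
    simp only [mul_pow, ← map_pow, ha', map_one, mul_one, one_pow] at h2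
    exact h2

variable {K}

theorem mem_HH (h : H1 K) : h ∈ HH K ↔ uu h.right ^ 5 = 1 := Iff.rfl

instance instFiniteUA : Finite (UA K) :=
  Finite.of_injective (fun a : UA K => (a.x1, a.x2, a.p1, a.p2, a.q1, a.q2, a.s)) (by
    intro a b h
    simp only [Prod.mk.injEq] at h
    obtain ⟨h1, h2, h3, h4, h5, h6, h7⟩ := h
    exact UA.ext h1 h2 h3 h4 h5 h6 h7)

theorem isPGroup_UA : IsPGroup 3 (UA K) := fun a => ⟨2, by simpa using pow_nine_eq a⟩

instance instSolvUA : Group.IsSolvable (UA K) := by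
  have := (isPGroup_UA (K := K)).isNilpotent
  infer_instance

instance instSolvZF : Group.IsSolvable (ZF K) := by
  apply Group.isSolvable_of_comm
  rintro ⟨a, ha⟩ ⟨b, hb⟩
  obtain ⟨m, rfl⟩ := Subgroup.mem_zpowers_iff.1 ha
  obtain ⟨n, rfl⟩ := Subgroup.mem_zpowers_iff.1 hb
  apply Subtype.ext
  show _ ^ m * _ ^ n = _ ^ n * _ ^ m
  rw [← zpow_add, ← zpow_add, add_comm]

instance instSolvG1 : Group.IsSolvable (G1 K) :=
  Group.isSolvable_of_ker_le_range (SemidirectProduct.inl) (SemidirectProduct.rightHom)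
    (by rw [SemidirectProduct.range_inl_eq_ker_rightHom])

instance instSolvH1 : Group.IsSolvable (H1 K) :=
  Group.isSolvable_of_ker_le_range (SemidirectProduct.inl) (SemidirectProduct.rightHom)
    (by rw [SemidirectProduct.range_inl_eq_ker_rightHom])

instance instFiniteRingAutK : Finite (RingAut K) :=
  Finite.of_injective (fun e : K ≃+* K => (e : K → K)) DFunLike.coe_injective

instance instFiniteG1 : Finite (G1 K) := Finite.of_equiv _ SemidirectProduct.equivProd.symm

instance instFiniteH1 : Finite (H1 K) := Finite.of_equiv _ SemidirectProduct.equivProd.symm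

/-! ### the field with `81` elements -/

section facts

variable (hK : Fintype.card K = 81)
include hK

theorem frob4_apply (y : K) : σ (σ (σ (σ y))) = y := by
  have := FiniteField.pow_card y
  rw [hK] at this
  simp only [frobenius_def]
  rw [← pow_mul, ← pow_mul, ← pow_mul]
  exact this

theorem frob_pow_four : (frobeniusEquiv K 3) ^ 4 = 1 := by
  ext y
  simp only [pow_succ, pow_zero, one_mul, RingAut.mul_apply, RingAut.one_apply, coe_frobeniusEquiv]
  exact frob4_apply hK y

/-- the elements of the group of powers of the Frobenius automorphism -/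
theorem zf_cases (t : ZF K) : t.1 = 1 ∨ t.1 = frobeniusEquiv K 3 ∨ t.1 = (frobeniusEquiv K 3) ^ 2 ∨
    t.1 = (frobeniusEquiv K 3) ^ 3 := by
  obtain ⟨n, hn⟩ := Subgroup.mem_zpowers_iff.1 t.2
  have h4' : (frobeniusEquiv K 3) ^ (4 : ℤ) = 1 := by
    have := frob_pow_four hK
    exact_mod_cast this
  have e : (frobeniusEquiv K 3) ^ n = (frobeniusEquiv K 3) ^ (n % 4) := by
    conv_lhs => rw [← Int.mul_ediv_add_emod n 4, zpow_add, zpow_mul, h4', one_zpow, one_mul]
  have h0 : 0 ≤ n % 4 := Int.emod_nonneg _ (by norm_num)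
  have h1 : n % 4 < 4 := Int.emod_lt_of_pos _ (by norm_num)
  obtain ⟨r, hr⟩ : ∃ r : ℕ, n % 4 = r := ⟨(n % 4).toNat, (Int.toNat_of_nonneg h0).symm⟩
  rw [hr, zpow_natCast] at e
  have hr4 : r < 4 := by omega
  rw [← hn, e]
  interval_cases r
  · left; rw [pow_zero]
  · right; left; rw [pow_one]
  · right; right; left; rfl
  · right; right; right; rfl

end facts

theorem pow_ne_one_of {u : K} (hu : u ^ 5 = 1) (hu1 : u ≠ 1) (n : ℕ) (hn : ¬ 5 ∣ n) : u ^ n ≠ 1 := by
  have : Fact (Nat.Prime 5) := ⟨by norm_num⟩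
  have ho : orderOf u = 5 := orderOf_eq_prime hu hu1
  intro h
  exact hn (ho ▸ orderOf_dvd_of_pow_eq_one h)

theorem eq_zero_of_mul_eq {w y : K} (hw : w ≠ 1) (h : w * y = y) : y = 0 := by
  have h1 : (w - 1) * y = 0 := by rw [sub_mul, h, one_mul, sub_self]
  rcases mul_eq_zero.1 h1 with h2 | h2
  · exact absurd (sub_eq_zero.1 h2) hw
  · exact h2

/-- an element of order five of the acting group has no fixed point -/
theorem fix_eq_one (g : G1 K) (hu : uu g ^ 5 = 1) (hu1 : uu g ≠ 1) (ht : ∀ y, tt g y = y) (d : UA K)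
    (hd : g • d = d) : d = 1 := by
  rw [smul_def] at hd
  have e1 := congrArg UA.x1 hd
  have e2 := congrArg UA.x2 hd
  have e3 := congrArg UA.p1 hd
  have e4 := congrArg UA.p2 hd
  have e5 := congrArg UA.q1 hd
  have e6 := congrArg UA.q2 hd
  have e7 := congrArg UA.s hd
  simp only [act, ht, frobenius_def] at e1 e2 e3 e4 e5 e6 e7
  have w2 : uu g * uu g ^ 3 ≠ 1 := by
    have := pow_ne_one_of hu hu1 4 (by norm_num)
    intro h; apply this; rw [← h]; ring
  have w3 : uu g ^ 3 * (uu g ^ 3) ^ 3 ≠ 1 := by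
    have := pow_ne_one_of hu hu1 12 (by norm_num)
    intro h; apply this; rw [← h]; ring
  have w4 : uu g * uu g ^ 3 * (uu g ^ 3) ^ 3 ≠ 1 := by
    have := pow_ne_one_of hu hu1 13 (by norm_num)
    intro h; apply this; rw [← h]; ring
  ext
  · exact eq_zero_of_mul_eq hu1 e1
  · exact eq_zero_of_mul_eq hu1 e2
  · exact eq_zero_of_mul_eq w2 e3
  · exact eq_zero_of_mul_eq w2 e4
  · exact eq_zero_of_mul_eq w3 e5
  · exact eq_zero_of_mul_eq w3 e6
  · exact eq_zero_of_mul_eq w4 e7

open SemidirectProduct in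
theorem pow_nine (h : H1 K) (hr : h.right = 1) : h ^ 9 = 1 := by
  have e : h = inl h.left := by
    refine SemidirectProduct.ext rfl ?_
    rw [hr]; rfl
  rw [e, ← map_pow, pow_nine_eq, map_one]

open SemidirectProduct in
theorem pow_five (h : H1 K) (hu : uu h.right ^ 5 = 1) (hu1 : uu h.right ≠ 1) (ht : h.right.right = 1) :
    h ^ 5 = 1 := by
  obtain ⟨a, g⟩ := h
  change uu g ^ 5 = 1 at hu
  change uu g ≠ 1 at hu1
  change g.right = 1 at ht
  have htt : ∀ y, tt g y = y := fun y => by
    show (g.right.1) y = y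
    rw [ht]; rfl
  have g5 : g ^ 5 = 1 := by
    have e : g = inl g.left := by
      refine SemidirectProduct.ext rfl ?_
      rw [ht]; rfl
    rw [e, ← map_pow]
    have : g.left ^ 5 = 1 := by
      apply Units.ext
      rw [Units.val_pow_eq_pow_val]
      exact hu
    rw [this, map_one]
  have hinj : Function.Injective (fun b : UA K => b⁻¹ * g • b) := by
    intro b c hbc
    have hbc' : b⁻¹ * g • b = c⁻¹ * g • c := hbc
    have hfix : g • (c * b⁻¹) = c * b⁻¹ := by
      rw [smul_mul', smul_inv']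
      have : c * b⁻¹ = g • c * (g • b)⁻¹ := by
        rw [eq_mul_inv_iff_mul_eq, mul_assoc, hbc', ← mul_assoc, mul_inv_cancel, one_mul]
      exact this.symm
    have := fix_eq_one g hu hu1 htt _ hfix
    exact (mul_inv_eq_one.1 this).symm
  obtain ⟨b, hb⟩ := (Finite.injective_iff_surjective.1 hinj) a
  have hb' : b⁻¹ * g • b = a := hb
  have hconj : (⟨a, g⟩ : H1 K) = (inl b)⁻¹ * inr g * ((inl b)⁻¹)⁻¹ := by
    rw [inv_inv]
    refine SemidirectProduct.ext ?_ ?_
    · simp [← hb']
    · simp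
  rw [hconj, conj_pow, ← map_pow, g5, map_one, mul_one, mul_inv_cancel]

section main

variable (hK : Fintype.card K = 81)
include hK

theorem frob_sq_apply (y : K) : ((frobeniusEquiv K 3) ^ 2) y = σ (σ y) := rfl

open SemidirectProduct in
/-- elements over the square of the Frobenius automorphism -/
theorem pow_six (h : H1 K) (hu : uu h.right ^ 5 = 1) (ht : h.right.right.1 = (frobeniusEquiv K 3) ^ 2) :
    h ^ 6 = 1 := by
  obtain ⟨a, g⟩ := h
  change uu g ^ 5 = 1 at hu
  change g.right.1 = (frobeniusEquiv K 3) ^ 2 at ht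
  have htt : ∀ y, tt g y = σ (σ y) := fun y => by
    show (g.right.1) y = _
    rw [ht]; rfl
  have hu9 : σ (σ (uu g)) = uu g ^ 4 := by
    simp only [frobenius_def]
    rw [← pow_mul]
    calc uu g ^ (3 * 3) = uu g ^ 5 * uu g ^ 4 := by ring
      _ = uu g ^ 4 := by rw [hu, one_mul]
  have gg : g * g = 1 := by
    refine SemidirectProduct.ext ?_ ?_
    · apply Units.ext
      show uu (g * g) = 1
      rw [uu_mul, htt, hu9, ← pow_succ', hu]
    · apply Subtype.ext
      show g.right.1 * g.right.1 = 1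
      rw [ht, ← pow_add]
      exact frob_pow_four hK
  have e : (⟨a, g⟩ : H1 K) * ⟨a, g⟩ = inl (a * g • a) := by
    refine SemidirectProduct.ext ?_ ?_
    · rfl
    · exact gg
  rw [show 6 = 2 * 3 from rfl, pow_mul, pow_two, e, ← map_pow]
  rw [pow_three_eq_one (a * g • a) (uu g ^ 4), map_one]
  · simp only [mul_x1, smul_def, act, htt, map_add, map_mul, hu9, frob4_apply hK]
    have : uu g ^ 4 * (uu g * σ (σ a.x1)) = σ (σ a.x1) := by
      rw [← mul_assoc, ← pow_succ, hu, one_mul]
    rw [mul_add, this]; ring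
  · simp only [mul_x2, smul_def, act, htt, map_add, map_mul, hu9, frob4_apply hK]
    have : uu g ^ 4 * (uu g * σ (σ a.x2)) = σ (σ a.x2) := by
      rw [← mul_assoc, ← pow_succ, hu, one_mul]
    rw [mul_add, this]; ring

/-- elements over the Frobenius automorphism or its inverse -/
theorem pow_twelve (h : H1 K) (hu : uu h.right ^ 5 = 1)
    (ht : h.right.right.1 = frobeniusEquiv K 3 ∨ h.right.right.1 = (frobeniusEquiv K 3) ^ 3) :
    h ^ 12 = 1 := by
  rw [show 12 = 2 * 6 from rfl, pow_mul, pow_two]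
  apply pow_six hK
  · exact (HH K).mul_mem hu hu
  · show h.right.right.1 * h.right.right.1 = _
    rcases ht with ht | ht
    · rw [ht, pow_two]
    · rw [ht, ← pow_add, show 3 + 3 = 2 + 4 from rfl, pow_add, frob_pow_four hK, mul_one]

/-- the orders of the elements -/
theorem pow_cases (h : H1 K) (hh : h ∈ HH K) : h ^ 12 = 1 ∨ h ^ 9 = 1 ∨ h ^ 5 = 1 := by
  have hu : uu h.right ^ 5 = 1 := hh
  rcases zf_cases hK h.right.right with ht | ht | ht | ht
  · have ht' : h.right.right = 1 := Subtype.ext ht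
    by_cases hu1 : uu h.right = 1
    · right; left
      apply pow_nine
      refine SemidirectProduct.ext ?_ ht'
      apply Units.ext
      exact hu1
    · right; right
      exact pow_five h hu hu1 ht'
  · left; exact pow_twelve hK h hu (Or.inl ht)
  · left
    have := pow_six hK h hu ht
    rw [show 12 = 6 * 2 from rfl, pow_mul, this, one_pow]
  · left; exact pow_twelve hK h hu (Or.inr ht)

end main

/-! ### elements of orders `5`, `9` and `12` -/

section elements

variable (hK : Fintype.card K = 81)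
include hK

theorem exists_unit_five : ∃ u : Kˣ, orderOf u = 5 := by
  classical
  have : Fact (Nat.Prime 5) := ⟨by norm_num⟩
  apply exists_prime_orderOf_dvd_card 5
  rw [Fintype.card_units, hK]
  norm_num

open SemidirectProduct in
theorem exists_five : ∃ h : HH K, orderOf h = 5 := by
  obtain ⟨u, hu⟩ := exists_unit_five hK
  refine ⟨⟨inr (inl u), ?_⟩, ?_⟩
  · show ((u : Kˣ) : K) ^ 5 = 1
    rw [← Units.val_pow_eq_pow_val, ← hu, pow_orderOf_eq_one]
    rfl
  · rw [Subgroup.orderOf_mk, orderOf_injective _ inr_injective, orderOf_injective _ inl_injective, hu]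

theorem unit_pow_nine_ne (u : Kˣ) (hu : orderOf u = 5) : σ (σ (u : K)) ≠ (u : K) := by
  simp only [frobenius_def]
  rw [← pow_mul, ← Units.val_pow_eq_pow_val]
  intro h
  have h1 : u ^ (3 * 3) = u := Units.ext h
  have h2 : u ^ 8 = 1 := by
    have : u ^ 8 * u = 1 * u := by rw [← pow_succ, one_mul]; exact h1
    exact mul_right_cancel this
  have := orderOf_dvd_of_pow_eq_one h2
  rw [hu] at this
  norm_num at this

open SemidirectProduct in
theorem exists_nine : ∃ h : HH K, orderOf h = 9 := by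
  obtain ⟨u, hu⟩ := exists_unit_five hK
  have : Fact (Nat.Prime 3) := ⟨by norm_num⟩
  let a : UA K := ⟨1, (u : K), 0, 0, 0, 0, 0⟩
  have ha : orderOf a = 3 ^ (1 + 1) := by
    apply orderOf_eq_prime_pow
    · rw [pow_one, pow_three_eq]
      intro h
      have h7 := congrArg UA.s h
      simp only [a, map_one, one_mul, mul_one, one_s] at h7
      exact unit_pow_nine_ne hK u hu (sub_eq_zero.1 h7)
    · exact pow_nine_eq a
  refine ⟨⟨inl a, ?_⟩, ?_⟩
  · show uu (1 : G1 K) ^ 5 = 1
    rw [uu_one, one_pow]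
  · rw [Subgroup.orderOf_mk, orderOf_injective _ inl_injective, ha]
    norm_num

theorem orderOf_frob : orderOf (frobeniusEquiv K 3) = 4 := by
  obtain ⟨u, hu⟩ := exists_unit_five hK
  have : Fact (Nat.Prime 2) := ⟨by norm_num⟩
  have : orderOf (frobeniusEquiv K 3) = 2 ^ (1 + 1) := by
    apply orderOf_eq_prime_pow
    · rw [pow_one]
      intro h
      have := DFunLike.congr_fun h (u : K)
      rw [frob_sq_apply hK] at this
      exact unit_pow_nine_ne hK u hu this
    · exact frob_pow_four hK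
  rw [this]
  norm_num

open SemidirectProduct in
theorem exists_twelve : ∃ h : HH K, orderOf h = 12 := by
  have : Fact (Nat.Prime 3) := ⟨by norm_num⟩
  let a : UA K := ⟨0, 0, 0, 0, 0, 0, 1⟩
  let f : ZF K := ⟨frobeniusEquiv K 3, Subgroup.mem_zpowers _⟩
  let g : G1 K := inr f
  have ha : orderOf a = 3 := by
    apply orderOf_eq_prime
    · rw [pow_three_eq]
      ext <;> simp [a]
    · intro h
      have h7 := congrArg UA.s h
      simp [a] at h7
  have hf : orderOf g = 4 := by
    rw [orderOf_injective _ inr_injective, Subgroup.orderOf_mk, orderOf_frob hK]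
  have hga : g • a = a := by
    rw [smul_def]
    have hu : uu g = 1 := rfl
    ext <;> simp [act, a, hu]
  have hcomm : Commute (inl a : H1 K) (inr g) := by
    refine SemidirectProduct.ext ?_ ?_
    · show a * (MulDistribMulAction.toMulAut (G1 K) (UA K)) 1 1 = 1 * g • a
      rw [hga, map_one, one_mul, mul_one]
    · show (1 : G1 K) * g = g * 1
      rw [one_mul, mul_one]
  have ho : orderOf ((inl a : H1 K) * inr g) = 12 := by
    rw [hcomm.orderOf_mul_eq_mul_orderOf_of_coprime]
    · rw [orderOf_injective _ inl_injective, orderOf_injective _ inr_injective, ha, hf]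
    · rw [orderOf_injective _ inl_injective, orderOf_injective _ inr_injective, ha, hf]
      norm_num
  refine ⟨⟨inl a * inr g, ?_⟩, ?_⟩
  · show uu ((1 : G1 K) * g) ^ 5 = 1
    rw [one_mul]
    show (1 : K) ^ 5 = 1
    rw [one_pow]
  · rw [Subgroup.orderOf_mk, ho]

/-- the orders of the elements of the solvable group -/
theorem range_orderOf : Set.range (orderOf : HH K → ℕ) = {1, 2, 3, 4, 5, 6, 9, 12} := by
  ext n
  simp only [Set.mem_range, Set.mem_insert_iff, Set.mem_singleton_iff]
  constructor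
  · rintro ⟨h, rfl⟩
    have hpos : 0 < orderOf h := orderOf_pos h
    have hc := pow_cases hK h.1 h.2
    have e : ∀ m, (h.1) ^ m = 1 → orderOf h ∣ m := by
      intro m hm
      rw [← Subgroup.orderOf_coe]
      exact orderOf_dvd_of_pow_eq_one hm
    rcases hc with hc | hc | hc
    · have hd := e 12 hc
      have hle := Nat.le_of_dvd (by norm_num) hd
      generalize orderOf h = o at hd hle hpos
      interval_cases o <;> omega
    · have hd := e 9 hc
      have hle := Nat.le_of_dvd (by norm_num) hd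
      generalize orderOf h = o at hd hle hpos
      interval_cases o <;> omega
    · have hd := e 5 hc
      have hle := Nat.le_of_dvd (by norm_num) hd
      generalize orderOf h = o at hd hle hpos
      interval_cases o <;> omega
  · obtain ⟨x, hx⟩ := exists_twelve hK
    have hp : ∀ k, k ≠ 0 → orderOf (x ^ k) = 12 / Nat.gcd 12 k := by
      intro k hk
      rw [orderOf_pow' x hk, hx]
    rintro (rfl | rfl | rfl | rfl | rfl | rfl | rfl | rfl)
    · exact ⟨1, orderOf_one⟩
    · exact ⟨x ^ 6, by rw [hp 6 (by norm_num)]; rfl⟩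
    · exact ⟨x ^ 4, by rw [hp 4 (by norm_num)]; rfl⟩
    · exact ⟨x ^ 3, by rw [hp 3 (by norm_num)]; rfl⟩
    · exact exists_five hK
    · exact ⟨x ^ 2, by rw [hp 2 (by norm_num)]; rfl⟩
    · exact exists_nine hK
    · exact ⟨x, hx⟩

end elements

end

/-! ### the field -/

noncomputable instance instFintypeGF : Fintype (GaloisField 3 4) := Fintype.ofFinite _

theorem card_gf : Fintype.card (GaloisField 3 4) = 81 := by
  rw [← Nat.card_eq_fintype_card, GaloisField.card 3 4 (by norm_num)]
  norm_num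

/-- a finite solvable group whose element orders are `1, 2, 3, 4, 5, 6, 9, 12` -/
theorem exists_solvable : ∃ (H : Type) (_ : Group H) (_ : Fintype H), Group.IsSolvable H ∧
    Set.range (orderOf : H → ℕ) = {1, 2, 3, 4, 5, 6, 9, 12} :=
  ⟨HH (GaloisField 3 4), inferInstance, Fintype.ofFinite _, inferInstance, range_orderOf card_gf⟩

end Cfsg.Agent.Lib.Helper9.SolvSp
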