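import Cfsg.Agent.Lib.Helper9.FactorSys8
import Cfsg.Agent.Lib.Helper9.AbelianSimple
import Cfsg.Agent.Lib.Helper9.NormalSeries3

set_option autoImplicit false

namespace Cfsg.Agent.Lib.Helper9

open Cfsg Cfsg.FusionSystem
open scoped commutatorElement

variable {Ω : Type*} [Group Ω] {S : Subgroup Ω}

theorem solvable_of_series [Finite S] (p : ℕ) [Fact p.Prime] (hS : IsPGroup p S)
    (F : FusionSystem S) (hF : F.IsSaturated p) (n : ℕ) (T : Fin (n + 1) → Subgroup Ω)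
    (h0 : T 0 = ⊥) (hn : T (Fin.last n) = S) (hsc : ∀ i, F.StronglyClosed (T i))
    (hcomm : ∀ i : Fin n, ⁅T i.succ, T i.succ⁆ ≤ T (Fin.castSucc i)) : F.IsSolvableSystem := by
  intro R hR hne inst E hE
  have hE' := hE
  obtain ⟨hRS, hker, hrange, hHom⟩ := hE'
  -- find the first term of the series not inside `R`
  have hex : ∃ i : Fin n, T i.castSucc ≤ R ∧ ¬ T i.succ ≤ R := by
    by_contra hcon
    push Not at hcon
    have hall : ∀ j : Fin (n + 1), T j ≤ R := by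
      intro j
      induction j using Fin.induction with
      | zero => rw [h0]; exact bot_le
      | succ i ih => exact hcon i ih
    apply hne
    exact le_antisymm hRS (hn ▸ hall (Fin.last n))
  obtain ⟨i, hiR, hiR'⟩ := hex
  have hVsc : F.StronglyClosed (T i.succ ⊔ R) := stronglyClosed_sup hS F hF (hsc _) hR
  have hV'sc := imageAlong_stronglyClosed F _ E hE hVsc le_sup_right
  have hfin' : Finite (⊤ : Subgroup (S ⧸ R.subgroupOf S)) := finite_of_range_eq _ hrange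
  have hp' : IsPGroup p (⊤ : Subgroup (S ⧸ R.subgroupOf S)) := isPGroup_of_range_eq hS _ hrange
  have hEsat := factorSystem_saturated p hS F hF hR _ E hE
  have himg : ∀ y ∈ imageAlong (QuotientGroup.mk' (R.subgroupOf S)) (T i.succ ⊔ R),
      ∃ (t : Ω) (ht : t ∈ T i.succ), (QuotientGroup.mk' (R.subgroupOf S)) ⟨t, (hsc _).1 ht⟩ = y := by
    intro y hy
    obtain ⟨v, hvS, hv, rfl⟩ := (mem_imageAlong _ _ y).mp hy
    obtain ⟨t, ht, r, hr, hvtr⟩ := exists_mul_of_mem_sup_stronglyClosed F hR (hsc _).1 hv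
    refine ⟨t, ht, ?_⟩
    have h1 : (⟨v, hvS⟩ : S) = ⟨t, (hsc _).1 ht⟩ * ⟨r, hRS hr⟩ := Subtype.ext hvtr
    rw [h1, map_mul, (hker ⟨r, hRS hr⟩).mpr hr, mul_one]
  have hab' : ∀ a ∈ imageAlong (QuotientGroup.mk' (R.subgroupOf S)) (T i.succ ⊔ R),
      ∀ b ∈ imageAlong (QuotientGroup.mk' (R.subgroupOf S)) (T i.succ ⊔ R), a * b = b * a := by
    intro a ha b hb
    obtain ⟨t, ht, rfl⟩ := himg a ha
    obtain ⟨t', ht', rfl⟩ := himg b hb
    rw [← map_mul, ← map_mul]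
    have h1 : ⁅t, t'⁆ ∈ R := hiR (hcomm i (Subgroup.commutator_mem_commutator ht ht'))
    have h2 : (⟨t, (hsc _).1 ht⟩ : S) * ⟨t', (hsc _).1 ht'⟩ =
        ⟨⁅t, t'⁆, hRS h1⟩ * (⟨t', (hsc _).1 ht'⟩ * ⟨t, (hsc _).1 ht⟩) := by
      apply Subtype.ext
      show t * t' = ⁅t, t'⁆ * (t' * t)
      rw [commutatorElement_def]
      group
    rw [h2, map_mul, (hker ⟨⁅t, t'⁆, hRS h1⟩).mpr h1, one_mul]
  have hV'n := normal_of_abelian_stronglyClosed p hp' E hEsat _
    (commutator_le_bot_of_forall_comm hab') hV'sc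
  intro hcore
  have hle : imageAlong (QuotientGroup.mk' (R.subgroupOf S)) (T i.succ ⊔ R) ≤ E.core :=
    le_sSup hV'n
  rw [hcore] at hle
  obtain ⟨t, ht, htR⟩ := SetLike.not_le_iff_exists.mp hiR'
  have h3 : (QuotientGroup.mk' (R.subgroupOf S)) ⟨t, (hsc _).1 ht⟩ ∈
      imageAlong (QuotientGroup.mk' (R.subgroupOf S)) (T i.succ ⊔ R) :=
    (mem_imageAlong _ _ _).mpr ⟨t, (hsc _).1 ht, Subgroup.mem_sup_left ht, rfl⟩
  have h4 := hle h3
  rw [Subgroup.mem_bot] at h4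
  exact htR ((hker _).mp h4)

end Cfsg.Agent.Lib.Helper9
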