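import Cfsg.Agent.Lib.Helper9.Solvable1
import Cfsg.Agent.S5145
import Cfsg.Agent.S5085

set_option autoImplicit false

namespace Cfsg.Agent.Lib.Helper9

open Cfsg Cfsg.FusionSystem
open scoped commutatorElement

variable {Ω : Type*} [Group Ω] {S : Subgroup Ω}

theorem subgroupOf_normal_of_stronglyClosed (F : FusionSystem S) {T : Subgroup Ω}
    (hT : F.StronglyClosed T) : (T.subgroupOf S).Normal :=
  ⟨fun _ hn g => conj_mem_of_stronglyClosed F hT g.2 hn⟩

/-- in a solvable saturated system every proper strongly closed subgroup has a strictly larger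
strongly closed subgroup, abelian over it -/
theorem exists_next_of_solvable [Finite S] (p : ℕ) [Fact p.Prime] (hS : IsPGroup p S)
    (F : FusionSystem S) (hF : F.IsSaturated p) (hsolv : F.IsSolvableSystem) {T : Subgroup Ω}
    (hT : F.StronglyClosed T) (hne : T ≠ S) :
    ∃ T' : Subgroup Ω, F.StronglyClosed T' ∧ T ≤ T' ∧ T ≠ T' ∧ ⁅T', T'⁆ ≤ T := by
  have := subgroupOf_normal_of_stronglyClosed F hT
  obtain ⟨E, hE⟩ := exists_factorSystem_quotient F T hT
  have hcore := hsolv T hT hne E hE
  have hE' := hE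
  obtain ⟨hTS, hker, hrange, hHom⟩ := hE'
  have hfin' : Finite (⊤ : Subgroup (S ⧸ T.subgroupOf S)) := finite_of_range_eq _ hrange
  have hp' : IsPGroup p (⊤ : Subgroup (S ⧸ T.subgroupOf S)) := isPGroup_of_range_eq hS _ hrange
  have hcn : E.IsNormal E.core := Cfsg.Agent.S5145.result E
  have hfinc : Finite E.core := finite_of_le hcn.1
  have hpc : IsPGroup p E.core := isPGroup_of_le hp' hcn.1
  have hnt : Nontrivial E.core := (Subgroup.nontrivial_iff_ne_bot _).mpr hcore
  have hZnt : Nontrivial (Subgroup.center E.core) := hpc.center_nontrivial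
  have hZn : E.IsNormal ((Subgroup.center E.core).map E.core.subtype) := by
    apply Cfsg.Agent.S5085.result E E.core _ hcn (Subgroup.map_subtype_le _)
    have : ((Subgroup.center E.core).map E.core.subtype).subgroupOf E.core =
        Subgroup.center E.core :=
      Subgroup.comap_map_eq_self_of_injective (Subgroup.subtype_injective _) _
    rw [this]
    infer_instance
  have hZsc := stronglyClosed_of_normal E hZn
  have hZne : (Subgroup.center E.core).map E.core.subtype ≠ ⊥ := by
    rw [Ne, Subgroup.map_eq_bot_iff_of_injective _ (Subgroup.subtype_injective _)]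
    exact (Subgroup.nontrivial_iff_ne_bot _).mp hZnt
  have hZab : ∀ a ∈ (Subgroup.center E.core).map E.core.subtype,
      ∀ b ∈ (Subgroup.center E.core).map E.core.subtype, a * b = b * a := by
    rintro _ ⟨a, ha, rfl⟩ _ ⟨b, hb, rfl⟩
    have h1 : b * a = a * b := Subgroup.mem_center_iff.mp ha b
    rw [← map_mul, ← map_mul, h1]
  refine ⟨preimageAlong _ ((Subgroup.center E.core).map E.core.subtype),
    preimageAlong_stronglyClosed p hS F hF hT _ E hE hZsc,
    ker_le_preimageAlong _ hTS hker _, ?_, ?_⟩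
  · intro heq
    apply hZne
    have h1 := imageAlong_preimageAlong (QuotientGroup.mk' (T.subgroupOf S)) hrange hZsc.1
    rw [← heq] at h1
    rw [← h1, eq_bot_iff]
    intro y hy
    obtain ⟨x, hxS, hxT, rfl⟩ := (mem_imageAlong _ _ y).mp hy
    rw [Subgroup.mem_bot]
    exact (hker _).mpr hxT
  · rw [Subgroup.commutator_le]
    intro a ha b hb
    obtain ⟨haS, ha'⟩ := (mem_preimageAlong _ _ a).mp ha
    obtain ⟨hbS, hb'⟩ := (mem_preimageAlong _ _ b).mp hb
    have hcS : ⁅a, b⁆ ∈ S := by
      rw [commutatorElement_def]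
      exact S.mul_mem (S.mul_mem (S.mul_mem haS hbS) (S.inv_mem haS)) (S.inv_mem hbS)
    apply (hker ⟨_, hcS⟩).mp
    have h2 : (⟨⁅a, b⁆, hcS⟩ : S) = ⁅(⟨a, haS⟩ : S), ⟨b, hbS⟩⁆ := Subtype.ext rfl
    rw [h2, map_commutatorElement, commutatorElement_eq_one_iff_mul_comm]
    exact hZab _ ha' _ hb'

end Cfsg.Agent.Lib.Helper9
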