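import Cfsg.Agent.Lib.Helper9.Solvable2

set_option autoImplicit false

namespace Cfsg.Agent.Lib.Helper9

open Cfsg Cfsg.FusionSystem

variable {Ω : Type*} [Group Ω] {S : Subgroup Ω}

theorem exists_chain_of_solvable [Finite S] (p : ℕ) [Fact p.Prime] (hS : IsPGroup p S)
    (F : FusionSystem S) (hF : F.IsSaturated p) (hsolv : F.IsSolvableSystem) :
    ∀ (d : ℕ) (T : Subgroup Ω), F.StronglyClosed T → Nat.card S - Nat.card T ≤ d →
      ∃ (n : ℕ) (c : ℕ → Subgroup Ω), c 0 = T ∧ c n = S ∧ (∀ j, F.StronglyClosed (c j)) ∧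
        (∀ j, c j ≤ c (j + 1)) ∧ ∀ j < n, ⁅c (j + 1), c (j + 1)⁆ ≤ c j := by
  intro d
  induction d with
  | zero =>
    intro T hT hd
    have hTS : T = S := by
      apply Subgroup.eq_of_le_of_card_ge hT.1
      omega
    exact ⟨0, fun _ => S, hTS.symm, rfl, fun _ => stronglyClosed_top F, fun _ => le_rfl,
      fun j hj => absurd hj (Nat.not_lt_zero j)⟩
  | succ d ih =>
    intro T hT hd
    by_cases hTS : T = S
    · exact ⟨0, fun _ => S, hTS.symm, rfl, fun _ => stronglyClosed_top F, fun _ => le_rfl,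
        fun j hj => absurd hj (Nat.not_lt_zero j)⟩
    obtain ⟨T', hT'sc, hTT', hne, hcomm⟩ := exists_next_of_solvable p hS F hF hsolv hT hTS
    have hfinT' : Finite T' := finite_of_le hT'sc.1
    have hlt : Nat.card T < Nat.card T' := card_lt_of_lt' (lt_of_le_of_ne hTT' hne)
    have hle : Nat.card T' ≤ Nat.card S := Subgroup.card_le_of_le hT'sc.1
    obtain ⟨n, c, hc0, hcn, hcsc, hcmono, hccomm⟩ := ih T' hT'sc (by omega)
    refine ⟨n + 1, fun j => Nat.casesOn j T c, rfl, hcn, ?_, ?_, ?_⟩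
    · intro j
      cases j with
      | zero => exact hT
      | succ j => exact hcsc j
    · intro j
      cases j with
      | zero => show T ≤ c 0; rw [hc0]; exact hTT'
      | succ j => exact hcmono j
    · intro j hj
      cases j with
      | zero => show ⁅c 0, c 0⁆ ≤ T; rw [hc0]; exact hcomm
      | succ j => exact hccomm j (Nat.lt_of_succ_lt_succ hj)

/-- S5157 -/
theorem solvable_iff_series [Finite S] (p : ℕ) [Fact p.Prime] (hS : IsPGroup p S)
    (F : FusionSystem S) (hF : F.IsSaturated p) :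
    F.IsSolvableSystem ↔ ∃ (n : ℕ) (T : Fin (n + 1) → Subgroup Ω), T 0 = ⊥ ∧
      T (Fin.last n) = S ∧ Monotone T ∧ (∀ i, F.StronglyClosed (T i)) ∧
      ∀ i : Fin n, ⁅T i.succ, T i.succ⁆ ≤ T (Fin.castSucc i) := by
  constructor
  · intro hsolv
    obtain ⟨n, c, hc0, hcn, hcsc, hcmono, hccomm⟩ :=
      exists_chain_of_solvable p hS F hF hsolv _ ⊥ (stronglyClosed_bot F) le_rfl
    refine ⟨n, fun i => c i, ?_, ?_, ?_, fun i => hcsc i, ?_⟩
    · show c ((0 : Fin (n + 1)) : ℕ) = ⊥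
      rw [Fin.val_zero, hc0]
    · show c ((Fin.last n : Fin (n + 1)) : ℕ) = S
      rw [Fin.val_last, hcn]
    · intro i j hij
      exact monotone_nat_of_le_succ hcmono hij
    · intro i
      show ⁅c ((i.succ : Fin (n + 1)) : ℕ), c ((i.succ : Fin (n + 1)) : ℕ)⁆ ≤
        c ((Fin.castSucc i : Fin (n + 1)) : ℕ)
      rw [Fin.val_succ, Fin.val_castSucc]
      exact hccomm i i.2
  · rintro ⟨n, T, h0, hn, -, hsc, hcomm⟩
    exact solvable_of_series p hS F hF n T h0 hn hsc hcomm

end Cfsg.Agent.Lib.Helper9
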