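import Mathlib

set_option autoImplicit false

namespace Cfsg.Agent.Lib.Helper9.SpIdem

open Matrix Polynomial

variable {F : Type*} [Field F] {ι : Type*} [Fintype ι] [DecidableEq ι]

/-- the adjoint relation `Mᵀ J = J M'` is respected by polynomials -/
theorem adj_aeval (Jm B B' : Matrix ι ι F) (h : Bᵀ * Jm = Jm * B') (p : F[X]) :
    (aeval B p)ᵀ * Jm = Jm * aeval B' p := by
  induction p using Polynomial.induction_on with
  | C a =>
    simp only [aeval_C, Matrix.algebraMap_eq_diagonal]
    rw [Matrix.diagonal_transpose]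
    ext i j
    simp [Matrix.diagonal_mul, Matrix.mul_diagonal, mul_comm]
  | add p q hp hq =>
    rw [map_add, map_add, transpose_add, Matrix.add_mul, Matrix.mul_add, hp, hq]
  | monomial n a ih =>
    have hc : Commute (aeval B' (C a * X ^ n)) B' := by
      have := Commute.map (Polynomial.commute_X (C a * X ^ n)) (aeval B')
      rw [aeval_X] at this
      exact this.symm
    have e1 : aeval B (C a * X ^ (n + 1)) = aeval B (C a * X ^ n) * B := by
      rw [pow_succ, ← mul_assoc, map_mul, aeval_X]
    have e2 : aeval B' (C a * X ^ (n + 1)) = B' * aeval B' (C a * X ^ n) := by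
      rw [pow_succ, ← mul_assoc, map_mul, aeval_X]
      exact hc.eq
    rw [e1, e2, transpose_mul, Matrix.mul_assoc, ih, ← Matrix.mul_assoc, h, Matrix.mul_assoc]

/-- the Fitting idempotent of `B` with `B (1 - B)` nilpotent, compatible with an adjoint
exchanging `B` and `1 - B` -/
theorem exists_idem (Jm B : Matrix ι ι F)
    (h : Bᵀ * Jm = Jm * (1 - B)) (hnil : IsNilpotent (B * (1 - B))) :
    ∃ e : Matrix ι ι F, e * e = e ∧ e * B = B * e ∧ eᵀ * Jm = Jm * (1 - e) ∧
      IsNilpotent (B * (1 - e)) := by
  obtain ⟨N, hN⟩ := hnil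
  have hZ : ∀ p : F[X], aeval B (p * (X * (1 - X)) ^ N) = 0 := by
    intro p
    rw [map_mul, map_pow, map_mul, map_sub, aeval_X, map_one, hN, mul_zero]
  have hcop : IsCoprime ((X : F[X]) ^ N) ((1 - X) ^ N) :=
    IsCoprime.pow ⟨1, 1, by ring⟩
  obtain ⟨u, v, huv⟩ := hcop
  set e : Matrix ι ι F := aeval B (u * X ^ N) with he
  set e' : Matrix ι ι F := aeval B (v * (1 - X) ^ N) with he'
  have hsum : e + e' = 1 := by
    rw [he, he', ← map_add, huv, map_one]
  have hee' : e * e' = 0 := by
    rw [he, he', ← map_mul]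
    have : u * X ^ N * (v * (1 - X) ^ N) = (u * v) * (X * (1 - X)) ^ N := by
      rw [mul_pow]; ring
    rw [this, hZ]
  have he'eq : e' = 1 - e := by rw [← hsum]; abel
  have hidem : e * e = e := by
    have : e * e = e * (1 - e') := by rw [← hsum]; congr 1; abel
    rw [this, Matrix.mul_sub, Matrix.mul_one, hee', sub_zero]
  have hcomm : e * B = B * e := by
    have := Commute.map (Polynomial.commute_X (u * X ^ N)) (aeval B)
    rw [aeval_X] at this
    exact this.eq.symm
  -- adjoints
  have hadj1 := adj_aeval Jm B (1 - B) h (u * X ^ N)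
  have hcomp : ∀ p : F[X], aeval (1 - B) p = aeval B (p.comp (1 - X)) := by
    intro p
    rw [aeval_comp, map_sub, map_one, aeval_X]
  set et : Matrix ι ι F := aeval (1 - B) (u * X ^ N) with het
  set et' : Matrix ι ι F := aeval (1 - B) (v * (1 - X) ^ N) with het'
  have hsumt : et + et' = 1 := by
    rw [het, het', ← map_add, huv, map_one]
  have h1 : e * et = 0 := by
    rw [he, het, hcomp, ← map_mul]
    have : u * X ^ N * (u * X ^ N).comp (1 - X) = (u * u.comp (1 - X)) * (X * (1 - X)) ^ N := by
      simp only [mul_comp, pow_comp, X_comp]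
      rw [mul_pow]; ring
    rw [this, hZ]
  have h2 : e' * et' = 0 := by
    rw [he', het', hcomp, ← map_mul]
    have : v * (1 - X) ^ N * (v * (1 - X) ^ N).comp (1 - X) =
        (v * v.comp (1 - X)) * (X * (1 - X)) ^ N := by
      simp only [mul_comp, pow_comp, sub_comp, one_comp, X_comp]
      rw [mul_pow, sub_sub_cancel]; ring
    rw [this, hZ]
  have het_eq : et = 1 - e := by
    have a1 : et = (e + e') * et := by rw [hsum, Matrix.one_mul]
    have a2 : e' * et = e' * (1 - et') := by rw [← hsumt]; congr 1; abel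
    rw [Matrix.add_mul, h1, zero_add, a2, Matrix.mul_sub, Matrix.mul_one, h2, sub_zero] at a1
    rw [a1, he'eq]
  refine ⟨e, hidem, hcomm, ?_, ?_⟩
  · rw [← het_eq]; exact hadj1
  · refine ⟨N + 1, ?_⟩
    rw [← he'eq]
    have hBe' : Commute B e' := by
      have := Commute.map (Polynomial.commute_X (v * (1 - X) ^ N)) (aeval B)
      rw [aeval_X] at this
      exact this
    have hid' : IsIdempotentElem e' := by
      unfold IsIdempotentElem
      rw [he'eq, Matrix.mul_sub, Matrix.mul_one, Matrix.sub_mul, Matrix.one_mul, hidem]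
      abel
    rw [hBe'.mul_pow, hid'.pow_succ_eq, pow_succ', Matrix.mul_assoc]
    have : B ^ N * e' = 0 := by
      have hx : B ^ N = aeval B ((X : F[X]) ^ N) := by rw [map_pow, aeval_X]
      rw [hx, he', ← map_mul]
      have : (X : F[X]) ^ N * (v * (1 - X) ^ N) = v * (X * (1 - X)) ^ N := by rw [mul_pow]; ring
      rw [this, hZ]
    rw [this, Matrix.mul_zero]

end Cfsg.Agent.Lib.Helper9.SpIdem
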