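import Mathlib
import Cfsg.Prelude.Def_ClassicalGeometry
import Cfsg.Agent.Lib.Helper2.SpUDefs
import Cfsg.Agent.Lib.Helper9.SpLag
import Cfsg.Agent.Lib.Helper9.SpIdem

set_option autoImplicit false
set_option linter.style.haveILetI false

namespace Cfsg.Agent.Lib.Helper9.SpUL1

open Matrix Cfsg.Agent.Lib.Helper2.SpU

variable {F : Type*} [Field F]

theorem fromBlocks_diag_pow {k : ℕ} (P S : Matrix (Fin k) (Fin k) F) (n : ℕ) :
    (fromBlocks P 0 0 S) ^ n = fromBlocks (P ^ n) 0 0 (S ^ n) := by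
  induction n with
  | zero => simp [fromBlocks_one]
  | succ n ih =>
    rw [pow_succ, ih, fromBlocks_multiply, pow_succ, pow_succ]
    simp

/-- L1: the nilpotent part of `Aff`. -/
theorem lagr_block (k : ℕ) (B : Mat F k) (hB : B ∈ Aff F k) (hnil : IsNilpotent (B * (1 - B))) :
    ∃ (x : Sp F k) (N : Matrix (Fin k) (Fin k) F), IsNilpotent N ∧
      B = cj x (Matrix.fromBlocks N 0 0 (1 - Nᵀ)) := by
  have hB' : Matrix.J (Fin k) F * B + Bᵀ * Matrix.J (Fin k) F = Matrix.J (Fin k) F := hB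
  have h : Bᵀ * Matrix.J (Fin k) F = Matrix.J (Fin k) F * (1 - B) := by
    have h0 : Bᵀ * Matrix.J (Fin k) F = Matrix.J (Fin k) F - Matrix.J (Fin k) F * B := by
      rw [eq_sub_iff_add_eq, add_comm]; exact hB'
    rw [Matrix.mul_sub, Matrix.mul_one, h0]
  obtain ⟨e, hidem, hcomm, hadj, hnile⟩ := Cfsg.Agent.Lib.Helper9.SpIdem.exists_idem _ B h hnil
  obtain ⟨g, hg⟩ := Cfsg.Agent.Lib.Helper9.SpLag.exists_symplectic_conj_e0 k e hidem hadj
  have hgg : (g : Mat F k) * ((g⁻¹ : Sp F k) : Mat F k) = 1 := coe_mul_inv g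
  have hgg' : ((g⁻¹ : Sp F k) : Mat F k) * (g : Mat F k) = 1 := coe_inv_mul g
  -- e0 = cj g⁻¹ e
  have he0 : Cfsg.Agent.Lib.Helper9.SpLag.e0 F k = cj g⁻¹ e := by
    unfold cj
    rw [inv_inv, Matrix.mul_assoc, ← hg, ← Matrix.mul_assoc, hgg', Matrix.one_mul]
  have hcommB' : Cfsg.Agent.Lib.Helper9.SpLag.e0 F k * cj g⁻¹ B =
      cj g⁻¹ B * Cfsg.Agent.Lib.Helper9.SpLag.e0 F k := by
    rw [he0, ← cj_mul, ← cj_mul, hcomm]
  have hadjB' : (cj g⁻¹ B)ᵀ * Matrix.J (Fin k) F = Matrix.J (Fin k) F * (1 - cj g⁻¹ B) := by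
    have := Cfsg.Agent.Lib.Helper9.SpLag.adj_conj k g⁻¹ B (1 - B) h
    have h2 : cj g⁻¹ (1 - B) = 1 - cj g⁻¹ B := by rw [cj_sub, cj_one]
    unfold cj at h2 ⊢
    rw [← h2]
    exact this
  have hnilB' : IsNilpotent (cj g⁻¹ B * (1 - Cfsg.Agent.Lib.Helper9.SpLag.e0 F k)) := by
    rw [he0]
    have : cj g⁻¹ B * (1 - cj g⁻¹ e) = cj g⁻¹ (B * (1 - e)) := by
      rw [cj_mul, cj_sub, cj_one]
    rw [this, isNilpotent_cj_iff]
    exact hnile
  obtain ⟨P, Q, R, S, hblocks⟩ : ∃ P Q R S, cj g⁻¹ B = fromBlocks P Q R S :=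
    ⟨_, _, _, _, (fromBlocks_toBlocks _).symm⟩
  rw [hblocks] at hcommB' hadjB' hnilB'
  unfold Cfsg.Agent.Lib.Helper9.SpLag.e0 at hcommB' hnilB'
  rw [fromBlocks_multiply, fromBlocks_multiply, fromBlocks_inj] at hcommB'
  simp only [Matrix.zero_mul, Matrix.one_mul, zero_add, add_zero, Matrix.mul_zero,
    Matrix.mul_one] at hcommB'
  obtain ⟨-, hQ, hR, -⟩ := hcommB'
  subst hQ
  subst hR
  have hS : S = 1 - Pᵀ := by
    unfold Matrix.J at hadjB'
    rw [← fromBlocks_one, sub_eq_add_neg, fromBlocks_neg, fromBlocks_add, fromBlocks_transpose,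
      fromBlocks_multiply, fromBlocks_multiply, fromBlocks_inj] at hadjB'
    have h12 := hadjB'.2.1
    simp at h12
    calc S = (S + -1) + 1 := by abel
      _ = -Pᵀ + 1 := by rw [h12]
      _ = 1 - Pᵀ := by abel
  have hPnil : IsNilpotent P := by
    rw [← fromBlocks_one, sub_eq_add_neg, fromBlocks_neg, fromBlocks_add,
      fromBlocks_multiply] at hnilB'
    simp only [Matrix.mul_zero, Matrix.zero_mul, add_zero, neg_zero, add_neg_cancel,
      Matrix.mul_one] at hnilB'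
    obtain ⟨n, hn⟩ := hnilB'
    rw [fromBlocks_diag_pow] at hn
    refine ⟨n, ?_⟩
    rw [← fromBlocks_zero, fromBlocks_inj] at hn
    exact hn.1
  refine ⟨g, P, hPnil, ?_⟩
  rw [← hS, ← hblocks, cj_cj_inv]

end Cfsg.Agent.Lib.Helper9.SpUL1
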