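import Mathlib
import Cfsg.Prelude.Def_ClassicalGeometry
import Cfsg.Agent.Lib.Helper2.SpUDefs
import Cfsg.Agent.Lib.Helper4.UnipCount1
import Cfsg.Agent.Lib.Helper9.SpUL1

set_option autoImplicit false
set_option linter.style.haveILetI false

namespace Cfsg.Agent.Lib.Helper9.SpUL2

open Matrix Cfsg.Agent.Lib.Helper2.SpU

variable {F : Type*} [Field F]

/-- the Levi embedding `a ↦ diag(a, a⁻ᵀ)` of `GL_k` into `Sp_2k` -/
noncomputable def levi (k : ℕ) : GL (Fin k) F →* Sp F k where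
  toFun a := ⟨fromBlocks (a : Matrix (Fin k) (Fin k) F) 0 0
      (((a⁻¹ : GL (Fin k) F) : Matrix (Fin k) (Fin k) F)ᵀ), by
    rw [SymplecticGroup.fromBlocks_mem_iff]
    refine ⟨by simp, by simp, ?_⟩
    rw [← transpose_mul, ← Units.val_mul, inv_mul_cancel]
    simp⟩
  map_one' := by
    apply Subtype.ext
    simp [fromBlocks_one]
  map_mul' a b := by
    apply Subtype.ext
    simp [fromBlocks_multiply, transpose_mul]

theorem levi_val (k : ℕ) (a : GL (Fin k) F) :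
    ((levi k a : Sp F k) : Mat F k) = fromBlocks (a : Matrix (Fin k) (Fin k) F) 0 0
      (((a⁻¹ : GL (Fin k) F) : Matrix (Fin k) (Fin k) F)ᵀ) := rfl

theorem levi_inv_val (k : ℕ) (a : GL (Fin k) F) :
    (((levi k a)⁻¹ : Sp F k) : Mat F k) =
      fromBlocks ((a⁻¹ : GL (Fin k) F) : Matrix (Fin k) (Fin k) F) 0 0
        ((a : Matrix (Fin k) (Fin k) F)ᵀ) := by
  rw [← map_inv, levi_val, inv_inv]

theorem levi_injective (k : ℕ) : Function.Injective (levi (F := F) k) := by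
  intro a b h
  have h' := congrArg (fun x : Sp F k => (x : Mat F k)) h
  simp only [levi_val, fromBlocks_inj] at h'
  exact Units.ext h'.1

variable (F) in
/-- the set `D` of block diagonal nilpotent-type elements of `Aff` -/
def Dnil (k : ℕ) : Set (Mat F k) :=
  {M | ∃ N : Matrix (Fin k) (Fin k) F, IsNilpotent N ∧ M = fromBlocks N 0 0 (1 - Nᵀ)}

theorem card_Dnil [Finite F] (k : ℕ) :
    Nat.card (Dnil F k) = Nat.card {N : Matrix (Fin k) (Fin k) F // IsNilpotent N} := by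
  apply Nat.card_congr
  symm
  refine Equiv.ofBijective (fun N : {N : Matrix (Fin k) (Fin k) F // IsNilpotent N} =>
    (⟨fromBlocks N.1 0 0 (1 - N.1ᵀ), N.1, N.2, rfl⟩ : Dnil F k)) ?_
  constructor
  · intro N N' h
    have h' := congrArg Subtype.val h
    simp only [fromBlocks_inj] at h'
    exact Subtype.ext h'.1
  · rintro ⟨M, N, hN, rfl⟩
    exact ⟨⟨N, hN⟩, rfl⟩

theorem isNilpotent_transpose {k : ℕ} {N : Matrix (Fin k) (Fin k) F} (hN : IsNilpotent N) :
    IsNilpotent Nᵀ := by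
  obtain ⟨n, hn⟩ := hN
  exact ⟨n, by rw [← transpose_pow, hn, transpose_zero]⟩

theorem cj_levi_mem (k : ℕ) (a : GL (Fin k) F) (d : Mat F k) (hd : d ∈ Dnil F k) :
    cj (levi k a) d ∈ Dnil F k := by
  obtain ⟨N, hN, rfl⟩ := hd
  refine ⟨(a : Matrix (Fin k) (Fin k) F) * N * ((a⁻¹ : GL (Fin k) F) : Matrix (Fin k) (Fin k) F),
    ?_, ?_⟩
  · obtain ⟨j, hj⟩ := hN
    refine ⟨j, ?_⟩
    rw [Units.conj_pow, hj, mul_zero, zero_mul]
  · unfold cj
    rw [levi_val, levi_inv_val, fromBlocks_multiply, fromBlocks_multiply]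
    have h1 : ((a⁻¹ : GL (Fin k) F) : Matrix (Fin k) (Fin k) F)ᵀ * (a : Matrix (Fin k) (Fin k) F)ᵀ
        = 1 := by
      rw [← transpose_mul, ← Units.val_mul, mul_inv_cancel]; simp
    simp only [Matrix.mul_zero, Matrix.zero_mul, add_zero, zero_add, transpose_mul,
      Matrix.mul_sub, Matrix.sub_mul, Matrix.mul_one, h1, Matrix.mul_assoc, sub_zero]

theorem mem_range_of_cj_mem (k : ℕ) (g : Sp F k) (d : Mat F k) (hd : d ∈ Dnil F k)
    (hgd : cj g d ∈ Dnil F k) : g ∈ (levi (F := F) k).range := by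
  let gGL : GL (Fin k ⊕ Fin k) F := ⟨(g : Mat F k), ((g⁻¹ : Sp F k) : Mat F k),
    coe_mul_inv g, coe_inv_mul g⟩
  have hD : ∀ M ∈ Dnil F k, M ∈ Cfsg.Agent.Lib.Helper4.UnipCount.Dset F (Fin k) (Fin k) := by
    rintro M ⟨N, hN, rfl⟩
    exact ⟨N, 1 - Nᵀ, hN, (isNilpotent_transpose hN).isUnit_one_sub, rfl⟩
  have h1 := Cfsg.Agent.Lib.Helper4.UnipCount.mem_range_of_cact_mem gGL d (hD d hd) (hD _ hgd)
  obtain ⟨p, hp⟩ := h1
  have hgval : (g : Mat F k) = fromBlocks (p.1 : Matrix (Fin k) (Fin k) F) 0 0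
      (p.2 : Matrix (Fin k) (Fin k) F) := by
    have := congrArg (fun u : GL (Fin k ⊕ Fin k) F => u.val) hp
    rw [Cfsg.Agent.Lib.Helper4.UnipCount.blockHom_val] at this
    exact this.symm
  have hmem := g.2
  rw [hgval, SymplecticGroup.fromBlocks_mem_iff] at hmem
  have h3 : (p.1 : Matrix (Fin k) (Fin k) F)ᵀ * (p.2 : Matrix (Fin k) (Fin k) F) = 1 := by
    have := hmem.2.2
    simpa using this
  have h4 : ((p.1⁻¹ : GL (Fin k) F) : Matrix (Fin k) (Fin k) F)ᵀ =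
      (p.2 : Matrix (Fin k) (Fin k) F) := by
    have h5 : ((p.1⁻¹ : GL (Fin k) F) : Matrix (Fin k) (Fin k) F)ᵀ *
        (p.1 : Matrix (Fin k) (Fin k) F)ᵀ = 1 := by
      rw [← transpose_mul, ← Units.val_mul, mul_inv_cancel]; simp
    calc ((p.1⁻¹ : GL (Fin k) F) : Matrix (Fin k) (Fin k) F)ᵀ
        = ((p.1⁻¹ : GL (Fin k) F) : Matrix (Fin k) (Fin k) F)ᵀ *
          ((p.1 : Matrix (Fin k) (Fin k) F)ᵀ * (p.2 : Matrix (Fin k) (Fin k) F)) := by
          rw [h3, Matrix.mul_one]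
      _ = (p.2 : Matrix (Fin k) (Fin k) F) := by
          rw [← Matrix.mul_assoc, h5, Matrix.one_mul]
  refine ⟨p.1, ?_⟩
  apply Subtype.ext
  rw [levi_val, hgval, h4]

theorem fromBlocks_diag_isNilpotent {k : ℕ} (P S : Matrix (Fin k) (Fin k) F)
    (hP : IsNilpotent P) (hS : IsNilpotent S) : IsNilpotent (fromBlocks P 0 0 S) := by
  obtain ⟨n1, h1⟩ := hP
  obtain ⟨n2, h2⟩ := hS
  refine ⟨n1 + n2, ?_⟩
  rw [Cfsg.Agent.Lib.Helper9.SpUL1.fromBlocks_diag_pow, pow_add, h1, Matrix.zero_mul, pow_add, h2,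
    Matrix.mul_zero, fromBlocks_zero]

theorem one_sub_fromBlocks {k : ℕ} (A B C D : Matrix (Fin k) (Fin k) F) :
    (1 : Matrix (Fin k ⊕ Fin k) (Fin k ⊕ Fin k) F) - fromBlocks A B C D =
      fromBlocks (1 - A) (-B) (-C) (1 - D) := by
  ext i j
  rcases i with i | i <;> rcases j with j | j <;> simp [Matrix.one_apply]

theorem Dnil_sub (k : ℕ) (d : Mat F k) (hd : d ∈ Dnil F k) :
    dᵀ * Matrix.J (Fin k) F = Matrix.J (Fin k) F * (1 - d) ∧ IsNilpotent (d * (1 - d)) := by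
  obtain ⟨N, hN, rfl⟩ := hd
  constructor
  · unfold Matrix.J
    rw [one_sub_fromBlocks, fromBlocks_transpose, fromBlocks_multiply, fromBlocks_multiply]
    simp [transpose_sub]
  · rw [one_sub_fromBlocks, fromBlocks_multiply]
    simp only [Matrix.mul_zero, Matrix.zero_mul, add_zero, neg_zero, zero_add]
    apply fromBlocks_diag_isNilpotent
    · apply Commute.isNilpotent_mul_right _ hN
      exact (Commute.one_right N).sub_right (Commute.refl N)
    · have hc : Commute (1 - Nᵀ) (1 - (1 - Nᵀ)) :=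
        (Commute.one_right _).sub_right (Commute.refl _)
      apply Commute.isNilpotent_mul_left hc
      have : (1 : Matrix (Fin k) (Fin k) F) - (1 - Nᵀ) = Nᵀ := by abel
      rw [this]
      exact isNilpotent_transpose hN

theorem cj_mem_Aff_iff' (k : ℕ) (g : Sp F k) (d : Mat F k)
    (hd : dᵀ * Matrix.J (Fin k) F = Matrix.J (Fin k) F * (1 - d)) : cj g d ∈ Aff F k := by
  have h1 := Cfsg.Agent.Lib.Helper9.SpLag.adj_conj k g d (1 - d) hd
  show Matrix.J (Fin k) F * cj g d + (cj g d)ᵀ * Matrix.J (Fin k) F = Matrix.J (Fin k) F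
  unfold cj
  rw [h1, ← Matrix.mul_add]
  have : (g : Mat F k) * d * ((g⁻¹ : Sp F k) : Mat F k) +
      (g : Mat F k) * (1 - d) * ((g⁻¹ : Sp F k) : Mat F k) = 1 := by
    rw [← Matrix.add_mul, ← Matrix.mul_add, add_sub_cancel, Matrix.mul_one, coe_mul_inv]
  rw [this, Matrix.mul_one]

/-- L2 -/
theorem card_nilAff [Fintype F] (k : ℕ) :
    Nat.card {B : Mat F k // B ∈ Aff F k ∧ IsNilpotent (B * (1 - B))} *
        Nat.card (GL (Fin k) F) =
      Nat.card (Sp F k) * Nat.card {N : Matrix (Fin k) (Fin k) F // IsNilpotent N} := by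
  have h := Cfsg.Agent.Lib.Helper4.UnipCount.card_orbit_set (G := Sp F k) (X := Mat F k)
    (fun g A => cj g A) cj_one_left cj_mul_left (Dnil F k) (levi (F := F) k).range
    (by
      rintro h ⟨a, rfl⟩ d hd
      exact cj_levi_mem k a d hd)
    (fun g d hd hgd => mem_range_of_cj_mem k g d hd hgd)
  rw [card_Dnil] at h
  have h3 : Nat.card (levi (F := F) k).range = Nat.card (GL (Fin k) F) :=
    Nat.card_congr (MonoidHom.ofInjective (levi_injective k)).toEquiv.symm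
  rw [h3] at h
  rw [← h]
  congr 1
  apply Nat.card_congr
  apply Equiv.subtypeEquivRight
  intro B
  constructor
  · intro hB
    obtain ⟨x, N, hN, hBx⟩ := Cfsg.Agent.Lib.Helper9.SpUL1.lagr_block k B hB.1 hB.2
    exact ⟨x, _, ⟨N, hN, rfl⟩, hBx.symm⟩
  · rintro ⟨g, d, hd, rfl⟩
    obtain ⟨hd1, hd2⟩ := Dnil_sub k d hd
    refine ⟨cj_mem_Aff_iff' k g d hd1, ?_⟩
    have : cj g d * (1 - cj g d) = cj g (d * (1 - d)) := by
      rw [cj_mul, cj_sub, cj_one]
    rw [this, isNilpotent_cj_iff]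
    exact hd2

end Cfsg.Agent.Lib.Helper9.SpUL2
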