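import Mathlib
import Cfsg.Agent.Lib.Helper8.StTD

set_option autoImplicit false

/-!
Canonical lifts of root elements in a central extension of a Chevalley group by a torus element
`h_γ(ω)` acting on the root group by `ω` (the exponent `⟨r, γ^∨⟩` need not be `1`: it is enough
that `ω ^ ⟨r, γ^∨⟩ = ω`, e.g. exponent `-2` when `ω ^ 3 = 1`), available for some of the roots only;
the torus trick for pairs of roots in this generality.
-/

namespace Cfsg.Agent.Lib.Helper9.StB2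

open Cfsg Cfsg.Lie Cfsg.Agent.Lib.Helper5.ChevSym Cfsg.Agent.Lib.Helper5.ChevStruct
  Cfsg.Agent.Lib.Helper5.StPres Cfsg.Agent.Lib.Helper9.InvolX Cfsg.Agent.Lib.Helper8.StLift
  Cfsg.Agent.Lib.Helper8.StSl Cfsg.Agent.Lib.Helper8.StT

/-- the parameters of the canonical lifts: an element `ω ≠ 0, 1` and for each root a root `γ` -/
structure ParG (D : ChevalleyDatum) (K : Type*) [Field K] where
  ω : K
  h0 : ω ≠ 0
  h1 : ω ≠ 1
  gam : ℕ → ℕ

variable {D : ChevalleyDatum} {hD : D ∈ Seven} {K : Type*} [Field K] {E : Type*} [Group E]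
  (C : Ctx0 D hD K E) (P : ParG D K)

/-- the torus element `h_γ(ω)` chosen for `r` acts on the root group of `r` by `ω` -/
def ParG.ok (r : ℕ) : Prop := P.gam r < D.nroots ∧ P.ω ^ (pairZ D (P.gam r) r) = P.ω

theorem ParG.sub_ne : P.ω - 1 ≠ 0 := sub_ne_zero.2 P.h1

/-- the canonical lift of `x_r(t)` -/
noncomputable def YG (r : ℕ) (t : K) : E :=
  cm (hlT C (P.gam r) P.ω) (C.xl r (t / (P.ω - 1)))

theorem Ψ_YG (r : ℕ) (hr : r < D.nroots) (hok : P.ok r) (t : K) :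
    C.Ψ (YG C P r t) = xGL D hD r t := by
  obtain ⟨hγ, hp⟩ := hok
  unfold YG
  rw [map_cm, Ψ_hlT C _ hγ _ P.h0, C.Ψ_xl]
  unfold cm
  rw [hGL_conj_x_gen D hD _ hγ P.ω P.h0, hp, ← xGL_neg D hD r hr, xGL_add D hD r hr]
  congr 1
  have := P.sub_ne
  field_simp
  ring

theorem YG_add (r : ℕ) (hr : r < D.nroots) (hok : P.ok r) (hLC : LCm C.Ψ (xGL D hD) r r)
    (t u : K) : YG C P r (t + u) = YG C P r t * YG C P r u := by
  have h1 : YG C P r (t + u)
      = cm (hlT C (P.gam r) P.ω) (C.xl r (t / (P.ω - 1)) * C.xl r (u / (P.ω - 1))) := by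
    unfold YG
    apply cm_lift_indep C.Ψ C.hc rfl
    rw [map_mul, C.Ψ_xl, C.Ψ_xl, C.Ψ_xl, xGL_add D hD r hr, add_div]
  rw [h1, cm_mul_right]
  have h2 : C.xl r (t / (P.ω - 1)) * YG C P r u = YG C P r u * C.xl r (t / (P.ω - 1)) :=
    hLC _ _ _ _ (C.Ψ_xl _ _) (Ψ_YG C P r hr hok u)
  have h3 : C.xl r (t / (P.ω - 1)) * cm (hlT C (P.gam r) P.ω) (C.xl r (u / (P.ω - 1)))
      * (C.xl r (t / (P.ω - 1)))⁻¹ = YG C P r u := by
    show C.xl r (t / (P.ω - 1)) * YG C P r u * (C.xl r (t / (P.ω - 1)))⁻¹ = YG C P r u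
    rw [h2]
    group
  rw [h3]
  rfl

theorem YG_zero (r : ℕ) (hr : r < D.nroots) (hok : P.ok r) (hLC : LCm C.Ψ (xGL D hD) r r) :
    YG C P r 0 = 1 := by
  have h := YG_add C P r hr hok hLC 0 0
  rw [add_zero] at h
  exact mul_eq_left.1 h.symm

theorem YG_neg (r : ℕ) (hr : r < D.nroots) (hok : P.ok r) (hLC : LCm C.Ψ (xGL D hD) r r)
    (t : K) : YG C P r (-t) = (YG C P r t)⁻¹ := by
  have h := YG_add C P r hr hok hLC t (-t)
  rw [add_neg_cancel, YG_zero C P r hr hok hLC] at h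
  exact (inv_eq_of_mul_eq_one_right h.symm).symm

/-- conjugation of a canonical lift by a lift of the torus element `h_γ(ω)` -/
theorem conj_YG (r : ℕ) (hγr : P.gam r < D.nroots) (γ : ℕ) (hγ : γ < D.nroots) (e : E)
    (he : C.Ψ e = hGL D hD γ P.ω) (t : K) :
    e * YG C P r t * e⁻¹ = YG C P r (P.ω ^ (pairZ D γ r) * t) := by
  have h1 : e * YG C P r t * e⁻¹
      = cm (e * hlT C (P.gam r) P.ω * e⁻¹) (e * C.xl r (t / (P.ω - 1)) * e⁻¹) := by
    unfold YG cm
    group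
  rw [h1]
  unfold YG
  apply cm_lift_indep C.Ψ C.hc
  · rw [map_mul, map_mul, map_inv, he, Ψ_hlT C _ hγr _ P.h0]
    have := diagonal_commute D hD _ _ (hGL_mem_diagonal D hD γ hγ P.ω P.h0)
      (hGL_mem_diagonal D hD (P.gam r) hγr P.ω P.h0)
    rw [this]
    group
  · rw [map_mul, map_mul, map_inv, he, C.Ψ_xl, C.Ψ_xl, hGL_conj_x_gen D hD γ hγ P.ω P.h0,
      mul_div_assoc]

include P in
/-- the torus trick for commuting root elements -/
theorem lcm_of_torus_g {r s : ℕ} (hr : r < D.nroots) (hok : P.ok r)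
    (hLC : LCm C.Ψ (xGL D hD) r r)
    (γ : ℕ) (hγ : γ < D.nroots) (h1 : P.ω ^ (pairZ D γ r) = P.ω) (h0 : P.ω ^ (pairZ D γ s) = 1)
    (hcm : Cm (xGL (F := K) D hD) r s) : LCm C.Ψ (xGL D hD) r s := by
  intro e e' t u he he'
  have key := torus_kill C.Ψ C.hc (YG C P r) e' (fun _ => 1) (hlT C γ P.ω) P.ω P.h1
    (YG_add C P r hr hok hLC) (fun _ _ => (mul_one 1).symm) (fun _ _ => by rw [one_mul, mul_one])
    (fun t => by
      rw [conj_YG C P r hok.1 γ hγ _ (Ψ_hlT C γ hγ _ P.h0), h1])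
    (by
      rw [map_mul, map_mul, map_inv, Ψ_hlT C γ hγ _ P.h0, he',
        hGL_conj_x_gen D hD γ hγ P.ω P.h0, h0, one_mul])
    (fun _ => by group)
    (fun t => by
      rw [map_mul, map_mul, map_mul, map_inv, map_inv, he', Ψ_YG C P r hr hok, map_one]
      calc (xGL D hD s u)⁻¹ * (xGL D hD r t)⁻¹ * xGL D hD s u * xGL D hD r t
          = (xGL D hD s u)⁻¹ * (xGL D hD r t)⁻¹ * (xGL D hD s u * xGL D hD r t) := by group
        _ = (xGL D hD s u)⁻¹ * (xGL D hD r t)⁻¹ * (xGL D hD r t * xGL D hD s u) := by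
            rw [hcm t u]
        _ = 1 := by group) t
  have h2 : YG C P r t * e' = e' * YG C P r t := by
    calc YG C P r t * e' = YG C P r t * e' * (e'⁻¹ * (YG C P r t)⁻¹ * e' * YG C P r t) := by
          rw [key, mul_one]
      _ = e' * YG C P r t := by group
  exact commute_lift_indep C.Ψ C.hc ((Ψ_YG C P r hr hok t).trans he.symm) h2

/-- `ω ^ n` depends only on `n` modulo `m` when `ω ^ m = 1` -/
theorem zpow_of_mod {ω : K} {m : ℕ} (hm : ω ^ m = 1) (n : ℤ) : ω ^ n = ω ^ (n % (m : ℤ)) := by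
  conv_lhs => rw [← Int.mul_ediv_add_emod n (m : ℤ)]
  by_cases h0 : ω = 0
  · subst h0
    rcases Nat.eq_zero_or_pos m with hm0 | hm0
    · subst hm0
      simp
    · rw [zero_pow (by omega)] at hm
      exact absurd hm zero_ne_one
  rw [zpow_add₀ h0, zpow_mul, zpow_natCast, hm, one_zpow, one_mul]

theorem zpow_eq_self_of_mod {ω : K} {m : ℕ} (hm : ω ^ m = 1) {n : ℤ} (h : n % (m : ℤ) = 1) :
    ω ^ n = ω := by
  rw [zpow_of_mod hm, h, zpow_one]

theorem zpow_eq_one_of_mod {ω : K} {m : ℕ} (hm : ω ^ m = 1) {n : ℤ} (h : n % (m : ℤ) = 0) :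
    ω ^ n = 1 := by
  rw [zpow_of_mod hm, h, zpow_zero]

end Cfsg.Agent.Lib.Helper9.StB2
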