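import Mathlib
import Cfsg.Agent.Lib.Helper9.StB2A

set_option autoImplicit false

/-!
Steinberg's relation (R2) for the canonical lifts `YG` by the torus trick (exponents of the torus
element only matter through `ω ^ n`), commuting of root elements in characteristic `2` when all
structure constants of the pair are even, and commuting of lifts inside the root groups of
`α + β`, `α + 2β` from the two-term commutator formula with two pairs of parameters.
-/

namespace Cfsg.Agent.Lib.Helper9.StB2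

open Cfsg Cfsg.Lie Cfsg.Agent.Lib.Helper5.ChevSym Cfsg.Agent.Lib.Helper5.ChevStruct
  Cfsg.Agent.Lib.Helper5.StPres Cfsg.Agent.Lib.Helper9.InvolX Cfsg.Agent.Lib.Helper8.StLift
  Cfsg.Agent.Lib.Helper8.StSl Cfsg.Agent.Lib.Helper8.StT

/-! ### Commuting in characteristic two -/

/-- commuting at the level of the group when `2 = 0`, by the table -/
def cmT2 (D : ChevalleyDatum) (a c : ℕ) : Bool :=
  (a == c) || (c != D.neg a && (D.commTerms a c).all fun q => q.2.1 % 2 == 0)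

theorem cmT2_spec {D : ChevalleyDatum} {a c : ℕ} (h : cmT2 D a c = true) :
    a = c ∨ (c ≠ a ∧ c ≠ D.neg a ∧ ∀ q ∈ D.commTerms a c, q.2.1 % 2 = 0) := by
  by_cases hac : a = c
  · exact Or.inl hac
  unfold cmT2 at h
  rw [Bool.or_eq_true, Bool.and_eq_true, List.all_eq_true] at h
  rcases h with h | ⟨h1, h2⟩
  · exact Or.inl (by simpa using h)
  · exact Or.inr ⟨fun h => hac h.symm, by simpa using h1, fun q hq => by simpa using h2 q hq⟩

theorem cast_even_eq_zero {K : Type*} [Field K] (h2 : (2 : K) = 0) {N : ℤ} (hN : N % 2 = 0) :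
    (N : K) = 0 := by
  obtain ⟨k, rfl⟩ : ∃ k, N = 2 * k := ⟨N / 2, by omega⟩
  rw [Int.cast_mul, Int.cast_ofNat, h2, zero_mul]

theorem wordGL_zero {K : Type*} [Field K] (D : ChevalleyDatum) (hD : D ∈ Seven)
    (l : List (ℕ × K)) (hl : ∀ p ∈ l, p.1 < D.nroots ∧ p.2 = 0) : wordGL D hD l = 1 := by
  induction l with
  | nil => rfl
  | cons p l ih =>
    rw [wordGL_cons, ih fun q hq => hl q (List.mem_cons_of_mem _ hq)]
    obtain ⟨h1, h2⟩ := hl p List.mem_cons_self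
    rw [h2, xGL_zero D hD p.1 h1, mul_one]

/-- pairs of the table with even structure constants commute in the group when `2 = 0` -/
theorem cm_of_cmT2 {D : ChevalleyDatum} (hD : D ∈ Seven) (K : Type*) [Field K] (h2 : (2 : K) = 0)
    {a c : ℕ} (ha : a < D.nroots) (hc : c < D.nroots) (h : cmT2 D a c = true) :
    Cm (xGL (F := K) D hD) a c := by
  intro t u
  rcases cmT2_spec h with h | ⟨h0, h1, hev⟩
  · subst h
    exact xGL_commute D hD a ha t u
  have hR := xGL_comm (K := K) D hD a c t u ha hc h0 h1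
  have hw : wordGL D hD (D.commWord K a c t u) = 1 := by
    apply wordGL_zero
    intro p hp
    refine ⟨commWord_lt hD a c ha hc h0 h1 t u p hp, ?_⟩
    unfold ChevalleyDatum.commWord at hp
    rw [List.mem_map] at hp
    obtain ⟨q, hq, rfl⟩ := hp
    show (q.2.1 : K) * (-t) ^ q.2.2.1 * u ^ q.2.2.2 = 0
    rw [cast_even_eq_zero h2 (hev q hq), zero_mul, zero_mul]
  rw [hw] at hR
  symm
  calc xGL D hD c u * xGL D hD a t
      = xGL D hD a t * xGL D hD c u *
        ((xGL D hD c u)⁻¹ * (xGL D hD a t)⁻¹ * xGL D hD c u * xGL D hD a t) := by group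
    _ = xGL D hD a t * xGL D hD c u := by rw [hR, mul_one]

variable {D : ChevalleyDatum} {hD : D ∈ Seven} {K : Type*} [Field K] {E : Type*} [Group E]
  (C : Ctx0 D hD K E) (P : ParG D K)

/-! ### Products of canonical lifts -/

/-- a product of canonical lifts with parameters linear in `t` -/
noncomputable def Wg (l : List (ℕ × K)) (t : K) : E :=
  (l.map fun p => YG C P p.1 (p.2 * t)).prod

theorem Wg_nil (t : K) : Wg C P [] t = 1 := rfl

theorem Wg_cons (p : ℕ × K) (l : List (ℕ × K)) (t : K) :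
    Wg C P (p :: l) t = YG C P p.1 (p.2 * t) * Wg C P l t := by
  unfold Wg
  rw [List.map_cons, List.prod_cons]

theorem commute_Wg (e : E) (l : List (ℕ × K)) (t : K)
    (h : ∀ q ∈ l, e * YG C P q.1 (q.2 * t) = YG C P q.1 (q.2 * t) * e) :
    e * Wg C P l t = Wg C P l t * e := by
  induction l with
  | nil => rw [Wg_nil, mul_one, one_mul]
  | cons p l ih =>
    rw [Wg_cons]
    have h1 := h p List.mem_cons_self
    have h2 := ih fun q hq => h q (List.mem_cons_of_mem _ hq)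
    calc e * (YG C P p.1 (p.2 * t) * Wg C P l t)
        = (e * YG C P p.1 (p.2 * t)) * Wg C P l t := by group
      _ = YG C P p.1 (p.2 * t) * (e * Wg C P l t) := by rw [h1]; group
      _ = YG C P p.1 (p.2 * t) * Wg C P l t * e := by rw [h2]; group

theorem Wg_add (l : List (ℕ × K))
    (hl : ∀ p ∈ l, p.1 < D.nroots ∧ P.ok p.1 ∧ ∀ q ∈ l, LCm C.Ψ (xGL D hD) p.1 q.1) (t t' : K) :
    Wg C P l (t + t') = Wg C P l t * Wg C P l t' := by
  induction l with
  | nil => rw [Wg_nil, Wg_nil, Wg_nil, mul_one]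
  | cons p l ih =>
    have ih' := ih fun q hq => ⟨(hl q (List.mem_cons_of_mem _ hq)).1,
      (hl q (List.mem_cons_of_mem _ hq)).2.1, fun q' hq' =>
      (hl q (List.mem_cons_of_mem _ hq)).2.2 q' (List.mem_cons_of_mem _ hq')⟩
    obtain ⟨hp, hpo, hpl⟩ := hl p List.mem_cons_self
    rw [Wg_cons, Wg_cons, Wg_cons, ih', mul_add,
      YG_add C P p.1 hp hpo (hpl p List.mem_cons_self)]
    have hc : YG C P p.1 (p.2 * t') * Wg C P l t = Wg C P l t * YG C P p.1 (p.2 * t') := by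
      apply commute_Wg
      intro q hq
      exact hpl q (List.mem_cons_of_mem _ hq) _ _ _ _ (Ψ_YG C P p.1 hp hpo _)
        (Ψ_YG C P q.1 (hl q (List.mem_cons_of_mem _ hq)).1 (hl q (List.mem_cons_of_mem _ hq)).2.1 _)
    calc YG C P p.1 (p.2 * t) * YG C P p.1 (p.2 * t') * (Wg C P l t * Wg C P l t')
        = YG C P p.1 (p.2 * t) * (YG C P p.1 (p.2 * t') * Wg C P l t) * Wg C P l t' := by group
      _ = YG C P p.1 (p.2 * t) * Wg C P l t * (YG C P p.1 (p.2 * t') * Wg C P l t') := by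
          rw [hc]; group

theorem Wg_comm (l : List (ℕ × K)) (r : ℕ) (hr : r < D.nroots) (hro : P.ok r)
    (hl : ∀ q ∈ l, q.1 < D.nroots ∧ P.ok q.1 ∧ LCm C.Ψ (xGL D hD) r q.1) (t t' : K) :
    Wg C P l t * YG C P r t' = YG C P r t' * Wg C P l t := by
  symm
  apply commute_Wg
  intro q hq
  exact (hl q hq).2.2 _ _ _ _ (Ψ_YG C P r hr hro _) (Ψ_YG C P q.1 (hl q hq).1 (hl q hq).2.1 _)

theorem Wg_conj (l : List (ℕ × K)) (γ : ℕ) (hγ : γ < D.nroots)
    (hl : ∀ q ∈ l, P.gam q.1 < D.nroots ∧ P.ω ^ (pairZ D γ q.1) = P.ω) (e : E)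
    (he : C.Ψ e = hGL D hD γ P.ω) (t : K) : e * Wg C P l t * e⁻¹ = Wg C P l (P.ω * t) := by
  induction l with
  | nil => rw [Wg_nil, Wg_nil]; group
  | cons p l ih =>
    have ih' := ih fun q hq => hl q (List.mem_cons_of_mem _ hq)
    obtain ⟨hp, hpz⟩ := hl p List.mem_cons_self
    rw [Wg_cons, Wg_cons, ← ih']
    have h := conj_YG C P p.1 hp γ hγ e he (p.2 * t)
    rw [hpz] at h
    have e1 : p.2 * (P.ω * t) = P.ω * (p.2 * t) := by ring
    rw [e1, ← h]
    group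

theorem Ψ_Wg (l : List (ℕ × K)) (hl : ∀ q ∈ l, q.1 < D.nroots ∧ P.ok q.1) (t : K) :
    C.Ψ (Wg C P l t) = wordGL D hD (l.map fun p => (p.1, p.2 * t)) := by
  induction l with
  | nil => rw [Wg_nil, map_one]; rfl
  | cons p l ih =>
    rw [Wg_cons, map_mul, ih fun q hq => hl q (List.mem_cons_of_mem _ hq), List.map_cons,
      wordGL_cons, Ψ_YG C P p.1 (hl p List.mem_cons_self).1 (hl p List.mem_cons_self).2]

/-- (R2) for the canonical lifts by the torus trick, when the right-hand side is linear in the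
parameter of the first root; `cmX` is any table of pairs of roots whose lifts are known to
commute -/
theorem rel_L_g (cmX : ℕ → ℕ → Bool) (hok : ∀ a, a < D.nroots → P.ok a)
    (hLCs : ∀ a, a < D.nroots → LCm C.Ψ (xGL D hD) a a)
    (hLC : ∀ a b, a < D.nroots → b < D.nroots → cmX a b = true → LCm C.Ψ (xGL D hD) a b)
    {r s : ℕ} (hr : r < D.nroots) (hs : s < D.nroots) (hsr : s ≠ r) (hsn : s ≠ D.neg r)
    (γ : ℕ) (hγ : γ < D.nroots) (h1 : P.ω ^ (pairZ D γ r) = P.ω) (h0 : P.ω ^ (pairZ D γ s) = 1)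
    (hT : ∀ c ∈ D.commTerms r s, c.2.2.1 = 1 ∧ c.1 < D.nroots ∧ P.ω ^ (pairZ D γ c.1) = P.ω ∧
      cmX r c.1 = true ∧ ∀ c' ∈ D.commTerms r s, cmX c.1 c'.1 = true) (t u : K) :
    (YG C P s u)⁻¹ * (YG C P r t)⁻¹ * YG C P s u * YG C P r t
      = ((D.commWord K r s t u).map fun p => YG C P p.1 p.2).prod := by
  set l : List (ℕ × K) := (D.commTerms r s).map fun c => (c.1, -((c.2.1 : K) * u ^ c.2.2.2))
    with hl
  have hmem : ∀ q ∈ l, ∃ c ∈ D.commTerms r s, q.1 = c.1 := by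
    intro q hq
    rw [hl, List.mem_map] at hq
    obtain ⟨c, hc, rfl⟩ := hq
    exact ⟨c, hc, rfl⟩
  have hcw : ∀ t : K, D.commWord K r s t u = l.map fun p => (p.1, p.2 * t) := by
    intro t
    unfold ChevalleyDatum.commWord
    rw [hl, List.map_map]
    apply List.map_congr_left
    intro c hc
    simp only [Function.comp]
    rw [(hT c hc).1, pow_one]
    congr 1
    ring
  have hw : ∀ t : K, ((D.commWord K r s t u).map fun p => YG C P p.1 p.2).prod = Wg C P l t := by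
    intro t
    rw [hcw t, List.map_map]
    rfl
  rw [hw]
  have hlt : ∀ q ∈ l, q.1 < D.nroots := by
    intro q hq
    obtain ⟨c, hc, hqc⟩ := hmem q hq
    rw [hqc]
    exact (hT c hc).2.1
  refine torus_kill C.Ψ C.hc (YG C P r) (YG C P s u) (Wg C P l) (hlT C γ P.ω) P.ω P.h1
    (YG_add C P r hr (hok r hr) (hLCs r hr)) ?_ ?_ ?_ ?_ ?_ ?_ t
  · apply Wg_add
    intro p hp
    obtain ⟨c, hc, hpc⟩ := hmem p hp
    refine ⟨hlt p hp, hok _ (hlt p hp), fun q hq => ?_⟩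
    obtain ⟨c', hc', hqc⟩ := hmem q hq
    rw [hpc, hqc]
    exact hLC _ _ (hT c hc).2.1 (hT c' hc').2.1 ((hT c hc).2.2.2.2 c' hc')
  · intro t t'
    apply Wg_comm C P l r hr (hok r hr)
    intro q hq
    obtain ⟨c, hc, hqc⟩ := hmem q hq
    refine ⟨hlt q hq, hok _ (hlt q hq), ?_⟩
    rw [hqc]
    exact hLC _ _ hr (hT c hc).2.1 (hT c hc).2.2.2.1
  · intro t
    rw [conj_YG C P r (hok r hr).1 γ hγ _ (Ψ_hlT C γ hγ _ P.h0), h1]
  · rw [map_mul, map_mul, map_inv, Ψ_hlT C γ hγ _ P.h0, Ψ_YG C P s hs (hok s hs),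
      hGL_conj_x_gen D hD γ hγ P.ω P.h0, h0, one_mul]
  · intro t
    apply Wg_conj C P l γ hγ _ _ (Ψ_hlT C γ hγ _ P.h0)
    intro q hq
    obtain ⟨c, hc, hqc⟩ := hmem q hq
    refine ⟨(hok _ (hlt q hq)).1, ?_⟩
    rw [hqc]
    exact (hT c hc).2.2.1
  · intro t
    rw [Ψ_Wg C P l (fun q hq => ⟨hlt q hq, hok _ (hlt q hq)⟩), ← hcw, map_mul, map_mul, map_mul,
      map_inv, map_inv, Ψ_YG C P s hs (hok s hs), Ψ_YG C P r hr (hok r hr)]
    exact xGL_comm D hD r s t u hr hs hsr hsn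

/-- (R2) for the canonical lifts by the torus trick, when the right-hand side is linear in the
parameter of the second root -/
theorem rel_R_g (cmX : ℕ → ℕ → Bool) (hok : ∀ a, a < D.nroots → P.ok a)
    (hLCs : ∀ a, a < D.nroots → LCm C.Ψ (xGL D hD) a a)
    (hLC : ∀ a b, a < D.nroots → b < D.nroots → cmX a b = true → LCm C.Ψ (xGL D hD) a b)
    {r s : ℕ} (hr : r < D.nroots) (hs : s < D.nroots) (hsr : s ≠ r) (hsn : s ≠ D.neg r)
    (γ : ℕ) (hγ : γ < D.nroots) (h1 : P.ω ^ (pairZ D γ r) = 1) (h0 : P.ω ^ (pairZ D γ s) = P.ω)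
    (hT : ∀ c ∈ D.commTerms r s, c.2.2.2 = 1 ∧ c.1 < D.nroots ∧ P.ω ^ (pairZ D γ c.1) = P.ω ∧
      cmX s c.1 = true ∧ ∀ c' ∈ D.commTerms r s, cmX c.1 c'.1 = true) (t u : K) :
    (YG C P s u)⁻¹ * (YG C P r t)⁻¹ * YG C P s u * YG C P r t
      = ((D.commWord K r s t u).map fun p => YG C P p.1 p.2).prod := by
  set l : List (ℕ × K) := (D.commTerms r s).map fun c => (c.1, (c.2.1 : K) * (-t) ^ c.2.2.1)
    with hl
  have hmem : ∀ q ∈ l, ∃ c ∈ D.commTerms r s, q.1 = c.1 := by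
    intro q hq
    rw [hl, List.mem_map] at hq
    obtain ⟨c, hc, rfl⟩ := hq
    exact ⟨c, hc, rfl⟩
  have hcw : ∀ u : K, D.commWord K r s t u = l.map fun p => (p.1, p.2 * u) := by
    intro u
    unfold ChevalleyDatum.commWord
    rw [hl, List.map_map]
    apply List.map_congr_left
    intro c hc
    simp only [Function.comp]
    rw [(hT c hc).1, pow_one]
  have hw : ∀ u : K, ((D.commWord K r s t u).map fun p => YG C P p.1 p.2).prod = Wg C P l u := by
    intro u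
    rw [hcw u, List.map_map]
    rfl
  rw [hw]
  have hlt : ∀ q ∈ l, q.1 < D.nroots := by
    intro q hq
    obtain ⟨c, hc, hqc⟩ := hmem q hq
    rw [hqc]
    exact (hT c hc).2.1
  have hadd : ∀ u u' : K, Wg C P l (u + u') = Wg C P l u * Wg C P l u' := by
    apply Wg_add
    intro p hp
    obtain ⟨c, hc, hpc⟩ := hmem p hp
    refine ⟨hlt p hp, hok _ (hlt p hp), fun q hq => ?_⟩
    obtain ⟨c', hc', hqc⟩ := hmem q hq
    rw [hpc, hqc]
    exact hLC _ _ (hT c hc).2.1 (hT c' hc').2.1 ((hT c hc).2.2.2.2 c' hc')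
  have hcomm : ∀ u u' : K, Wg C P l u * YG C P s u' = YG C P s u' * Wg C P l u := by
    intro u u'
    apply Wg_comm C P l s hs (hok s hs)
    intro q hq
    obtain ⟨c, hc, hqc⟩ := hmem q hq
    refine ⟨hlt q hq, hok _ (hlt q hq), ?_⟩
    rw [hqc]
    exact hLC _ _ hs (hT c hc).2.1 (hT c hc).2.2.2.1
  have key := torus_kill C.Ψ C.hc (YG C P s) (YG C P r t) (fun u => (Wg C P l u)⁻¹)
    (hlT C γ P.ω) P.ω P.h1
    (YG_add C P s hs (hok s hs) (hLCs s hs)) ?_ ?_ ?_ ?_ ?_ ?_ u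
  · calc (YG C P s u)⁻¹ * (YG C P r t)⁻¹ * YG C P s u * YG C P r t
        = ((YG C P r t)⁻¹ * (YG C P s u)⁻¹ * YG C P r t * YG C P s u)⁻¹ := by group
      _ = Wg C P l u := by rw [key, inv_inv]
  · intro u u'
    show (Wg C P l (u + u'))⁻¹ = (Wg C P l u)⁻¹ * (Wg C P l u')⁻¹
    rw [add_comm, hadd, mul_inv_rev]
  · intro u u'
    show (Wg C P l u)⁻¹ * YG C P s u' = YG C P s u' * (Wg C P l u)⁻¹
    calc (Wg C P l u)⁻¹ * YG C P s u'
        = (Wg C P l u)⁻¹ * (YG C P s u' * Wg C P l u) * (Wg C P l u)⁻¹ := by group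
      _ = YG C P s u' * (Wg C P l u)⁻¹ := by rw [← hcomm]; group
  · intro u
    rw [conj_YG C P s (hok s hs).1 γ hγ _ (Ψ_hlT C γ hγ _ P.h0), h0]
  · rw [map_mul, map_mul, map_inv, Ψ_hlT C γ hγ _ P.h0, Ψ_YG C P r hr (hok r hr),
      hGL_conj_x_gen D hD γ hγ P.ω P.h0, h1, one_mul]
  · intro u
    show hlT C γ P.ω * (Wg C P l u)⁻¹ * (hlT C γ P.ω)⁻¹ = (Wg C P l (P.ω * u))⁻¹
    have hcj : hlT C γ P.ω * Wg C P l u * (hlT C γ P.ω)⁻¹ = Wg C P l (P.ω * u) := by
      apply Wg_conj C P l γ hγ _ _ (Ψ_hlT C γ hγ _ P.h0)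
      intro q hq
      obtain ⟨c, hc, hqc⟩ := hmem q hq
      refine ⟨(hok _ (hlt q hq)).1, ?_⟩
      rw [hqc]
      exact (hT c hc).2.2.1
    rw [← hcj]
    group
  · intro u
    show C.Ψ ((YG C P r t)⁻¹ * (YG C P s u)⁻¹ * YG C P r t * YG C P s u) = C.Ψ (Wg C P l u)⁻¹
    rw [map_inv (C.Ψ) (Wg C P l u), Ψ_Wg C P l (fun q hq => ⟨hlt q hq, hok _ (hlt q hq)⟩), ← hcw,
      map_mul, map_mul, map_mul, map_inv,
      map_inv, Ψ_YG C P s hs (hok s hs), Ψ_YG C P r hr (hok r hr),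
      ← xGL_comm D hD r s t u hr hs hsr hsn]
    group

end Cfsg.Agent.Lib.Helper9.StB2
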