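import Mathlib
import Cfsg.Agent.Lib.Helper9.StB2B

set_option autoImplicit false

/-!
Lifts of elements of the root groups of `α + β` and of `α + 2β` commute with the lifts of every
element commuting with the root groups of `α` and `β`: from the two-term commutator formula
`[x_β(u), x_α(t)] = x_{α+β}(± t u) x_{α+2β}(± t u²)` used with two pairs of parameters.  Only an
element `ω ≠ 0, 1` of the field is needed.
-/

namespace Cfsg.Agent.Lib.Helper9.StB2

open Cfsg Cfsg.Lie Cfsg.Agent.Lib.Helper5.ChevSym Cfsg.Agent.Lib.Helper5.ChevStruct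
  Cfsg.Agent.Lib.Helper5.StPres Cfsg.Agent.Lib.Helper9.InvolX Cfsg.Agent.Lib.Helper8.StLift
  Cfsg.Agent.Lib.Helper8.StSl Cfsg.Agent.Lib.Helper8.StT

variable {D : ChevalleyDatum} {hD : D ∈ Seven} {K : Type*} [Field K] {E : Type*} [Group E]
  (C : Ctx0 D hD K E)

/-- the image of the commutator of the chosen lifts of `x_β(-u)`, `x_α(-t)` -/
theorem Ψ_two_term {α β ab b2 : ℕ} {C1 C2 : ℤ} (hα : α < D.nroots) (hβ : β < D.nroots)
    (hβα : β ≠ α) (hβn : β ≠ D.neg α)
    (hT : D.commTerms α β = [(ab, C1, 1, 1), (b2, C2, 1, 2)]) (t u : K) :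
    C.Ψ (cm (C.xl β (-u)) (C.xl α (-t)))
      = xGL D hD ab (-((C1 : K) * t * u)) * xGL D hD b2 (-((C2 : K) * t * u ^ 2)) := by
  have hR := xGL_comm (K := K) D hD α β t u hα hβ hβα hβn
  unfold ChevalleyDatum.commWord at hR
  rw [hT, List.map_cons, List.map_cons, List.map_nil, wordGL_cons, wordGL_cons, wordGL_nil,
    mul_one] at hR
  simp only [] at hR
  have e1 : (C1 : K) * (-t) ^ 1 * u ^ 1 = -((C1 : K) * t * u) := by ring
  have e2 : (C2 : K) * (-t) ^ 1 * u ^ 2 = -((C2 : K) * t * u ^ 2) := by ring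
  rw [e1, e2] at hR
  rw [map_cm, C.Ψ_xl, C.Ψ_xl, xGL_neg D hD β hβ, xGL_neg D hD α hα, ← hR]
  unfold cm
  group

/-- an element commuting with the root groups of `α` and `β` modulo the centre commutes with the
commutators of lifts -/
theorem commute_two_term {a α β : ℕ} (h1 : Cm (xGL (F := K) D hD) a α)
    (h2 : Cm (xGL (F := K) D hD) a β) {e : E} {t : K} (he : C.Ψ e = xGL D hD a t) (t' u' : K) :
    e * cm (C.xl β u') (C.xl α t') = cm (C.xl β u') (C.xl α t') * e := by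
  obtain ⟨z, hz, hf⟩ := conj_eq_mul_central C.Ψ C.hc (e := e) (f := C.xl β u')
    (by rw [he, C.Ψ_xl]; exact h2 t _)
  obtain ⟨z', hz', hg⟩ := conj_eq_mul_central C.Ψ C.hc (e := e) (f := C.xl α t')
    (by rw [he, C.Ψ_xl]; exact h1 t _)
  exact commute_cm_of_central hz hz' hf hg

theorem four_swap {G : Type*} [Group G] (A B A' B' : G) (h : A' * B = B * A') :
    A * B * (A' * B') = (A * A') * (B * B') := by
  calc A * B * (A' * B') = A * (B * A') * B' := by group
    _ = A * (A' * B) * B' := by rw [h]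
    _ = (A * A') * (B * B') := by group

/-- lifts of `x_a`, `x_{α+2β}` commute when `x_a` commutes with `x_α`, `x_β` -/
theorem lc4_b2 {a α β ab b2 : ℕ} {C1 C2 : ℤ} (hα : α < D.nroots) (hβ : β < D.nroots)
    (hab : ab < D.nroots) (hb2 : b2 < D.nroots) (hβα : β ≠ α) (hβn : β ≠ D.neg α)
    (hT : D.commTerms α β = [(ab, C1, 1, 1), (b2, C2, 1, 2)]) (hC2 : pmB C2 = true)
    (ω : K) (hω0 : ω ≠ 0) (hω1 : ω ≠ 1)
    (h1 : Cm (xGL (F := K) D hD) a α) (h2 : Cm (xGL (F := K) D hD) a β)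
    (h3 : Cm (xGL (F := K) D hD) ab b2) : LCm C.Ψ (xGL D hD) a b2 := by
  intro e e' t v he he'
  have hne : 1 - ω ≠ 0 := sub_ne_zero.2 (Ne.symm hω1)
  set w : K := (C2 : K) * v / (1 - ω) with hw
  have hwω : w * (1 - ω) = (C2 : K) * v := by
    rw [hw]
    field_simp
  set V : E := cm (C.xl β (-1)) (C.xl α (-(-w))) * cm (C.xl β (-ω)) (C.xl α (-(w / ω))) with hV
  have hΨV : C.Ψ V = xGL D hD b2 v := by
    rw [hV, map_mul, Ψ_two_term C hα hβ hβα hβn hT, Ψ_two_term C hα hβ hβα hβn hT,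
      four_swap _ _ _ _ (h3 _ _), xGL_add D hD ab hab, xGL_add D hD b2 hb2]
    have e1 : -((C1 : K) * -w * 1) + -((C1 : K) * (w / ω) * ω) = 0 := by
      field_simp
      ring
    have e2 : -((C2 : K) * -w * 1 ^ 2) + -((C2 : K) * (w / ω) * ω ^ 2) = v := by
      have hcc := pm_cast_sq (K := K) hC2
      have e3 : w / ω * ω ^ 2 = w * ω := by
        field_simp
      calc -((C2 : K) * -w * 1 ^ 2) + -((C2 : K) * (w / ω) * ω ^ 2)
          = -((C2 : K) * -w * 1 ^ 2) + -((C2 : K) * (w / ω * ω ^ 2)) := by ring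
        _ = (C2 : K) * (w * (1 - ω)) := by rw [e3]; ring
        _ = ((C2 : K) * (C2 : K)) * v := by rw [hwω]; ring
        _ = v := by rw [hcc, one_mul]
    rw [e1, e2, xGL_zero D hD ab hab, one_mul]
  have hcV : e * V = V * e := by
    have c1 := commute_two_term C h1 h2 he (-(-w)) (-1)
    have c2 := commute_two_term C h1 h2 he (-(w / ω)) (-ω)
    rw [hV]
    calc e * (cm (C.xl β (-1)) (C.xl α (-(-w))) * cm (C.xl β (-ω)) (C.xl α (-(w / ω))))
        = (e * cm (C.xl β (-1)) (C.xl α (-(-w)))) * cm (C.xl β (-ω)) (C.xl α (-(w / ω))) := by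
          group
      _ = cm (C.xl β (-1)) (C.xl α (-(-w))) * (e * cm (C.xl β (-ω)) (C.xl α (-(w / ω)))) := by
          rw [c1]; group
      _ = cm (C.xl β (-1)) (C.xl α (-(-w))) * cm (C.xl β (-ω)) (C.xl α (-(w / ω))) * e := by
          rw [c2]; group
  exact (commute_lift_indep C.Ψ C.hc (hΨV.trans he'.symm) hcV.symm).symm

/-- lifts of `x_a`, `x_{α+β}` commute when `x_a` commutes with `x_α`, `x_β` -/
theorem lc4_ab {a α β ab b2 : ℕ} {C1 C2 : ℤ} (hα : α < D.nroots) (hβ : β < D.nroots)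
    (hab : ab < D.nroots) (hb2 : b2 < D.nroots) (hβα : β ≠ α) (hβn : β ≠ D.neg α)
    (hT : D.commTerms α β = [(ab, C1, 1, 1), (b2, C2, 1, 2)]) (hC1 : pmB C1 = true)
    (ω : K) (hω0 : ω ≠ 0) (hω1 : ω ≠ 1)
    (h1 : Cm (xGL (F := K) D hD) a α) (h2 : Cm (xGL (F := K) D hD) a β)
    (h3 : Cm (xGL (F := K) D hD) ab b2) : LCm C.Ψ (xGL D hD) a ab := by
  intro e e' t v he he'
  have hne : 1 - ω ≠ 0 := sub_ne_zero.2 (Ne.symm hω1)
  set w : K := (C1 : K) * v * ω / (1 - ω) with hw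
  have hwω : w * (1 - ω) = (C1 : K) * v * ω := by
    rw [hw]
    field_simp
  set V : E := cm (C.xl β (-1)) (C.xl α (-w)) * cm (C.xl β (-ω)) (C.xl α (-(-(w / ω ^ 2))))
    with hV
  have hΨV : C.Ψ V = xGL D hD ab v := by
    rw [hV, map_mul, Ψ_two_term C hα hβ hβα hβn hT, Ψ_two_term C hα hβ hβα hβn hT,
      four_swap _ _ _ _ (h3 _ _), xGL_add D hD ab hab, xGL_add D hD b2 hb2]
    have e1 : -((C1 : K) * w * 1) + -((C1 : K) * -(w / ω ^ 2) * ω) = v := by
      have hcc := pm_cast_sq (K := K) hC1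
      have e3 : w / ω ^ 2 * ω = w / ω := by
        field_simp
      have e4 : w / ω - w = (C1 : K) * v := by
        have : (w / ω - w) * ω = (C1 : K) * v * ω := by
          rw [← hwω]
          field_simp
        exact mul_right_cancel₀ hω0 this
      calc -((C1 : K) * w * 1) + -((C1 : K) * -(w / ω ^ 2) * ω)
          = (C1 : K) * (w / ω ^ 2 * ω - w) := by ring
        _ = (C1 : K) * ((C1 : K) * v) := by rw [e3, e4]
        _ = ((C1 : K) * (C1 : K)) * v := by ring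
        _ = v := by rw [hcc, one_mul]
    have e2 : -((C2 : K) * w * 1 ^ 2) + -((C2 : K) * -(w / ω ^ 2) * ω ^ 2) = 0 := by
      field_simp
      ring
    rw [e1, e2, xGL_zero D hD b2 hb2, mul_one]
  have hcV : e * V = V * e := by
    have c1 := commute_two_term C h1 h2 he (-w) (-1)
    have c2 := commute_two_term C h1 h2 he (-(-(w / ω ^ 2))) (-ω)
    rw [hV]
    calc e * (cm (C.xl β (-1)) (C.xl α (-w)) * cm (C.xl β (-ω)) (C.xl α (-(-(w / ω ^ 2)))))
        = (e * cm (C.xl β (-1)) (C.xl α (-w))) * cm (C.xl β (-ω)) (C.xl α (-(-(w / ω ^ 2)))) := by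
          group
      _ = cm (C.xl β (-1)) (C.xl α (-w)) * (e * cm (C.xl β (-ω)) (C.xl α (-(-(w / ω ^ 2))))) := by
          rw [c1]; group
      _ = cm (C.xl β (-1)) (C.xl α (-w)) * cm (C.xl β (-ω)) (C.xl α (-(-(w / ω ^ 2)))) * e := by
          rw [c2]; group
  exact (commute_lift_indep C.Ψ C.hc (hΨV.trans he'.symm) hcV.symm).symm

end Cfsg.Agent.Lib.Helper9.StB2
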