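import Mathlib
import Cfsg.Agent.Lib.Helper9.StB2C

set_option autoImplicit false

/-!
The lifting theorem in characteristic `2` over a field with an element `ω ≠ 0, 1`, `ω ^ 3 = 1`
(the field with four elements), for data passing a Boolean check; the check for `B₂`.
-/

namespace Cfsg.Agent.Lib.Helper9.StB2

open Cfsg Cfsg.Lie Cfsg.Agent.Lib.Helper5.ChevSym Cfsg.Agent.Lib.Helper5.ChevStruct
  Cfsg.Agent.Lib.Helper5.StPres Cfsg.Agent.Lib.Helper9.InvolX Cfsg.Agent.Lib.Helper8.StLift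
  Cfsg.Agent.Lib.Helper8.StSl Cfsg.Agent.Lib.Helper8.StT

/-! ### The checks -/

/-- `h_γ(ω)` acts by `ω` on the root group of `r` and trivially on that of `s`, when `ω ^ m = 1` -/
def torOK (D : ChevalleyDatum) (m : ℕ) (r s γ : ℕ) : Bool :=
  decide (γ < D.nroots) && (pairZ D γ r % (m : ℤ) == 1) && (pairZ D γ s % (m : ℤ) == 0)

def gamOK (D : ChevalleyDatum) (m : ℕ) (gam : ℕ → ℕ) (r : ℕ) : Bool :=
  decide (gam r < D.nroots) && (pairZ D (gam r) r % (m : ℤ) == 1)

/-- `r` is `α + β` or `α + 2β` for a pair with a two-term commutator formula, and `x_r` commutes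
with `x_α`, `x_β` (in characteristic `2`) -/
def selfOK (D : ChevalleyDatum) (r α β : ℕ) : Bool :=
  decide (α < D.nroots) && decide (β < D.nroots) && (β != α) && (β != D.neg α) &&
  (match D.commTerms α β with
   | [(ab, C1, i1, j1), (b2, C2, i2, j2)] =>
       (i1 == 1) && (j1 == 1) && (i2 == 1) && (j2 == 2) && pmB C1 && pmB C2 &&
       decide (ab < D.nroots) && decide (b2 < D.nroots) && cmT D ab b2 &&
       cmT2 D r α && cmT2 D r β && ((r == ab) || (r == b2))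
   | _ => false)

def relLOK (D : ChevalleyDatum) (m : ℕ) (r s γ : ℕ) : Bool :=
  torOK D m r s γ && (D.commTerms r s).all fun c =>
    (c.2.2.1 == 1) && decide (c.1 < D.nroots) && (pairZ D γ c.1 % (m : ℤ) == 1) &&
      cmT2 D r c.1 && (D.commTerms r s).all fun c' => cmT2 D c.1 c'.1

def relROK (D : ChevalleyDatum) (m : ℕ) (r s γ : ℕ) : Bool :=
  torOK D m s r γ && (D.commTerms r s).all fun c =>
    (c.2.2.2 == 1) && decide (c.1 < D.nroots) && (pairZ D γ c.1 % (m : ℤ) == 1) &&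
      cmT2 D s c.1 && (D.commTerms r s).all fun c' => cmT2 D c.1 c'.1

def pairOK4 (D : ChevalleyDatum) (r s : ℕ) : Bool :=
  (s == r) || (s == D.neg r) ||
  (if cmT2 D r s then (List.range D.nroots).any fun γ => torOK D 3 r s γ
   else (List.range D.nroots).any fun γ => relLOK D 3 r s γ || relROK D 3 r s γ)

def selfAll (D : ChevalleyDatum) (r : ℕ) : Bool :=
  (List.range D.nroots).any fun α => (List.range D.nroots).any fun β => selfOK D r α β

theorem torOK_spec {D : ChevalleyDatum} {m r s γ : ℕ} (h : torOK D m r s γ = true) :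
    γ < D.nroots ∧ pairZ D γ r % (m : ℤ) = 1 ∧ pairZ D γ s % (m : ℤ) = 0 := by
  unfold torOK at h
  simp only [Bool.and_eq_true, decide_eq_true_eq, beq_iff_eq] at h
  exact ⟨h.1.1, h.1.2, h.2⟩

theorem selfOK_spec {D : ChevalleyDatum} {r α β : ℕ} (h : selfOK D r α β = true) :
    α < D.nroots ∧ β < D.nroots ∧ β ≠ α ∧ β ≠ D.neg α ∧
    ∃ ab C1 b2 C2, D.commTerms α β = [(ab, C1, 1, 1), (b2, C2, 1, 2)] ∧ pmB C1 = true ∧
      pmB C2 = true ∧ ab < D.nroots ∧ b2 < D.nroots ∧ cmT D ab b2 = true ∧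
      cmT2 D r α = true ∧ cmT2 D r β = true ∧ (r = ab ∨ r = b2) := by
  unfold selfOK at h
  rw [Bool.and_eq_true, Bool.and_eq_true, Bool.and_eq_true, Bool.and_eq_true] at h
  obtain ⟨⟨⟨⟨h1, h2⟩, h3⟩, h4⟩, h5⟩ := h
  refine ⟨by simpa using h1, by simpa using h2, by simpa using h3, by simpa using h4, ?_⟩
  split at h5
  · rename_i ab C1 i1 j1 b2 C2 i2 j2 heq
    simp only [Bool.and_eq_true, Bool.or_eq_true, decide_eq_true_eq, beq_iff_eq] at h5
    obtain ⟨⟨⟨⟨⟨⟨⟨⟨⟨⟨⟨a1, a2⟩, a3⟩, a4⟩, a5⟩, a6⟩, a7⟩, a8⟩, a9⟩, a10⟩, a11⟩, a12⟩ := h5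
    subst a1 a2 a3 a4
    exact ⟨ab, C1, b2, C2, heq, a5, a6, a7, a8, a9, a10, a11, a12⟩
  · exact absurd h5 (by simp)

theorem relLOK_spec {D : ChevalleyDatum} {m r s γ : ℕ} (h : relLOK D m r s γ = true) :
    (γ < D.nroots ∧ pairZ D γ r % (m : ℤ) = 1 ∧ pairZ D γ s % (m : ℤ) = 0) ∧
    ∀ c ∈ D.commTerms r s, c.2.2.1 = 1 ∧ c.1 < D.nroots ∧ pairZ D γ c.1 % (m : ℤ) = 1 ∧
      cmT2 D r c.1 = true ∧ ∀ c' ∈ D.commTerms r s, cmT2 D c.1 c'.1 = true := by
  unfold relLOK at h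
  rw [Bool.and_eq_true, List.all_eq_true] at h
  refine ⟨torOK_spec h.1, fun c hc => ?_⟩
  have h4 := h.2 c hc
  simp only [Bool.and_eq_true, decide_eq_true_eq, beq_iff_eq, List.all_eq_true] at h4
  obtain ⟨⟨⟨⟨a1, a2⟩, a3⟩, a4⟩, a5⟩ := h4
  exact ⟨a1, a2, a3, a4, a5⟩

theorem relROK_spec {D : ChevalleyDatum} {m r s γ : ℕ} (h : relROK D m r s γ = true) :
    (γ < D.nroots ∧ pairZ D γ s % (m : ℤ) = 1 ∧ pairZ D γ r % (m : ℤ) = 0) ∧
    ∀ c ∈ D.commTerms r s, c.2.2.2 = 1 ∧ c.1 < D.nroots ∧ pairZ D γ c.1 % (m : ℤ) = 1 ∧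
      cmT2 D s c.1 = true ∧ ∀ c' ∈ D.commTerms r s, cmT2 D c.1 c'.1 = true := by
  unfold relROK at h
  rw [Bool.and_eq_true, List.all_eq_true] at h
  refine ⟨torOK_spec h.1, fun c hc => ?_⟩
  have h4 := h.2 c hc
  simp only [Bool.and_eq_true, decide_eq_true_eq, beq_iff_eq, List.all_eq_true] at h4
  obtain ⟨⟨⟨⟨a1, a2⟩, a3⟩, a4⟩, a5⟩ := h4
  exact ⟨a1, a2, a3, a4, a5⟩

/-! ### The lifting theorem -/

section lift

variable {D : ChevalleyDatum} {hD : D ∈ Seven} {K : Type*} [Field K] {E : Type*} [Group E]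
  (C : Ctx0 D hD K E)

theorem prod_YG_zero (P : ParG D K) (hok : ∀ a, a < D.nroots → P.ok a)
    (hLCs : ∀ a, a < D.nroots → LCm C.Ψ (xGL D hD) a a) (l : List (ℕ × K))
    (hl : ∀ p ∈ l, p.1 < D.nroots ∧ p.2 = 0) : (l.map fun p => YG C P p.1 p.2).prod = 1 := by
  induction l with
  | nil => rfl
  | cons p l ih =>
    rw [List.map_cons, List.prod_cons, ih fun q hq => hl q (List.mem_cons_of_mem _ hq)]
    obtain ⟨h1, h2⟩ := hl p List.mem_cons_self
    rw [h2, YG_zero C P p.1 h1 (hok _ h1) (hLCs _ h1), mul_one]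

/-- the lifting theorem in characteristic `2` with a primitive cube root of unity -/
theorem exists_lift_char2 (h2 : (2 : K) = 0) (ω : K) (hω0 : ω ≠ 0) (hω1 : ω ≠ 1)
    (hω3 : ω ^ 3 = 1) (gam : ℕ → ℕ) (hgam : ∀ r < D.nroots, gamOK D 3 gam r = true)
    (hself : ∀ r < D.nroots, selfAll D r = true)
    (hpair : ∀ r < D.nroots, ∀ s < D.nroots, pairOK4 D r s = true) :
    ∃ τ : D.SteinbergCover K →* E, ∀ (r : ℕ) (t : K), r < D.nroots →
      C.Ψ (τ (D.scGen K r t)) = xGL D hD r t := by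
  set P : ParG D K := ⟨ω, hω0, hω1, gam⟩ with hP
  have hone : ∀ {n : ℤ}, n % ((3 : ℕ) : ℤ) = 1 → P.ω ^ n = P.ω :=
    fun h => zpow_eq_self_of_mod hω3 h
  have hzero : ∀ {n : ℤ}, n % ((3 : ℕ) : ℤ) = 0 → P.ω ^ n = 1 :=
    fun h => zpow_eq_one_of_mod hω3 h
  have hok : ∀ a, a < D.nroots → P.ok a := by
    intro a ha
    have h := hgam a ha
    unfold gamOK at h
    simp only [Bool.and_eq_true, decide_eq_true_eq, beq_iff_eq] at h
    exact ⟨h.1, hone h.2⟩
  -- stage 0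
  have hLCs : ∀ a, a < D.nroots → LCm C.Ψ (xGL D hD) a a := by
    intro r hr
    have h := hself r hr
    unfold selfAll at h
    rw [List.any_eq_true] at h
    obtain ⟨α, -, h⟩ := h
    rw [List.any_eq_true] at h
    obtain ⟨β, -, h⟩ := h
    obtain ⟨hα, hβ, hβα, hβn, ab, C1, b2, C2, hT, hC1, hC2, hab, hb2, hc, hrα, hrβ, hr'⟩ :=
      selfOK_spec h
    have c1 := cm_of_cmT2 hD K h2 hr hα hrα
    have c2 := cm_of_cmT2 hD K h2 hr hβ hrβ
    have c3 := cm_of_cmT hD K hab hb2 hc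
    rcases hr' with rfl | rfl
    · exact lc4_ab C hα hβ hr hb2 hβα hβn hT hC1 ω hω0 hω1 c1 c2 c3
    · exact lc4_b2 C hα hβ hab hr hβα hβn hT hC2 ω hω0 hω1 c1 c2 c3
  -- stage 1
  have hLC : ∀ a b, a < D.nroots → b < D.nroots → cmT2 D a b = true →
      LCm C.Ψ (xGL D hD) a b := by
    intro a b ha hb hab
    rcases cmT2_spec hab with h | ⟨hba, hbn, -⟩
    · subst h
      exact hLCs a ha
    have hp := hpair a ha b hb
    unfold pairOK4 at hp
    have e1 : (b == a) = false := by simpa using hba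
    have e2 : (b == D.neg a) = false := by simpa using hbn
    rw [e1, e2, Bool.false_or, Bool.false_or, if_pos hab, List.any_eq_true] at hp
    obtain ⟨γ, -, hγ⟩ := hp
    obtain ⟨hγ, h1, h0⟩ := torOK_spec hγ
    exact lcm_of_torus_g C P ha (hok a ha) (hLCs a ha) γ hγ (hone h1) (hzero h0)
      (cm_of_cmT2 hD K h2 ha hb hab)
  -- stage 2
  obtain ⟨τ, hτ⟩ := lift_of_Y hD (YG C P)
    (fun r t u hr => (YG_add C P r hr (hok r hr) (hLCs r hr) t u).symm) (by
    intro r s t u hr hs hsr hsn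
    by_cases hcm : cmT2 D r s = true
    · have hev : ∀ q ∈ D.commTerms r s, q.2.1 % 2 = 0 := by
        rcases cmT2_spec hcm with h | ⟨-, -, h⟩
        · exact absurd h.symm hsr
        · exact h
      rw [prod_YG_zero C P hok hLCs]
      · have h := hLC r s hr hs hcm _ _ t u (Ψ_YG C P r hr (hok r hr) t)
          (Ψ_YG C P s hs (hok s hs) u)
        calc (YG C P s u)⁻¹ * (YG C P r t)⁻¹ * YG C P s u * YG C P r t
            = (YG C P s u)⁻¹ * (YG C P r t)⁻¹ * (YG C P s u * YG C P r t) := by group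
          _ = (YG C P s u)⁻¹ * (YG C P r t)⁻¹ * (YG C P r t * YG C P s u) := by rw [h]
          _ = 1 := by group
      · intro p hp
        refine ⟨commWord_lt hD r s hr hs hsr hsn t u p hp, ?_⟩
        unfold ChevalleyDatum.commWord at hp
        rw [List.mem_map] at hp
        obtain ⟨q, hq, rfl⟩ := hp
        show (q.2.1 : K) * (-t) ^ q.2.2.1 * u ^ q.2.2.2 = 0
        rw [cast_even_eq_zero h2 (hev q hq), zero_mul, zero_mul]
    · have hp := hpair r hr s hs
      unfold pairOK4 at hp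
      have e1 : (s == r) = false := by simpa using hsr
      have e2 : (s == D.neg r) = false := by simpa using hsn
      rw [e1, e2, Bool.false_or, Bool.false_or, if_neg hcm, List.any_eq_true] at hp
      obtain ⟨γ, -, hγ⟩ := hp
      rw [Bool.or_eq_true] at hγ
      rcases hγ with hγ | hγ
      · obtain ⟨⟨hγ, h1, h0⟩, hT⟩ := relLOK_spec hγ
        exact rel_L_g C P (cmT2 D) hok hLCs hLC hr hs hsr hsn γ hγ (hone h1) (hzero h0)
          (fun c hc => ⟨(hT c hc).1, (hT c hc).2.1, hone (hT c hc).2.2.1, (hT c hc).2.2.2.1,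
            (hT c hc).2.2.2.2⟩) t u
      · obtain ⟨⟨hγ, h1, h0⟩, hT⟩ := relROK_spec hγ
        exact rel_R_g C P (cmT2 D) hok hLCs hLC hr hs hsr hsn γ hγ (hzero h0) (hone h1)
          (fun c hc => ⟨(hT c hc).1, (hT c hc).2.1, hone (hT c hc).2.2.1, (hT c hc).2.2.2.1,
            (hT c hc).2.2.2.2⟩) t u)
  exact ⟨τ, fun r t hr => by rw [hτ r t hr, Ψ_YG C P r hr (hok r hr)]⟩

end lift

/-! ### Type `B₂` -/

def b2gam4 : ℕ → ℕ := fun r =>
  if r = 0 then 5 else if r = 1 then 0 else if r = 2 then 0 else if r = 3 then 2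
  else if r = 4 then 1 else if r = 5 then 3 else if r = 6 then 4 else 0

set_option maxRecDepth 100000 in
theorem b2_chk4 : ((List.range 8).all fun r => gamOK chevB2 3 b2gam4 r && selfAll chevB2 r &&
    (List.range 8).all fun s => pairOK4 chevB2 r s) = true := by
  decide +kernel

theorem B2_mem_Seven : chevB2 ∈ Seven := by simp [Seven]

/-- the lifting theorem for `B₂` over a field of characteristic `2` with a primitive cube root
of unity -/
theorem exists_lift_B2_char2 {K : Type*} [Field K] {E : Type*} [Group E]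
    (C : Ctx0 chevB2 B2_mem_Seven K E) (h2 : (2 : K) = 0) (ω : K) (hω0 : ω ≠ 0) (hω1 : ω ≠ 1)
    (hω3 : ω ^ 3 = 1) :
    ∃ τ : chevB2.SteinbergCover K →* E, ∀ (r : ℕ) (t : K), r < chevB2.nroots →
      C.Ψ (τ (chevB2.scGen K r t)) = xGL chevB2 B2_mem_Seven r t := by
  have h := b2_chk4
  rw [List.all_eq_true] at h
  have key : ∀ r < 8, gamOK chevB2 3 b2gam4 r = true ∧ selfAll chevB2 r = true ∧
      ∀ s < 8, pairOK4 chevB2 r s = true := by
    intro r hr
    have h1 := h r (List.mem_range.2 hr)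
    rw [Bool.and_eq_true, Bool.and_eq_true, List.all_eq_true] at h1
    exact ⟨h1.1.1, h1.1.2, fun s hs => h1.2 s (List.mem_range.2 hs)⟩
  have hn : chevB2.nroots = 8 := rfl
  exact exists_lift_char2 C h2 ω hω0 hω1 hω3 b2gam4
    (fun r hr => (key r (by rw [hn] at hr; exact hr)).1)
    (fun r hr => (key r (by rw [hn] at hr; exact hr)).2.1)
    (fun r hr s hs => (key r (by rw [hn] at hr; exact hr)).2.2 s (by rw [hn] at hs; exact hs))

end Cfsg.Agent.Lib.Helper9.StB2
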