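import Mathlib
import Cfsg.Agent.Lib.Helper9.StB2B

set_option autoImplicit false

/-!
Central extensions of a Chevalley group over the field with three elements: lifts inside a root
group commute (the root group is cyclic); canonical lifts of the elements of a root group
`x_{α+β}` that is the commutator of `x_α`, `x_β`; lifts of two commuting root groups commute when
one of them is such a commutator and the other root moves `β` into `α`, `α + β`.
-/

namespace Cfsg.Agent.Lib.Helper9.StB2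

open Cfsg Cfsg.Lie Cfsg.Agent.Lib.Helper5.ChevSym Cfsg.Agent.Lib.Helper5.ChevStruct
  Cfsg.Agent.Lib.Helper5.StPres Cfsg.Agent.Lib.Helper9.InvolX Cfsg.Agent.Lib.Helper8.StLift
  Cfsg.Agent.Lib.Helper8.StSl Cfsg.Agent.Lib.Helper8.StT

variable {D : ChevalleyDatum} {hD : D ∈ Seven} {K : Type*} [Field K] {E : Type*} [Group E]
  (C : Ctx0 D hD K E)

/-- over the field with three elements lifts of elements of one root group commute -/
theorem lc_prime (hK3 : ∀ t : K, t = 0 ∨ t = 1 ∨ t = -1) (r : ℕ) (hr : r < D.nroots) :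
    LCm C.Ψ (xGL D hD) r r := by
  -- every lift commutes with the chosen lift of `x_r(1)`
  have key : ∀ (e : E) (t : K), C.Ψ e = xGL D hD r t → e * C.xl r 1 = C.xl r 1 * e := by
    intro e t he
    rcases hK3 t with rfl | rfl | rfl
    · rw [xGL_zero D hD r hr] at he
      exact commute_of_ker C.Ψ C.hc he _
    · exact commute_lift_indep C.Ψ C.hc ((C.Ψ_xl r 1).trans he.symm) rfl
    · have h1 : C.Ψ (C.xl r 1)⁻¹ = C.Ψ e := by
        rw [map_inv, C.Ψ_xl, he, xGL_neg D hD r hr]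
      exact commute_lift_indep C.Ψ C.hc h1 (by group)
  intro e e' t u he he'
  have h1 := key e t he
  rcases hK3 u with rfl | rfl | rfl
  · rw [xGL_zero D hD r hr] at he'
    exact (commute_of_ker C.Ψ C.hc he' _).symm
  · exact (commute_lift_indep C.Ψ C.hc ((C.Ψ_xl r 1).trans he'.symm) h1.symm).symm
  · have h2 : C.Ψ (C.xl r 1)⁻¹ = C.Ψ e' := by
      rw [map_inv, C.Ψ_xl, he', xGL_neg D hD r hr]
    have h3 : (C.xl r 1)⁻¹ * e = e * (C.xl r 1)⁻¹ := by
      calc (C.xl r 1)⁻¹ * e = (C.xl r 1)⁻¹ * (e * C.xl r 1) * (C.xl r 1)⁻¹ := by group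
        _ = e * (C.xl r 1)⁻¹ := by rw [h1]; group
    exact (commute_lift_indep C.Ψ C.hc h2 h3).symm

/-- a root `ℓ = α + β` whose root elements are the commutators of those of `α` and `β` -/
structure SP (α β ℓ : ℕ) (N : K) : Prop where
  hα : α < D.nroots
  hβ : β < D.nroots
  hℓ : ℓ < D.nroots
  sm : Sm (xGL (F := K) D hD) α β ℓ N
  hN : N ≠ 0
  lαℓ : LCm C.Ψ (xGL D hD) α ℓ
  lβℓ : LCm C.Ψ (xGL D hD) β ℓ
  lℓℓ : LCm C.Ψ (xGL D hD) ℓ ℓ

section sp

variable {C} {α β ℓ : ℕ} {N : K} (S : SP C α β ℓ N)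

include S

theorem SP.ggl (t t' u : K) :
    gg C.xl α β (t + t') u = gg C.xl α β t u * gg C.xl α β t' u :=
  gg_add_left C.hc C.xl C.Ψ_xl (fun t u => (xGL_add D hD α S.hα t u).symm) S.sm S.lαℓ S.lℓℓ t t' u

theorem SP.ggr (t u u' : K) :
    gg C.xl α β t (u + u') = gg C.xl α β t u * gg C.xl α β t u' :=
  gg_add_right C.hc C.xl C.Ψ_xl (fun t u => (xGL_add D hD β S.hβ t u).symm) S.sm S.lβℓ t u u'

theorem SP.gg_zero_l (u : K) : gg C.xl α β 0 u = 1 := by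
  have h := S.ggl 0 0 u
  rw [add_zero] at h
  exact mul_eq_left.1 h.symm

theorem SP.gg_zero_r (t : K) : gg C.xl α β t 0 = 1 := by
  have h := S.ggr t 0 0
  rw [add_zero] at h
  exact mul_eq_left.1 h.symm

theorem SP.gg_neg_l (t u : K) : gg C.xl α β (-t) u = (gg C.xl α β t u)⁻¹ := by
  have h := S.ggl t (-t) u
  rw [add_neg_cancel, S.gg_zero_l] at h
  exact (inv_eq_of_mul_eq_one_right h.symm).symm

theorem SP.gg_neg_r (t u : K) : gg C.xl α β t (-u) = (gg C.xl α β t u)⁻¹ := by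
  have h := S.ggr t u (-u)
  rw [add_neg_cancel, S.gg_zero_r] at h
  exact (inv_eq_of_mul_eq_one_right h.symm).symm

/-- over the field with three elements the commutator of lifts depends on the product only -/
theorem SP.gg_prod (hK3 : ∀ t : K, t = 0 ∨ t = 1 ∨ t = -1) (t u : K) :
    gg C.xl α β t u = gg C.xl α β (t * u) 1 := by
  rcases hK3 u with rfl | rfl | rfl
  · rw [mul_zero, S.gg_zero_r, S.gg_zero_l]
  · rw [mul_one]
  · rw [S.gg_neg_r, mul_neg, mul_one, S.gg_neg_l]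

/-- the canonical lift of `x_ℓ(t)` -/
noncomputable def SP.Y (_ : SP C α β ℓ N) (t : K) : E := gg C.xl α β (t / N) 1

theorem SP.Ψ_Y (t : K) : C.Ψ (S.Y t) = xGL D hD ℓ t := by
  unfold SP.Y
  rw [map_gg C.xl C.Ψ_xl S.sm]
  congr 1
  have := S.hN
  field_simp

theorem SP.Y_add (t t' : K) : S.Y (t + t') = S.Y t * S.Y t' := by
  unfold SP.Y
  rw [add_div, S.ggl]

theorem SP.Y_zero : S.Y 0 = 1 := by
  have h := S.Y_add 0 0
  rw [add_zero] at h
  exact mul_eq_left.1 h.symm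

theorem SP.Y_neg (t : K) : S.Y (-t) = (S.Y t)⁻¹ := by
  have h := S.Y_add t (-t)
  rw [add_neg_cancel, S.Y_zero] at h
  exact (inv_eq_of_mul_eq_one_right h.symm).symm

/-- the commutator of any lifts of `x_α(t)`, `x_β(u)` -/
theorem SP.cm_eq (hK3 : ∀ t : K, t = 0 ∨ t = 1 ∨ t = -1) {e f : E} {t u : K}
    (he : C.Ψ e = xGL D hD α t) (hf : C.Ψ f = xGL D hD β u) : cm e f = S.Y (N * t * u) := by
  rw [← gg_eq_cm C.hc C.xl C.Ψ_xl he hf, S.gg_prod hK3]
  unfold SP.Y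
  congr 1
  have := S.hN
  field_simp

/-- the commutator of any lifts of `x_β(t)`, `x_α(u)` -/
theorem SP.cm_eq_rev (hK3 : ∀ t : K, t = 0 ∨ t = 1 ∨ t = -1) {e f : E} {t u : K}
    (he : C.Ψ e = xGL D hD β t) (hf : C.Ψ f = xGL D hD α u) : cm e f = S.Y (-N * t * u) := by
  rw [← cm_inv f e, S.cm_eq hK3 hf he, ← S.Y_neg]
  congr 1
  ring

/-- a lift of an element acting by `-1` on both root groups centralizes the canonical lifts -/
theorem SP.conj_Y (hK3 : ∀ t : K, t = 0 ∨ t = 1 ∨ t = -1) (h : E)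
    (hα' : ∀ t, C.Ψ h * xGL D hD α t * (C.Ψ h)⁻¹ = xGL D hD α (-t))
    (hβ' : ∀ t, C.Ψ h * xGL D hD β t * (C.Ψ h)⁻¹ = xGL D hD β (-t)) (t : K) :
    h * S.Y t * h⁻¹ = S.Y t := by
  have h1 : h * S.Y t * h⁻¹ = cm (h * C.xl α (t / N) * h⁻¹) (h * C.xl β 1 * h⁻¹) := by
    unfold SP.Y gg cm
    group
  rw [h1, S.cm_eq hK3 (t := -(t / N)) (u := -1)
    (by rw [map_mul, map_mul, map_inv, C.Ψ_xl, hα'])
    (by rw [map_mul, map_mul, map_inv, C.Ψ_xl, hβ'])]
  congr 1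
  have := S.hN
  field_simp

end sp

/-- lifts of `x_ℓ'`, `x_ℓ` commute when `ℓ = α + β` as in `SP`, `x_ℓ'` commutes with `x_α` and
conjugation by `x_ℓ'` moves `x_β` by elements of the root groups of `α` and `ℓ` -/
theorem lcm_long_orth {α β ℓ ℓ' : ℕ} {N : K} {C1 C2 : ℤ} (S : SP C α β ℓ N)
    (hℓ' : ℓ' < D.nroots) (hβℓ' : β ≠ ℓ') (hβn : β ≠ D.neg ℓ')
    (hT : D.commTerms ℓ' β = [(α, C1, 1, 1), (ℓ, C2, 1, 2)])
    (hcm : Cm (xGL (F := K) D hD) ℓ' α) (lαα : LCm C.Ψ (xGL D hD) α α) :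
    LCm C.Ψ (xGL D hD) ℓ' ℓ := by
  intro e e' s v he he'
  -- `V` is a lift of `x_ℓ(v)`
  set A : E := C.xl α (v / N) with hA
  set B : E := C.xl β 1 with hB
  have hΨV : C.Ψ (cm A B) = xGL D hD ℓ v := by
    rw [map_cm, hA, hB, C.Ψ_xl, C.Ψ_xl, S.sm]
    congr 1
    have := S.hN
    field_simp
  -- conjugation of `B` by `e`
  have hR := xGL_comm (K := K) D hD ℓ' β (-s) 1 hℓ' S.hβ hβℓ' hβn
  unfold ChevalleyDatum.commWord at hR
  rw [hT, List.map_cons, List.map_cons, List.map_nil, wordGL_cons, wordGL_cons, wordGL_nil,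
    mul_one, xGL_neg D hD ℓ' hℓ', inv_inv] at hR
  simp only [] at hR
  set p : K := (C1 : K) * (- -s) ^ 1 * 1 ^ 1 with hp
  set q : K := (C2 : K) * (- -s) ^ 1 * 1 ^ 2 with hq
  have hconj : C.Ψ (e * B * e⁻¹) = C.Ψ (B * (C.xl α p * C.xl ℓ q)) := by
    rw [map_mul, map_mul, map_inv, he, hB, map_mul, map_mul, C.Ψ_xl, C.Ψ_xl, C.Ψ_xl, ← hR]
    group
  have hconjA : C.Ψ (e * A * e⁻¹) = C.Ψ A := by
    rw [map_mul, map_mul, map_inv, he, hA, C.Ψ_xl, hcm s _]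
    group
  have h1 : e * cm A B * e⁻¹ = cm (e * A * e⁻¹) (e * B * e⁻¹) := by
    unfold cm
    group
  have h2 : cm (e * A * e⁻¹) (e * B * e⁻¹) = cm A (B * (C.xl α p * C.xl ℓ q)) :=
    cm_lift_indep C.Ψ C.hc hconjA hconj
  have h3 : cm A (C.xl α p * C.xl ℓ q) = 1 := by
    have c1 : A * C.xl α p = C.xl α p * A := lαα _ _ _ _ (C.Ψ_xl _ _) (C.Ψ_xl _ _)
    have c2 : A * C.xl ℓ q = C.xl ℓ q * A := S.lαℓ _ _ _ _ (C.Ψ_xl _ _) (C.Ψ_xl _ _)
    unfold cm
    calc A * (C.xl α p * C.xl ℓ q) * A⁻¹ * (C.xl α p * C.xl ℓ q)⁻¹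
        = (A * C.xl α p) * C.xl ℓ q * A⁻¹ * (C.xl α p * C.xl ℓ q)⁻¹ := by group
      _ = C.xl α p * (A * C.xl ℓ q) * A⁻¹ * (C.xl α p * C.xl ℓ q)⁻¹ := by rw [c1]; group
      _ = 1 := by rw [c2]; group
  have h4 : e * cm A B * e⁻¹ = cm A B := by
    rw [h1, h2, cm_mul_right, h3]
    group
  have h5 : cm A B * e = e * cm A B := by
    calc cm A B * e = (e * cm A B * e⁻¹) * e := by rw [h4]
      _ = e * cm A B := by group
  exact (commute_lift_indep C.Ψ C.hc (hΨV.trans he'.symm) h5).symm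

end Cfsg.Agent.Lib.Helper9.StB2
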