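import Mathlib
import Cfsg.Agent.Lib.Helper9.StB2E
import Cfsg.Agent.Lib.Helper9.StB2C

set_option autoImplicit false

/-!
The two-term commutator relation in a central extension over a field of characteristic `3`: the
central defect is additive in the parameter of the long root (so its cube is `1`), invariant under a
torus element acting by `-1` on the short root groups, and inverted by `u ↦ -u` (so its square is
`1`).  The relation for the pair in the other order.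
-/

namespace Cfsg.Agent.Lib.Helper9.StB2

open Cfsg.Agent.Lib.Helper8.StLift Cfsg.Agent.Lib.Helper8.StSl Cfsg.Agent.Lib.Helper8.StT

section abstract

variable {E : Type*} [Group E] {K : Type*} [Field K]

theorem add_map_zero (f : K → E) (hf : ∀ t t', f (t + t') = f t * f t') : f 0 = 1 := by
  have h := hf 0 0
  rw [add_zero] at h
  exact mul_eq_left.1 h.symm

theorem add_map_neg (f : K → E) (hf : ∀ t t', f (t + t') = f t * f t') (t : K) :
    f (-t) = (f t)⁻¹ := by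
  have h := hf t (-t)
  rw [add_neg_cancel, add_map_zero f hf] at h
  exact (inv_eq_of_mul_eq_one_right h.symm).symm

theorem inv_rel (a b p1 p2 q w : E) (hw : ∀ g : E, g * w = w * g)
    (hL : b⁻¹ * a⁻¹ * b * a = w * (p1 * p2)) (hb2 : b * p2 = p2 * b)
    (hb1 : b * p1⁻¹ * b⁻¹ = q * p1⁻¹) :
    b * a⁻¹ * b⁻¹ * a = w⁻¹ * (p2⁻¹ * q * p1⁻¹) := by
  have h1 : b * a⁻¹ * b⁻¹ * a = b * (b⁻¹ * a⁻¹ * b * a)⁻¹ * b⁻¹ := by group
  have h2 : b * p2⁻¹ * b⁻¹ = p2⁻¹ := by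
    calc b * p2⁻¹ * b⁻¹ = p2⁻¹ * (p2 * b) * p2⁻¹ * b⁻¹ := by group
      _ = p2⁻¹ := by rw [← hb2]; group
  have hw' : ∀ g : E, g * w⁻¹ = w⁻¹ * g := by
    intro g
    calc g * w⁻¹ = w⁻¹ * (w * g) * w⁻¹ := by group
      _ = w⁻¹ * g := by rw [← hw g]; group
  rw [h1, hL]
  calc b * (w * (p1 * p2))⁻¹ * b⁻¹ = (b * p2⁻¹ * b⁻¹) * (b * p1⁻¹ * b⁻¹) * (b * w⁻¹) * b⁻¹ := by
        group
    _ = p2⁻¹ * (q * p1⁻¹) * (w⁻¹ * b) * b⁻¹ := by rw [h2, hb1, hw' b]
    _ = (p2⁻¹ * q * p1⁻¹) * w⁻¹ := by group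
    _ = w⁻¹ * (p2⁻¹ * q * p1⁻¹) := hw' _

/-- the two-term commutator relation in characteristic `3` -/
theorem kill3 (h3 : (3 : K) = 0) (A B P1 P2 : K → E) (h : E) (C1 C2 N' : K)
    (hA : ∀ t t', A (t + t') = A t * A t') (hB : ∀ t t', B (t + t') = B t * B t')
    (hP1 : ∀ t t', P1 (t + t') = P1 t * P1 t') (hP2 : ∀ t t', P2 (t + t') = P2 t * P2 t')
    (c12 : ∀ x y, P1 x * P2 y = P2 y * P1 x)
    (cA1 : ∀ t x, A t * P1 x = P1 x * A t) (cA2 : ∀ t y, A t * P2 y = P2 y * A t)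
    (cB2 : ∀ u y, B u * P2 y = P2 y * B u)
    (hB1 : ∀ u x, cm (B u) (P1 x) = P2 (N' * u * x))
    (hhA : ∀ t, h * A t * h⁻¹ = A t) (hhB : ∀ u, h * B u * h⁻¹ = B (-u))
    (hh1 : ∀ x, h * P1 x * h⁻¹ = P1 (-x)) (hh2 : ∀ y, h * P2 y * h⁻¹ = P2 y)
    (hz : ∀ t u, (B u)⁻¹ * (A t)⁻¹ * B u * A t
      * (P1 (C1 * (-t) * u) * P2 (C2 * (-t) * u ^ 2))⁻¹ ∈ Subgroup.center E)
    (hnum : N' * C1 + 2 * C2 = 0) (t u : K) :
    (B u)⁻¹ * (A t)⁻¹ * B u * A t = P1 (C1 * (-t) * u) * P2 (C2 * (-t) * u ^ 2) := by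
  set R : K → K → E := fun t u => P1 (C1 * (-t) * u) * P2 (C2 * (-t) * u ^ 2) with hR
  set z : K → K → E := fun t u => (B u)⁻¹ * (A t)⁻¹ * B u * A t * (R t u)⁻¹ with hzdef
  have hzc : ∀ t u (g : E), g * z t u = z t u * g :=
    fun t u g => Subgroup.mem_center_iff.1 (hz t u) g
  have hL : ∀ t u, (B u)⁻¹ * (A t)⁻¹ * B u * A t = z t u * R t u := by
    intro t u
    simp only [hzdef]
    group
  -- additivity of `R` in `t`
  have hRadd : ∀ t t' u, R (t + t') u = R t u * R t' u := by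
    intro t t' u
    simp only [hR]
    have e1 : C1 * (-(t + t')) * u = C1 * (-t) * u + C1 * (-t') * u := by ring
    have e2 : C2 * (-(t + t')) * u ^ 2 = C2 * (-t) * u ^ 2 + C2 * (-t') * u ^ 2 := by ring
    rw [e1, e2, hP1, hP2]
    exact (four_swap _ _ _ _ (c12 _ _)).symm
  have hRA : ∀ t u t', R t u * A t' = A t' * R t u := by
    intro t u t'
    simp only [hR]
    calc P1 (C1 * (-t) * u) * P2 (C2 * (-t) * u ^ 2) * A t'
        = P1 (C1 * (-t) * u) * (P2 (C2 * (-t) * u ^ 2) * A t') := by group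
      _ = (P1 (C1 * (-t) * u) * A t') * P2 (C2 * (-t) * u ^ 2) := by rw [← cA2]; group
      _ = A t' * (P1 (C1 * (-t) * u) * P2 (C2 * (-t) * u ^ 2)) := by rw [← cA1]; group
  have h11 : ∀ x x', P1 x * P1 x' = P1 x' * P1 x := by
    intro x x'
    rw [← hP1, ← hP1, add_comm]
  have h22 : ∀ y y', P2 y * P2 y' = P2 y' * P2 y := by
    intro y y'
    rw [← hP2, ← hP2, add_comm]
  have hRR : ∀ t t' u, R t' u * R t u = R t u * R t' u := by
    intro t t' u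
    rw [← hRadd, ← hRadd, add_comm]
  -- (a) the defect is additive in `t`
  have hzadd : ∀ t t' u, z (t + t') u = z t u * z t' u := by
    intro t t' u
    have := add_aux (A t) (A t') (B u) (R t u) (R t' u) (z t u) (z t' u) (hzc t u) (hL t u)
      (hL t' u) (hRA t u t') (hRR t t' u)
    simp only [hzdef] at this ⊢
    rw [hA, hRadd]
    exact this
  have hz0 : ∀ u, z 0 u = 1 := fun u => add_map_zero (fun t => z t u) (fun t t' => hzadd t t' u)
  have hz3 : ∀ t u, z t u * z t u * z t u = 1 := by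
    intro t u
    rw [← hzadd, ← hzadd]
    have : t + t + t = 0 := by
      calc t + t + t = 3 * t := by ring
        _ = 0 := by rw [h3, zero_mul]
    rw [this, hz0]
  -- (b) invariance under the torus element
  have hzb : ∀ t u, z t (-u) = z t u := by
    intro t u
    have e1 : h * z t u * h⁻¹ = z t u := by
      rw [hzc t u h]
      group
    have e2 : h * z t u * h⁻¹ = (h * B u * h⁻¹)⁻¹ * (h * A t * h⁻¹)⁻¹ * (h * B u * h⁻¹)
        * (h * A t * h⁻¹) * ((h * P1 (C1 * (-t) * u) * h⁻¹)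
          * (h * P2 (C2 * (-t) * u ^ 2) * h⁻¹))⁻¹ := by
      simp only [hzdef, hR]
      group
    rw [← e1, e2, hhA, hhB, hh1, hh2]
    simp only [hzdef, hR]
    have e3 : C1 * (-t) * (-u) = -(C1 * (-t) * u) := by ring
    have e4 : C2 * (-t) * (-u) ^ 2 = C2 * (-t) * u ^ 2 := by ring
    rw [e3, e4]
  -- (c) inversion
  have hzc' : ∀ t u, z t (-u) = (z t u)⁻¹ := by
    intro t u
    set x : K := C1 * (-t) * u with hx
    set y : K := C2 * (-t) * u ^ 2 with hy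
    have hBn : B (-u) = (B u)⁻¹ := add_map_neg B hB u
    have hb1 : B u * (P1 x)⁻¹ * (B u)⁻¹ = P2 (N' * u * (-x)) * (P1 x)⁻¹ := by
      rw [← add_map_neg P1 hP1, ← hB1]
      unfold cm
      group
    have hrel := inv_rel (A t) (B u) (P1 x) (P2 y) (P2 (N' * u * (-x))) (z t u) (hzc t u)
      (hL t u) (cB2 u y) hb1
    have e1 : z t (-u) = B u * (A t)⁻¹ * (B u)⁻¹ * A t * (P1 (-x) * P2 y)⁻¹ := by
      simp only [hzdef, hR]
      have e3 : C1 * (-t) * (-u) = -x := by rw [hx]; ring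
      have e4 : C2 * (-t) * (-u) ^ 2 = y := by rw [hy]; ring
      rw [e3, e4, hBn, inv_inv]
    rw [e1, hrel, add_map_neg P1 hP1]
    have hnum' : -y + N' * u * (-x) + -y = 0 := by
      rw [hx, hy]
      linear_combination (t * u ^ 2) * hnum
    have e5 : (P2 y)⁻¹ * P2 (N' * u * (-x)) * (P2 y)⁻¹ = 1 := by
      rw [← add_map_neg P2 hP2, ← hP2, ← hP2, hnum', add_map_zero P2 hP2]
    have c1 : (P1 x)⁻¹ * (P2 y)⁻¹ = (P2 y)⁻¹ * (P1 x)⁻¹ := by
      calc (P1 x)⁻¹ * (P2 y)⁻¹ = (P2 y * P1 x)⁻¹ := by group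
        _ = (P1 x * P2 y)⁻¹ := by rw [c12]
        _ = (P2 y)⁻¹ * (P1 x)⁻¹ := by group
    calc (z t u)⁻¹ * ((P2 y)⁻¹ * P2 (N' * u * (-x)) * (P1 x)⁻¹) * ((P1 x)⁻¹ * P2 y)⁻¹
        = (z t u)⁻¹ * ((P2 y)⁻¹ * P2 (N' * u * (-x))) * ((P1 x)⁻¹ * (P2 y)⁻¹) * P1 x := by group
      _ = (z t u)⁻¹ * ((P2 y)⁻¹ * P2 (N' * u * (-x)) * (P2 y)⁻¹) * (P1 x)⁻¹ * P1 x := by
          rw [c1]; group
      _ = (z t u)⁻¹ := by rw [e5]; group
  -- conclusion
  have hz2 : z t u * z t u = 1 := by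
    have := hzc' t u
    rw [hzb] at this
    calc z t u * z t u = z t u * (z t u)⁻¹ := by rw [← this]
      _ = 1 := mul_inv_cancel _
  have hz1 : z t u = 1 := by
    have := hz3 t u
    rw [hz2, one_mul] at this
    exact this
  rw [hL t u, hz1, one_mul]

/-- the two-term relation for the pair in the other order -/
theorem rel_swap (A B P1 P2 : K → E) (C1 C2 : K)
    (hP1 : ∀ t t', P1 (t + t') = P1 t * P1 t') (hP2 : ∀ t t', P2 (t + t') = P2 t * P2 t')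
    (c12 : ∀ x y, P1 x * P2 y = P2 y * P1 x)
    (hrel : ∀ t u, (B u)⁻¹ * (A t)⁻¹ * B u * A t = P1 (C1 * (-t) * u) * P2 (C2 * (-t) * u ^ 2))
    (t u : K) :
    (A u)⁻¹ * (B t)⁻¹ * A u * B t = P1 (-C1 * (-t) * u) * P2 (C2 * (-t) ^ 2 * u) := by
  have h1 : (A u)⁻¹ * (B t)⁻¹ * A u * B t = ((B t)⁻¹ * (A u)⁻¹ * B t * A u)⁻¹ := by group
  rw [h1, hrel, mul_inv_rev, ← add_map_neg P1 hP1, ← add_map_neg P2 hP2, ← c12]
  congr 2 <;> ring

end abstract

end Cfsg.Agent.Lib.Helper9.StB2
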