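import Mathlib
import Cfsg.Agent.Lib.Helper9.StB2F

set_option autoImplicit false

/-!
Steinberg's relations (R2) for a family of canonical lifts in a central extension of a Chevalley
group with short and long roots over the field with three elements, from a few properties of the
family (`YData`) and facts of the table of structure constants.
-/

namespace Cfsg.Agent.Lib.Helper9.StB2

open Cfsg Cfsg.Lie Cfsg.Agent.Lib.Helper5.ChevSym Cfsg.Agent.Lib.Helper5.ChevStruct
  Cfsg.Agent.Lib.Helper5.StPres Cfsg.Agent.Lib.Helper9.InvolX Cfsg.Agent.Lib.Helper8.StLift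
  Cfsg.Agent.Lib.Helper8.StSl Cfsg.Agent.Lib.Helper8.StT

/-- the root of the first term of the commutator formula -/
def tR (D : ChevalleyDatum) (r s : ℕ) : ℕ := ((D.commTerms r s).headD (0, 0, 0, 0)).1
/-- the constant of the first term of the commutator formula -/
def tC (D : ChevalleyDatum) (r s : ℕ) : ℤ := ((D.commTerms r s).headD (0, 0, 0, 0)).2.1
/-- the root of the second term of the commutator formula -/
def tR2 (D : ChevalleyDatum) (r s : ℕ) : ℕ := ((D.commTerms r s).getD 1 (0, 0, 0, 0)).1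
/-- the constant of the second term of the commutator formula -/
def tC2 (D : ChevalleyDatum) (r s : ℕ) : ℤ := ((D.commTerms r s).getD 1 (0, 0, 0, 0)).2.1

variable {D : ChevalleyDatum} {hD : D ∈ Seven} {K : Type*} [Field K] {E : Type*} [Group E]
  (C : Ctx0 D hD K E)

/-- the properties of the canonical lifts: `sh` marks the short roots, `h` is a lift of a torus
element acting by `-1` on the short root groups and trivially on the long ones -/
structure YData (sh : ℕ → Bool) (h : E) (Y : ℕ → K → E) : Prop where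
  Ψ_Y : ∀ r < D.nroots, ∀ t, C.Ψ (Y r t) = xGL D hD r t
  add : ∀ r < D.nroots, ∀ t t', Y r (t + t') = Y r t * Y r t'
  conjS : ∀ r < D.nroots, sh r = true → ∀ t, h * Y r t * h⁻¹ = Y r (-t)
  conjL : ∀ r < D.nroots, sh r = false → ∀ t, h * Y r t * h⁻¹ = Y r t
  ss : ∀ a b, a < D.nroots → b < D.nroots → sh a = true → sh b = true → b ≠ a → b ≠ D.neg a →
    ∀ (e f : E) (t u : K), C.Ψ e = xGL D hD a t → C.Ψ f = xGL D hD b u →
      cm e f = Y (tR D a b) ((tC D a b : K) * t * u)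
  lc : ∀ a b, a < D.nroots → b < D.nroots → cmT D a b = true → LCm C.Ψ (xGL D hD) a b

section rel

variable {C} {sh : ℕ → Bool} {h : E} {Y : ℕ → K → E} (YD : YData C sh h Y)

include YD

theorem YData.neg {r : ℕ} (hr : r < D.nroots) (t : K) : Y r (-t) = (Y r t)⁻¹ :=
  add_map_neg (Y r) (YD.add r hr) t

theorem YData.Ψ_inv {r : ℕ} (hr : r < D.nroots) (t : K) :
    C.Ψ (Y r t)⁻¹ = xGL D hD r (-t) := by
  rw [map_inv, YD.Ψ_Y r hr, xGL_neg D hD r hr]

theorem YData.comm {a b : ℕ} (ha : a < D.nroots) (hb : b < D.nroots) (hc : cmT D a b = true)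
    (t u : K) : Y a t * Y b u = Y b u * Y a t :=
  YD.lc a b ha hb hc _ _ t u (YD.Ψ_Y a ha t) (YD.Ψ_Y b hb u)

/-- (R2) for a commuting pair -/
theorem YData.relCM {r s : ℕ} (hr : r < D.nroots) (hs : s < D.nroots) (hsr : s ≠ r)
    (hc : cmT D r s = true) (t u : K) :
    (Y s u)⁻¹ * (Y r t)⁻¹ * Y s u * Y r t
      = ((D.commWord K r s t u).map fun p => Y p.1 p.2).prod := by
  have hT : D.commTerms r s = [] := by
    rcases cmT_spec hc with h | ⟨-, -, h⟩
    · exact absurd h.symm hsr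
    · exact h
  unfold ChevalleyDatum.commWord
  rw [hT, List.map_nil, List.map_nil, List.prod_nil]
  have h1 := YD.comm hr hs hc t u
  calc (Y s u)⁻¹ * (Y r t)⁻¹ * Y s u * Y r t
      = (Y s u)⁻¹ * (Y r t)⁻¹ * (Y s u * Y r t) := by group
    _ = (Y s u)⁻¹ * (Y r t)⁻¹ * (Y r t * Y s u) := by rw [h1]
    _ = 1 := by group

/-- (R2) for two short roots -/
theorem YData.relSS {r s : ℕ} (hr : r < D.nroots) (hs : s < D.nroots) (hsr : s ≠ r)
    (hsn : s ≠ D.neg r) (hrn : r ≠ D.neg s) (shr : sh r = true) (shs : sh s = true)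
    (hT : D.commTerms r s = [(tR D r s, tC D r s, 1, 1)])
    (hR : tR D s r = tR D r s) (hC : tC D s r = -tC D r s) (t u : K) :
    (Y s u)⁻¹ * (Y r t)⁻¹ * Y s u * Y r t
      = ((D.commWord K r s t u).map fun p => Y p.1 p.2).prod := by
  unfold ChevalleyDatum.commWord
  rw [hT, List.map_cons, List.map_nil, List.map_cons, List.map_nil, List.prod_cons, List.prod_nil,
    mul_one]
  have h1 : (Y s u)⁻¹ * (Y r t)⁻¹ * Y s u * Y r t = cm (Y s u)⁻¹ (Y r t)⁻¹ := by
    unfold cm
    group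
  rw [h1, YD.ss s r hs hr shs shr (Ne.symm hsr) hrn _ _ (-u) (-t) (YD.Ψ_inv hs u)
    (YD.Ψ_inv hr t), hR, hC]
  congr 1
  push_cast
  ring

/-- (R2) for a long root and a short root whose sum is a root, in characteristic `3` -/
theorem YData.relLS (h3 : (3 : K) = 0) {l σ : ℕ} (hl : l < D.nroots) (hσ : σ < D.nroots)
    (shl : sh l = false) (shσ : sh σ = true)
    (hT : D.commTerms l σ = [(tR D l σ, tC D l σ, 1, 1), (tR2 D l σ, tC2 D l σ, 1, 2)])
    (h1 : tR D l σ < D.nroots) (h2 : tR2 D l σ < D.nroots)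
    (sh1 : sh (tR D l σ) = true) (sh2 : sh (tR2 D l σ) = false)
    (hne : tR D l σ ≠ σ) (hnn : tR D l σ ≠ D.neg σ)
    (hR : tR D σ (tR D l σ) = tR2 D l σ)
    (hnum : tC D σ (tR D l σ) * tC D l σ + 2 * tC2 D l σ = 0)
    (c12 : cmT D (tR D l σ) (tR2 D l σ) = true) (cl1 : cmT D l (tR D l σ) = true)
    (cl2 : cmT D l (tR2 D l σ) = true) (cσ2 : cmT D σ (tR2 D l σ) = true)
    (hσl : σ ≠ l) (hσn : σ ≠ D.neg l) (t u : K) :
    (Y σ u)⁻¹ * (Y l t)⁻¹ * Y σ u * Y l t
      = ((D.commWord K l σ t u).map fun p => Y p.1 p.2).prod := by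
  have key := kill3 h3 (Y l) (Y σ) (Y (tR D l σ)) (Y (tR2 D l σ)) h (tC D l σ : K)
    (tC2 D l σ : K) (tC D σ (tR D l σ) : K) (YD.add l hl) (YD.add σ hσ) (YD.add _ h1)
    (YD.add _ h2) (YD.comm h1 h2 c12) (YD.comm hl h1 cl1) (YD.comm hl h2 cl2)
    (YD.comm hσ h2 cσ2)
    (fun u x => by
      rw [YD.ss σ (tR D l σ) hσ h1 shσ sh1 hne hnn _ _ u x (YD.Ψ_Y σ hσ u) (YD.Ψ_Y _ h1 x), hR])
    (YD.conjL l hl shl) (YD.conjS σ hσ shσ) (YD.conjS _ h1 sh1) (YD.conjL _ h2 sh2)
    (fun t u => by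
      apply C.hc
      rw [MonoidHom.mem_ker, map_mul, map_mul, map_mul, map_mul, map_inv, map_inv, map_inv,
        map_mul, YD.Ψ_Y σ hσ, YD.Ψ_Y l hl, YD.Ψ_Y _ h1, YD.Ψ_Y _ h2,
        xGL_comm D hD l σ t u hl hσ hσl hσn]
      unfold ChevalleyDatum.commWord
      rw [hT, List.map_cons, List.map_cons, List.map_nil, wordGL_cons, wordGL_cons, wordGL_nil,
        mul_one]
      simp only [pow_one]
      exact mul_inv_cancel _)
    (by
      have := congrArg (Int.cast (R := K)) hnum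
      push_cast at this
      exact this) t u
  unfold ChevalleyDatum.commWord
  rw [hT, key]
  simp only [List.map_cons, List.map_nil, List.prod_cons, List.prod_nil, mul_one, pow_one]

/-- (R2) for a short root and a long root whose sum is a root, in characteristic `3` -/
theorem YData.relSL {l σ : ℕ}
    (hrel : ∀ t u : K, (Y σ u)⁻¹ * (Y l t)⁻¹ * Y σ u * Y l t
      = ((D.commWord K l σ t u).map fun p => Y p.1 p.2).prod)
    (hT : D.commTerms l σ = [(tR D l σ, tC D l σ, 1, 1), (tR2 D l σ, tC2 D l σ, 1, 2)])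
    (hT' : D.commTerms σ l = [(tR D l σ, -tC D l σ, 1, 1), (tR2 D l σ, tC2 D l σ, 2, 1)])
    (h1 : tR D l σ < D.nroots) (h2 : tR2 D l σ < D.nroots)
    (c12 : cmT D (tR D l σ) (tR2 D l σ) = true) (t u : K) :
    (Y l u)⁻¹ * (Y σ t)⁻¹ * Y l u * Y σ t
      = ((D.commWord K σ l t u).map fun p => Y p.1 p.2).prod := by
  have hrel' : ∀ t u : K, (Y σ u)⁻¹ * (Y l t)⁻¹ * Y σ u * Y l t
      = Y (tR D l σ) ((tC D l σ : K) * (-t) * u) * Y (tR2 D l σ) ((tC2 D l σ : K) * (-t) * u ^ 2) := by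
    intro t u
    rw [hrel]
    unfold ChevalleyDatum.commWord
    rw [hT]
    simp only [List.map_cons, List.map_nil, List.prod_cons, List.prod_nil, mul_one, pow_one]
  have key := rel_swap (Y l) (Y σ) (Y (tR D l σ)) (Y (tR2 D l σ)) (tC D l σ : K) (tC2 D l σ : K)
    (YD.add _ h1) (YD.add _ h2) (YD.comm h1 h2 c12) hrel' t u
  unfold ChevalleyDatum.commWord
  rw [hT', key]
  simp only [List.map_cons, List.map_nil, List.prod_cons, List.prod_nil, mul_one, pow_one,
    Int.cast_neg]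

end rel

end Cfsg.Agent.Lib.Helper9.StB2
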