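import Mathlib
import Cfsg.Agent.Lib.Helper9.StB2G
import Cfsg.Agent.Lib.Helper9.StB2D

set_option autoImplicit false

/-!
The lifting theorem for `B₂` over the field with three elements: every central extension of the
Chevalley group `B₂(3)` receives a homomorphism from the group presented by (R1), (R2).
-/

namespace Cfsg.Agent.Lib.Helper9.StB2

open Cfsg Cfsg.Lie Cfsg.Agent.Lib.Helper5.ChevSym Cfsg.Agent.Lib.Helper5.ChevStruct
  Cfsg.Agent.Lib.Helper5.StPres Cfsg.Agent.Lib.Helper9.InvolX Cfsg.Agent.Lib.Helper8.StLift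
  Cfsg.Agent.Lib.Helper8.StSl Cfsg.Agent.Lib.Helper8.StT

/-- a root that is the sum of two roots with a one-term commutator formula -/
theorem mkSP {D : ChevalleyDatum} {hD : D ∈ Seven} {K : Type*} [Field K] {E : Type*} [Group E]
    (C : Ctx0 D hD K E) {α β ℓ : ℕ} {N : ℤ} (hα : α < D.nroots) (hβ : β < D.nroots)
    (hℓ : ℓ < D.nroots) (hβα : β ≠ α) (hβn : β ≠ D.neg α)
    (hT : D.commTerms α β = [(ℓ, N, 1, 1)]) (hN : (N : K) ≠ 0)
    (l1 : LCm C.Ψ (xGL D hD) α ℓ) (l2 : LCm C.Ψ (xGL D hD) β ℓ)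
    (l3 : LCm C.Ψ (xGL D hD) ℓ ℓ) : SP C α β ℓ (N : K) :=
  ⟨hα, hβ, hℓ, sm_of_terms hD K hα hβ hℓ hβα hβn hT, hN, l1, l2, l3⟩

/-- the short roots of `B₂` -/
def b2sh : ℕ → Bool := fun r => r == 1 || r == 2 || r == 5 || r == 6

def b2gam3 : ℕ → ℕ := fun r => if r = 1 then 0 else if r = 2 then 0 else if r = 5 then 3 else 4

/-- the facts of the table for a long root `l` and a short root `σ` whose sum is a root -/
def b2LS (l σ : ℕ) : Prop :=
  chevB2.commTerms l σ = [(tR chevB2 l σ, tC chevB2 l σ, 1, 1),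
    (tR2 chevB2 l σ, tC2 chevB2 l σ, 1, 2)] ∧
  tR chevB2 l σ < 8 ∧ tR2 chevB2 l σ < 8 ∧ b2sh (tR chevB2 l σ) = true ∧
  b2sh (tR2 chevB2 l σ) = false ∧ tR chevB2 l σ ≠ σ ∧ tR chevB2 l σ ≠ chevB2.neg σ ∧
  tR chevB2 σ (tR chevB2 l σ) = tR2 chevB2 l σ ∧
  tC chevB2 σ (tR chevB2 l σ) * tC chevB2 l σ + 2 * tC2 chevB2 l σ = 0 ∧
  cmT chevB2 (tR chevB2 l σ) (tR2 chevB2 l σ) = true ∧ cmT chevB2 l (tR chevB2 l σ) = true ∧
  cmT chevB2 l (tR2 chevB2 l σ) = true ∧ cmT chevB2 σ (tR2 chevB2 l σ) = true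

instance (l σ : ℕ) : Decidable (b2LS l σ) := by unfold b2LS; infer_instance

/-- the classification of the pairs of roots of `B₂` -/
def b2cls (r s : ℕ) : Bool :=
  (s == r) || (s == chevB2.neg r) || cmT chevB2 r s ||
  decide (b2sh r = true ∧ b2sh s = true ∧ r ≠ chevB2.neg s ∧
    chevB2.commTerms r s = [(tR chevB2 r s, tC chevB2 r s, 1, 1)] ∧
    tR chevB2 s r = tR chevB2 r s ∧ tC chevB2 s r = -tC chevB2 r s) ||
  decide (b2sh r = false ∧ b2sh s = true ∧ b2LS r s) ||
  decide (b2sh r = true ∧ b2sh s = false ∧ r ≠ chevB2.neg s ∧ b2LS s r ∧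
    chevB2.commTerms r s = [(tR chevB2 s r, -tC chevB2 s r, 1, 1),
      (tR2 chevB2 s r, tC2 chevB2 s r, 2, 1)])

set_option maxRecDepth 100000 in
theorem b2cls_all : ((List.range 8).all fun r => (List.range 8).all fun s => b2cls r s) = true := by
  decide +kernel

set_option maxRecDepth 100000 in
theorem b2_tab3 : ((List.range 8).all fun r =>
    (if b2sh r then decide (b2gam3 r < 8) && (pairZ chevB2 (b2gam3 r) r % 2 == 1) &&
        (pairZ chevB2 4 r % 2 == 1)
      else (pairZ chevB2 4 r % 2 == 0)) &&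
    (List.range 8).all fun s =>
      (!(cmT chevB2 r s) || cmT chevB2 s r) &&
      (!(b2sh r && b2sh s && cmT chevB2 r s) || (r == s)) &&
      (!(!(b2sh r) && !(b2sh s) && cmT chevB2 r s) || (r == s) ||
        (r == 7 && s == 4) || (r == 4 && s == 7) || (r == 3 && s == 7) || (r == 7 && s == 3) ||
        (r == 3 && s == 0) || (r == 0 && s == 3) || (r == 0 && s == 4) || (r == 4 && s == 0)))
    = true := by
  decide +kernel

theorem b2cls_spec {r s : ℕ} (hr : r < 8) (hs : s < 8) : b2cls r s = true := by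
  have h := b2cls_all
  rw [List.all_eq_true] at h
  have h1 := h r (List.mem_range.2 hr)
  rw [List.all_eq_true] at h1
  exact h1 s (List.mem_range.2 hs)

theorem b2_tab3_spec {r : ℕ} (hr : r < 8) :
    (if b2sh r then decide (b2gam3 r < 8) && (pairZ chevB2 (b2gam3 r) r % 2 == 1) &&
        (pairZ chevB2 4 r % 2 == 1)
      else (pairZ chevB2 4 r % 2 == 0)) = true ∧
    ∀ s < 8, ((!(cmT chevB2 r s) || cmT chevB2 s r) &&
      (!(b2sh r && b2sh s && cmT chevB2 r s) || (r == s)) &&
      (!(!(b2sh r) && !(b2sh s) && cmT chevB2 r s) || (r == s) ||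
        (r == 7 && s == 4) || (r == 4 && s == 7) || (r == 3 && s == 7) || (r == 7 && s == 3) ||
        (r == 3 && s == 0) || (r == 0 && s == 3) || (r == 0 && s == 4) || (r == 4 && s == 0)))
      = true := by
  have h := b2_tab3
  rw [List.all_eq_true] at h
  have h1 := h r (List.mem_range.2 hr)
  rw [Bool.and_eq_true, List.all_eq_true] at h1
  exact ⟨h1.1, fun s hs => h1.2 s (List.mem_range.2 hs)⟩

set_option maxRecDepth 100000 in
theorem b2_cm_symm : ∀ a < 8, ∀ b < 8, cmT chevB2 a b = true → cmT chevB2 b a = true := by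
  decide +kernel

set_option maxRecDepth 100000 in
theorem b2_ss_cm : ∀ a < 8, ∀ b < 8, b2sh a = true → b2sh b = true → cmT chevB2 a b = true →
    a = b := by
  decide +kernel

set_option maxRecDepth 100000 in
set_option synthInstance.maxSize 4096 in
set_option synthInstance.maxHeartbeats 400000 in
theorem b2_ll_cm : ∀ a < 8, ∀ b < 8, b2sh a = false → b2sh b = false → cmT chevB2 a b = true →
    a = b ∨ (a = 7 ∧ b = 4) ∨ (a = 4 ∧ b = 7) ∨ (a = 3 ∧ b = 7) ∨ (a = 7 ∧ b = 3) ∨
      (a = 3 ∧ b = 0) ∨ (a = 0 ∧ b = 3) ∨ (a = 0 ∧ b = 4) ∨ (a = 4 ∧ b = 0) := by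
  decide +kernel

set_option maxRecDepth 100000 in
theorem b2_long : ∀ r < 8, b2sh r = false → r = 0 ∨ r = 3 ∨ r = 4 ∨ r = 7 := by
  decide +kernel

set_option maxRecDepth 100000 in
theorem b2_short : ∀ r < 8, b2sh r = true → r ≠ 0 ∧ r ≠ 3 ∧ r ≠ 4 ∧ r ≠ 7 := by
  decide +kernel

set_option maxRecDepth 100000 in
set_option synthInstance.maxSize 4096 in
set_option synthInstance.maxHeartbeats 400000 in
theorem b2_ss_pairs : ∀ a < 8, ∀ b < 8, b2sh a = true → b2sh b = true → b ≠ a →
    b ≠ chevB2.neg a →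
    (a = 1 ∧ b = 2) ∨ (a = 2 ∧ b = 1) ∨ (a = 1 ∧ b = 5) ∨ (a = 5 ∧ b = 1) ∨ (a = 2 ∧ b = 6) ∨
      (a = 6 ∧ b = 2) ∨ (a = 5 ∧ b = 6) ∨ (a = 6 ∧ b = 5) := by
  decide +kernel

/-- the canonical lifts for `B₂(3)` -/
noncomputable def Y3 {K : Type*} [Field K] {E : Type*} [Group E]
    {C : Ctx0 chevB2 B2_mem_Seven K E} (P : ParG chevB2 K) {N0 N3 N4 N7 : K}
    (S0 : SP C 1 2 0 N0) (S3 : SP C 5 1 3 N3) (S4 : SP C 6 2 4 N4) (S7 : SP C 5 6 7 N7)
    (r : ℕ) (t : K) : E :=
  if r = 0 then S0.Y t else if r = 3 then S3.Y t else if r = 4 then S4.Y t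
  else if r = 7 then S7.Y t else YG C P r t

section main

variable {K : Type*} [Field K] {E : Type*} [Group E] (C : Ctx0 chevB2 B2_mem_Seven K E)

/-- the lifting theorem for `B₂` over the field with three elements -/
theorem exists_lift_B2_F3 (h3 : (3 : K) = 0) (hK3 : ∀ t : K, t = 0 ∨ t = 1 ∨ t = -1) :
    ∃ τ : chevB2.SteinbergCover K →* E, ∀ (r : ℕ) (t : K), r < chevB2.nroots →
      C.Ψ (τ (chevB2.scGen K r t)) = xGL chevB2 B2_mem_Seven r t := by
  have hn : chevB2.nroots = 8 := rfl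
  have h2 : (2 : K) ≠ 0 := by
    intro h
    have : (3 : K) = 2 + 1 := by norm_num
    rw [this, h, zero_add] at h3
    exact one_ne_zero h3
  have hm1 : (-1 : K) ≠ 1 := by
    intro h
    apply h2
    calc (2 : K) = 1 - (-1) := by norm_num
      _ = 0 := by rw [h, sub_self]
  set P : ParG chevB2 K := ⟨-1, neg_ne_zero.2 one_ne_zero, hm1, b2gam3⟩ with hP
  have hsq : P.ω ^ 2 = 1 := by
    show (-1 : K) ^ 2 = 1
    norm_num
  have hodd : ∀ {n : ℤ}, n % ((2 : ℕ) : ℤ) = 1 → P.ω ^ n = P.ω :=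
    fun h => zpow_eq_self_of_mod hsq h
  have hev : ∀ {n : ℤ}, n % ((2 : ℕ) : ℤ) = 0 → P.ω ^ n = 1 :=
    fun h => zpow_eq_one_of_mod hsq h
  -- table facts
  have tabS : ∀ r < 8, b2sh r = true → b2gam3 r < 8 ∧ pairZ chevB2 (b2gam3 r) r % 2 = 1 ∧
      pairZ chevB2 4 r % 2 = 1 := by
    intro r hr hs
    have h := (b2_tab3_spec hr).1
    rw [if_pos hs] at h
    simp only [Bool.and_eq_true, decide_eq_true_eq, beq_iff_eq] at h
    exact ⟨h.1.1, h.1.2, h.2⟩
  have tabL : ∀ r < 8, b2sh r = false → pairZ chevB2 4 r % 2 = 0 := by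
    intro r hr hs
    have h := (b2_tab3_spec hr).1
    rw [if_neg (by rw [hs]; simp)] at h
    simpa using h
  have hok : ∀ r < 8, b2sh r = true → P.ok r := by
    intro r hr hs
    obtain ⟨h1, h2, -⟩ := tabS r hr hs
    exact ⟨h1, hodd h2⟩
  have hLCs : ∀ r < 8, LCm C.Ψ (xGL chevB2 B2_mem_Seven) r r := fun r hr => lc_prime C hK3 r hr
  -- short and long commuting roots
  have hSL : ∀ a b, a < 8 → b < 8 → b2sh a = true → b2sh b = false → cmT chevB2 a b = true →
      LCm C.Ψ (xGL chevB2 B2_mem_Seven) a b := by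
    intro a b ha hb sa sb hc
    exact lcm_of_torus_g C P ha (hok a ha sa) (hLCs a ha) 4 (by decide)
      (hodd (tabS a ha sa).2.2) (hev (tabL b hb sb)) (cm_of_cmT B2_mem_Seven K ha hb hc)
  have cmS : ∀ {a b : ℕ}, a < 8 → b < 8 → cmT chevB2 a b = true → cmT chevB2 b a = true :=
    fun ha hb hc => b2_cm_symm _ ha _ hb hc
  -- the decompositions of the long roots
  have hN2 : (((2 : ℤ) : K)) ≠ 0 := by
    rw [Int.cast_ofNat]
    exact h2
  have hN2' : (((-2 : ℤ) : K)) ≠ 0 := by
    rw [Int.cast_neg, Int.cast_ofNat]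
    exact neg_ne_zero.2 h2
  have S7 : SP C 5 6 7 ((2 : ℤ) : K) :=
    mkSP C (by decide) (by decide) (by decide) (by decide) (by decide) (by decide) hN2
      (hSL 5 7 (by decide) (by decide) (by decide) (by decide) (by decide))
      (hSL 6 7 (by decide) (by decide) (by decide) (by decide) (by decide)) (hLCs 7 (by decide))
  have S0 : SP C 1 2 0 ((2 : ℤ) : K) :=
    mkSP C (by decide) (by decide) (by decide) (by decide) (by decide) (by decide) hN2
      (hSL 1 0 (by decide) (by decide) (by decide) (by decide) (by decide))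
      (hSL 2 0 (by decide) (by decide) (by decide) (by decide) (by decide)) (hLCs 0 (by decide))
  have S3 : SP C 5 1 3 ((2 : ℤ) : K) :=
    mkSP C (by decide) (by decide) (by decide) (by decide) (by decide) (by decide) hN2
      (hSL 5 3 (by decide) (by decide) (by decide) (by decide) (by decide))
      (hSL 1 3 (by decide) (by decide) (by decide) (by decide) (by decide)) (hLCs 3 (by decide))
  have S4 : SP C 6 2 4 ((2 : ℤ) : K) :=
    mkSP C (by decide) (by decide) (by decide) (by decide) (by decide) (by decide) hN2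
      (hSL 6 4 (by decide) (by decide) (by decide) (by decide) (by decide))
      (hSL 2 4 (by decide) (by decide) (by decide) (by decide) (by decide)) (hLCs 4 (by decide))
  have S4' : SP C 2 6 4 ((-2 : ℤ) : K) :=
    mkSP C (by decide) (by decide) (by decide) (by decide) (by decide) (by decide) hN2'
      (hSL 2 4 (by decide) (by decide) (by decide) (by decide) (by decide))
      (hSL 6 4 (by decide) (by decide) (by decide) (by decide) (by decide)) (hLCs 4 (by decide))
  -- orthogonal long roots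
  have L74 : LCm C.Ψ (xGL chevB2 B2_mem_Seven) 7 4 :=
    lcm_long_orth C S4 (ℓ' := 7) (C1 := -1) (C2 := -1) (by decide) (by decide) (by decide)
      (by decide) (cm_of_cmT B2_mem_Seven K (by decide) (by decide) (by decide))
      (hLCs 6 (by decide))
  have L37 : LCm C.Ψ (xGL chevB2 B2_mem_Seven) 3 7 :=
    lcm_long_orth C S7 (ℓ' := 3) (C1 := 1) (C2 := 1) (by decide) (by decide) (by decide)
      (by decide) (cm_of_cmT B2_mem_Seven K (by decide) (by decide) (by decide))
      (hLCs 5 (by decide))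
  have L30 : LCm C.Ψ (xGL chevB2 B2_mem_Seven) 3 0 :=
    lcm_long_orth C S0 (ℓ' := 3) (C1 := -1) (C2 := -1) (by decide) (by decide) (by decide)
      (by decide) (cm_of_cmT B2_mem_Seven K (by decide) (by decide) (by decide))
      (hLCs 1 (by decide))
  have L04 : LCm C.Ψ (xGL chevB2 B2_mem_Seven) 0 4 :=
    lcm_long_orth C S4' (ℓ' := 0) (C1 := -1) (C2 := 1) (by decide) (by decide) (by decide)
      (by decide) (cm_of_cmT B2_mem_Seven K (by decide) (by decide) (by decide))
      (hLCs 2 (by decide))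
  -- all commuting pairs
  have hLCall : ∀ a b, a < chevB2.nroots → b < chevB2.nroots → cmT chevB2 a b = true →
      LCm C.Ψ (xGL chevB2 B2_mem_Seven) a b := by
    intro a b ha hb hc
    rw [hn] at ha hb
    rcases hsa : b2sh a with _ | _ <;> rcases hsb : b2sh b with _ | _
    · -- long, long
      rcases b2_ll_cm a ha b hb hsa hsb hc with h | h | h | h | h | h | h | h | h
      · subst h
        exact hLCs a ha
      · obtain ⟨rfl, rfl⟩ := h
        exact L74
      · obtain ⟨rfl, rfl⟩ := h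
        exact lcm_symm C L74
      · obtain ⟨rfl, rfl⟩ := h
        exact L37
      · obtain ⟨rfl, rfl⟩ := h
        exact lcm_symm C L37
      · obtain ⟨rfl, rfl⟩ := h
        exact L30
      · obtain ⟨rfl, rfl⟩ := h
        exact lcm_symm C L30
      · obtain ⟨rfl, rfl⟩ := h
        exact L04
      · obtain ⟨rfl, rfl⟩ := h
        exact lcm_symm C L04
    · exact lcm_symm C (hSL b a hb ha hsb hsa (cmS ha hb hc))
    · exact hSL a b ha hb hsa hsb hc
    · have := b2_ss_cm a ha b hb hsa hsb hc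
      subst this
      exact hLCs a ha
  -- the torus element
  set h : E := hlT C 4 (-1 : K) with hh
  have hm0 : (-1 : K) ≠ 0 := neg_ne_zero.2 one_ne_zero
  have hΨh : C.Ψ h = hGL chevB2 B2_mem_Seven 4 P.ω := Ψ_hlT C 4 (by decide) (-1) hm0
  have hactS : ∀ r < 8, b2sh r = true → ∀ t : K,
      C.Ψ h * xGL chevB2 B2_mem_Seven r t * (C.Ψ h)⁻¹ = xGL chevB2 B2_mem_Seven r (-t) := by
    intro r hr hs t
    rw [hΨh, hGL_conj_x_gen chevB2 B2_mem_Seven 4 (by decide) P.ω P.h0, hodd (tabS r hr hs).2.2]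
    show xGL chevB2 B2_mem_Seven r (-1 * t) = _
    rw [neg_one_mul]
  -- the canonical lifts
  have hY0 : ∀ t, Y3 P S0 S3 S4 S7 0 t = S0.Y t := fun t => by unfold Y3; simp
  have hY3 : ∀ t, Y3 P S0 S3 S4 S7 3 t = S3.Y t := fun t => by unfold Y3; simp
  have hY4 : ∀ t, Y3 P S0 S3 S4 S7 4 t = S4.Y t := fun t => by unfold Y3; simp
  have hY7 : ∀ t, Y3 P S0 S3 S4 S7 7 t = S7.Y t := fun t => by unfold Y3; simp
  have hYs : ∀ r < 8, b2sh r = true → ∀ t, Y3 P S0 S3 S4 S7 r t = YG C P r t := by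
    intro r hr hs t
    obtain ⟨a0, a3, a4, a7⟩ := b2_short r hr hs
    unfold Y3
    rw [if_neg a0, if_neg a3, if_neg a4, if_neg a7]
  have YD : YData C b2sh h (Y3 P S0 S3 S4 S7) :=
    { Ψ_Y := by
        intro r hr t
        rw [hn] at hr
        rcases hs : b2sh r with _ | _
        · rcases b2_long r hr hs with rfl | rfl | rfl | rfl
          · rw [hY0]; exact S0.Ψ_Y t
          · rw [hY3]; exact S3.Ψ_Y t
          · rw [hY4]; exact S4.Ψ_Y t
          · rw [hY7]; exact S7.Ψ_Y t
        · rw [hYs r hr hs]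
          exact Ψ_YG C P r hr (hok r hr hs) t
      add := by
        intro r hr t t'
        rw [hn] at hr
        rcases hs : b2sh r with _ | _
        · rcases b2_long r hr hs with rfl | rfl | rfl | rfl
          · rw [hY0, hY0, hY0]; exact S0.Y_add t t'
          · rw [hY3, hY3, hY3]; exact S3.Y_add t t'
          · rw [hY4, hY4, hY4]; exact S4.Y_add t t'
          · rw [hY7, hY7, hY7]; exact S7.Y_add t t'
        · rw [hYs r hr hs, hYs r hr hs, hYs r hr hs]
          exact YG_add C P r hr (hok r hr hs) (hLCs r hr) t t'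
      conjS := by
        intro r hr hs t
        rw [hn] at hr
        rw [hYs r hr hs, hYs r hr hs,
          conj_YG C P r (hok r hr hs).1 4 (by decide) h hΨh t, hodd (tabS r hr hs).2.2]
        show YG C P r (-1 * t) = _
        rw [neg_one_mul]
      conjL := by
        intro r hr hs t
        rw [hn] at hr
        rcases b2_long r hr hs with rfl | rfl | rfl | rfl
        · rw [hY0]
          exact S0.conj_Y hK3 h (hactS 1 (by decide) (by decide)) (hactS 2 (by decide) (by decide)) t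
        · rw [hY3]
          exact S3.conj_Y hK3 h (hactS 5 (by decide) (by decide)) (hactS 1 (by decide) (by decide)) t
        · rw [hY4]
          exact S4.conj_Y hK3 h (hactS 6 (by decide) (by decide)) (hactS 2 (by decide) (by decide)) t
        · rw [hY7]
          exact S7.conj_Y hK3 h (hactS 5 (by decide) (by decide)) (hactS 6 (by decide) (by decide)) t
      ss := by
        intro a b ha hb sa sb hba hbn e f t u he hf
        rw [hn] at ha hb
        rcases b2_ss_pairs a ha b hb sa sb hba hbn with h | h | h | h | h | h | h | h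
        · obtain ⟨rfl, rfl⟩ := h
          rw [show tR chevB2 1 2 = 0 by decide, show tC chevB2 1 2 = 2 by decide, hY0]
          exact S0.cm_eq hK3 he hf
        · obtain ⟨rfl, rfl⟩ := h
          rw [show tR chevB2 2 1 = 0 by decide, show tC chevB2 2 1 = -2 by decide, hY0,
            S0.cm_eq_rev hK3 he hf]
          congr 1
          push_cast
          ring
        · obtain ⟨rfl, rfl⟩ := h
          rw [show tR chevB2 1 5 = 3 by decide, show tC chevB2 1 5 = -2 by decide, hY3,
            S3.cm_eq_rev hK3 he hf]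
          congr 1
          push_cast
          ring
        · obtain ⟨rfl, rfl⟩ := h
          rw [show tR chevB2 5 1 = 3 by decide, show tC chevB2 5 1 = 2 by decide, hY3]
          exact S3.cm_eq hK3 he hf
        · obtain ⟨rfl, rfl⟩ := h
          rw [show tR chevB2 2 6 = 4 by decide, show tC chevB2 2 6 = -2 by decide, hY4,
            S4.cm_eq_rev hK3 he hf]
          congr 1
          push_cast
          ring
        · obtain ⟨rfl, rfl⟩ := h
          rw [show tR chevB2 6 2 = 4 by decide, show tC chevB2 6 2 = 2 by decide, hY4]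
          exact S4.cm_eq hK3 he hf
        · obtain ⟨rfl, rfl⟩ := h
          rw [show tR chevB2 5 6 = 7 by decide, show tC chevB2 5 6 = 2 by decide, hY7]
          exact S7.cm_eq hK3 he hf
        · obtain ⟨rfl, rfl⟩ := h
          rw [show tR chevB2 6 5 = 7 by decide, show tC chevB2 6 5 = -2 by decide, hY7,
            S7.cm_eq_rev hK3 he hf]
          congr 1
          push_cast
          ring
      lc := hLCall }
  -- the homomorphism
  obtain ⟨τ, hτ⟩ := lift_of_Y B2_mem_Seven (Y3 P S0 S3 S4 S7)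
    (fun r t u hr => (YD.add r hr t u).symm) (by
    intro r s t u hr hs hsr hsn
    have hr8 : r < 8 := hr
    have hs8 : s < 8 := hs
    have hc := b2cls_spec hr8 hs8
    unfold b2cls at hc
    simp only [Bool.or_eq_true, decide_eq_true_eq, beq_iff_eq] at hc
    rcases hc with ((((hc | hc) | hc) | hc) | hc) | hc
    · exact absurd hc hsr
    · exact absurd hc hsn
    · exact YD.relCM hr hs hsr hc t u
    · obtain ⟨sr, ss, hrn, hT, hR, hC⟩ := hc
      exact YD.relSS hr hs hsr hsn hrn sr ss hT hR hC t u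
    · obtain ⟨sr, ss, hLS⟩ := hc
      unfold b2LS at hLS
      obtain ⟨hT, h1, h2, sh1, sh2, hne, hnn, hR, hnum, c12, cl1, cl2, cσ2⟩ := hLS
      exact YD.relLS h3 hr hs sr ss hT h1 h2 sh1 sh2 hne hnn hR hnum c12 cl1 cl2 cσ2 hsr hsn t u
    · obtain ⟨sr, ss, hrn, hLS, hT'⟩ := hc
      unfold b2LS at hLS
      obtain ⟨hT, h1, h2, sh1, sh2, hne, hnn, hR, hnum, c12, cl1, cl2, cσ2⟩ := hLS
      exact YD.relSL
        (fun t u => YD.relLS h3 hs hr ss sr hT h1 h2 sh1 sh2 hne hnn hR hnum c12 cl1 cl2 cσ2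
          (Ne.symm hsr) hrn t u) hT hT' h1 h2 c12 t u)
  exact ⟨τ, fun r t hr => by rw [hτ r t hr, YD.Ψ_Y r hr]⟩

end main

end Cfsg.Agent.Lib.Helper9.StB2
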