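import Mathlib
import Cfsg.Agent.Lib.Helper9.StB2H
import Cfsg.Agent.Lib.Helper9.StUniD

set_option autoImplicit false

/-!
The lifting theorem for `B₂` over every finite field with more than two elements.
-/

namespace Cfsg.Agent.Lib.Helper9.StB2

open Cfsg Cfsg.Lie Cfsg.Agent.Lib.Helper5.ChevSym Cfsg.Agent.Lib.Helper5.ChevStruct
  Cfsg.Agent.Lib.Helper5.StPres Cfsg.Agent.Lib.Helper8.StLift Cfsg.Agent.Lib.Helper8.StSl

/-- the elements of a field with three elements -/
theorem field_three {K : Type*} [Field K] [Fintype K] (h : Fintype.card K = 3) :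
    (3 : K) = 0 ∧ ∀ t : K, t = 0 ∨ t = 1 ∨ t = -1 := by
  classical
  have h3 : (3 : K) = 0 := by
    have := FiniteField.cast_card_eq_zero K
    rw [h] at this
    exact_mod_cast this
  have h2 : (2 : K) ≠ 0 := by
    intro h2
    have : (3 : K) = 2 + 1 := by norm_num
    rw [this, h2, zero_add] at h3
    exact one_ne_zero h3
  refine ⟨h3, fun t => ?_⟩
  have h01 : (0 : K) ≠ 1 := zero_ne_one
  have h0m : (0 : K) ≠ -1 := fun h => one_ne_zero (neg_eq_zero.1 h.symm)
  have h1m : (1 : K) ≠ -1 := by
    intro h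
    apply h2
    calc (2 : K) = 1 + 1 := by norm_num
      _ = 0 := by nth_rewrite 2 [h]; ring
  have hcard : ({0, 1, -1} : Finset K).card = 3 := by
    rw [Finset.card_insert_of_notMem, Finset.card_insert_of_notMem, Finset.card_singleton]
    · simpa using h1m
    · simp only [Finset.mem_insert, Finset.mem_singleton, not_or]
      exact ⟨h01, h0m⟩
  have huniv : ({0, 1, -1} : Finset K) = Finset.univ :=
    Finset.eq_univ_of_card _ (by rw [hcard, h])
  have ht : t ∈ ({0, 1, -1} : Finset K) := by
    rw [huniv]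
    exact Finset.mem_univ t
  simpa using ht

/-- a finite field with at least three elements has an element `ω ≠ 0, 1` -/
theorem exists_ne_zero_one_h9 {F : Type*} [Field F] [Fintype F] (hF : 3 ≤ Fintype.card F) :
    ∃ ω : F, ω ≠ 0 ∧ ω ≠ 1 := by
  classical
  by_contra hne
  push Not at hne
  have hsub : (Finset.univ : Finset F) ⊆ {0, 1} := by
    intro x _
    by_cases hx : x = 0
    · simp [hx]
    · simp [hne x hx]
  have h1 := Finset.card_le_card hsub
  have h2 : ({0, 1} : Finset F).card ≤ 2 := Finset.card_le_two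
  rw [Finset.card_univ] at h1
  omega

/-- a field with four elements has characteristic `2` and a primitive cube root of unity -/
theorem field_four {K : Type*} [Field K] [Fintype K] (h : Fintype.card K = 4) :
    (2 : K) = 0 ∧ ∃ ω : K, ω ≠ 0 ∧ ω ≠ 1 ∧ ω ^ 3 = 1 := by
  have h4 : (4 : K) = 0 := by
    have := FiniteField.cast_card_eq_zero K
    rw [h] at this
    exact_mod_cast this
  have h2 : (2 : K) = 0 := by
    have : (2 : K) ^ 2 = 0 := by
      rw [← h4]
      norm_num
    exact pow_eq_zero_iff (by norm_num) |>.1 this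
  obtain ⟨ω, hω0, hω1⟩ := exists_ne_zero_one_h9 (F := K) (by omega)
  refine ⟨h2, ω, hω0, hω1, ?_⟩
  have := FiniteField.pow_card_sub_one_eq_one ω hω0
  rwa [h] at this

/-- the lifting theorem for `B₂` over a finite field with more than two elements -/
theorem exists_lift_B2_fin {K : Type*} [Field K] [Fintype K] (hK : Fintype.card K ≠ 2)
    {E : Type*} [Group E] (C : Ctx0 chevB2 B2_mem_Seven K E) :
    ∃ τ : chevB2.SteinbergCover K →* E, ∀ (r : ℕ) (t : K), r < chevB2.nroots →
      C.Ψ (τ (chevB2.scGen K r t)) = xGL chevB2 B2_mem_Seven r t := by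
  have h1 : 1 < Fintype.card K := Fintype.one_lt_card
  by_cases h3 : Fintype.card K = 3
  · obtain ⟨a, b⟩ := field_three h3
    exact exists_lift_B2_F3 C a b
  by_cases h4 : Fintype.card K = 4
  · obtain ⟨a, ω, b, c, d⟩ := field_four h4
    exact exists_lift_B2_char2 C a ω b c d
  have hK5 : ∃ s : Finset K, 4 < s.card := ⟨Finset.univ, by rw [Finset.card_univ]; omega⟩
  have hF := Cfsg.Agent.Lib.Helper9.StUni.fieldOK_of_five hK5
  exact Cfsg.Agent.Lib.Helper9.StUni.hex_of_torus chevB2 B2_mem_Seven hF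
    Cfsg.Agent.Lib.Helper9.StUni.comb_B2
    (fun C' => Cfsg.Agent.Lib.Helper9.StUni.lc_B2 C' hF) C.Ψ C.hc C.hsurj

end Cfsg.Agent.Lib.Helper9.StB2
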