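import Mathlib
import Cfsg.Prelude.Def_KGroupFacts
import Cfsg.Agent.Lib.Helper8.StCen
import Cfsg.Agent.Lib.Helper8.StSlC
import Cfsg.Agent.Lib.Helper9.StUniB

set_option autoImplicit false

/-!
The Schur multiplier of the group presented by Steinberg's relators (R1)-(R3) over a finite field is
trivial, as soon as the group presented by (R1), (R2) is perfect and maps to every central
extension of the Chevalley group.
-/

namespace Cfsg.Agent.Lib.Helper9.StUni

open Cfsg Cfsg.Lie Cfsg.Agent.Lib.Helper5.ChevSym Cfsg.Agent.Lib.Helper5.ChevStruct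
  Cfsg.Agent.Lib.Helper5.StPres Cfsg.Agent.Lib.Helper8.StLift Cfsg.Agent.Lib.Helper8.StSl

universe u

open scoped commutatorElement

/-- the image of a perfect group is perfect -/
theorem perfect_of_surjective {G H : Type*} [Group G] [Group H] (f : G →* H)
    (hf : Function.Surjective f) (hG : commutator G = ⊤) : commutator H = ⊤ := by
  have h1 : Subgroup.map f (commutator G) = commutator H := by
    rw [commutator_def, commutator_def, Subgroup.map_commutator,
      Subgroup.map_top_of_surjective f hf]
  rw [← h1, hG, Subgroup.map_top_of_surjective f hf]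

/-- a stem extension of a perfect group is perfect -/
theorem perfect_of_stem {Γ G : Type*} [Group Γ] [Group G] (σ : Γ →* G)
    (hsurj : Function.Surjective σ) (hcomm : σ.ker ≤ commutator Γ) (hG : commutator G = ⊤) :
    commutator Γ = ⊤ := by
  have h1 : Subgroup.map σ (commutator Γ) = commutator G := by
    rw [commutator_def, commutator_def, Subgroup.map_commutator,
      Subgroup.map_top_of_surjective σ hsurj]
  rw [eq_top_iff]
  intro x _
  have hx : σ x ∈ Subgroup.map σ (commutator Γ) := by
    rw [h1, hG]
    exact Subgroup.mem_top _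
  obtain ⟨y, hy, hyx⟩ := hx
  have hk : x * y⁻¹ ∈ σ.ker := by
    rw [MonoidHom.mem_ker, map_mul, map_inv, hyx, mul_inv_cancel]
  have : x = (x * y⁻¹) * y := by group
  rw [this]
  exact mul_mem (hcomm hk) hy

/-- in a perfect group, an element that commutes with everything modulo a central subgroup is
central -/
theorem central_of_perfect {Γ G : Type*} [Group Γ] [Group G] (σ : Γ →* G)
    (hcen : σ.ker ≤ Subgroup.center Γ) (hΓ : commutator Γ = ⊤) (x : Γ)
    (hx : ∀ a : Γ, σ x * σ a = σ a * σ x) : x ∈ Subgroup.center Γ := by
  have hle : commutator Γ ≤ Subgroup.centralizer {x} := by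
    rw [commutator_eq_closure, Subgroup.closure_le]
    rintro y ⟨a, b, rfl⟩
    obtain ⟨z, hz, hf⟩ := conj_eq_mul_central σ hcen (e := x) (f := a) (hx a)
    obtain ⟨z', hz', hg⟩ := conj_eq_mul_central σ hcen (e := x) (f := b) (hx b)
    have h3 := commute_cm_of_central hz hz' hf hg
    show ⁅a, b⁆ ∈ Subgroup.centralizer {x}
    rw [Subgroup.mem_centralizer_iff]
    intro w hw
    rw [Set.mem_singleton_iff] at hw
    subst hw
    rw [commutatorElement_def]
    exact h3
  rw [Subgroup.mem_center_iff]
  intro g
  have hg : g ∈ Subgroup.centralizer {x} := hle (by rw [hΓ]; exact Subgroup.mem_top g)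
  rw [Subgroup.mem_centralizer_iff] at hg
  exact (hg x rfl).symm

/-- the presented group (R1), (R2) over a finite field is finite -/
theorem finite_cover (D : ChevalleyDatum) (hD : D ∈ Seven) (K : Type u) [Field K] [Fintype K] :
    Finite (D.SteinbergCover K) := by
  classical
  have hsurjπ := covHom_surjective D hD K
  have hfinker : Finite (covHom D hD K).ker := by
    have hsub : ((covHom D hD K).ker : Set (D.SteinbergCover K)) ⊆ Set.range (hU D hD K) := by
      intro z hz
      obtain ⟨cu, -, rfl⟩ := exists_hU_of_mem_ker D hD K z hz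
      exact ⟨cu, rfl⟩
    exact (Set.finite_range (hU D hD K)).subset hsub
  have hfinq : Finite (D.SteinbergCover K ⧸ (covHom D hD K).ker) :=
    Finite.of_equiv _ (QuotientGroup.quotientKerEquivOfSurjective _ hsurjπ).symm.toEquiv
  exact Finite.of_subgroup_quotient (covHom D hD K).ker

/-- the Schur multiplier of the Steinberg group is trivial, given perfectness and the lifting
property of the group presented by (R1), (R2) -/
theorem schur_steinberg_group_trivial (D : ChevalleyDatum) (hD : D ∈ Seven) {K : Type u} [Field K]
    [Fintype K] (hperf : commutator (D.SteinbergCover K) = ⊤)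
    (hex : ∀ (Q : Type u) [Group Q] (C : Ctx0 D hD K Q),
      ∃ τ : D.SteinbergCover K →* Q, ∀ (r : ℕ) (t : K), r < D.nroots →
        C.Ψ (τ (D.scGen K r t)) = xGL D hD r t) :
    Cfsg.HasCyclicSchurMultiplier (D.SteinbergGroup K) 1 := by
  classical
  obtain ⟨e, -⟩ := cover_equiv_st D hD K
  have hsurjπ := covHom_surjective D hD K
  have hcenπ := covHom_ker_le_center D hD K
  have hfinΔ : Finite (D.SteinbergCover K) := finite_cover D hD K
  have hfinSt : Finite (D.SteinbergGroup K) := Finite.of_equiv _ e.toEquiv
  have hperfSt : commutator (D.SteinbergGroup K) = ⊤ :=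
    perfect_of_surjective e.toMonoidHom e.surjective hperf
  constructor
  · refine ⟨D.SteinbergGroup K, inferInstance, hfinSt, MonoidHom.id _,
      ⟨Function.surjective_id, ?_, ?_⟩, ⟨?_⟩⟩
    · intro x hx
      rw [MonoidHom.mem_ker, MonoidHom.id_apply] at hx
      rw [hx]
      exact one_mem _
    · intro x hx
      rw [MonoidHom.mem_ker, MonoidHom.id_apply] at hx
      rw [hx]
      exact one_mem _
    · exact
        { toFun := fun _ => 1
          invFun := fun _ => 1
          left_inv := by
            intro x
            apply Subtype.ext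
            have := x.2
            rw [MonoidHom.mem_ker, MonoidHom.id_apply] at this
            rw [this]
            rfl
          right_inv := by
            intro x
            exact Subsingleton.elim _ _
          map_mul' := by
            intro a b
            exact Subsingleton.elim _ _ }
  · intro Γ _ _ σ hσ
    obtain ⟨hsurj, hcen, hcomm⟩ := hσ
    have hperfΓ : commutator Γ = ⊤ := perfect_of_stem σ hsurj hcomm hperfSt
    -- the composite `Γ → St → Δ → G` has central kernel
    let ρ : Γ →* D.SteinbergCover K := e.symm.toMonoidHom.comp σ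
    have hρ : ∀ x, ρ x = e.symm (σ x) := fun _ => rfl
    have hρsurj : Function.Surjective ρ := e.symm.surjective.comp hsurj
    have hρker : ρ.ker ≤ Subgroup.center Γ := by
      intro x hx
      apply hcen
      rw [MonoidHom.mem_ker] at hx ⊢
      rw [hρ] at hx
      have := congrArg e hx
      rwa [MulEquiv.apply_symm_apply, map_one] at this
    let C : Ctx0 D hD K Γ :=
      { Ψ := ((D.group K).subtype.comp (covHom D hD K)).comp ρ
        hc := by
          intro x hx
          have hx1 : ρ x ∈ (covHom D hD K).ker := by
            rw [MonoidHom.mem_ker] at hx ⊢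
            exact Subtype.ext hx
          have hx2 := Subgroup.mem_center_iff.1 (hcenπ hx1)
          exact central_of_perfect ρ hρker hperfΓ x (fun a => (hx2 (ρ a)).symm)
        hsurj := by
          intro a ha
          obtain ⟨d, hd⟩ := hsurjπ ⟨a, ha⟩
          obtain ⟨x, hx⟩ := hρsurj d
          exact ⟨x, by
            show ((covHom D hD K (ρ x) : ↥(D.group K)) : GL D.Idx K) = a
            rw [hx, hd]⟩ }
    obtain ⟨τ, hτ⟩ := hex Γ C
    -- `ρ ∘ τ` is the identity
    have h1 : (covHom D hD K).comp (ρ.comp τ) = covHom D hD K := by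
      apply cover_hom_ext2
      intro r t hr
      rw [covHom_scGen D hD K r hr t]
      apply Subtype.ext
      exact hτ r t hr
    have h2 : ρ.comp τ = MonoidHom.id _ := by
      apply hom_eq_of_perfect hperf
      intro d
      apply hcenπ
      rw [MonoidHom.mem_ker, map_mul, map_inv, MonoidHom.id_apply]
      have := congrArg (fun f : D.SteinbergCover K →* ↥(D.group K) => f d) h1
      simp only [MonoidHom.comp_apply] at this
      rw [MonoidHom.comp_apply, this, mul_inv_cancel]
    have hρτ : ∀ d, ρ (τ d) = d := fun d => by
      have := congrArg (fun f : D.SteinbergCover K →* D.SteinbergCover K => f d) h2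
      simpa using this
    -- the commutator subgroup lies in the range of `τ`
    have hcr : commutator Γ ≤ τ.range := by
      rw [commutator_eq_closure, Subgroup.closure_le]
      rintro x ⟨a, b, rfl⟩
      refine ⟨ρ a * ρ b * (ρ a)⁻¹ * (ρ b)⁻¹, ?_⟩
      rw [commutatorElement_def, map_mul, map_mul, map_mul, map_inv, map_inv]
      exact comm_lift_indep ρ hρker (hρτ (ρ a)) (hρτ (ρ b))
    -- the kernel is trivial
    have hker : ∀ z ∈ σ.ker, z = 1 := by
      intro z hz
      obtain ⟨d, rfl⟩ := hcr (hcomm hz)
      have hd : d = 1 := by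
        rw [← hρτ d, hρ, MonoidHom.mem_ker.1 hz, map_one]
      rw [hd, map_one]
    refine ⟨1, ?_⟩
    rintro ⟨z, hz⟩
    exact ⟨1, Subtype.ext (hker z hz).symm⟩

end Cfsg.Agent.Lib.Helper9.StUni
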