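import Mathlib
import Cfsg.Prelude.Def_KGroupFacts
import Cfsg.Agent.Lib.Helper9.StB2I
import Cfsg.Agent.Lib.Helper9.StUniG
import Cfsg.Agent.Lib.Helper8.StSlE67
import Cfsg.Agent.Lib.Helper5.StPres.Perfect

set_option autoImplicit false

/-!
The Schur multipliers of the Steinberg groups of types `E₆`, `E₇`, `B₂`, `D₄` over finite fields
(more than two elements for `B₂`, `D₄`) are trivial, given the lifting theorem for `D₄`.
-/

namespace Cfsg.Agent.Lib.Helper9.StB2

open Cfsg Cfsg.Lie Cfsg.Agent.Lib.Helper5.ChevSym Cfsg.Agent.Lib.Helper5.ChevStruct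
  Cfsg.Agent.Lib.Helper5.StPres Cfsg.Agent.Lib.Helper8.StLift Cfsg.Agent.Lib.Helper8.StSl
  Cfsg.Agent.Lib.Helper9.StUni

universe u

theorem D4_mem_Seven_h9 : chevD4 ∈ Seven := by simp [Seven]

theorem schur_st_all {K : Type u} [Field K] [Fintype K]
    (hD4 : Fintype.card K ≠ 2 → ∀ (Q : Type u) [Group Q] (C : Ctx0 chevD4 D4_mem_Seven_h9 K Q),
      ∃ τ : chevD4.SteinbergCover K →* Q, ∀ (r : ℕ) (t : K), r < chevD4.nroots →
        C.Ψ (τ (chevD4.scGen K r t)) = xGL chevD4 D4_mem_Seven_h9 r t)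
    (e : ChevalleyDatum × ℕ)
    (he : e ∈ [(chevE6, 0), (chevE7, 0), (chevB2, 2), (chevD4, 2)]) (hK : Fintype.card K ≠ e.2) :
    Cfsg.HasCyclicSchurMultiplier (e.1.SteinbergGroup K) 1 := by
  simp only [List.mem_cons, List.not_mem_nil, or_false] at he
  rcases he with rfl | rfl | rfl | rfl
  · exact schur_steinberg_group_trivial chevE6 E6_mem_Seven
      (perfect_of_checkPerf (coverGens chevE6 K) _ chkPerf_E6)
      (fun Q _ C => exists_lift_E6 C)
  · exact schur_steinberg_group_trivial chevE7 E7_mem_Seven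
      (perfect_of_checkPerf (coverGens chevE7 K) _ chkPerf_E7)
      (fun Q _ C => exists_lift_E7 C)
  · have h1 : 1 < Fintype.card K := Fintype.one_lt_card
    obtain ⟨a, ha0, ha1⟩ := exists_ne_zero_one_h9 (F := K) (by
      have : Fintype.card K ≠ 2 := hK
      omega)
    exact schur_steinberg_group_trivial chevB2 B2_mem_Seven
      (perfect_B2 (coverGens chevB2 K) a ha0 ha1)
      (fun Q _ C => exists_lift_B2_fin hK C)
  · exact schur_steinberg_group_trivial chevD4 D4_mem_Seven_h9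
      (perfect_of_checkPerf (coverGens chevD4 K) _ chkPerf_D4)
      (fun Q _ C => hD4 hK Q C)

end Cfsg.Agent.Lib.Helper9.StB2
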