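import Cfsg.Agent.Lib.Helper9.Steiner7

set_option autoImplicit false
set_option linter.unusedSectionVars false

/-! The intersection triangle of `S(5,6,12)`. -/

namespace Cfsg.Agent.Lib.Helper9.Steiner10

open Finset Cfsg.Agent.Lib.Helper9.Steiner1 Cfsg.Agent.Lib.Helper9.Steiner5
  Cfsg.Agent.Lib.Helper9.Steiner6 Cfsg.Agent.Lib.Helper9.Steiner7

variable {α : Type*} [Fintype α] [DecidableEq α]

/-- number of blocks meeting `b` exactly in `u` -/
def NN (Bf : Finset (Finset α)) (b u : Finset α) : ℕ := (Bf.filter (fun c => b ∩ c = u)).card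

/-- number of blocks containing `s` -/
def LL (Bf : Finset (Finset α)) (s : Finset α) : ℕ := (Bf.filter (fun c => s ⊆ c)).card

theorem LL_eq_sum (Bf : Finset (Finset α)) (b s : Finset α) (hsb : s ⊆ b) :
    LL Bf s = ∑ w ∈ b.powerset.filter (fun w => s ⊆ w), NN Bf b w := by
  unfold LL NN
  rw [card_eq_sum_card_fiberwise (f := fun c => b ∩ c) (t := b.powerset.filter (fun w => s ⊆ w))]
  · apply sum_congr rfl
    intro w hw
    congr 1
    ext c
    simp only [mem_filter]
    constructor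
    · rintro ⟨⟨hc, _⟩, h⟩
      exact ⟨hc, h⟩
    · rintro ⟨hc, h⟩
      refine ⟨⟨hc, ?_⟩, h⟩
      have h1 : s ⊆ w := (mem_filter.mp hw).2
      rw [← h] at h1
      exact h1.trans inter_subset_right
  · intro c hc
    have hc' := (mem_filter.mp (mem_coe.mp hc)).2
    simp only [coe_filter, mem_powerset, Set.mem_ofPred_eq]
    exact ⟨inter_subset_left, subset_inter hsb hc'⟩

theorem sum_by_card (b s : Finset α) (hb : b.card = 6) (f : Finset α → ℕ) :
    ∑ w ∈ b.powerset.filter (fun w => s ⊆ w), f w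
      = ∑ j ∈ Finset.Icc s.card 6, ∑ w ∈ (b.powerset.filter (fun w => s ⊆ w)).filter
          (fun w => w.card = j), f w := by
  rw [sum_fiberwise_of_maps_to]
  intro w hw
  have hw' := mem_filter.mp (mem_coe.mp hw)
  show w.card ∈ (Finset.Icc s.card 6 : Set ℕ)
  rw [mem_coe, mem_Icc]
  refine ⟨card_le_card hw'.2, ?_⟩
  rw [← hb]
  exact card_le_card (mem_powerset.mp hw'.1)

theorem card_layer (b s : Finset α) (hsb : s ⊆ b) (j : ℕ) (hj : s.card ≤ j) :
    ((b.powerset.filter (fun w => s ⊆ w)).filter (fun w => w.card = j)).card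
      = (b.card - s.card).choose (j - s.card) := by
  rw [← card_between s b hsb j hj]
  congr 1
  ext w
  simp only [mem_filter, mem_powerset, mem_univ, true_and]
  tauto

theorem layer_sum (b s : Finset α) (hsb : s ⊆ b) (j : ℕ) (hj : s.card ≤ j) (f : Finset α → ℕ)
    (m : ℕ) (hf : ∀ w, s ⊆ w → w ⊆ b → w.card = j → f w = m) :
    ∑ w ∈ (b.powerset.filter (fun w => s ⊆ w)).filter (fun w => w.card = j), f w
      = (b.card - s.card).choose (j - s.card) * m := by
  rw [sum_const_nat (m := m), card_layer b s hsb j hj]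
  intro w hw
  have h1 := mem_filter.mp hw
  have h2 := mem_filter.mp h1.1
  exact hf w h2.2 (mem_powerset.mp h2.1) h1.2

theorem icc46 : Finset.Icc 4 6 = {4, 5, 6} := by decide
theorem icc36 : Finset.Icc 3 6 = {3, 4, 5, 6} := by decide
theorem icc26 : Finset.Icc 2 6 = {2, 3, 4, 5, 6} := by decide

theorem triangle (hα : Fintype.card α = 12) (Bf : Finset (Finset α))
    (hB : Cfsg.IsSteinerSystem 5 6 (Bf : Set (Finset α))) (b : Finset α) (hb : b ∈ Bf) :
    (∀ w, w ⊆ b → w.card = 4 → NN Bf b w = 3) ∧ (∀ w, w ⊆ b → w.card = 3 → NN Bf b w = 2) ∧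
    (∀ w, w ⊆ b → w.card = 2 → NN Bf b w = 3) := by
  have hb6 : b.card = 6 := hB.1 b (mem_coe.mpr hb)
  have hN6 : ∀ w, w ⊆ b → w.card = 6 → NN Bf b w = 1 := by
    intro w hwb hw
    have hwb' : w = b := eq_of_subset_of_card_le hwb (by rw [hw, hb6])
    unfold NN
    rw [card_eq_one]
    refine ⟨b, ?_⟩
    ext c
    rw [mem_filter, mem_singleton, hwb']
    constructor
    · rintro ⟨hc, h⟩
      have : b ⊆ c := inter_eq_left.mp h
      exact (eq_of_subset_of_card_le this (by rw [hB.1 c (mem_coe.mpr hc), hb6])).symm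
    · rintro rfl
      exact ⟨hb, inter_self _⟩
  have hN5 : ∀ w, w ⊆ b → w.card = 5 → NN Bf b w = 0 := by
    intro w hwb hw
    unfold NN
    rw [card_eq_zero, filter_eq_empty_iff]
    intro c hc h
    have := block_eq_of_ge 5 6 Bf hB b c hb hc (by rw [h, hw])
    rw [← this, inter_self] at h
    rw [← h, hb6] at hw
    omega
  have hL : ∀ s : Finset α, s.card ≤ 5 →
      LL Bf s * (6 - s.card).choose (5 - s.card) = (12 - s.card).choose (5 - s.card) := by
    intro s hs
    have := card_blocks_through 5 6 Bf hB s hs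
    rw [hα] at this
    exact this
  have hself : ∀ s : Finset α, ∀ w, s ⊆ w → w ⊆ b → w.card = s.card → NN Bf b w = NN Bf b s := by
    intro s w hsw _ hw
    rw [eq_of_subset_of_card_le hsw (by rw [hw])]
  have hN4 : ∀ w, w ⊆ b → w.card = 4 → NN Bf b w = 3 := by
    intro s hsb hs
    have h1 := hL s (by omega)
    rw [hs] at h1
    have h2 := LL_eq_sum Bf b s hsb
    rw [sum_by_card b s hb6, hs, icc46] at h2
    rw [sum_insert (by decide), sum_insert (by decide), sum_singleton,
      layer_sum b s hsb 4 (by omega) _ (NN Bf b s) (fun w h1 h2 h3 => hself s w h1 h2 (by omega)),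
      layer_sum b s hsb 5 (by omega) _ 0 (fun w _ h2 h3 => hN5 w h2 h3),
      layer_sum b s hsb 6 (by omega) _ 1 (fun w _ h2 h3 => hN6 w h2 h3),
      hb6, hs] at h2
    norm_num [Nat.choose] at h1 h2
    omega
  have hN3 : ∀ w, w ⊆ b → w.card = 3 → NN Bf b w = 2 := by
    intro s hsb hs
    have h1 := hL s (by omega)
    rw [hs] at h1
    have h2 := LL_eq_sum Bf b s hsb
    rw [sum_by_card b s hb6, hs, icc36] at h2
    rw [sum_insert (by decide), sum_insert (by decide), sum_insert (by decide), sum_singleton,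
      layer_sum b s hsb 3 (by omega) _ (NN Bf b s) (fun w h1 h2 h3 => hself s w h1 h2 (by omega)),
      layer_sum b s hsb 4 (by omega) _ 3 (fun w _ h2 h3 => hN4 w h2 h3),
      layer_sum b s hsb 5 (by omega) _ 0 (fun w _ h2 h3 => hN5 w h2 h3),
      layer_sum b s hsb 6 (by omega) _ 1 (fun w _ h2 h3 => hN6 w h2 h3),
      hb6, hs] at h2
    norm_num [Nat.choose] at h1 h2
    omega
  have hN2 : ∀ w, w ⊆ b → w.card = 2 → NN Bf b w = 3 := by
    intro s hsb hs
    have h1 := hL s (by omega)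
    rw [hs] at h1
    have h2 := LL_eq_sum Bf b s hsb
    rw [sum_by_card b s hb6, hs, icc26] at h2
    rw [sum_insert (by decide), sum_insert (by decide), sum_insert (by decide),
      sum_insert (by decide), sum_singleton,
      layer_sum b s hsb 2 (by omega) _ (NN Bf b s) (fun w h1 h2 h3 => hself s w h1 h2 (by omega)),
      layer_sum b s hsb 3 (by omega) _ 2 (fun w _ h2 h3 => hN3 w h2 h3),
      layer_sum b s hsb 4 (by omega) _ 3 (fun w _ h2 h3 => hN4 w h2 h3),
      layer_sum b s hsb 5 (by omega) _ 0 (fun w _ h2 h3 => hN5 w h2 h3),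
      layer_sum b s hsb 6 (by omega) _ 1 (fun w _ h2 h3 => hN6 w h2 h3),
      hb6, hs] at h2
    norm_num [Nat.choose] at h1 h2
    omega
  exact ⟨hN4, hN3, hN2⟩

theorem result_5_6_12 (hα : Fintype.card α = 12) {B : Set (Finset α)}
    (hB : Cfsg.IsSteinerSystem 5 6 B) (b : Finset α) (hb : b ∈ B) :
    (∀ c ∈ B, c ≠ b → (b ∩ c).card = 0 ∨ (b ∩ c).card = 2 ∨ (b ∩ c).card = 3 ∨
      (b ∩ c).card = 4) ∧
    ∀ s ⊆ b, (s.card = 2 → {c : Finset α | c ∈ B ∧ b ∩ c = s}.ncard = 3) ∧
      (s.card = 3 → {c : Finset α | c ∈ B ∧ b ∩ c = s}.ncard = 2) ∧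
      (s.card = 4 → {c : Finset α | c ∈ B ∧ b ∩ c = s}.ncard = 3) := by
  obtain ⟨Bf, rfl⟩ := exists_finset B
  rw [mem_coe] at hb
  have hset : ∀ s : Finset α, {c : Finset α | c ∈ (Bf : Set (Finset α)) ∧ b ∩ c = s}.ncard
      = NN Bf b s := by
    intro s
    unfold NN
    rw [← Set.ncard_coe_finset]
    congr 1
    ext c
    simp
  obtain ⟨h4, h3, h2⟩ := triangle hα Bf hB b hb
  constructor
  · intro c hc hcb
    rw [mem_coe] at hc
    obtain ⟨-, h1, -⟩ := inter_distribution_5_6_12 hα Bf hB b hb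
    have hlt : (b ∩ c).card < 5 := by
      by_contra h
      exact hcb (block_eq_of_ge 5 6 Bf hB c b hc hb (by rw [inter_comm]; omega))
    have hn1 : (b ∩ c).card ≠ 1 := by
      intro h
      have : c ∈ Bf.filter (fun x => (x ∩ b).card = 1) :=
        mem_filter.mpr ⟨hc, by rw [inter_comm]; exact h⟩
      rw [card_eq_zero.mp h1] at this
      exact notMem_empty _ this
    omega
  · intro s hsb
    refine ⟨fun hs => ?_, fun hs => ?_, fun hs => ?_⟩
    · rw [hset]; exact h2 s hsb hs
    · rw [hset]; exact h3 s hsb hs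
    · rw [hset]; exact h4 s hsb hs

end Cfsg.Agent.Lib.Helper9.Steiner10
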