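import Cfsg.Agent.Lib.Helper9.Steiner1

set_option autoImplicit false

namespace Cfsg.Agent.Lib.Helper9.Steiner2

open Finset Cfsg.Agent.Lib.Helper9.Steiner1

theorem steiner_counts (α : Type*) [Fintype α] [DecidableEq α] (hα : Fintype.card α = 24)
    (B : Set (Finset α)) (hB : Cfsg.IsSteinerSystem 5 8 B) (Y : Finset α) (hY : Y.card = 3) :
    {b : Finset α | b ∈ B ∧ (b ∩ Y).card = 3}.ncard = 21 ∧
    {b : Finset α | b ∈ B ∧ (b ∩ Y).card = 2}.ncard = 168 ∧
    {b : Finset α | b ∈ B ∧ (b ∩ Y).card = 1}.ncard = 360 ∧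
    {b : Finset α | b ∈ B ∧ (b ∩ Y).card = 0}.ncard = 210 := by
  classical
  obtain ⟨Bf, hBf⟩ : ∃ Bf : Finset (Finset α), Bf = univ.filter (· ∈ B) := ⟨_, rfl⟩
  have hBc : (Bf : Set (Finset α)) = B := by ext; simp [hBf]
  have hB' : Cfsg.IsSteinerSystem 5 8 (Bf : Set (Finset α)) := hBc ▸ hB
  have hN : ∀ Z : Finset α, Z.card ≤ 5 →
      (Bf.filter (fun b => Z ⊆ b)).card * (8 - Z.card).choose (5 - Z.card)
        = (24 - Z.card).choose (5 - Z.card) := by
    intro Z hZ
    have := card_blocks_through 5 8 Bf hB' Z hZ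
    rwa [hα] at this
  have hW : ∀ j, ∑ b ∈ Bf, ((b ∩ Y).card).choose j
      = ∑ Z ∈ powersetCard j Y, (Bf.filter (fun b => Z ⊆ b)).card := by
    intro j
    have h := sum_card_bipartiteAbove_eq_sum_card_bipartiteBelow
      (fun (Z b : Finset α) => Z ⊆ b) (s := powersetCard j Y) (t := Bf)
    have h2 : (∑ Z ∈ powersetCard j Y, (Bf.filter (fun b => Z ⊆ b)).card)
        = ∑ Z ∈ powersetCard j Y, (Bf.bipartiteAbove (fun (Z b : Finset α) => Z ⊆ b) Z).card := rfl
    rw [h2, h]
    refine sum_congr rfl fun b _ => ?_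
    rw [← card_powersetCard]
    congr 1
    ext Z
    simp only [mem_powersetCard, subset_inter_iff, mem_bipartiteBelow]
    tauto
  have hF : ∀ j, ∑ b ∈ Bf, ((b ∩ Y).card).choose j
      = ∑ k ∈ range 4, (Bf.filter (fun b => (b ∩ Y).card = k)).card * k.choose j := by
    intro j
    rw [← sum_fiberwise_of_maps_to (s := Bf) (t := range 4) (g := fun b => (b ∩ Y).card)]
    · refine sum_congr rfl fun k _ => ?_
      rw [sum_congr rfl (g := fun _ => k.choose j), sum_const, smul_eq_mul]
      intro b hb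
      rw [(mem_filter.mp hb).2]
    · intro b _
      have : (b ∩ Y).card ≤ Y.card := card_le_card inter_subset_right
      simp only [mem_range]
      omega
  have hR : ∀ j (lam : ℕ), (∀ Z : Finset α, Z.card = j → (Bf.filter (fun b => Z ⊆ b)).card = lam) →
      ∑ Z ∈ powersetCard j Y, (Bf.filter (fun b => Z ⊆ b)).card = (Nat.choose 3 j) * lam := by
    intro j lam h
    rw [sum_congr rfl (g := fun _ => lam), sum_const, smul_eq_mul, card_powersetCard, hY]
    intro Z hZ
    exact h Z (mem_powersetCard.mp hZ).2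
  have c24 : Nat.choose 24 5 = 42504 := by decide
  have c23 : Nat.choose 23 4 = 8855 := by decide
  have c22 : Nat.choose 22 3 = 1540 := by decide
  have c21 : Nat.choose 21 2 = 210 := by decide
  have c8 : Nat.choose 8 5 = 56 := by decide
  have c7 : Nat.choose 7 4 = 35 := by decide
  have c6 : Nat.choose 6 3 = 20 := by decide
  have c5 : Nat.choose 5 2 = 10 := by decide
  have l0 : ∀ Z : Finset α, Z.card = 0 → (Bf.filter (fun b => Z ⊆ b)).card = 759 := by
    intro Z hZ
    have := hN Z (by omega)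
    rw [hZ] at this
    simp only [Nat.sub_zero, c24, c8] at this
    omega
  have l1 : ∀ Z : Finset α, Z.card = 1 → (Bf.filter (fun b => Z ⊆ b)).card = 253 := by
    intro Z hZ
    have := hN Z (by omega)
    rw [hZ] at this
    norm_num [c23, c7] at this
    omega
  have l2 : ∀ Z : Finset α, Z.card = 2 → (Bf.filter (fun b => Z ⊆ b)).card = 77 := by
    intro Z hZ
    have := hN Z (by omega)
    rw [hZ] at this
    norm_num [c22, c6] at this
    omega
  have l3 : ∀ Z : Finset α, Z.card = 3 → (Bf.filter (fun b => Z ⊆ b)).card = 21 := by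
    intro Z hZ
    have := hN Z (by omega)
    rw [hZ] at this
    norm_num [c21, c5] at this
    omega
  have e0 := (hF 0).symm.trans ((hW 0).trans (hR 0 759 l0))
  have e1 := (hF 1).symm.trans ((hW 1).trans (hR 1 253 l1))
  have e2 := (hF 2).symm.trans ((hW 2).trans (hR 2 77 l2))
  have e3 := (hF 3).symm.trans ((hW 3).trans (hR 3 21 l3))
  simp only [sum_range_succ, sum_range_zero] at e0 e1 e2 e3
  have hset : ∀ j, {b : Finset α | b ∈ B ∧ (b ∩ Y).card = j}.ncard
      = (Bf.filter (fun b => (b ∩ Y).card = j)).card := by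
    intro j
    rw [← Set.ncard_coe_finset]
    congr 1
    ext b
    simp [hBf]
  rw [hset, hset, hset, hset]
  generalize (Bf.filter (fun b => (b ∩ Y).card = 0)).card = c0 at *
  generalize (Bf.filter (fun b => (b ∩ Y).card = 1)).card = c1 at *
  generalize (Bf.filter (fun b => (b ∩ Y).card = 2)).card = c2 at *
  generalize (Bf.filter (fun b => (b ∩ Y).card = 3)).card = c3 at *
  norm_num [Nat.choose] at e0 e1 e2 e3
  omega

end Cfsg.Agent.Lib.Helper9.Steiner2
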