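import Cfsg.Agent.Lib.Helper9.Steiner3

set_option autoImplicit false
set_option linter.unusedSectionVars false

namespace Cfsg.Agent.Lib.Helper9.Steiner4

open Finset Cfsg.Agent.Lib.Helper9.Steiner1 Cfsg.Agent.Lib.Helper9.Steiner3

variable {α : Type*} [Fintype α] [DecidableEq α]

/-- two blocks of an S(5,8,24) with at least five common points coincide -/
theorem block_eq_of_five (Bf : Finset (Finset α))
    (hB : Cfsg.IsSteinerSystem 5 8 (Bf : Set (Finset α))) (b c : Finset α) (hb : b ∈ Bf)
    (hc : c ∈ Bf) (h5 : 5 ≤ (b ∩ c).card) : b = c := by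
  obtain ⟨s, hs, hs5⟩ := exists_subset_card_eq h5
  obtain ⟨x, -, hx⟩ := hB.2 s hs5
  have h1 := hx b ⟨mem_coe.mpr hb, hs.trans inter_subset_left⟩
  have h2 := hx c ⟨mem_coe.mpr hc, hs.trans inter_subset_right⟩
  rw [h1, h2]

/-- intersection distribution of the blocks of an S(5,8,24) with a fixed block -/
theorem inter_distribution (hα : Fintype.card α = 24) (Bf : Finset (Finset α))
    (hB : Cfsg.IsSteinerSystem 5 8 (Bf : Set (Finset α))) (b : Finset α) (hb : b ∈ Bf) :
    (Bf.filter (fun c => (c ∩ b).card = 0)).card = 30 ∧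
    (Bf.filter (fun c => (c ∩ b).card = 1)).card = 0 ∧
    (Bf.filter (fun c => (c ∩ b).card = 2)).card = 448 ∧
    (Bf.filter (fun c => (c ∩ b).card = 3)).card = 0 ∧
    (Bf.filter (fun c => (c ∩ b).card = 4)).card = 280 := by
  have hb8 : b.card = 8 := hB.1 b (mem_coe.mpr hb)
  obtain ⟨m0, m1, m2, m3, m4, -⟩ := moments_5_8_24 hα Bf hB b
  have hge5 : ∀ k, 5 ≤ k → k ≠ 8 → (Bf.filter (fun c => (c ∩ b).card = k)).card = 0 := by
    intro k hk hk8
    rw [card_eq_zero, filter_eq_empty_iff]
    intro c hc hck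
    have := block_eq_of_five Bf hB c b hc hb (by omega)
    rw [this, inter_self, hb8] at hck
    omega
  have h8 : (Bf.filter (fun c => (c ∩ b).card = 8)).card = 1 := by
    rw [card_eq_one]
    refine ⟨b, ?_⟩
    ext c
    rw [mem_filter, mem_singleton]
    constructor
    · rintro ⟨hc, hck⟩
      exact block_eq_of_five Bf hB c b hc hb (by omega)
    · rintro rfl
      exact ⟨hb, by rw [inter_self, hb8]⟩
  rw [sum_fiber_inter Bf b 8 (by omega) (fun k => k.choose 0)] at m0
  rw [sum_fiber_inter Bf b 8 (by omega) (fun k => k.choose 1)] at m1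
  rw [sum_fiber_inter Bf b 8 (by omega) (fun k => k.choose 2)] at m2
  rw [sum_fiber_inter Bf b 8 (by omega) (fun k => k.choose 3)] at m3
  rw [sum_fiber_inter Bf b 8 (by omega) (fun k => k.choose 4)] at m4
  simp only [sum_range_succ, sum_range_zero] at m0 m1 m2 m3 m4
  rw [hge5 5 (by omega) (by omega), hge5 6 (by omega) (by omega), hge5 7 (by omega) (by omega),
    h8] at m0 m1 m2 m3 m4
  rw [hb8] at m1 m2 m3 m4
  generalize (Bf.filter (fun c => (c ∩ b).card = 0)).card = c0 at *
  generalize (Bf.filter (fun c => (c ∩ b).card = 1)).card = c1 at *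
  generalize (Bf.filter (fun c => (c ∩ b).card = 2)).card = c2 at *
  generalize (Bf.filter (fun c => (c ∩ b).card = 3)).card = c3 at *
  generalize (Bf.filter (fun c => (c ∩ b).card = 4)).card = c4 at *
  norm_num [Nat.choose] at m0 m1 m2 m3 m4
  omega

end Cfsg.Agent.Lib.Helper9.Steiner4
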