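import Cfsg.Agent.Lib.Helper9.Steiner5

set_option autoImplicit false
set_option linter.unusedSectionVars false

namespace Cfsg.Agent.Lib.Helper9.Steiner8

open Finset Cfsg.Agent.Lib.Helper9.Steiner1 Cfsg.Agent.Lib.Helper9.Steiner3
  Cfsg.Agent.Lib.Helper9.Steiner4 Cfsg.Agent.Lib.Helper9.Steiner5

variable {α : Type*} [Fintype α] [DecidableEq α]

/-- Leech triangle, bottom row: 4 blocks meet a block in a given 4-subset -/
theorem meet_four (hα : Fintype.card α = 24) (Bf : Finset (Finset α))
    (hB : Cfsg.IsSteinerSystem 5 8 (Bf : Set (Finset α))) (b : Finset α) (hb : b ∈ Bf)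
    (s : Finset α) (hs : s ⊆ b) (h4 : s.card = 4) :
    (Bf.filter (fun c => b ∩ c = s)).card = 4 := by
  have h5 := (lambda_5_8_24 hα Bf hB s).2.2.2.2.1 h4
  have hb8 : b.card = 8 := hB.1 b (mem_coe.mpr hb)
  have e : Bf.filter (fun c => s ⊆ c) = insert b (Bf.filter (fun c => b ∩ c = s)) := by
    ext c
    rw [mem_filter, mem_insert, mem_filter]
    constructor
    · rintro ⟨hc, hsc⟩
      by_cases hcb : c = b
      · exact Or.inl hcb
      · right
        refine ⟨hc, ?_⟩
        have hsub : s ⊆ b ∩ c := subset_inter hs hsc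
        have hle := card_le_card hsub
        have := block_inter hα hB (mem_coe.mpr hb) (mem_coe.mpr hc) (fun h => hcb h.symm)
        symm
        apply eq_of_subset_of_card_le hsub
        omega
    · rintro (rfl | ⟨hc, hbc⟩)
      · exact ⟨hb, hs⟩
      · exact ⟨hc, hbc ▸ inter_subset_right⟩
  have hnot : b ∉ Bf.filter (fun c => b ∩ c = s) := by
    rw [mem_filter, inter_self]
    rintro ⟨-, rfl⟩
    omega
  rw [e, card_insert_of_notMem hnot] at h5
  omega

/-- Leech triangle, bottom row: 16 blocks meet a block in a given pair -/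
theorem meet_two (hα : Fintype.card α = 24) (Bf : Finset (Finset α))
    (hB : Cfsg.IsSteinerSystem 5 8 (Bf : Set (Finset α))) (b : Finset α) (hb : b ∈ Bf)
    (s : Finset α) (hs : s ⊆ b) (h2 : s.card = 2) :
    (Bf.filter (fun c => b ∩ c = s)).card = 16 := by
  have h77 := (lambda_5_8_24 hα Bf hB s).2.2.1 h2
  have hb8 : b.card = 8 := hB.1 b (mem_coe.mpr hb)
  obtain ⟨Q, hQ⟩ : ∃ Q, Q = univ.filter (fun q : Finset α => s ⊆ q ∧ q ⊆ b ∧ q.card = 4) :=
    ⟨_, rfl⟩
  have hQc : Q.card = 15 := by
    rw [hQ, card_between s b hs 4 (by omega), hb8, h2]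
    decide
  have hQmem : ∀ q, q ∈ Q ↔ s ⊆ q ∧ q ⊆ b ∧ q.card = 4 := by
    intro q
    rw [hQ, mem_filter]
    simp
  have e : Bf.filter (fun c => s ⊆ c) =
      insert b (Bf.filter (fun c => b ∩ c = s) ∪ Q.biUnion fun q => Bf.filter (fun c => b ∩ c = q)) := by
    ext c
    rw [mem_filter, mem_insert, mem_union, mem_filter, mem_biUnion]
    constructor
    · rintro ⟨hc, hsc⟩
      by_cases hcb : c = b
      · exact Or.inl hcb
      · right
        have hsub : s ⊆ b ∩ c := subset_inter hs hsc
        have hle := card_le_card hsub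
        rcases block_inter hα hB (mem_coe.mpr hb) (mem_coe.mpr hc) (fun h => hcb h.symm)
          with h | h | h
        · omega
        · left
          refine ⟨hc, ?_⟩
          symm
          apply eq_of_subset_of_card_le hsub
          omega
        · right
          refine ⟨b ∩ c, ?_, ?_⟩
          · rw [hQmem]
            exact ⟨hsub, inter_subset_left, h⟩
          · rw [mem_filter]
            exact ⟨hc, rfl⟩
    · rintro (rfl | ⟨hc, hbc⟩ | ⟨q, hq, hcq⟩)
      · exact ⟨hb, hs⟩
      · exact ⟨hc, hbc ▸ inter_subset_right⟩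
      · rw [mem_filter] at hcq
        rw [hQmem] at hq
        refine ⟨hcq.1, hq.1.trans ?_⟩
        rw [← hcq.2]
        exact inter_subset_right
  have hnot : b ∉ (Bf.filter (fun c => b ∩ c = s) ∪
      Q.biUnion fun q => Bf.filter (fun c => b ∩ c = q)) := by
    rw [mem_union, mem_filter, mem_biUnion, inter_self]
    rintro (⟨-, rfl⟩ | ⟨q, hq, hbq⟩)
    · omega
    · rw [mem_filter, inter_self] at hbq
      rw [hQmem] at hq
      rw [← hbq.2] at hq
      omega
  have hdisj : Disjoint (Bf.filter (fun c => b ∩ c = s))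
      (Q.biUnion fun q => Bf.filter (fun c => b ∩ c = q)) := by
    rw [disjoint_left]
    intro c hc1 hc2
    rw [mem_filter] at hc1
    obtain ⟨q, hq, hcq⟩ := mem_biUnion.mp hc2
    rw [mem_filter] at hcq
    rw [hQmem] at hq
    rw [← hcq.2, hc1.2] at hq
    omega
  have hbU : (Q.biUnion fun q => Bf.filter (fun c => b ∩ c = q)).card = 60 := by
    rw [card_biUnion]
    · rw [sum_congr rfl (g := fun _ => 4), sum_const, hQc, smul_eq_mul]
      intro q hq
      rw [hQmem] at hq
      exact meet_four hα Bf hB b hb q hq.2.1 hq.2.2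
    · intro q hq q' hq' hne
      rw [Function.onFun, disjoint_left]
      intro c hc1 hc2
      rw [mem_filter] at hc1 hc2
      exact hne (hc1.2.symm.trans hc2.2)
  rw [e, card_insert_of_notMem hnot, card_union_of_disjoint hdisj, hbU] at h77
  omega

end Cfsg.Agent.Lib.Helper9.Steiner8
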