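import Cfsg.Agent.Lib.Helper9.FactorSys8
import Cfsg.Agent.Lib.Helper9.GroupFusionSat

set_option autoImplicit false

namespace Cfsg.Agent.Lib.Helper9

open Cfsg Cfsg.FusionSystem

variable {G : Type*} [Group G]

/-- the inclusion of `T` (as a subgroup of `H`) into `G` -/
def inclSub (H T : Subgroup G) : (T.subgroupOf H) →* G :=
  H.subtype.comp (T.subgroupOf H).subtype

theorem inclSub_apply (H T : Subgroup G) (x : T.subgroupOf H) : inclSub H T x = ((x : H) : G) := rfl

/-- `F_T(H)` computed inside `G` is the isomorphic image of `F_T(H)` computed inside `H` -/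
theorem isFactorSystem_fusionSystemOfSubgroup (H T : Subgroup G) (hTH : T ≤ H) :
    (groupFusionSystem (T.subgroupOf H)).IsFactorSystem ⊥ (inclSub H T)
      (fusionSystemOfSubgroup H T hTH) := by
  refine ⟨bot_le, ?_, ?_, ?_⟩
  · intro s
    rw [Subgroup.mem_bot]
    constructor
    · intro h
      have h1 : ((s : H) : G) = 1 := h
      have h2 : (s : H) = 1 := Subtype.ext h1
      exact h2
    · intro h
      show (((s : H)) : G) = 1
      rw [h]
      rfl
  · ext y
    constructor
    · rintro ⟨s, rfl⟩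
      exact s.2
    · intro hy
      exact ⟨⟨⟨y, hTH hy⟩, hy⟩, rfl⟩
  · intro P' φ'
    constructor
    · rintro ⟨hP'T, hφ'T, g, hgH, hg⟩
      refine ⟨hP'T, conjHom (preimageAlong (inclSub H T) P') ⟨g, hgH⟩, ?_, ?_⟩
      · refine ⟨preimageAlong_le _ _, fun x => ?_, ⟨g, hgH⟩, fun x => rfl⟩
        have hx := map_mem_of_mem_preimageAlong (inclSub H T) P' x
        have h1 := hφ'T ⟨_, hx⟩
        rw [hg] at h1
        exact h1
      · refine ⟨preimageAlong_le _ _, fun x => ?_, map_mem_of_mem_preimageAlong _ _, fun x => ?_⟩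
        · have hx := map_mem_of_mem_preimageAlong (inclSub H T) P' x
          have h1 := hφ'T ⟨_, hx⟩
          rw [hg] at h1
          exact h1
        · rw [hg]
          rfl
    · rintro ⟨hP'T, φ, ⟨hD, hφT, h, hh⟩, hDS, hφS, hDP', hind⟩
      have key : ∀ y : P', φ' y = (h : G) * (y : G) * (h : G)⁻¹ := by
        intro y
        have hyD : (⟨(y : G), hTH (hP'T y.2)⟩ : H) ∈ preimageAlong (inclSub H T) P' := by
          rw [mem_preimageAlong]
          exact ⟨hP'T y.2, y.2⟩
        have h1 := hind ⟨_, hyD⟩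
        have h2 : (⟨inclSub H T ⟨((⟨_, hyD⟩ : (preimageAlong (inclSub H T) P' : Subgroup H)) : H),
            hDS hyD⟩, hDP' ⟨_, hyD⟩⟩ : P') = y := Subtype.ext rfl
        rw [h2] at h1
        rw [h1, inclSub_apply]
        show ((φ ⟨_, hyD⟩ : H) : G) = _
        rw [hh]
        rfl
      refine ⟨hP'T, fun y => ?_, h, h.2, key⟩
      have hyD : (⟨(y : G), hTH (hP'T y.2)⟩ : H) ∈ preimageAlong (inclSub H T) P' := by
        rw [mem_preimageAlong]
        exact ⟨hP'T y.2, y.2⟩
      have h1 := hind ⟨_, hyD⟩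
      have h2 : (⟨inclSub H T ⟨((⟨_, hyD⟩ : (preimageAlong (inclSub H T) P' : Subgroup H)) : H),
          hDS hyD⟩, hDP' ⟨_, hyD⟩⟩ : P') = y := Subtype.ext rfl
      rw [h2] at h1
      rw [h1, inclSub_apply]
      exact hφS ⟨_, hyD⟩

/-- `F_T(H)` is saturated when `T` is a Sylow `p`-subgroup of `H` -/
theorem fusionSystemOfSubgroup_saturated [Finite G] (p : ℕ) [Fact p.Prime] (H T : Subgroup G)
    (hTH : T ≤ H) (R : Sylow p H) (hR : (R : Subgroup H) = T.subgroupOf H) :
    (fusionSystemOfSubgroup H T hTH).IsSaturated p := by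
  have h1 : (groupFusionSystem (T.subgroupOf H)).IsSaturated p := by
    rw [← hR]
    exact groupFusion_saturated R
  have hp : IsPGroup p (T.subgroupOf H) := by
    rw [← hR]
    exact R.isPGroup'
  exact factorSystem_saturated p hp _ h1 (stronglyClosed_bot _) (inclSub H T) _
    (isFactorSystem_fusionSystemOfSubgroup H T hTH)

end Cfsg.Agent.Lib.Helper9
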