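import Cfsg.Agent.Lib.Helper9.SubgroupSystem3

set_option autoImplicit false

namespace Cfsg.Agent.Lib.Helper9

open Cfsg Cfsg.FusionSystem

variable {G : Type*} [Group G]

/-- S5336 -/
theorem simple_of_minimal_realizing [Finite G] (p : ℕ) [Fact p.Prime] (S : Sylow p G)
    (hsimple : (groupFusionSystem (S : Subgroup G)).IsSimple p)
    (hcore : pPrimeCore p G = ⊥)
    (hmin : ∀ (H : Subgroup G) (hSH : (S : Subgroup G) ≤ H), H ≠ ⊤ →
      ∃ P : Subgroup G, (fusionSystemOfSubgroup H (S : Subgroup G) hSH).Hom P ≠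
        (groupFusionSystem (S : Subgroup G)).Hom P) : IsSimpleGroup G := by
  have hS1 : (S : Subgroup G) ≠ ⊥ := hsimple.2.1
  have hnt : Nontrivial G := by
    by_contra h
    rw [not_nontrivial_iff_subsingleton] at h
    exact hS1 (Subsingleton.elim _ _)
  refine { exists_pair_ne := hnt.exists_pair_ne, eq_bot_or_eq_top_of_normal := ?_ }
  intro N hN
  have hE := fusionSystemOfSubgroup_normal p S N
  rcases hsimple.2.2 _ _ hE with h | ⟨h1, h2⟩
  · left
    obtain ⟨R, hR⟩ := Cfsg.Agent.Lib.Helper2.exists_sylow_eq_inf_normal S N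
    have hRbot : (R : Subgroup N) = ⊥ := by
      rw [hR, h]
      exact Subgroup.bot_subgroupOf N
    have hcop : (Nat.card N).Coprime p := by
      have h3 : Nat.card (R : Subgroup N) = 1 := by rw [hRbot]; exact Subgroup.card_bot
      rw [Sylow.card_eq_multiplicity] at h3
      have h4 : (Nat.card N).factorization p = 0 := by
        by_contra hne
        have : 1 < p ^ (Nat.card N).factorization p :=
          Nat.one_lt_pow hne (Fact.out : p.Prime).one_lt
        omega
      have h5 : ¬ p ∣ Nat.card N := by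
        intro hdvd
        have := (Nat.Prime.factorization_pos_of_dvd (Fact.out : p.Prime) Nat.card_pos.ne' hdvd)
        omega
      exact ((Nat.Prime.coprime_iff_not_dvd (Fact.out : p.Prime)).mpr h5).symm
    have hle : N ≤ pPrimeCore p G := le_sSup ⟨hN, hcop⟩
    rw [hcore] at hle
    exact le_bot_iff.mp hle
  · right
    have hSN : (S : Subgroup G) ≤ N := inf_eq_left.mp h1
    by_contra hne
    obtain ⟨P, hP⟩ := hmin N hSN hne
    apply hP
    rw [← h2 P]
    ext φ
    constructor
    · rintro ⟨hPS, hφS, g, hg, hφ⟩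
      exact ⟨le_inf hPS (hPS.trans hSN), fun x => ⟨hφS x, hSN (hφS x)⟩, g, hg, hφ⟩
    · rintro ⟨hPS, hφS, g, hg, hφ⟩
      exact ⟨hPS.trans inf_le_left, fun x => (hφS x).1, g, hg, hφ⟩

end Cfsg.Agent.Lib.Helper9
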