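import Cfsg.Agent.Lib.Helper9.CentricAgree2
import Cfsg.Agent.Lib.Helper9.AlperinCor

set_option autoImplicit false

namespace Cfsg.Agent.Lib.Helper9

open Cfsg Cfsg.FusionSystem

variable {Ω : Type*} [Group Ω] {S : Subgroup Ω}

theorem centric_of_le_system {F F' : FusionSystem S} (hle : F' ≤ F) {Q : Subgroup Ω}
    (hQ : F.IsCentric Q) : F'.IsCentric Q :=
  ⟨hQ.1, fun R hR => hQ.2 R (by obtain ⟨φ, hφ, hr⟩ := hR; exact ⟨φ, hle Q hφ, hr⟩)⟩

/-- a centric subgroup is fully centralized -/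
theorem fullyCentralized_of_centric [Finite S] (F : FusionSystem S) {Q : Subgroup Ω}
    (hQ : F.IsCentric Q) : F.IsFullyCentralized Q := by
  refine ⟨hQ.1, fun Q' hQQ' => ?_⟩
  have hCQ' : centralizerIn S Q' ≤ Q' := hQ.2 Q' hQQ'
  obtain ⟨θ, hθ, hθr⟩ := isConj_symm F hQQ'
  have hfin : Finite (centralizerIn S Q) := finite_centralizerIn Q
  have hmem : ∀ c : centralizerIn S Q', θ ⟨c, hCQ' c.2⟩ ∈ centralizerIn S Q := by
    intro c
    refine ⟨hom_mem F hθ _, ?_⟩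
    show _ ∈ Subgroup.centralizer (Q : Set Ω)
    rw [Subgroup.mem_centralizer_iff]
    intro y hy
    obtain ⟨x, rfl⟩ := hθr.ge hy
    rw [← map_mul, ← map_mul]
    congr 1
    apply Subtype.ext
    exact c.2.2 x x.2
  apply Nat.card_le_card_of_injective (fun c : centralizerIn S Q' =>
    (⟨θ ⟨c, hCQ' c.2⟩, hmem c⟩ : centralizerIn S Q))
  intro a b hab
  have h1 : θ ⟨a, hCQ' a.2⟩ = θ ⟨b, hCQ' b.2⟩ := congrArg Subtype.val hab
  have h2 := F.injective_of_mem hθ h1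
  exact Subtype.ext (congrArg (fun z : Q' => (z : Ω)) h2)

/-- the normal case of the extension lemma -/
theorem hom_mem_of_restrict_mem_normal [Finite S] {p : ℕ} [Fact p.Prime] (hS : IsPGroup p S)
    (F : FusionSystem S) (hF : F.IsSaturated p) (F' : FusionSystem S) (hF' : F'.IsSaturated p)
    (hle : F' ≤ F) {R Q : Subgroup Ω} (hQR : Q ≤ R) (hRN : R ≤ Subgroup.normalizer (Q : Set Ω))
    (hQ : F.IsCentric Q) {ψ : R →* Ω} (hψ : ψ ∈ F.Hom R)
    (hψQ : ψ.comp (Subgroup.inclusion hQR) ∈ F'.Hom Q) : ψ ∈ F'.Hom R := by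
  have hRS := hom_le F hψ
  have hQ'c : F'.IsCentric (ψ.comp (Subgroup.inclusion hQR)).range :=
    centric_of_isConj F' (centric_of_le_system hle hQ) ⟨_, hψQ, rfl⟩
  have hrec := receptive_of_fullyCentralized hS F' hF' (fullyCentralized_of_centric F' hQ'c)
  obtain ⟨ρ, hρ, hρψ⟩ := hrec.2 Q _ hψQ rfl
  have hRle : R ≤ extender S Q (ψ.comp (Subgroup.inclusion hQR)) := by
    intro g hg
    apply Subgroup.subset_closure
    refine ⟨hRS hg, hRN hg, ψ ⟨g, hg⟩, hom_mem F hψ _, fun x hx => ?_⟩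
    show ψ (Subgroup.inclusion hQR ⟨g * x * g⁻¹, hx⟩) = ψ ⟨g, hg⟩ * ψ (Subgroup.inclusion hQR x) *
      (ψ ⟨g, hg⟩)⁻¹
    rw [← map_inv, ← map_mul, ← map_mul]
    rfl
  have hρR := restrict_mem F' hρ hRle
  have hagree : ∀ x : R, (x : Ω) ∈ Q → (ρ.comp (Subgroup.inclusion hRle)) x = ψ x := by
    intro x hx
    exact hρψ x hx _
  obtain ⟨z, hzQ, -, hz⟩ := maps_agreeing_on_centric p hS F hF R Q hQR hQ _ ψ (hle R hρR) hψ hagree
  -- ψ = ρ ∘ c_z
  have hcz : ∀ y : R, conjHom R (z : Ω) y ∈ R := by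
    intro y
    rw [conjHom_apply]
    exact R.mul_mem (R.mul_mem z.2 y.2) (R.inv_mem z.2)
  obtain ⟨χ, hχ, hχe⟩ := comp_hom F' (F'.conj_mem hRS (hRS z.2)) hρR hcz
  have : χ = ψ := by
    ext y
    rw [hχe, hz y]
    rfl
  rw [← this]
  exact hχ

/-- the extension lemma: a map of `F` on `R` whose restriction to a centric subgroup lies in
the saturated subsystem `F'` lies in `F'` -/
theorem hom_mem_of_restrict_mem [Finite S] {p : ℕ} [Fact p.Prime] (hS : IsPGroup p S)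
    (F : FusionSystem S) (hF : F.IsSaturated p) (F' : FusionSystem S) (hF' : F'.IsSaturated p)
    (hle : F' ≤ F) : ∀ (n : ℕ) (R Q : Subgroup Ω) (hQR : Q ≤ R), F.IsCentric Q →
      Nat.card R - Nat.card Q = n → ∀ ψ ∈ F.Hom R,
      ψ.comp (Subgroup.inclusion hQR) ∈ F'.Hom Q → ψ ∈ F'.Hom R := by
  intro n
  induction n using Nat.strong_induction_on with
  | _ n ih =>
    intro R Q hQR hQ hn ψ hψ hψQ
    have hRS := hom_le F hψ
    have hfinR : Finite R := finite_of_le hRS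
    have hRp : IsPGroup p R := isPGroup_of_le hS hRS
    by_cases hQeq : Q = R
    · subst hQeq
      exact hψQ
    · have hlt : Q < R := lt_of_le_of_ne hQR hQeq
      obtain ⟨g₀, hg₀N, hg₀Q⟩ := exists_mem_normalizerIn_not_mem (S := R) hRp hlt
      have hQ₁R : normalizerIn R Q ≤ R := inf_le_left
      have hQQ₁ : Q ≤ normalizerIn R Q := le_inf hQR Subgroup.le_normalizer
      have hQ₁S : normalizerIn R Q ≤ S := hQ₁R.trans hRS
      have hfinQ₁ : Finite (normalizerIn R Q) := finite_of_le hQ₁S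
      have hcardlt : Nat.card Q < Nat.card (normalizerIn R Q) :=
        card_lt_of_lt' (lt_of_le_of_ne hQQ₁ (fun h => hg₀Q (h ▸ hg₀N)))
      have hψ₁ := restrict_mem F hψ hQ₁R
      have h1 : ψ.comp (Subgroup.inclusion hQ₁R) ∈ F'.Hom (normalizerIn R Q) :=
        hom_mem_of_restrict_mem_normal hS F hF F' hF' hle hQQ₁ inf_le_right hQ hψ₁ hψQ
      have hQ₁c : F.IsCentric (normalizerIn R Q) := centric_of_le F hQ hQQ₁ hQ₁S
      have hcardle : Nat.card (normalizerIn R Q) ≤ Nat.card R := Subgroup.card_le_of_le hQ₁R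
      exact ih (Nat.card R - Nat.card (normalizerIn R Q)) (by omega) R _ hQ₁R hQ₁c rfl ψ hψ h1

end Cfsg.Agent.Lib.Helper9
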