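import Mathlib
import Cfsg.Agent.Lib.Helper9.SyTA

set_option autoImplicit false

/-! Data for the Sylow `2`-subgroups of `A₈` and `PSp₄(3)`: a common Cayley table on `Fin 64`
(three generators). -/

namespace Cfsg.Agent.Lib.Helper9.SyT

open Matrix

def paN : List ℕ := [16434824, 14571144, 11789960, 9926280, 14599368, 16405704, 9954504, 11760840, 14599809, 16406145, 9954945, 11761281, 16434369, 14570689, 11789505, 9925825, 16433690, 14570010, 11788826, 9925146, 14598234, 16404570, 9953370, 11759706, 14598675, 16405011, 9953811, 11760147, 16433235, 14569555, 11788371, 9924691, 6852524, 4988844, 2207660, 343980, 5017068, 6823404, 372204, 2178540, 5017509, 6823845, 372645, 2178981, 6852069, 4988389, 2207205, 343525, 6851390, 4987710, 2206526, 342846, 5015934, 6822270, 371070, 2177406, 5016375, 6822711, 371511, 2177847, 6850935, 4987255, 2206071, 342391]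
def qaN : List ℕ := [14408200, 1611828, 9743250, 1103004, 17673652, 16070572, 11004366, 10491906, 32015746, 30425806, 6241188, 5689308, 3203964, 28757350, 572292, 4960200, 10472196, 5709018, 17667082, 32022316, 1240761, 4822443, 28711431, 1657747, 9605493, 710049, 3249883, 14362281, 11024076, 6221478, 16077142, 30419236, 31904208, 30353617, 5354694, 6024621, 1723366, 14480389, 9959817, 1437618, 28829539, 3315502, 906906, 5176767, 17601463, 15959034, 10275339, 10669752, 926616, 9940107, 3322072, 14473819, 10137582, 5492451, 31950127, 17555544, 10807509, 5886864, 30307698, 16004953, 5157057, 1457328, 28822969, 1729936]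
def raN : List ℕ := [113941, 110100, 104727, 100886, 77597, 80924, 68383, 71710, 126801, 130128, 117587, 120914, 97625, 93784, 88411, 84570, 48517, 44676, 39303, 35462, 12173, 15500, 2959, 6286, 61377, 64704, 52163, 55490, 32201, 28360, 22987, 19146, 242997, 239156, 233783, 229942, 206653, 209980, 197439, 200766, 255857, 259184, 246643, 249970, 226681, 222840, 217467, 213626, 177573, 173732, 168359, 164518, 141229, 144556, 132015, 135342, 190433, 193760, 181219, 184546, 161257, 157416, 152043, 148202]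
def waL : List (List ℕ) := [[], [0, 0, 2, 2], [2, 0], [0, 2], [1, 2, 1], [1, 1, 2], [0, 1, 1], [0, 0, 1, 1, 0], [2, 1, 1], [0, 0, 1, 1, 2], [0, 0, 0, 1, 1], [1, 1, 0], [0, 0], [2, 2], [0, 0, 2, 0], [0, 0, 0, 2], [0, 1, 1, 2], [0, 1, 2, 1], [0, 0, 1, 1], [1, 1, 2, 2], [0, 0, 0, 2, 2], [0], [0, 2, 0], [0, 0, 2], [0, 2, 2], [0, 0, 0], [0, 0, 0, 2, 0], [2], [1, 1, 2, 0], [0, 2, 1, 1], [1, 1], [0, 1, 1, 0], [1, 0, 2, 2], [1, 0, 0, 0], [1, 2], [2, 1], [2, 0, 1], [0, 0, 2, 0, 1], [0, 0, 0, 1, 0], [0, 1, 0], [0, 2, 1], [0, 1, 2], [0, 1, 0, 2, 2], [0, 1, 0, 0, 0], [0, 0, 1, 0], [1, 0], [0, 2, 0, 1], [1, 0, 2, 0], [0, 1, 2, 0], [0, 1, 0, 2], [0, 1], [0, 0, 0, 1], [1], [0, 0, 1], [1, 0, 2], [1, 2, 0], [1, 0, 0], [1, 2, 2], [0, 1, 2, 1, 1], [0, 2, 0, 1, 0], [1, 2, 1, 1], [2, 0, 1, 0], [0, 1, 0, 0], [0, 1, 2, 2]]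
def ivaN : List ℕ := [0, 1, 2, 3, 4, 5, 7, 6, 8, 9, 11, 10, 12, 13, 14, 15, 16, 17, 18, 19, 24, 25, 27, 26, 20, 21, 23, 22, 28, 29, 30, 31, 32, 44, 48, 60, 36, 40, 56, 52, 37, 41, 57, 53, 33, 45, 49, 61, 34, 46, 50, 62, 39, 43, 59, 55, 38, 42, 58, 54, 35, 47, 51, 63]
def saN : List ℕ := [21, 52, 27]
def t5N : ℕ := 1685536

def pa (i : Fin 64) (x : Fin 8) : Fin 8 :=
  ⟨paN.getD i.val 0 / 8 ^ x.val % 8, Nat.mod_lt _ (by norm_num)⟩

def ra (i : Fin 64) (t : Fin 3) : Fin 64 :=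
  ⟨raN.getD i.val 0 / 64 ^ t.val % 64, Nat.mod_lt _ (by norm_num)⟩

def wa (j : Fin 64) : List (Fin 3) :=
  (waL.getD j.val []).map fun t => ⟨t % 3, Nat.mod_lt _ (by norm_num)⟩

def iva (i : Fin 64) : Fin 64 := ⟨ivaN.getD i.val 0 % 64, Nat.mod_lt _ (by norm_num)⟩

def sa (t : Fin 3) : Fin 64 := ⟨saN.getD t.val 0 % 64, Nat.mod_lt _ (by norm_num)⟩

set_option maxRecDepth 100000 in
theorem wa_spec : ∀ j, (wa j).foldl ra 0 = j := by decide +kernel

set_option maxRecDepth 100000 in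
theorem iva_spec : ∀ i, (wa (iva i)).foldl ra i = 0 := by decide +kernel

set_option maxRecDepth 100000 in
theorem pa_iv : ∀ i x, pa (iva i) (pa i x) = x := by decide +kernel

set_option maxRecDepth 100000 in
theorem pa_iv' : ∀ i x, pa i (pa (iva i) x) = x := by decide +kernel

def PA (i : Fin 64) : Equiv.Perm (Fin 8) := ⟨pa i, pa (iva i), pa_iv i, pa_iv' i⟩

set_option maxRecDepth 100000 in
theorem pa_step : ∀ i t x, pa i (pa (sa t) x) = pa (ra i t) x := by decide +kernel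

set_option maxRecDepth 100000 in
theorem pa_inj : ∀ i j, (∀ x, pa i x = pa j x) → i = j := by decide +kernel

set_option maxRecDepth 100000 in
theorem PA_sign : ∀ i, Equiv.Perm.sign (PA i) = 1 := by decide +kernel

set_option maxRecDepth 100000 in
theorem pa_zero : ∀ x, pa 0 x = x := by decide +kernel

abbrev I4 : Type := Fin 2 ⊕ Fin 2

def pos4 : I4 → ℕ := Sum.elim (fun i => i.val) (fun i => 2 + i.val)

def matOf (N : ℕ) : Matrix I4 I4 (ZMod 3) :=
  Matrix.of fun r c => ((N / 3 ^ (4 * pos4 r + pos4 c) % 3 : ℕ) : ZMod 3)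

def qa (i : Fin 64) : Matrix I4 I4 (ZMod 3) := matOf (qaN.getD i.val 0)

def t5 : Matrix I4 I4 (ZMod 3) := matOf t5N

set_option maxRecDepth 100000 in
theorem qa_symp : ∀ i, qa i * Matrix.J (Fin 2) (ZMod 3) * (qa i)ᵀ = Matrix.J (Fin 2) (ZMod 3) := by
  decide +kernel

set_option maxRecDepth 100000 in
theorem t5_symp : t5 * Matrix.J (Fin 2) (ZMod 3) * t5ᵀ = Matrix.J (Fin 2) (ZMod 3) := by
  decide +kernel

set_option maxRecDepth 100000 in
theorem qa_step : ∀ i t, qa i * qa (sa t) = qa (ra i t) ∨ qa i * qa (sa t) = -qa (ra i t) := by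
  decide +kernel

set_option maxRecDepth 100000 in
theorem qa_zero : qa 0 = 1 := by decide +kernel

set_option maxRecDepth 100000 in
theorem qa_noncentral : ∀ k : Fin 64, k ≠ 0 → qa k * t5 ≠ t5 * qa k := by decide +kernel

end Cfsg.Agent.Lib.Helper9.SyT
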