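import Mathlib
import Cfsg.Prelude.Def_Classical
import Cfsg.Agent.Lib.Helper9.SyTB
import Cfsg.Agent.Lib.Helper8.UspT
import Cfsg.Agent.Lib.Helper5.SympCard

set_option autoImplicit false

/-! The Sylow `2`-subgroups of `A₈` and of `PSp₄(3)` are isomorphic. -/

namespace Cfsg.Agent.Lib.Helper9.SyT

open Matrix

/-! ### the alternating side -/

theorem PA_apply (i : Fin 64) (x : Fin 8) : PA i x = pa i x := rfl

theorem PA_inj : Function.Injective PA := by
  intro i j h
  apply pa_inj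
  intro x
  rw [← PA_apply, ← PA_apply, h]

theorem PA_zero : PA 0 = 1 := Equiv.ext pa_zero

theorem PA_step (i : Fin 64) (t : Fin 3) : PA i * PA (sa t) = PA (ra i t) :=
  Equiv.ext (fun x => pa_step i t x)

def fA (i : Fin 64) : ↥(alternatingGroup (Fin 8)) :=
  ⟨PA i, Equiv.Perm.mem_alternatingGroup.mpr (PA_sign i)⟩

def TA : TabGrp ↥(alternatingGroup (Fin 8)) 64 :=
  TabGrp.ofCayley fA (fun t => fA (sa t)) ra wa 0 iva
    (fun i j h => PA_inj (congrArg Subtype.val h))
    (Subtype.ext PA_zero)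
    (fun i t => Subtype.ext (PA_step i t))
    wa_spec iva_spec

theorem card_A8 : Nat.card ↥(alternatingGroup (Fin 8)) = 20160 := by
  have h := two_mul_nat_card_alternatingGroup (α := Fin 8)
  rw [Nat.card_perm, Nat.card_eq_fintype_card (α := Fin 8), Fintype.card_fin] at h
  have : (8 : ℕ).factorial = 40320 := by decide
  omega

theorem fact_A8 : (Nat.card ↥(alternatingGroup (Fin 8))).factorization 2 = 6 := by
  rw [card_A8]
  apply factorization_two_of_dvd <;> norm_num

/-! ### the symplectic side -/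

abbrev Sp3 : Type := ↥(symplecticGroup (Fin 2) (ZMod 3))

def qS (i : Fin 64) : Sp3 := ⟨qa i, SymplecticGroup.mem_iff.mpr (qa_symp i)⟩

def t5S : Sp3 := ⟨t5, SymplecticGroup.mem_iff.mpr t5_symp⟩

def negOne : Sp3 := ⟨-1, SymplecticGroup.neg_mem (one_mem _)⟩

theorem negOne_center : negOne ∈ Subgroup.center Sp3 := by
  rw [Subgroup.mem_center_iff]
  intro g
  apply Subtype.ext
  show (g : Matrix I4 I4 (ZMod 3)) * (-1) = (-1) * (g : Matrix I4 I4 (ZMod 3))
  simp

def hA (i : Fin 64) : Cfsg.PSp 2 (ZMod 3) := QuotientGroup.mk (qS i)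

theorem mk_eq_of_neg (a b : Sp3) (h : (a : Matrix I4 I4 (ZMod 3)) = -(b : Matrix I4 I4 (ZMod 3))) :
    (QuotientGroup.mk a : Cfsg.PSp 2 (ZMod 3)) = QuotientGroup.mk b := by
  have : a = b * negOne := by
    apply Subtype.ext
    show (a : Matrix I4 I4 (ZMod 3)) = (b : Matrix I4 I4 (ZMod 3)) * (-1)
    rw [h]; simp
  rw [this, QuotientGroup.mk_mul, (QuotientGroup.eq_one_iff negOne).mpr negOne_center, mul_one]

theorem hA_step (i : Fin 64) (t : Fin 3) : hA i * hA (sa t) = hA (ra i t) := by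
  unfold hA
  rw [← QuotientGroup.mk_mul]
  rcases qa_step i t with h | h
  · congr 1
    exact Subtype.ext h
  · exact mk_eq_of_neg _ _ h

theorem hA_zero : hA 0 = 1 := by
  unfold hA
  rw [QuotientGroup.eq_one_iff]
  have : qS 0 = 1 := Subtype.ext qa_zero
  rw [this]
  exact one_mem _

theorem hA_ker (k : Fin 64) (h : hA k = 1) : k = 0 := by
  by_contra hk
  unfold hA at h
  rw [QuotientGroup.eq_one_iff, Subgroup.mem_center_iff] at h
  have h1 := h t5S
  exact qa_noncentral k hk (congrArg Subtype.val h1).symm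

def TA' : TabGrp (Cfsg.PSp 2 (ZMod 3)) 64 :=
  TA.push hA (cayley_mul hA (fun t => hA (sa t)) ra hA_step 0 hA_zero wa wa_spec) hA_zero hA_ker

theorem card_Sp3 : Nat.card Sp3 = 51840 := by
  have h := Cfsg.Agent.Lib.Helper5.SympCard.card_symplecticGroup (F := ZMod 3) 2
  rw [h, ZMod.card]
  decide

theorem fact_PSp3 : (Nat.card (Cfsg.PSp 2 (ZMod 3))).factorization 2 = 6 := by
  have h1 := Subgroup.card_eq_card_quotient_mul_card_subgroup (Subgroup.center Sp3)
  rw [card_Sp3] at h1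
  have h2 : 2 ∣ Nat.card ↥(Subgroup.center Sp3) := by
    have ho : orderOf (⟨negOne, negOne_center⟩ : ↥(Subgroup.center Sp3)) = 2 := by
      apply orderOf_eq_prime
      · apply Subtype.ext; apply Subtype.ext
        show (-1 : Matrix I4 I4 (ZMod 3)) ^ 2 = 1
        simp
      · intro h
        have := congrArg (fun x : ↥(Subgroup.center Sp3) => ((x : Sp3) : Matrix I4 I4 (ZMod 3)) (Sum.inl 0) (Sum.inl 0)) h
        revert this
        decide
    have hd := orderOf_dvd_natCard (⟨negOne, negOne_center⟩ : ↥(Subgroup.center Sp3))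
    rwa [ho] at hd
  have h3 : 64 ∣ Nat.card (Cfsg.PSp 2 (ZMod 3)) := by
    have := Subgroup.card_subgroup_dvd_card TA'.sub
    rwa [TA'.card_sub] at this
  have hN : Nat.card (Cfsg.PSp 2 (ZMod 3)) ≠ 0 := by
    intro h0
    rw [h0] at h1
    omega
  apply factorization_two_of_dvd _ _ hN
  · exact h3
  · intro h4
    obtain ⟨a, ha⟩ := h4
    obtain ⟨b, hb⟩ := h2
    rw [ha, hb] at h1
    have : 51840 = 256 * (a * b) := by rw [h1]; ring
    omega

/-- every Sylow `2`-subgroup of `PSp₄(3)` (over `ZMod 3`) is isomorphic to every Sylow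
`2`-subgroup of `A₈` -/
theorem iso_A8_PSp3 (P : Sylow 2 ↥(alternatingGroup (Fin 8))) (B : Subgroup (Cfsg.PSp 2 (ZMod 3)))
    (hB : Nat.card B = 2 ^ 6) :
    Nonempty (↥(P : Subgroup ↥(alternatingGroup (Fin 8))) ≃* ↥B) := by
  haveI : Fact (Nat.Prime 2) := ⟨Nat.prime_two⟩
  haveI : Finite (Cfsg.PSp 2 (ZMod 3)) := by
    apply Nat.finite_of_card_ne_zero
    intro h0
    have := fact_PSp3
    rw [h0] at this
    simp at this
  obtain ⟨e1⟩ := sylow_iso fact_A8 TA.sub (by rw [TA.card_sub]; norm_num) P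
  obtain ⟨e2⟩ := iso_of_card_eq fact_PSp3 TA'.sub B (by rw [TA'.card_sub]; norm_num) hB
  exact ⟨(e1.trans (TA.iso TA' rfl)).trans e2⟩

end Cfsg.Agent.Lib.Helper9.SyT
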