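import Mathlib
import Cfsg.Prelude.Def_Classical
import Cfsg.Agent.Lib.Helper9.SyTD
import Cfsg.Agent.Lib.Helper9.SyTE

set_option autoImplicit false

/-! Transport along field isomorphisms and the final statement on Sylow `2`-subgroups of
`A₈`, `PSp₄(3)`, `S₈`, `O₆⁻(2)`. -/

namespace Cfsg.Agent.Lib.Helper9.SyT

open Matrix

section transport

variable {ι : Type} [Fintype ι] [DecidableEq ι] {K K' : Type*} [Field K] [Field K']

/-- general linear groups over isomorphic fields -/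
def glEquiv (e : K ≃+* K') :
    Matrix.GeneralLinearGroup ι K ≃* Matrix.GeneralLinearGroup ι K' :=
  Units.mapEquiv (RingEquiv.mapMatrix e).toMulEquiv

theorem glEquiv_val (e : K ≃+* K') (g : Matrix.GeneralLinearGroup ι K) :
    ((glEquiv e g : Matrix.GeneralLinearGroup ι K') : Matrix ι ι K') =
      (g : Matrix ι ι K).map e := rfl

theorem mem_isometry_iff (Q : (ι → K) → K) (g : Matrix.GeneralLinearGroup ι K) :
    g ∈ Cfsg.isometryGroup K Q ↔ ∀ v, Q ((g : Matrix ι ι K) *ᵥ v) = Q v :=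
  ⟨fun h v => h v v, fun h u _ => h u⟩

theorem map_mulVec_comp (e : K ≃+* K') (A : Matrix ι ι K) (v : ι → K) :
    A.map e *ᵥ (⇑e ∘ v) = ⇑e ∘ (A *ᵥ v) := by
  funext i
  exact (RingHom.map_mulVec (e : K →+* K') A v i).symm

theorem map_isometry (e : K ≃+* K') (Q : (ι → K) → K) (Q' : (ι → K') → K')
    (hQ : ∀ v, Q' (⇑e ∘ v) = e (Q v)) :
    (Cfsg.isometryGroup K Q).map (glEquiv (ι := ι) e).toMonoidHom = Cfsg.isometryGroup K' Q' := by
  ext g'
  constructor
  · rintro ⟨g, hg, rfl⟩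
    rw [SetLike.mem_coe, mem_isometry_iff] at hg
    rw [mem_isometry_iff]
    intro v'
    have hv : v' = ⇑e ∘ (⇑e.symm ∘ v') := by
      funext i
      simp
    rw [hv]
    show Q' ((g : Matrix ι ι K).map e *ᵥ (⇑e ∘ (⇑e.symm ∘ v'))) = _
    rw [map_mulVec_comp, hQ, hQ, hg]
  · intro hg'
    rw [mem_isometry_iff] at hg'
    refine ⟨(glEquiv (ι := ι) e).symm g', ?_, (glEquiv (ι := ι) e).apply_symm_apply g'⟩
    rw [SetLike.mem_coe, mem_isometry_iff]
    intro v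
    apply e.injective
    rw [← hQ, ← hQ, ← map_mulVec_comp, ← glEquiv_val, MulEquiv.apply_symm_apply]
    exact hg' _

/-- isometry groups of corresponding forms over isomorphic fields -/
noncomputable def isomEquiv (e : K ≃+* K') (Q : (ι → K) → K) (Q' : (ι → K') → K')
    (hQ : ∀ v, Q' (⇑e ∘ v) = e (Q v)) :
    ↥(Cfsg.isometryGroup K Q) ≃* ↥(Cfsg.isometryGroup K' Q') :=
  ((glEquiv (ι := ι) e).subgroupMap (Cfsg.isometryGroup K Q)).trans
    (MulEquiv.subgroupCongr (map_isometry e Q Q' hQ))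

end transport

theorem quadFormMinus_map {K K' : Type*} [Field K] [Field K'] (e : K ≃+* K') (a b : K)
    (v : (Fin 2 ⊕ Fin 2) ⊕ Fin 2 → K) :
    Cfsg.quadFormMinus 2 K' (e a) (e b) (⇑e ∘ v) = e (Cfsg.quadFormMinus 2 K a b v) := by
  unfold Cfsg.quadFormMinus
  simp only [Function.comp_apply, map_add, map_mul, map_sum, map_pow]

set_option maxRecDepth 100000 in
theorem ab_one : ∀ α β : ZMod 2,
    (∀ z₁ z₂ : ZMod 2, z₁ ^ 2 + α * z₁ * z₂ + β * z₂ ^ 2 = 0 → z₁ = 0 ∧ z₂ = 0) →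
      α = 1 ∧ β = 1 := by decide

/-- transporting a subgroup of full `2`-power order along an isomorphism -/
theorem transport_sylow {G G' : Type*} [Group G] [Group G'] [Finite G] (E : G ≃* G') (k : ℕ)
    (hk : (Nat.card G').factorization 2 = k) (Q : Sylow 2 G) :
    ∃ B : Subgroup G', Nat.card B = 2 ^ k ∧ Nonempty (↥(Q : Subgroup G) ≃* ↥B) := by
  haveI : Fact (Nat.Prime 2) := ⟨Nat.prime_two⟩
  refine ⟨(Q : Subgroup G).map (E : G →* G'), ?_, ⟨E.subgroupMap (Q : Subgroup G)⟩⟩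
  have h : Nat.card ↥((Q : Subgroup G).map (E : G →* G')) = Nat.card ↥(Q : Subgroup G) :=
    (Nat.card_congr (E.subgroupMap (Q : Subgroup G)).toEquiv).symm
  rw [h, Q.card_eq_multiplicity, Nat.card_congr E.toEquiv, hk]

theorem main (F : Type) [Field F] [Fintype F] (hF : Fintype.card F = 3) (K : Type) [Field K]
    [Fintype K] (hK : Fintype.card K = 2) (a b : K)
    (hab : ∀ z₁ z₂ : K, z₁ ^ 2 + a * z₁ * z₂ + b * z₂ ^ 2 = 0 → z₁ = 0 ∧ z₂ = 0)
    (P : Sylow 2 ↥(alternatingGroup (Fin 8))) (Q : Sylow 2 (Cfsg.PSp 2 F))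
    (P' : Sylow 2 (Equiv.Perm (Fin 8)))
    (Q' : Sylow 2 ↥(Cfsg.isometryGroup K (Cfsg.quadFormMinus 2 K a b))) :
    Nonempty (↥(P : Subgroup ↥(alternatingGroup (Fin 8))) ≃* ↥(Q : Subgroup (Cfsg.PSp 2 F))) ∧
      Nonempty (↥(P' : Subgroup (Equiv.Perm (Fin 8))) ≃*
        ↥(Q' : Subgroup ↥(Cfsg.isometryGroup K (Cfsg.quadFormMinus 2 K a b)))) := by
  constructor
  · let e : F ≃+* ZMod 3 := (ZMod.ringEquivOfPrime F (by norm_num) hF).symm
    let E : Cfsg.PSp 2 F ≃* Cfsg.PSp 2 (ZMod 3) :=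
      Cfsg.Agent.Lib.Helper8.Usp.centerQuotCongr (Cfsg.Agent.Lib.Helper8.Usp.spEquiv e)
    obtain ⟨B, hB, ⟨eQ⟩⟩ := transport_sylow E 6 fact_PSp3 Q
    obtain ⟨e1⟩ := iso_A8_PSp3 P B hB
    exact ⟨e1.trans eQ.symm⟩
  · let e : K ≃+* ZMod 2 := (ZMod.ringEquivOfPrime K Nat.prime_two hK).symm
    have h1 : ∀ z₁ z₂ : ZMod 2, z₁ ^ 2 + e a * z₁ * z₂ + e b * z₂ ^ 2 = 0 → z₁ = 0 ∧ z₂ = 0 := by
      intro z₁ z₂ h
      have h2 := hab (e.symm z₁) (e.symm z₂) (by
        apply e.injective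
        rw [map_add, map_add, map_mul, map_mul, map_mul, map_pow, map_pow, map_zero,
          RingEquiv.apply_symm_apply, RingEquiv.apply_symm_apply]
        exact h)
      constructor
      · have := congrArg e h2.1
        rwa [RingEquiv.apply_symm_apply, map_zero] at this
      · have := congrArg e h2.2
        rwa [RingEquiv.apply_symm_apply, map_zero] at this
    obtain ⟨ha, hb⟩ := ab_one _ _ h1
    haveI : Finite ↥(Cfsg.isometryGroup K (Cfsg.quadFormMinus 2 K a b)) := inferInstance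
    let E : ↥(Cfsg.isometryGroup K (Cfsg.quadFormMinus 2 K a b)) ≃* O6 :=
      isomEquiv e (Cfsg.quadFormMinus 2 K a b) Q2 (by
        intro v
        have := quadFormMinus_map e a b v
        rw [ha, hb] at this
        exact this)
    obtain ⟨B, hB, ⟨eQ⟩⟩ := transport_sylow E 7 fact_O6 Q'
    obtain ⟨e1⟩ := iso_S8_O6 P' B hB
    exact ⟨e1.trans eQ.symm⟩

end Cfsg.Agent.Lib.Helper9.SyT
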