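import Cfsg.Agent.Lib.Helper9.M24U1
import Cfsg.Agent.Lib.Helper9.M24T3
import Cfsg.Agent.Lib.Helper9.M24F1

set_option autoImplicit false

/-! An explicit finite group of permutations of the 24 points given by a packed table of all its
elements: membership, order, orbits of point stabilisers, and the base-change argument for the
normalizer. -/

namespace Cfsg.Agent.Lib.Helper9.Syl2B

open Cfsg Finset Cfsg.Agent.Lib.Helper9.GolayQR1 Cfsg.Agent.Lib.Helper9.M24F1
  Cfsg.Agent.Lib.Helper9.M24T1 Cfsg.Agent.Lib.Helper9.M24U1 Cfsg.Agent.Lib.Helper9.M24T3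

/-- image of the point `j` under the packed permutation `P` (5-bit lanes) -/
def im (P j : ℕ) : ℕ := lane 5 31 P j

/-- `P` represents the permutation `h` -/
def Rep (h : Equiv.Perm GolayPt) (P : ℕ) : Prop := ∀ p : GolayPt, idx (h p) = im P (idx p)

theorem Rep.ext {h h' : Equiv.Perm GolayPt} {P : ℕ} (a : Rep h P) (b : Rep h' P) : h = h' := by
  apply Equiv.ext
  intro p
  exact idx_injective ((a p).trans (b p).symm)

theorem Rep.apply {h : Equiv.Perm GolayPt} {P : ℕ} (a : Rep h P) (j : ℕ) (hj : j < 24) :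
    h (unidx j) = unidx (im P j) := by
  have h1 := a (unidx j)
  rw [idx_unidx j hj] at h1
  rw [← h1, unidx_idx]

theorem Rep.im_eq {h : Equiv.Perm GolayPt} {P : ℕ} (a : Rep h P) (j : ℕ) (hj : j < 24) :
    im P j = idx (h (unidx j)) := by
  rw [a (unidx j), idx_unidx j hj]

/-- a key depending on the 24 lanes only -/
def key (P : ℕ) : ℕ := Nat.rec 0 (fun j acc => acc * 32 + im P j) 24

theorem key_congr (P P' : ℕ) (h : ∀ j < 24, im P j = im P' j) : key P = key P' := by
  unfold key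
  have : ∀ m ≤ 24, (Nat.rec 0 (fun j acc => acc * 32 + im P j) m : ℕ) =
      Nat.rec 0 (fun j acc => acc * 32 + im P' j) m := by
    intro m
    induction m with
    | zero => intro _; rfl
    | succ m ih =>
      intro hm
      show (Nat.rec 0 (fun j acc => acc * 32 + im P j) m : ℕ) * 32 + im P m =
        (Nat.rec 0 (fun j acc => acc * 32 + im P' j) m : ℕ) * 32 + im P' m
      rw [ih (by omega), h m (by omega)]
  exact this 24 le_rfl

/-- the packed data of a finite group of permutations -/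
structure Tab where
  n : ℕ
  k : ℕ
  E : ℕ → ℕ
  Gc : ℕ → ℕ
  nxt : ℕ → ℕ → ℕ
  pc : ℕ → ℕ
  pp : ℕ → ℕ
  dp : ℕ → ℕ
  r0 : ℕ

namespace Tab

variable (t : Tab)

def okId : Bool := Nat.blt t.r0 t.n && allB 24 (fun j => Nat.beq (im (t.E t.r0) j) j)

def okCl : Bool := allB t.k (fun a => allB t.n (fun i => Nat.blt (t.nxt a i) t.n &&
  allB 24 (fun j => Nat.beq (im (t.E (t.nxt a i)) j) (im (t.Gc a) (im (t.E i) j)))))

def okInv : Bool := allB t.k (fun a => allB 24 (fun j => Nat.beq (im (t.Gc a) (im (t.Gc a) j)) j))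

def okTree : Bool := allB t.n (fun i => Nat.beq i t.r0 ||
  (Nat.blt (t.pc i) t.k && Nat.blt (t.pp i) t.n && Nat.blt (t.dp (t.pp i)) (t.dp i) &&
    Nat.beq (t.nxt (t.pc i) (t.pp i)) i))

def okKey : Bool := allB (t.n - 1) (fun i => Nat.blt (key (t.E i)) (key (t.E (i + 1))))

/-- all the table checks -/
structure Ok : Prop where
  id : t.okId = true
  cl : t.okCl = true
  inv : t.okInv = true
  tree : t.okTree = true
  key : t.okKey = true

variable (g : ℕ → Equiv.Perm GolayPt)

/-- the group generated by the generators -/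
def S0 : Subgroup (Equiv.Perm GolayPt) := Subgroup.closure {x | ∃ a < t.k, x = g a}

theorem blt_iff (a b : ℕ) : Nat.blt a b = true ↔ a < b := by
  unfold Nat.blt
  rw [Nat.ble_eq]
  exact Iff.rfl

variable {t g}

theorem gen_mem {a : ℕ} (ha : a < t.k) : g a ∈ t.S0 g :=
  Subgroup.subset_closure ⟨a, ha, rfl⟩

theorem rep_one (h : t.Ok) : Rep 1 (t.E t.r0) := by
  intro p
  have h1 := h.id
  unfold okId at h1
  rw [Bool.and_eq_true, allB_iff] at h1
  have h2 := (beq_iff _ _).mp (h1.2 (idx p) (idx_lt p))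
  rw [h2]
  rfl

theorem r0_lt (h : t.Ok) : t.r0 < t.n := by
  have h1 := h.id
  unfold okId at h1
  rw [Bool.and_eq_true] at h1
  exact (blt_iff _ _).mp h1.1

theorem rep_mul (h : t.Ok) (hg : ∀ a < t.k, Rep (g a) (t.Gc a)) {a i : ℕ} (ha : a < t.k)
    (hi : i < t.n) {y : Equiv.Perm GolayPt} (hy : Rep y (t.E i)) :
    t.nxt a i < t.n ∧ Rep (g a * y) (t.E (t.nxt a i)) := by
  have h1 := h.cl
  unfold okCl at h1
  rw [allB_iff] at h1
  have h2 := h1 a ha
  rw [allB_iff] at h2
  have h3 := h2 i hi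
  rw [Bool.and_eq_true, allB_iff] at h3
  refine ⟨(blt_iff _ _).mp h3.1, ?_⟩
  intro p
  have h4 := (beq_iff _ _).mp (h3.2 (idx p) (idx_lt p))
  rw [h4, Equiv.Perm.mul_apply, hg a ha (y p), hy p]

theorem gen_sq (h : t.Ok) (hg : ∀ a < t.k, Rep (g a) (t.Gc a)) {a : ℕ} (ha : a < t.k) :
    (g a)⁻¹ = g a := by
  have h1 := h.inv
  unfold okInv at h1
  rw [allB_iff] at h1
  have h2 := h1 a ha
  rw [allB_iff] at h2
  rw [inv_eq_iff_mul_eq_one]
  apply Equiv.ext
  intro p
  rw [Equiv.Perm.mul_apply, Equiv.Perm.one_apply]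
  apply idx_injective
  rw [hg a ha (g a p), hg a ha p]
  exact (beq_iff _ _).mp (h2 (idx p) (idx_lt p))

/-- every element of the group is in the table -/
theorem exists_rep (h : t.Ok) (hg : ∀ a < t.k, Rep (g a) (t.Gc a)) (x : Equiv.Perm GolayPt)
    (hx : x ∈ t.S0 g) : ∃ i < t.n, Rep x (t.E i) := by
  unfold S0 at hx
  induction hx using Subgroup.closure_induction_left with
  | one => exact ⟨t.r0, r0_lt h, rep_one h⟩
  | mul_left x hx y hy ih =>
    obtain ⟨a, ha, rfl⟩ := hx
    obtain ⟨i, hi, hyi⟩ := ih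
    obtain ⟨h1, h2⟩ := rep_mul h hg ha hi hyi
    exact ⟨_, h1, h2⟩
  | inv_mul_cancel x hx y hy ih =>
    obtain ⟨a, ha, rfl⟩ := hx
    obtain ⟨i, hi, hyi⟩ := ih
    obtain ⟨h1, h2⟩ := rep_mul h hg ha hi hyi
    rw [gen_sq h hg ha]
    exact ⟨_, h1, h2⟩

/-- every table entry is an element of the group -/
theorem exists_elt (h : t.Ok) (hg : ∀ a < t.k, Rep (g a) (t.Gc a)) :
    ∀ i < t.n, ∃ y ∈ t.S0 g, Rep y (t.E i) := by
  have key : ∀ d i, t.dp i = d → i < t.n → ∃ y ∈ t.S0 g, Rep y (t.E i) := by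
    intro d
    induction d using Nat.strong_induction_on with
    | _ d ih =>
      intro i hd hi
      have h1 := h.tree
      unfold okTree at h1
      rw [allB_iff] at h1
      have h2 := h1 i hi
      rw [Bool.or_eq_true] at h2
      rcases h2 with h2 | h2
      · have : i = t.r0 := (beq_iff _ _).mp h2
        rw [this]
        exact ⟨1, Subgroup.one_mem _, rep_one h⟩
      · simp only [Bool.and_eq_true] at h2
        obtain ⟨⟨⟨h3, h4⟩, h5⟩, h6⟩ := h2
        have h3' := (blt_iff _ _).mp h3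
        have h4' := (blt_iff _ _).mp h4
        have h5' := (blt_iff _ _).mp h5
        have h6' := (beq_iff _ _).mp h6
        obtain ⟨y, hy, hyr⟩ := ih (t.dp (t.pp i)) (by omega) (t.pp i) rfl h4'
        obtain ⟨-, h7⟩ := rep_mul h hg h3' h4' hyr
        rw [h6'] at h7
        exact ⟨g (t.pc i) * y, Subgroup.mul_mem _ (gen_mem h3') hy, h7⟩
  intro i hi
  exact key (t.dp i) i rfl hi

theorem mem_iff (h : t.Ok) (hg : ∀ a < t.k, Rep (g a) (t.Gc a)) (x : Equiv.Perm GolayPt) :
    x ∈ t.S0 g ↔ ∃ i < t.n, Rep x (t.E i) := by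
  constructor
  · exact exists_rep h hg x
  · rintro ⟨i, hi, hx⟩
    obtain ⟨y, hy, hyr⟩ := exists_elt h hg i hi
    rw [hx.ext hyr]
    exact hy

theorem key_lt (h : t.Ok) : ∀ i i' : ℕ, i < i' → i' < t.n → key (t.E i) < key (t.E i') := by
  have h1 := h.key
  unfold okKey at h1
  rw [allB_iff] at h1
  intro i i' hii'
  induction i' with
  | zero => omega
  | succ m ih =>
    intro hm
    have h2 := (blt_iff _ _).mp (h1 m (by omega))
    rcases Nat.lt_succ_iff_lt_or_eq.mp hii' with h3 | h3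
    · exact lt_trans (ih h3 (by omega)) h2
    · rw [h3]; exact h2

theorem index_unique (h : t.Ok) {x : Equiv.Perm GolayPt} {i i' : ℕ} (hi : i < t.n)
    (hi' : i' < t.n) (hx : Rep x (t.E i)) (hx' : Rep x (t.E i')) : i = i' := by
  have hk : key (t.E i) = key (t.E i') := by
    apply key_congr
    intro j hj
    rw [hx.im_eq j hj, hx'.im_eq j hj]
  rcases Nat.lt_trichotomy i i' with h1 | h1 | h1
  · have := key_lt h i i' h1 hi'
    omega
  · exact h1
  · have := key_lt h i' i h1 hi
    omega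

/-- the order of the group -/
theorem card_S0 (h : t.Ok) (hg : ∀ a < t.k, Rep (g a) (t.Gc a)) : Nat.card (t.S0 g) = t.n := by
  classical
  have hex := exists_elt h hg
  let f : Fin t.n → ↥(t.S0 g) := fun i =>
    ⟨Classical.choose (hex i.1 i.2), (Classical.choose_spec (hex i.1 i.2)).1⟩
  have hf : ∀ i : Fin t.n, Rep (f i).1 (t.E i.1) := fun i =>
    (Classical.choose_spec (hex i.1 i.2)).2
  have hbij : Function.Bijective f := by
    constructor
    · intro i i' hii'
      apply Fin.ext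
      apply index_unique h i.2 i'.2 (hf i)
      rw [hii']
      exact hf i'
    · intro x
      obtain ⟨i, hi, hx⟩ := exists_rep h hg x.1 x.2
      refine ⟨⟨i, hi⟩, ?_⟩
      apply Subtype.ext
      exact (hf ⟨i, hi⟩).ext hx
  rw [← Nat.card_eq_of_bijective f hbij, Nat.card_fin]

end Tab

end Cfsg.Agent.Lib.Helper9.Syl2B
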