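import Cfsg.Agent.Lib.Helper9.Syl2B

set_option autoImplicit false

/-! Orbits of point stabilisers in a tabulated permutation group, and the base-change argument
bounding its normalizer. -/

namespace Cfsg.Agent.Lib.Helper9.Syl2B

open Cfsg Finset Cfsg.Agent.Lib.Helper9.GolayQR1 Cfsg.Agent.Lib.Helper9.M24F1
  Cfsg.Agent.Lib.Helper9.M24T1 Cfsg.Agent.Lib.Helper9.M24U1 Cfsg.Agent.Lib.Helper9.M24T3

namespace Tab

variable (t : Tab)

/-- the packed permutation `P` fixes all points of `F` -/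
def fixesB (P : ℕ) (F : List ℕ) : Bool := F.all (fun f => Nat.beq (im P f) f)

/-- mask of the orbit of `x` under the stabiliser of the points of `F` -/
def orbN (F : List ℕ) (x : ℕ) : ℕ :=
  Nat.rec 0 (fun i acc => bif fixesB (t.E i) F then acc ||| (1 <<< im (t.E i) x) else acc) t.n

theorem testBit_orbN (F : List ℕ) (x y : ℕ) :
    (t.orbN F x).testBit y = true ↔ ∃ i < t.n, fixesB (t.E i) F = true ∧ im (t.E i) x = y := by
  unfold orbN
  generalize t.n = m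
  induction m with
  | zero => simp
  | succ m ih =>
    show (bif fixesB (t.E m) F then
      (Nat.rec 0 (fun i acc => bif fixesB (t.E i) F then acc ||| (1 <<< im (t.E i) x) else acc) m : ℕ)
        ||| (1 <<< im (t.E m) x)
      else (Nat.rec 0 (fun i acc => bif fixesB (t.E i) F then acc ||| (1 <<< im (t.E i) x) else acc)
        m : ℕ)).testBit y = true ↔ _
    cases hf : fixesB (t.E m) F
    · rw [cond_false, ih]
      constructor
      · rintro ⟨i, hi, h1, h2⟩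
        exact ⟨i, by omega, h1, h2⟩
      · rintro ⟨i, hi, h1, h2⟩
        rcases Nat.lt_succ_iff_lt_or_eq.mp hi with h3 | h3
        · exact ⟨i, h3, h1, h2⟩
        · rw [h3, hf] at h1
          exact absurd h1 (by simp)
    · rw [cond_true, Nat.testBit_or, Bool.or_eq_true, ih, Nat.one_shiftLeft, Nat.testBit_two_pow]
      constructor
      · rintro (⟨i, hi, h1, h2⟩ | h)
        · exact ⟨i, by omega, h1, h2⟩
        · exact ⟨m, by omega, hf, of_decide_eq_true h⟩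
      · rintro ⟨i, hi, h1, h2⟩
        rcases Nat.lt_succ_iff_lt_or_eq.mp hi with h3 | h3
        · exact Or.inl ⟨i, h3, h1, h2⟩
        · right
          rw [h3] at h2
          exact decide_eq_true h2

variable (g : ℕ → Equiv.Perm GolayPt)

/-- the stabiliser of the points of `F` in the group -/
def T (F : List ℕ) : Subgroup (Equiv.Perm GolayPt) := fixL (t.S0 g) (F.map unidx)

variable {t g}

theorem mem_T (F : List ℕ) (x : Equiv.Perm GolayPt) :
    x ∈ t.T g F ↔ x ∈ t.S0 g ∧ ∀ f ∈ F, x (unidx f) = unidx f := by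
  unfold T
  constructor
  · rintro ⟨h1, h2⟩
    exact ⟨h1, fun f hf => h2 _ (List.mem_map.mpr ⟨f, hf, rfl⟩)⟩
  · rintro ⟨h1, h2⟩
    refine ⟨h1, ?_⟩
    intro b hb
    obtain ⟨f, hf, rfl⟩ := List.mem_map.mp hb
    exact h2 f hf

theorem fixesB_iff {x : Equiv.Perm GolayPt} {P : ℕ} (hx : Rep x P) (F : List ℕ)
    (hF : ∀ f ∈ F, f < 24) : fixesB P F = true ↔ ∀ f ∈ F, x (unidx f) = unidx f := by
  unfold fixesB
  rw [List.all_eq_true]
  constructor
  · intro h f hf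
    have h1 := (beq_iff _ _).mp (h f hf)
    rw [hx.apply f (hF f hf), h1]
  · intro h f hf
    rw [beq_iff, hx.im_eq f (hF f hf), h f hf, idx_unidx f (hF f hf)]

theorem mem_orbit_iff (h : t.Ok) (hg : ∀ a < t.k, Rep (g a) (t.Gc a)) (F : List ℕ)
    (hF : ∀ f ∈ F, f < 24) (x : ℕ) (hx : x < 24) (p : GolayPt) :
    p ∈ MulAction.orbit ↥(t.T g F) (unidx x) ↔ (t.orbN F x).testBit (idx p) = true := by
  rw [testBit_orbN]
  constructor
  · rintro ⟨⟨s, hs⟩, rfl⟩
    obtain ⟨hs0, hsF⟩ := (mem_T F s).mp hs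
    obtain ⟨i, hi, hsi⟩ := exists_rep h hg s hs0
    refine ⟨i, hi, (fixesB_iff hsi F hF).mpr hsF, ?_⟩
    rw [hsi.im_eq x hx]
    rfl
  · rintro ⟨i, hi, h1, h2⟩
    obtain ⟨y, hy, hyi⟩ := exists_elt h hg i hi
    have hyT : y ∈ t.T g F := (mem_T F y).mpr ⟨hy, (fixesB_iff hyi F hF).mp h1⟩
    refine ⟨⟨y, hyT⟩, ?_⟩
    show y (unidx x) = p
    rw [hyi.apply x hx, h2, unidx_idx]

theorem orbit_eq (h : t.Ok) (hg : ∀ a < t.k, Rep (g a) (t.Gc a)) (F : List ℕ)
    (hF : ∀ f ∈ F, f < 24) (x : ℕ) (hx : x < 24) :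
    MulAction.orbit ↥(t.T g F) (unidx x) = ((M (t.orbN F x) : Finset GolayPt) : Set GolayPt) := by
  ext p
  rw [mem_orbit_iff h hg F hF x hx, Finset.mem_coe, mem_M]

theorem ncard_orbit (h : t.Ok) (hg : ∀ a < t.k, Rep (g a) (t.Gc a)) (F : List ℕ)
    (hF : ∀ f ∈ F, f < 24) (x : ℕ) (hx : x < 24) :
    (MulAction.orbit ↥(t.T g F) (unidx x)).ncard = wt24 (t.orbN F x) := by
  rw [orbit_eq h hg F hF x hx, Set.ncard_coe_finset, card_M]

/-- `g0` normalizes `P`, elementwise -/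
def Nrm (g0 : Equiv.Perm GolayPt) (P : Subgroup (Equiv.Perm GolayPt)) : Prop :=
  ∀ x, x ∈ P ↔ g0 * x * g0⁻¹ ∈ P

theorem nrm_T {g0 : Equiv.Perm GolayPt} (hN : Nrm g0 (t.S0 g)) (F : List ℕ)
    (hfix : ∀ f ∈ F, g0 (unidx f) = unidx f) : Nrm g0 (t.T g F) := by
  intro x
  rw [mem_T, mem_T, ← hN x]
  have hinv : ∀ f ∈ F, g0⁻¹ (unidx f) = unidx f := by
    intro f hf
    rw [Equiv.Perm.inv_eq_iff_eq, hfix f hf]
  constructor
  · rintro ⟨h1, h2⟩
    refine ⟨h1, fun f hf => ?_⟩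
    rw [Equiv.Perm.mul_apply, Equiv.Perm.mul_apply, hinv f hf, h2 f hf, hfix f hf]
  · rintro ⟨h1, h2⟩
    refine ⟨h1, fun f hf => ?_⟩
    have h3 := h2 f hf
    rw [Equiv.Perm.mul_apply, Equiv.Perm.mul_apply, hinv f hf] at h3
    have h4 : g0 (x (unidx f)) = g0 (unidx f) := by rw [h3, hfix f hf]
    exact g0.injective h4

theorem orbit_smul {g0 : Equiv.Perm GolayPt} {P : Subgroup (Equiv.Perm GolayPt)} (hN : Nrm g0 P)
    (p : GolayPt) : MulAction.orbit ↥P (g0 p) = (fun q => g0 q) '' MulAction.orbit ↥P p := by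
  ext q
  constructor
  · rintro ⟨⟨s, hs⟩, rfl⟩
    refine ⟨(g0⁻¹ * s * g0) p, ⟨⟨g0⁻¹ * s * g0, ?_⟩, rfl⟩, ?_⟩
    · rw [hN]
      have e : g0 * (g0⁻¹ * s * g0) * g0⁻¹ = s := by group
      rw [e]
      exact hs
    · show g0 ((g0⁻¹ * s * g0) p) = s (g0 p)
      simp [Equiv.Perm.mul_apply]
  · rintro ⟨q', ⟨⟨s, hs⟩, rfl⟩, rfl⟩
    refine ⟨⟨g0 * s * g0⁻¹, (hN s).mp hs⟩, ?_⟩
    show (g0 * s * g0⁻¹) (g0 p) = g0 (s p)
    simp [Equiv.Perm.mul_apply]

theorem ncard_orbit_smul {g0 : Equiv.Perm GolayPt} {P : Subgroup (Equiv.Perm GolayPt)}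
    (hN : Nrm g0 P) (p : GolayPt) :
    (MulAction.orbit ↥P (g0 p)).ncard = (MulAction.orbit ↥P p).ncard := by
  rw [orbit_smul hN p]
  exact Set.ncard_image_of_injective _ g0.injective

variable (t)

/-- the check for one base-change step -/
def stepChk (F : List ℕ) (Ws : List (List ℕ)) (Dm y : ℕ) : Bool :=
  allB 24 (fun x => F.contains x ||
    !(Ws.all (fun W => Nat.beq (wt24 (t.orbN W x)) (wt24 (t.orbN W y)))) ||
    !(Dm.testBit x == Dm.testBit y) || (t.orbN F y).testBit x)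

variable {t}

/-- one base-change step -/
theorem step (h : t.Ok) (hg : ∀ a < t.k, Rep (g a) (t.Gc a)) {g0 : Equiv.Perm GolayPt}
    (hN : Nrm g0 (t.S0 g)) (Dm : ℕ) (hD : ∀ p, Dm.testBit (idx (g0 p)) = Dm.testBit (idx p))
    (F : List ℕ) (hF : ∀ f ∈ F, f < 24) (hfix : ∀ f ∈ F, g0 (unidx f) = unidx f)
    (Ws : List (List ℕ)) (hWs : ∀ W ∈ Ws, ∀ f ∈ W, f ∈ F) (y : ℕ) (hy : y < 24) (hyF : y ∉ F)
    (hchk : t.stepChk F Ws Dm y = true) :
    ∃ s ∈ t.T g F, s (unidx y) = g0 (unidx y) := by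
  unfold stepChk at hchk
  rw [allB_iff] at hchk
  have h1 := hchk (idx (g0 (unidx y))) (idx_lt _)
  simp only [Bool.or_eq_true] at h1
  have hlast : (t.orbN F y).testBit (idx (g0 (unidx y))) = true := by
    rcases h1 with ((h1 | h1) | h1) | h1
    · exfalso
      rw [List.contains_iff_mem] at h1
      have h2 := hfix _ h1
      rw [unidx_idx] at h2
      have h3 : g0 (unidx y) = unidx y := g0.injective h2
      rw [h3, idx_unidx y hy] at h1
      exact hyF h1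
    · exfalso
      rw [Bool.not_eq_true', ← Bool.not_eq_true, List.all_eq_true] at h1
      apply h1
      intro W hW
      rw [beq_iff]
      have hWF : ∀ f ∈ W, f < 24 := fun f hf => hF f (hWs W hW f hf)
      have hNW := nrm_T hN W (fun f hf => hfix f (hWs W hW f hf))
      have h2 := ncard_orbit_smul hNW (unidx y)
      rw [ncard_orbit h hg W hWF y hy] at h2
      have h3 := ncard_orbit h hg W hWF (idx (g0 (unidx y))) (idx_lt _)
      rw [unidx_idx] at h3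
      rw [← h3, h2]
    · exfalso
      rw [Bool.not_eq_true', beq_eq_false_iff_ne] at h1
      apply h1
      rw [hD, idx_unidx y hy]
    · exact h1
  have h2 := (mem_orbit_iff h hg F hF y hy (g0 (unidx y))).mpr hlast
  obtain ⟨⟨s, hs⟩, hsy⟩ := h2
  exact ⟨s, hs, hsy⟩

variable (t g)

/-- every element of `G` normalizing the group can be moved into the stabiliser of `F` -/
def Reach (G : Subgroup (Equiv.Perm GolayPt)) (Dm : ℕ) (F : List ℕ) : Prop :=
  ∀ g0 ∈ G, Nrm g0 (t.S0 g) → (∀ p, Dm.testBit (idx (g0 p)) = Dm.testBit (idx p)) →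
    ∃ s ∈ t.S0 g, ∀ f ∈ F, (s⁻¹ * g0) (unidx f) = unidx f

variable {t g}

theorem reach_nil (G : Subgroup (Equiv.Perm GolayPt)) (Dm : ℕ) : t.Reach g G Dm [] :=
  fun _ _ _ _ => ⟨1, Subgroup.one_mem _, fun _ hf => absurd hf (by simp)⟩

theorem reach_step (h : t.Ok) (hg : ∀ a < t.k, Rep (g a) (t.Gc a))
    (G : Subgroup (Equiv.Perm GolayPt)) (hSG : t.S0 g ≤ G) (Dm : ℕ)
    (hDS : ∀ s ∈ t.S0 g, ∀ p, Dm.testBit (idx (s p)) = Dm.testBit (idx p))
    (F : List ℕ) (hR : t.Reach g G Dm F) (hF : ∀ f ∈ F, f < 24)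
    (Ws : List (List ℕ)) (hWs : ∀ W ∈ Ws, ∀ f ∈ W, f ∈ F) (y : ℕ) (hy : y < 24) (hyF : y ∉ F)
    (hchk : t.stepChk F Ws Dm y = true) : t.Reach g G Dm (F ++ [y]) := by
  intro g0 hg0 hN hD
  obtain ⟨s, hs, hsF⟩ := hR g0 hg0 hN hD
  have hsi : s⁻¹ ∈ t.S0 g := Subgroup.inv_mem _ hs
  have hN1 : Nrm (s⁻¹ * g0) (t.S0 g) := by
    intro x
    rw [hN x]
    have e : s⁻¹ * g0 * x * (s⁻¹ * g0)⁻¹ = s⁻¹ * (g0 * x * g0⁻¹) * s := by group
    rw [e]
    constructor
    · intro hx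
      exact Subgroup.mul_mem _ (Subgroup.mul_mem _ hsi hx) hs
    · intro hx
      have := Subgroup.mul_mem _ (Subgroup.mul_mem _ hs hx) hsi
      have e2 : s * (s⁻¹ * (g0 * x * g0⁻¹) * s) * s⁻¹ = g0 * x * g0⁻¹ := by group
      rwa [e2] at this
  have hD1 : ∀ p, Dm.testBit (idx ((s⁻¹ * g0) p)) = Dm.testBit (idx p) := by
    intro p
    rw [Equiv.Perm.mul_apply, hDS _ hsi, hD]
  obtain ⟨u, hu, huy⟩ := step h hg hN1 Dm hD1 F hF hsF Ws hWs y hy hyF hchk
  obtain ⟨hu0, huF⟩ := (mem_T F u).mp hu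
  refine ⟨s * u, Subgroup.mul_mem _ hs hu0, ?_⟩
  intro f hf
  have e : (s * u)⁻¹ * g0 = u⁻¹ * (s⁻¹ * g0) := by group
  rw [e, Equiv.Perm.mul_apply, Equiv.Perm.inv_eq_iff_eq]
  rcases List.mem_append.mp hf with h1 | h1
  · rw [hsF f h1, huF f h1]
  · rw [List.mem_singleton] at h1
    rw [h1, huy]

/-- the final form: a normalizing element is an element of the group times one fixing `F` -/
theorem reach_apply {G : Subgroup (Equiv.Perm GolayPt)} {Dm : ℕ} {F : List ℕ}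
    (hR : t.Reach g G Dm F) (hSG : t.S0 g ≤ G) {g0 : Equiv.Perm GolayPt} (hg0 : g0 ∈ G)
    (hN : Nrm g0 (t.S0 g)) (hD : ∀ p, Dm.testBit (idx (g0 p)) = Dm.testBit (idx p))
    (hfin : ∀ g1 ∈ G, Nrm g1 (t.S0 g) → (∀ f ∈ F, g1 (unidx f) = unidx f) → g1 ∈ t.S0 g) :
    g0 ∈ t.S0 g := by
  obtain ⟨s, hs, hsF⟩ := hR g0 hg0 hN hD
  have hsi : s⁻¹ ∈ t.S0 g := Subgroup.inv_mem _ hs
  have hN1 : Nrm (s⁻¹ * g0) (t.S0 g) := by
    intro x
    rw [hN x]
    have e : s⁻¹ * g0 * x * (s⁻¹ * g0)⁻¹ = s⁻¹ * (g0 * x * g0⁻¹) * s := by group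
    rw [e]
    constructor
    · intro hx
      exact Subgroup.mul_mem _ (Subgroup.mul_mem _ hsi hx) hs
    · intro hx
      have := Subgroup.mul_mem _ (Subgroup.mul_mem _ hs hx) hsi
      have e2 : s * (s⁻¹ * (g0 * x * g0⁻¹) * s) * s⁻¹ = g0 * x * g0⁻¹ := by group
      rwa [e2] at this
  have h1 := hfin (s⁻¹ * g0) (G.mul_mem (G.inv_mem (hSG hs)) hg0) hN1 hsF
  have := Subgroup.mul_mem _ hs h1
  have e : s * (s⁻¹ * g0) = g0 := by group
  rwa [e] at this

/-! ### the centre -/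

variable (t)

/-- only the entries `r0` and `iz` commute with all generators -/
def okCen (iz : ℕ) : Bool := allB t.n (fun i => Nat.beq i t.r0 || Nat.beq i iz ||
  !(allB t.k (fun a => allB 24 (fun j =>
    Nat.beq (im (t.E i) (im (t.Gc a) j)) (im (t.Gc a) (im (t.E i) j))))))

variable {t}

theorem center_cases (h : t.Ok) (hg : ∀ a < t.k, Rep (g a) (t.Gc a)) (iz : ℕ)
    (hcen : t.okCen iz = true) (z : Equiv.Perm GolayPt) (hz : Rep z (t.E iz))
    (x : Equiv.Perm GolayPt) (hx : x ∈ t.S0 g) (hc : ∀ y ∈ t.S0 g, x * y = y * x) :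
    x = 1 ∨ x = z := by
  obtain ⟨i, hi, hxi⟩ := exists_rep h hg x hx
  unfold okCen at hcen
  rw [allB_iff] at hcen
  have h1 := hcen i hi
  simp only [Bool.or_eq_true] at h1
  rcases h1 with (h1 | h1) | h1
  · left
    rw [(beq_iff _ _).mp h1] at hxi
    exact hxi.ext (rep_one h)
  · right
    rw [(beq_iff _ _).mp h1] at hxi
    exact hxi.ext hz
  · exfalso
    rw [Bool.not_eq_true', ← Bool.not_eq_true, allB_iff] at h1
    apply h1
    intro a ha
    rw [allB_iff]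
    intro j hj
    rw [beq_iff]
    have h2 := hc (g a) (gen_mem ha)
    have h3 : idx ((x * g a) (unidx j)) = idx ((g a * x) (unidx j)) := by rw [h2]
    rw [Equiv.Perm.mul_apply, Equiv.Perm.mul_apply, hxi (g a (unidx j)), hg a ha (unidx j),
      hg a ha (x (unidx j)), hxi (unidx j), idx_unidx j hj] at h3
    exact h3

end Tab

end Cfsg.Agent.Lib.Helper9.Syl2B
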