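import Cfsg.Agent.Lib.Helper9.Syl2A
import Cfsg.Agent.Lib.Helper9.Syl2C
import Cfsg.Agent.Lib.Helper9.M24Y8
import Cfsg.Agent.Lib.Helper9.M24T11

set_option autoImplicit false

/-! Assembly: from a tabulated `2`-subgroup of a group of permutations of the 24 points to the
data of `Syl2A.Good`. -/

namespace Cfsg.Agent.Lib.Helper9.Syl2B

open Cfsg Finset Cfsg.Agent.Lib.Helper9.GolayQR1 Cfsg.Agent.Lib.Helper9.M24F1
  Cfsg.Agent.Lib.Helper9.M24T1 Cfsg.Agent.Lib.Helper9.M24U1 Cfsg.Agent.Lib.Helper9.M24T3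
  Cfsg.Agent.Lib.Helper9.M24Z3

/-- a table permutation is represented by its packed table -/
theorem rep_tperm (l l' : List ℕ) (h1 : ∀ p, tfun l' (tfun l p) = p)
    (h2 : ∀ p, tfun l (tfun l' p) = p) (P : ℕ)
    (hP : ∀ p : GolayPt, l.getD (idx p) 0 < 24 ∧ l.getD (idx p) 0 = im P (idx p)) :
    Rep (tperm l l' h1 h2) P := by
  intro p
  rw [tperm_apply]
  unfold tfun
  rw [idx_unidx _ (hP p).1]
  exact (hP p).2

/-- an element of `M24` fixing six points of an octad has order dividing 16 -/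
theorem pow_of_fix_six (l : List GolayPt) (x : GolayPt) (hl : (l ++ [x]).Nodup)
    (h5 : l.length = 5) (hin : InOct (l ++ [x]).toFinset) (g1 : Equiv.Perm GolayPt)
    (hg1 : g1 ∈ M24) (hfix : ∀ b ∈ l ++ [x], g1 b = b) : g1 ^ 2 ^ 4 = 1 := by
  have hc := (Cfsg.Agent.Lib.Helper9.M24Y8.card_fix_six l x hl h5).1 hin
  have hmem : g1 ∈ fixL M24 (l ++ [x]) := ⟨hg1, hfix⟩
  haveI : Finite ↥(fixL M24 (l ++ [x])) := Nat.finite_of_card_ne_zero (by rw [hc]; norm_num)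
  have h1 : (⟨g1, hmem⟩ : ↥(fixL M24 (l ++ [x]))) ^ Nat.card ↥(fixL M24 (l ++ [x])) = 1 :=
    pow_card_eq_one'
  rw [hc] at h1
  have h2 := congrArg Subtype.val h1
  simpa using h2

/-- an element of the stabiliser of a dodecad fixing five of its points is trivial -/
theorem eq_one_of_fix_five (d : Finset GolayPt) (hd : d ∈ dodecads) (x : Fin 5 ↪ GolayPt)
    (hx : ∀ i, x i ∈ d) (g1 : Equiv.Perm GolayPt)
    (hg1 : g1 ∈ Cfsg.Agent.Lib.Helper9.M24T9.stabF d) (hfix : ∀ i, g1 (x i) = x i) : g1 = 1 := by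
  obtain ⟨u, -, huniq⟩ := Cfsg.Agent.Lib.Helper9.M24T11.sharp_dodecad d hd x x hx hx
  have h1 := huniq g1 ⟨hg1, hfix⟩
  have h2 := huniq 1 ⟨Subgroup.one_mem _, fun _ => rfl⟩
  rw [h1, h2]

namespace Tab

variable {t : Tab} {g : ℕ → Equiv.Perm GolayPt}

/-- assembly of the data -/
theorem good_of (h : t.Ok) (hg : ∀ a < t.k, Rep (g a) (t.Gc a))
    (G : Subgroup (Equiv.Perm GolayPt)) (hgG : ∀ a < t.k, g a ∈ G) (Dm : ℕ)
    (hDG : ∀ s ∈ G, ∀ p, Dm.testBit (idx (s p)) = Dm.testBit (idx p))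
    (F : List ℕ) (hR : t.Reach g G Dm F)
    (hfin : ∀ g1 ∈ G, Nrm g1 (t.S0 g) → (∀ f ∈ F, g1 (unidx f) = unidx f) → g1 ∈ t.S0 g)
    (iz : ℕ) (hcen : t.okCen iz = true) (z : Equiv.Perm GolayPt) (hz : Rep z (t.E iz))
    (hconj : ∀ T : Subgroup (Equiv.Perm GolayPt), T ≤ t.S0 g → z ∈ T →
      (∀ x ∈ T, ∀ k ∈ G, k * x * k⁻¹ ∈ t.S0 g → k * x * k⁻¹ ∈ T) → ∀ a < t.k, g a ∈ T)
    (kk : ℕ) (hn : t.n = 2 ^ kk) : Cfsg.Agent.Lib.Helper9.Syl2A.Good G (t.S0 g) := by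
  have hSG : t.S0 g ≤ G := by
    unfold S0
    rw [Subgroup.closure_le]
    rintro x ⟨a, ha, rfl⟩
    exact hgG a ha
  have hcard : Nat.card (t.S0 g) = 2 ^ kk := by rw [card_S0 h hg, hn]
  haveI : Finite ↥(t.S0 g) := Nat.finite_of_card_ne_zero (by rw [hcard]; positivity)
  refine ⟨hSG, ?_, ?_⟩
  · intro g0 hg0 hN
    exact reach_apply hR hSG hg0 hN (hDG g0 hg0) hfin
  · apply Cfsg.Agent.Lib.Helper9.Syl2A.sc_of_center G (t.S0 g) hSG (IsPGroup.of_card hcard) z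
    · exact center_cases h hg iz hcen z hz
    · intro T hT hzT hcl
      apply le_antisymm hT
      unfold S0
      rw [Subgroup.closure_le]
      rintro x ⟨a, ha, rfl⟩
      exact hconj T hT hzT hcl a ha

end Tab

end Cfsg.Agent.Lib.Helper9.Syl2B
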