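import Cfsg.Agent.Lib.Helper9.Syl2D
import Cfsg.Agent.Lib.Helper9.M24F2
import Cfsg.Agent.Lib.Helper9.M24P9

set_option autoImplicit false

/-! Glue lemmas for the explicit Sylow `2`-subgroups of the large Mathieu groups: starting the
base-change chain, the terminal arguments, invariance of the masks. -/

namespace Cfsg.Agent.Lib.Helper9.Syl2B

open Cfsg Finset Cfsg.Agent.Lib.Helper9.GolayQR1 Cfsg.Agent.Lib.Helper9.M24F1
  Cfsg.Agent.Lib.Helper9.M24T1 Cfsg.Agent.Lib.Helper9.M24U1 Cfsg.Agent.Lib.Helper9.M24T3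
  Cfsg.Agent.Lib.Helper9.M24Z3

theorem unidx_inj {a b : ℕ} (ha : a < 24) (hb : b < 24) (h : unidx a = unidx b) : a = b := by
  have := congrArg idx h
  rwa [idx_unidx a ha, idx_unidx b hb] at this

theorem nodup_map_unidx (l : List ℕ) (hl : l.Nodup) (hlt : ∀ x ∈ l, x < 24) :
    (l.map unidx).Nodup := by
  apply List.Nodup.map_on _ hl
  intro a ha b hb hab
  exact unidx_inj (hlt a ha) (hlt b hb) hab

/-- the full mask is invariant -/
theorem ones_inv (s : Equiv.Perm GolayPt) (p : GolayPt) :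
    (16777215 : ℕ).testBit (idx (s p)) = (16777215 : ℕ).testBit (idx p) := by
  rw [testBit_ones, testBit_ones]

/-- the mask of a set stabilised by `s` is invariant -/
theorem mask_inv (d : Finset GolayPt) (Dm : ℕ) (hd : ∀ p : GolayPt, p ∈ d ↔ Dm.testBit (idx p) = true)
    (s : Equiv.Perm GolayPt) (hs : ∀ x, s x ∈ d ↔ x ∈ d) (p : GolayPt) :
    Dm.testBit (idx (s p)) = Dm.testBit (idx p) := by
  rw [Bool.eq_iff_iff, ← hd, ← hd]
  exact hs p

theorem conj_mem_T {A : Type*} [Group A] {G P T : Subgroup A}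
    (hcl : ∀ x ∈ T, ∀ k ∈ G, k * x * k⁻¹ ∈ P → k * x * k⁻¹ ∈ T) {x c h : A} (hx : x ∈ T)
    (hh : h ∈ G) (hc : c ∈ P) (he : c = h * x * h⁻¹) : c ∈ T := by
  subst he
  exact hcl x hx h hh hc

namespace Tab

variable {t : Tab} {g : ℕ → Equiv.Perm GolayPt}

/-- if `G` itself fixes the points of `F`, the chain starts at `F` -/
theorem reach_of_fix (G : Subgroup (Equiv.Perm GolayPt)) (Dm : ℕ) (F : List ℕ)
    (h : ∀ g0 ∈ G, ∀ f ∈ F, g0 (unidx f) = unidx f) : t.Reach g G Dm F := by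
  intro g0 hg0 _ _
  refine ⟨1, Subgroup.one_mem _, ?_⟩
  intro f hf
  rw [inv_one, one_mul]
  exact h g0 hg0 f hf

/-- terminal argument: six fixed points inside an octad -/
theorem hfin_oct (G : Subgroup (Equiv.Perm GolayPt)) (hGM : G ≤ M24) (hSG : t.S0 g ≤ G)
    (k m : ℕ) (hP : Nat.card (t.S0 g) = 2 ^ k) (hG : Nat.card G = 2 ^ k * m) (hm : ¬ 2 ∣ m)
    (l : List ℕ) (y : ℕ) (hl5 : l.length = 5) (hnd : (l ++ [y]).Nodup)
    (hlt : ∀ x ∈ l ++ [y], x < 24) (mask : ℕ)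
    (hoct : Cfsg.Agent.Lib.Helper9.M24F2.isOctF mask = true)
    (hsub : ∀ x ∈ l ++ [y], mask.testBit x = true) :
    ∀ g1 ∈ G, Nrm g1 (t.S0 g) → (∀ f ∈ l ++ [y], g1 (unidx f) = unidx f) → g1 ∈ t.S0 g := by
  intro g1 hg1 hN hfix
  haveI : Finite ↥G := inferInstance
  have hmap : (l ++ [y]).map unidx = l.map unidx ++ [unidx y] := by
    rw [List.map_append, List.map_singleton]
  have hpow : g1 ^ 2 ^ 4 = 1 := by
    apply pow_of_fix_six (l.map unidx) (unidx y) _ (by rw [List.length_map, hl5]) _ g1 (hGM hg1)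
    · intro b hb
      rw [← hmap, List.mem_map] at hb
      obtain ⟨f, hf, rfl⟩ := hb
      exact hfix f hf
    · rw [← hmap]
      exact nodup_map_unidx _ hnd hlt
    · refine ⟨M mask, Cfsg.Agent.Lib.Helper9.M24F2.isOctF_sound mask hoct, ?_⟩
      intro p hp
      rw [← hmap, List.mem_toFinset, List.mem_map] at hp
      obtain ⟨f, hf, rfl⟩ := hp
      rw [mem_M, idx_unidx f (hlt f hf)]
      exact hsub f hf
  exact Cfsg.Agent.Lib.Helper9.Syl2A.mem_of_pow_two G (t.S0 g) hSG k m hP hG hm g1 hg1 hN 4 hpow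

/-- terminal argument: five fixed points inside a dodecad -/
theorem hfin_dod (d : Finset GolayPt) (hd : d ∈ dodecads) (l : List ℕ) (hl5 : l.length = 5)
    (hnd : l.Nodup) (hlt : ∀ x ∈ l, x < 24) (hin : ∀ x ∈ l, unidx x ∈ d) :
    ∀ g1 ∈ Cfsg.Agent.Lib.Helper9.M24T9.stabF d, Nrm g1 (t.S0 g) →
      (∀ f ∈ l, g1 (unidx f) = unidx f) → g1 ∈ t.S0 g := by
  intro g1 hg1 _ hfix
  let x : Fin 5 ↪ GolayPt := ⟨fun i => unidx (l.get (Fin.cast hl5.symm i)), by
    intro i j hij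
    have h1 := unidx_inj (hlt _ (List.get_mem l _)) (hlt _ (List.get_mem l _)) hij
    have h2 := (List.Nodup.get_inj_iff hnd).mp h1
    exact Fin.cast_injective _ h2⟩
  have h1 : g1 = 1 := by
    apply eq_one_of_fix_five d hd x _ g1 hg1
    · intro i
      exact hfix _ (List.get_mem l _)
    · intro i
      exact hin _ (List.get_mem l _)
  rw [h1]
  exact Subgroup.one_mem _

end Tab

end Cfsg.Agent.Lib.Helper9.Syl2B
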