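import Cfsg.Agent.Lib.Helper9.Syl2A

set_option autoImplicit false

/-! Transport of the elementwise Sylow data along an isomorphism. -/

namespace Cfsg.Agent.Lib.Helper9.Syl2F

open Cfsg Cfsg.Agent.Lib.Helper9.Syl2A

variable {H H' : Type*} [Group H] [Group H']

theorem mem_map_iff (e : H ≃* H') (P : Subgroup H) (x : H) :
    e x ∈ P.map e.toMonoidHom ↔ x ∈ P := by
  constructor
  · rintro ⟨y, hy, h⟩
    have : y = x := e.injective h
    rw [← this]
    exact hy
  · intro hx
    exact ⟨x, hx, rfl⟩

theorem GoodH.map (e : H ≃* H') {P : Subgroup H} (h : GoodH P) : GoodH (P.map e.toMonoidHom) := by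
  constructor
  · intro g' hg'
    have h1 : e.symm g' ∈ P := by
      apply h.nrm
      intro x
      rw [← mem_map_iff e P x, hg' (e x), ← mem_map_iff e P (e.symm g' * x * (e.symm g')⁻¹)]
      rw [map_mul, map_mul, map_inv, e.apply_symm_apply]
    have := (mem_map_iff e P (e.symm g')).mpr h1
    rwa [e.apply_symm_apply] at this
  · intro T' hT' hbot hcl
    have hT : T'.comap e.toMonoidHom = P := by
      apply h.sc
      · intro x hx
        rw [← mem_map_iff e P x]
        exact hT' hx
      · intro hb
        apply hbot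
        rw [Subgroup.eq_bot_iff_forall]
        intro y hy
        have : e.symm y ∈ T'.comap e.toMonoidHom := by
          rw [Subgroup.mem_comap]
          show e (e.symm y) ∈ T'
          rw [e.apply_symm_apply]
          exact hy
        rw [hb, Subgroup.mem_bot] at this
        have h2 := congrArg e this
        rwa [e.apply_symm_apply, map_one] at h2
      · intro x hx g hgx
        rw [Subgroup.mem_comap]
        show e (g * x * g⁻¹) ∈ T'
        rw [map_mul, map_mul, map_inv]
        apply hcl (e x) hx (e g)
        rw [← map_inv, ← map_mul, ← map_mul, mem_map_iff]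
        exact hgx
    rw [← hT]
    ext y
    constructor
    · intro hy
      refine ⟨e.symm y, ?_, e.apply_symm_apply y⟩
      show e (e.symm y) ∈ T'
      rw [e.apply_symm_apply]
      exact hy
    · rintro ⟨x, hx, rfl⟩
      exact hx

/-- the `2`-fusion system of a group isomorphic to a subgroup with good elementwise Sylow data is
simple -/
theorem simple_of_iso {A : Type*} [Group A] {K P : Subgroup A} [Finite K] (h : Good K P)
    (k m : ℕ) (hk : 1 ≤ k) (hP : Nat.card P = 2 ^ k) (hK : Nat.card K = 2 ^ k * m) (hm : ¬ 2 ∣ m)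
    {G : Type*} [Group G] [Finite G] (e : G ≃* ↥K) (S : Sylow 2 G) :
    (groupFusionSystem (S : Subgroup G)).IsSimple 2 := by
  haveI : Fact (Nat.Prime 2) := ⟨Nat.prime_two⟩
  have hc : Nat.card ((S : Subgroup G).map e.toMonoidHom) = 2 ^ (Nat.card K).factorization 2 := by
    rw [Subgroup.card_map_of_injective e.injective, Sylow.card_eq_multiplicity,
      Nat.card_congr e.toEquiv]
  obtain ⟨h1, h2⟩ := main h k m hk hP hK hm (Sylow.ofCard _ hc)
  have h3 : GoodH (((S : Subgroup G).map e.toMonoidHom).map e.symm.toMonoidHom) := by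
    have := GoodH.map e.symm h1
    exact this
  have h4 : ((S : Subgroup G).map e.toMonoidHom).map e.symm.toMonoidHom = (S : Subgroup G) := by
    ext x
    constructor
    · rintro ⟨y, ⟨z, hz, rfl⟩, rfl⟩
      show e.symm (e z) ∈ _
      rw [e.symm_apply_apply]
      exact hz
    · intro hx
      exact ⟨e x, ⟨x, hx, rfl⟩, e.symm_apply_apply x⟩
  rw [h4] at h3
  apply simple_of_goodH S _ h3
  intro hb
  apply h2
  show (S : Subgroup G).map e.toMonoidHom = ⊥
  rw [hb, Subgroup.map_bot]

end Cfsg.Agent.Lib.Helper9.Syl2F
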