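import Cfsg.Agent.Lib.Helper9.Syl2M12a
import Cfsg.Agent.Lib.Helper9.M24T4
import Cfsg.Agent.Lib.Helper9.M24T7
import Cfsg.Agent.Lib.Helper9.M24T10
import Cfsg.Agent.Lib.Helper9.M24L1
import Cfsg.Agent.Lib.Helper9.M24P9

set_option autoImplicit false

/-! An explicit Sylow `2`-subgroup of `M12`: it is self-normalizing and the `2`-fusion system of
`M12` on it is simple. -/

namespace Cfsg.Agent.Lib.Helper9.Syl2M12

open Cfsg Finset Cfsg.Agent.Lib.Helper9.GolayQR1 Cfsg.Agent.Lib.Helper9.M24F1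
  Cfsg.Agent.Lib.Helper9.M24T1 Cfsg.Agent.Lib.Helper9.M24U1 Cfsg.Agent.Lib.Helper9.M24T3
  Cfsg.Agent.Lib.Helper9.M24T9 Cfsg.Agent.Lib.Helper9.Syl2B Cfsg.Agent.Lib.Helper9.Syl2B.Tab
open scoped Pointwise

theorem memG (c : Equiv.Perm GolayPt) (hc : c ∈ M24)
    (h1 : ∀ x : GolayPt, c x ∈ Cfsg.Agent.Lib.Helper9.M24P9.Lsq ↔ x ∈ Cfsg.Agent.Lib.Helper9.M24P9.Lsq) :
    c ∈ Spor.M12 := by
  show c ∈ stabF Spor.squareDodecad
  rw [mem_stabF, Cfsg.Agent.Lib.Helper9.M24P1.stab_iff]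
  refine ⟨hc, fun x => ?_⟩
  rw [Cfsg.Agent.Lib.Helper9.M24P9.mem_sq, Cfsg.Agent.Lib.Helper9.M24P9.mem_sq]
  exact h1 x

/-- generator 0 -/
def c0 : Equiv.Perm GolayPt :=
  tperm [18, 1, 2, 13, 12, 23, 6, 14, 9, 8, 17, 19, 4, 3, 7, 15, 16, 10, 0, 11, 20, 21, 22, 5]
    [18, 1, 2, 13, 12, 23, 6, 14, 9, 8, 17, 19, 4, 3, 7, 15, 16, 10, 0, 11, 20, 21, 22, 5] (by decide +kernel) (by decide +kernel)

theorem c0_mem : c0 ∈ M24 := tperm_mem _ _ _ _ (by decide +kernel) (by decide +kernel)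

theorem c0_memG : c0 ∈ Spor.M12 := memG c0 c0_mem (by decide +kernel)

/-- generator 1 -/
def c1 : Equiv.Perm GolayPt :=
  tperm [12, 1, 6, 3, 18, 5, 2, 14, 9, 8, 19, 17, 0, 13, 7, 15, 16, 11, 4, 10, 20, 22, 21, 23]
    [12, 1, 6, 3, 18, 5, 2, 14, 9, 8, 19, 17, 0, 13, 7, 15, 16, 11, 4, 10, 20, 22, 21, 23] (by decide +kernel) (by decide +kernel)

theorem c1_mem : c1 ∈ M24 := tperm_mem _ _ _ _ (by decide +kernel) (by decide +kernel)

theorem c1_memG : c1 ∈ Spor.M12 := memG c1 c1_mem (by decide +kernel)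

/-- generator 2 -/
def c2 : Equiv.Perm GolayPt :=
  tperm [18, 2, 1, 13, 4, 5, 16, 14, 8, 9, 17, 11, 12, 3, 7, 22, 6, 10, 0, 19, 21, 20, 15, 23]
    [18, 2, 1, 13, 4, 5, 16, 14, 8, 9, 17, 11, 12, 3, 7, 22, 6, 10, 0, 19, 21, 20, 15, 23] (by decide +kernel) (by decide +kernel)

theorem c2_mem : c2 ∈ M24 := tperm_mem _ _ _ _ (by decide +kernel) (by decide +kernel)

theorem c2_memG : c2 ∈ Spor.M12 := memG c2 c2_mem (by decide +kernel)

/-- generator 3 -/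
def c3 : Equiv.Perm GolayPt :=
  tperm [0, 16, 2, 8, 12, 7, 6, 5, 3, 13, 17, 11, 4, 9, 23, 15, 1, 10, 18, 19, 20, 22, 21, 14]
    [0, 16, 2, 8, 12, 7, 6, 5, 3, 13, 17, 11, 4, 9, 23, 15, 1, 10, 18, 19, 20, 22, 21, 14] (by decide +kernel) (by decide +kernel)

theorem c3_mem : c3 ∈ M24 := tperm_mem _ _ _ _ (by decide +kernel) (by decide +kernel)

theorem c3_memG : c3 ∈ Spor.M12 := memG c3 c3_mem (by decide +kernel)

/-- generator 4 -/
def c4 : Equiv.Perm GolayPt :=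
  tperm [3, 6, 16, 0, 9, 11, 1, 17, 12, 4, 14, 5, 8, 18, 10, 20, 2, 7, 13, 23, 15, 22, 21, 19]
    [3, 6, 16, 0, 9, 11, 1, 17, 12, 4, 14, 5, 8, 18, 10, 20, 2, 7, 13, 23, 15, 22, 21, 19] (by decide +kernel) (by decide +kernel)

theorem c4_mem : c4 ∈ M24 := tperm_mem _ _ _ _ (by decide +kernel) (by decide +kernel)

theorem c4_memG : c4 ∈ Spor.M12 := memG c4 c4_mem (by decide +kernel)

/-- conjugator 1 -/
def h1 : Equiv.Perm GolayPt :=
  tperm [0, 1, 16, 18, 2, 21, 3, 10, 8, 9, 17, 7, 6, 4, 19, 5, 13, 11, 12, 14, 15, 20, 23, 22]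
    [0, 1, 4, 6, 13, 15, 12, 11, 8, 9, 7, 17, 18, 16, 19, 20, 2, 10, 3, 14, 21, 5, 23, 22] (by decide +kernel) (by decide +kernel)

theorem h1_mem : h1 ∈ M24 := tperm_mem _ _ _ _ (by decide +kernel) (by decide +kernel)

theorem h1_memG : h1 ∈ Spor.M12 := memG h1 h1_mem (by decide +kernel)

/-- conjugator 2 -/
def h2 : Equiv.Perm GolayPt :=
  tperm [6, 4, 8, 0, 1, 17, 9, 14, 3, 13, 20, 22, 2, 18, 7, 11, 12, 21, 16, 15, 19, 23, 5, 10]
    [3, 4, 12, 8, 1, 22, 0, 14, 2, 6, 23, 15, 16, 9, 7, 19, 18, 5, 13, 20, 10, 17, 11, 21] (by decide +kernel) (by decide +kernel)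

theorem h2_mem : h2 ∈ M24 := tperm_mem _ _ _ _ (by decide +kernel) (by decide +kernel)

theorem h2_memG : h2 ∈ Spor.M12 := memG h2 h2_mem (by decide +kernel)

/-- conjugator 3 -/
def h3 : Equiv.Perm GolayPt :=
  tperm [3, 18, 0, 13, 12, 10, 6, 23, 1, 16, 5, 22, 4, 9, 14, 20, 2, 7, 8, 21, 19, 11, 15, 17]
    [2, 8, 16, 0, 12, 10, 6, 17, 18, 13, 5, 21, 4, 3, 14, 22, 9, 23, 1, 20, 15, 19, 11, 7] (by decide +kernel) (by decide +kernel)

theorem h3_mem : h3 ∈ M24 := tperm_mem _ _ _ _ (by decide +kernel) (by decide +kernel)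

theorem h3_memG : h3 ∈ Spor.M12 := memG h3 h3_mem (by decide +kernel)

/-- conjugator 4 -/
def h4 : Equiv.Perm GolayPt :=
  tperm [3, 9, 6, 13, 0, 14, 4, 21, 18, 16, 7, 23, 12, 2, 10, 5, 1, 19, 8, 17, 20, 15, 11, 22]
    [4, 16, 13, 0, 6, 15, 2, 10, 18, 1, 14, 22, 12, 3, 5, 21, 9, 19, 8, 17, 20, 7, 23, 11] (by decide +kernel) (by decide +kernel)

theorem h4_mem : h4 ∈ M24 := tperm_mem _ _ _ _ (by decide +kernel) (by decide +kernel)

theorem h4_memG : h4 ∈ Spor.M12 := memG h4 h4_mem (by decide +kernel)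

/-- the generators -/
def gg : ℕ → Equiv.Perm GolayPt := fun a => [c0, c1, c2, c3, c4].getD a 1

theorem rep_gg : ∀ a < tab.k, Rep (gg a) (tab.Gc a) := by
  intro a ha
  have ha' : a < 5 := ha
  interval_cases a

  · exact rep_tperm _ _ _ _ _ (by decide +kernel)

  · exact rep_tperm _ _ _ _ _ (by decide +kernel)

  · exact rep_tperm _ _ _ _ _ (by decide +kernel)

  · exact rep_tperm _ _ _ _ _ (by decide +kernel)

  · exact rep_tperm _ _ _ _ _ (by decide +kernel)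


theorem hgG : ∀ a < tab.k, gg a ∈ Spor.M12 := by
  intro a ha
  have ha' : a < 5 := ha
  interval_cases a

  · exact c0_memG

  · exact c1_memG

  · exact c2_memG

  · exact c3_memG

  · exact c4_memG


theorem hSG : tab.S0 gg ≤ Spor.M12 := by
  unfold Tab.S0
  rw [Subgroup.closure_le]
  rintro x ⟨a, ha, rfl⟩
  exact hgG a ha

theorem card_S0 : Nat.card (tab.S0 gg) = 2 ^ 6 := Tab.card_S0 ok rep_gg

theorem card_G : Nat.card ↥Spor.M12 = 2 ^ 6 * 1485 :=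
  (Cfsg.Agent.Lib.Helper9.M24T10.card_stabF _ Cfsg.Agent.Lib.Helper9.M24P6.sq_mem).trans (by norm_num)

theorem sq_mask : ∀ p : GolayPt, p ∈ Cfsg.Agent.Lib.Helper9.M24P9.Lsq ↔ (340831 : ℕ).testBit (idx p) = true := by
  decide +kernel

theorem hDG : ∀ s ∈ Spor.M12, ∀ p, (340831 : ℕ).testBit (idx (s p)) = (340831 : ℕ).testBit (idx p) := by
  intro s hs p
  have hs' : s ∈ stabF Spor.squareDodecad := hs
  rw [mem_stabF, Cfsg.Agent.Lib.Helper9.M24P1.stab_iff] at hs'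
  apply mask_inv Spor.squareDodecad 340831 _ s hs'.2 p
  intro q
  rw [Cfsg.Agent.Lib.Helper9.M24P9.mem_sq]
  exact sq_mask q

theorem hDS : ∀ s ∈ tab.S0 gg, ∀ p, (340831 : ℕ).testBit (idx (s p)) = (340831 : ℕ).testBit (idx p) :=
  fun s hs p => hDG s (hSG hs) p

theorem r0 : tab.Reach gg Spor.M12 340831 [] := Tab.reach_nil _ _

theorem r1 : tab.Reach gg Spor.M12 340831 [0] :=
  Tab.reach_step ok rep_gg Spor.M12 hSG 340831 hDS [] r0 (by decide) [[]] (by decide) 0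
    (by decide) (by decide) (by decide +kernel)

theorem r2 : tab.Reach gg Spor.M12 340831 [0, 1] :=
  Tab.reach_step ok rep_gg Spor.M12 hSG 340831 hDS [0] r1 (by decide) [[]] (by decide) 1
    (by decide) (by decide) (by decide +kernel)

theorem r3 : tab.Reach gg Spor.M12 340831 [0, 1, 2] :=
  Tab.reach_step ok rep_gg Spor.M12 hSG 340831 hDS [0, 1] r2 (by decide) [[1]] (by decide) 2
    (by decide) (by decide) (by decide +kernel)

theorem r4 : tab.Reach gg Spor.M12 340831 [0, 1, 2, 6] :=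
  Tab.reach_step ok rep_gg Spor.M12 hSG 340831 hDS [0, 1, 2] r3 (by decide) [[1]] (by decide) 6
    (by decide) (by decide) (by decide +kernel)

theorem r5 : tab.Reach gg Spor.M12 340831 [0, 1, 2, 6, 16] :=
  Tab.reach_step ok rep_gg Spor.M12 hSG 340831 hDS [0, 1, 2, 6] r4 (by decide) [[]] (by decide) 16
    (by decide) (by decide) (by decide +kernel)

theorem hfin : ∀ g1 ∈ Spor.M12, Nrm g1 (tab.S0 gg) → (∀ f ∈ [0, 1, 2, 6, 16], g1 (unidx f) = unidx f) →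
    g1 ∈ tab.S0 gg :=
  Tab.hfin_dod Spor.squareDodecad Cfsg.Agent.Lib.Helper9.M24P6.sq_mem [0, 1, 2, 6, 16] rfl (by decide) (by decide) (by
    intro x hx
    rw [Cfsg.Agent.Lib.Helper9.M24P9.mem_sq]
    revert x
    decide)

theorem e1 : c1 = h1 * c0 * h1⁻¹ := by
  apply Equiv.ext
  decide +kernel

theorem e2 : c2 = h2 * c0 * h2⁻¹ := by
  apply Equiv.ext
  decide +kernel

theorem e3 : c3 = h3 * c0 * h3⁻¹ := by
  apply Equiv.ext
  decide +kernel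

theorem e4 : c4 = h4 * (c2 * c3 * c1) * h4⁻¹ := by
  apply Equiv.ext
  decide +kernel

theorem hconj : ∀ T : Subgroup (Equiv.Perm GolayPt), T ≤ tab.S0 gg → c0 ∈ T →
    (∀ x ∈ T, ∀ k ∈ Spor.M12, k * x * k⁻¹ ∈ tab.S0 gg → k * x * k⁻¹ ∈ T) → ∀ a < tab.k, gg a ∈ T := by
  intro T _ hz hcl

  have m1 : c1 ∈ T := conj_mem_T hcl hz h1_memG
    (Tab.gen_mem (t := tab) (g := gg) (a := 1) (by decide)) e1

  have m2 : c2 ∈ T := conj_mem_T hcl hz h2_memG
    (Tab.gen_mem (t := tab) (g := gg) (a := 2) (by decide)) e2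

  have m3 : c3 ∈ T := conj_mem_T hcl hz h3_memG
    (Tab.gen_mem (t := tab) (g := gg) (a := 3) (by decide)) e3

  have m4 : c4 ∈ T := conj_mem_T hcl (T.mul_mem (T.mul_mem m2 m3) m1) h4_memG
    (Tab.gen_mem (t := tab) (g := gg) (a := 4) (by decide)) e4

  intro a ha
  have ha' : a < 5 := ha
  interval_cases a
  exacts [hz, m1, m2, m3, m4]

theorem hz : Rep c0 (tab.E 56) := rep_tperm _ _ _ _ _ (by decide +kernel)

theorem good : Cfsg.Agent.Lib.Helper9.Syl2A.Good Spor.M12 (tab.S0 gg) :=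
  Tab.good_of ok rep_gg Spor.M12 hgG 340831 hDG [0, 1, 2, 6, 16] r5 hfin 56 ok_cen c0 hz hconj 6 rfl

/-- the `2`-fusion system of `M12` is simple -/
theorem simple (S : Sylow 2 ↥Spor.M12) : (groupFusionSystem (S : Subgroup ↥Spor.M12)).IsSimple 2 :=
  Cfsg.Agent.Lib.Helper9.Syl2A.simple_main good 6 1485 (by norm_num) card_S0 card_G (by decide) S

/-- the Sylow `2`-subgroups of `M12` are self-normalizing -/
theorem normalizer_eq (S : Sylow 2 ↥Spor.M12) :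
    Subgroup.normalizer ((S : Subgroup ↥Spor.M12) : Set ↥Spor.M12) = (S : Subgroup ↥Spor.M12) :=
  Cfsg.Agent.Lib.Helper9.Syl2A.normalizer_main good 6 1485 (by norm_num) card_S0 card_G (by decide) S

end Cfsg.Agent.Lib.Helper9.Syl2M12

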