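import Mathlib

set_option autoImplicit false

/-!
A presentation-free recognition of the symmetric group: a group generated by "transpositions"
`t i j` which square to one, are symmetric in `i, j`, are permuted by conjugation like the
transpositions of `Perm ι`, and map to these transpositions, maps injectively to `Perm ι`.
-/

namespace Cfsg.Agent.Lib.Helper9.SymPres

variable {ι : Type*} [DecidableEq ι] {G : Type*} [Group G]

/-- the subgroup generated by the transpositions with both indices in `S` -/
def sub (t : ι → ι → G) (S : Finset ι) : Subgroup G :=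
  Subgroup.closure {g | ∃ i j, i ≠ j ∧ i ∈ S ∧ j ∈ S ∧ g = t i j}

theorem sub_mono (t : ι → ι → G) {S T : Finset ι} (h : S ⊆ T) : sub t S ≤ sub t T := by
  apply Subgroup.closure_mono
  rintro g ⟨i, j, hij, hi, hj, rfl⟩
  exact ⟨i, j, hij, h hi, h hj, rfl⟩

theorem t_mem_sub (t : ι → ι → G) (S : Finset ι) {i j : ι} (hij : i ≠ j) (hi : i ∈ S)
    (hj : j ∈ S) : t i j ∈ sub t S :=
  Subgroup.subset_closure ⟨i, j, hij, hi, hj, rfl⟩

/-- the elements of `sub t S` fix the points outside `S` -/
theorem sub_fix (t : ι → ι → G) (π : G →* Equiv.Perm ι)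
    (hπ : ∀ i j, i ≠ j → π (t i j) = Equiv.swap i j) (S : Finset ι) (x : ι) (hx : x ∉ S)
    (g : G) (hg : g ∈ sub t S) : π g x = x := by
  induction hg using Subgroup.closure_induction with
  | mem g hg =>
    obtain ⟨i, j, hij, hi, hj, rfl⟩ := hg
    rw [hπ i j hij]
    exact Equiv.swap_apply_of_ne_of_ne (fun h => hx (h ▸ hi)) (fun h => hx (h ▸ hj))
  | one => simp
  | mul a b _ _ ha hb => rw [map_mul, Equiv.Perm.mul_apply, hb, ha]
  | inv a _ ha =>
    rw [map_inv, Equiv.Perm.inv_eq_iff_eq]
    exact ha.symm

theorem conj_to_comm {a b c : G} (h : a * b * a⁻¹ = c) : a * b = c * a := by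
  rw [← h]; group

variable (t : ι → ι → G)
  (hsq : ∀ i j, i ≠ j → t i j * t i j = 1)
  (hsymm : ∀ i j, i ≠ j → t j i = t i j)
  (hconj : ∀ i j k l, i ≠ j → k ≠ l →
    t k l * t i j * (t k l)⁻¹ = t (Equiv.swap k l i) (Equiv.swap k l j))

include hsq in
theorem t_inv {i j : ι} (hij : i ≠ j) : (t i j)⁻¹ = t i j :=
  inv_eq_of_mul_eq_one_left (hsq i j hij)

include hsq hsymm hconj in
/-- the coset decomposition of `sub t (insert x S)` over `sub t S` -/
theorem decomp (S : Finset ι) (x : ι) (hx : x ∉ S) (g : G) (hg : g ∈ sub t (insert x S)) :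
    (g ∈ sub t S) ∨ ∃ c ∈ S, ∃ g' ∈ sub t S, g = t x c * g' := by
  -- the set of the elements of the claimed form is stable under left multiplication by the
  -- generators
  have key : ∀ a b, a ≠ b → a ∈ insert x S → b ∈ insert x S → ∀ g : G,
      ((g ∈ sub t S) ∨ ∃ c ∈ S, ∃ g' ∈ sub t S, g = t x c * g') →
      ((t a b * g ∈ sub t S) ∨ ∃ c ∈ S, ∃ g' ∈ sub t S, t a b * g = t x c * g') := by
    -- reduce to `a ≠ x` or `a = x`
    have main : ∀ a b, a ≠ b → a ∈ insert x S → b ∈ insert x S → b ≠ x → ∀ g : G,
        ((g ∈ sub t S) ∨ ∃ c ∈ S, ∃ g' ∈ sub t S, g = t x c * g') →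
        ((t a b * g ∈ sub t S) ∨ ∃ c ∈ S, ∃ g' ∈ sub t S, t a b * g = t x c * g') := by
      intro a b hab ha hb hbx g hg
      have hbS : b ∈ S := by
        rcases Finset.mem_insert.1 hb with h | h
        · exact absurd h hbx
        · exact h
      by_cases hax : a = x
      · subst hax
        rcases hg with hg | ⟨c, hc, g', hg', rfl⟩
        · exact Or.inr ⟨b, hbS, g, hg, rfl⟩
        · have hca : c ≠ a := fun h => hx (h ▸ hc)
          by_cases hbc : b = c
          · subst hbc
            left
            rw [← mul_assoc, hsq a b hab, one_mul]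
            exact hg'
          · right
            refine ⟨c, hc, t c b * g', mul_mem (t_mem_sub t S (Ne.symm hbc) hc hbS) hg', ?_⟩
            -- t a b * t a c = t a c * t c b
            have h1 := hconj a b a c hab (Ne.symm hca)
            rw [Equiv.swap_apply_left, Equiv.swap_apply_of_ne_of_ne (Ne.symm hab) hbc] at h1
            have h2 : t a c * t a b = t c b * t a c := conj_to_comm h1
            have h3 : t a b * t a c = t a c * t c b := by
              have h4 : t a b = (t a c)⁻¹ * (t c b * t a c) := by
                rw [← h2]; group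
              rw [h4, t_inv t hsq (Ne.symm hca)]
              have := hsq a c (Ne.symm hca)
              calc t a c * (t c b * t a c) * t a c = t a c * t c b * (t a c * t a c) := by group
                _ = t a c * t c b := by rw [this, mul_one]
            rw [← mul_assoc, h3, mul_assoc]
      · have haS : a ∈ S := by
          rcases Finset.mem_insert.1 ha with h | h
          · exact absurd h hax
          · exact h
        rcases hg with hg | ⟨c, hc, g', hg', rfl⟩
        · exact Or.inl (mul_mem (t_mem_sub t S hab haS hbS) hg)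
        · right
          have hcx : c ≠ x := fun h => hx (h ▸ hc)
          have hxc : x ≠ c := Ne.symm hcx
          by_cases hac : a = c
          · subst hac
            -- t a b * t x a = t x b * t a b
            refine ⟨b, hbS, t a b * g', mul_mem (t_mem_sub t S hab haS hbS) hg', ?_⟩
            have h1 := hconj x a a b hxc hab
            rw [Equiv.swap_apply_of_ne_of_ne hxc (fun h => hbx h.symm),
              Equiv.swap_apply_left] at h1
            have h2 : t a b * t x a = t x b * t a b := conj_to_comm h1
            rw [← mul_assoc, h2, mul_assoc]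
          · by_cases hbc : b = c
            · subst hbc
              -- t a b * t x b = t x a * t a b
              refine ⟨a, haS, t a b * g', mul_mem (t_mem_sub t S hab haS hbS) hg', ?_⟩
              have h1 := hconj x b a b hxc hab
              rw [Equiv.swap_apply_of_ne_of_ne (fun h => hax h.symm) hxc,
                Equiv.swap_apply_right] at h1
              have h2 : t a b * t x b = t x a * t a b := conj_to_comm h1
              rw [← mul_assoc, h2, mul_assoc]
            · -- they commute
              refine ⟨c, hc, t a b * g', mul_mem (t_mem_sub t S hab haS hbS) hg', ?_⟩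
              have h1 := hconj x c a b hxc hab
              rw [Equiv.swap_apply_of_ne_of_ne (fun h => hax h.symm) (fun h => hbx h.symm),
                Equiv.swap_apply_of_ne_of_ne (fun h => hac h.symm) (fun h => hbc h.symm)] at h1
              have h2 : t a b * t x c = t x c * t a b := conj_to_comm h1
              rw [← mul_assoc, h2, mul_assoc]
    intro a b hab ha hb g hg
    by_cases hbx : b = x
    · subst hbx
      have hab' : a ≠ b := hab
      rw [hsymm b a (Ne.symm hab)]
      exact main b a (Ne.symm hab) hb ha hab g hg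
    · exact main a b hab ha hb hbx g hg
  -- now the induction over the closure
  have hinv : ∀ a b, a ≠ b → (t a b)⁻¹ = t a b := fun a b hab => t_inv t hsq hab
  have all : ∀ g : G, g ∈ sub t (insert x S) → ∀ g₀ : G,
      ((g₀ ∈ sub t S) ∨ ∃ c ∈ S, ∃ g' ∈ sub t S, g₀ = t x c * g') →
      ((g * g₀ ∈ sub t S) ∨ ∃ c ∈ S, ∃ g' ∈ sub t S, g * g₀ = t x c * g') ∧
      ((g⁻¹ * g₀ ∈ sub t S) ∨ ∃ c ∈ S, ∃ g' ∈ sub t S, g⁻¹ * g₀ = t x c * g') := by
    intro g hg
    induction hg using Subgroup.closure_induction with
    | mem g hg =>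
      obtain ⟨a, b, hab, ha, hb, rfl⟩ := hg
      intro g₀ h
      rw [hinv a b hab]
      exact ⟨key a b hab ha hb g₀ h, key a b hab ha hb g₀ h⟩
    | one => intro g₀ h; rw [inv_one, one_mul]; exact ⟨h, h⟩
    | mul a b _ _ ha hb =>
      intro g₀ h
      rw [mul_inv_rev, mul_assoc, mul_assoc]
      exact ⟨(ha _ (hb _ h).1).1, (hb _ (ha _ h).2).2⟩
    | inv a _ ha =>
      intro g₀ h
      rw [inv_inv]
      exact ⟨(ha _ h).2, (ha _ h).1⟩
  have := (all g hg 1 (Or.inl (one_mem _))).1
  rwa [mul_one] at this

include hsq hsymm hconj in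
/-- the map to the symmetric group is injective on each `sub t S` -/
theorem inj_sub (π : G →* Equiv.Perm ι) (hπ : ∀ i j, i ≠ j → π (t i j) = Equiv.swap i j) :
    ∀ S : Finset ι, ∀ g ∈ sub t S, π g = 1 → g = 1 := by
  intro S
  induction S using Finset.induction_on with
  | empty =>
    intro g hg _
    have : sub t (∅ : Finset ι) = ⊥ := by
      unfold sub
      rw [Subgroup.closure_eq_bot_iff]
      rintro g ⟨i, j, _, hi, _⟩
      exact absurd hi (Finset.notMem_empty i)
    rw [this] at hg
    exact Subgroup.mem_bot.1 hg
  | insert x S hx ih =>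
    intro g hg h1
    rcases decomp t hsq hsymm hconj S x hx g hg with h | ⟨c, hc, g', hg', rfl⟩
    · exact ih g h h1
    · exfalso
      have h2 : π (t x c * g') x = c := by
        rw [map_mul, Equiv.Perm.mul_apply, sub_fix t π hπ S x hx g' hg',
          hπ x c (fun h => hx (h ▸ hc)), Equiv.swap_apply_left]
      rw [h1, Equiv.Perm.one_apply] at h2
      exact hx (h2 ▸ hc)

include hsq hsymm hconj in
/-- **recognition of the symmetric group**: the map to `Perm ι` is injective on the subgroup
generated by the `t i j` -/
theorem inj_of_fintype [Fintype ι] (π : G →* Equiv.Perm ι)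
    (hπ : ∀ i j, i ≠ j → π (t i j) = Equiv.swap i j) (g : G)
    (hg : g ∈ Subgroup.closure {g | ∃ i j, i ≠ j ∧ g = t i j}) (h1 : π g = 1) : g = 1 := by
  apply inj_sub t hsq hsymm hconj π hπ Finset.univ g _ h1
  refine Subgroup.closure_mono ?_ hg
  rintro g ⟨i, j, hij, rfl⟩
  exact ⟨i, j, hij, Finset.mem_univ _, Finset.mem_univ _, rfl⟩

end Cfsg.Agent.Lib.Helper9.SymPres
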