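import Mathlib
import Cfsg.Prelude.Def_Local
import Cfsg.Prelude.Def_CaseTheorems
import Cfsg.Agent.Lib.Helper3.UpperPSeries
import Cfsg.Agent.Lib.Helper1.PCore

set_option autoImplicit false
set_option linter.style.haveILetI false
open Cfsg

namespace Cfsg.Agent.Lib.Helper9.T97

theorem plength_of_core {G : Type*} [Group G] [Finite G]
    (h : ∀ s : G ⧸ pPrimeCore 2 G, (∃ j : ℕ, s ^ (2 ^ j) = 1) →
      s ∈ pCore 2 (G ⧸ pPrimeCore 2 G)) (S : Sylow 2 G) :
    Cfsg.PLengthLE 2 1 G ∧ ((S : Subgroup G) ⊔ pPrimeCore 2 G).Normal := by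
  haveI : Fact (Nat.Prime 2) := ⟨Nat.prime_two⟩
  have hsurj : Function.Surjective (QuotientGroup.mk' (pPrimeCore 2 G)) :=
    QuotientGroup.mk'_surjective _
  set T := pCore 2 (G ⧸ pPrimeCore 2 G) with hT
  have hTp : IsPGroup 2 T := Cfsg.Agent.Lib.Helper1.pCore_isPGroup 2
  set Sb : Sylow 2 (G ⧸ pPrimeCore 2 G) := S.mapSurjective hsurj with hSb
  have hSbT : (Sb : Subgroup (G ⧸ pPrimeCore 2 G)) ≤ T := by
    intro s hs
    apply h
    obtain ⟨k, hk⟩ := (IsPGroup.iff_orderOf.mp Sb.2) ⟨s, hs⟩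
    refine ⟨k, ?_⟩
    have h1 : orderOf s = 2 ^ k := by
      rw [← hk]; exact (Subgroup.orderOf_mk s hs).symm
    rw [← h1]
    exact pow_orderOf_eq_one s
  have hTeq : T = (Sb : Subgroup (G ⧸ pPrimeCore 2 G)) := Sb.is_maximal' hTp hSbT
  constructor
  · apply Cfsg.Agent.Lib.Helper3.pLengthLE_one_of_index_coprime
    have h1 : (pPrimePCore 2 G).index = T.index := by
      rw [pPrimePCore]
      exact Subgroup.index_comap_of_surjective _ hsurj
    rw [h1, hTeq]
    exact ((Nat.Prime.coprime_iff_not_dvd Nat.prime_two).mpr Sb.not_dvd_index).symm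
  · have h2 : (S : Subgroup G) ⊔ pPrimeCore 2 G =
        T.comap (QuotientGroup.mk' (pPrimeCore 2 G)) := by
      rw [hTeq, hSb, Sylow.coe_mapSurjective, Subgroup.comap_map_eq, QuotientGroup.ker_mk']
    rw [h2]
    haveI : T.Normal := Cfsg.pCore_normal 2 _
    infer_instance

end Cfsg.Agent.Lib.Helper9.T97
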