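import Mathlib
import Cfsg.Prelude.Def_Local
import Cfsg.Agent.Lib.Helper8.FStar

/-! Farm TCL (S1775), unit U1: an involution of a group with simple non-abelian `F*` is not
central. -/
set_option autoImplicit false

namespace Cfsg.Agent.Lib.Helper9.TCL

open Cfsg

/-- U1: an involution of a group with simple non-abelian `F*` is not central. -/
theorem U1 {G : Type*} [Group G] [Finite G]
    (hF : IsSimpleGroup ↥(Cfsg.generalizedFittingSubgroup G))
    (hF' : ¬ IsMulCommutative ↥(Cfsg.generalizedFittingSubgroup G))
    (y : G) (hy : orderOf y = 2) : Subgroup.centralizer ({y} : Set G) ≠ ⊤ := by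
  intro htop
  have hyc : ∀ g : G, g * y = y * g := by
    intro g
    have : g ∈ Subgroup.centralizer ({y} : Set G) := by rw [htop]; exact Subgroup.mem_top g
    exact Subgroup.mem_centralizer_singleton_iff.mp this
  -- y ∈ C_G(F*) ≤ F*
  have hyF : y ∈ Cfsg.generalizedFittingSubgroup G := by
    apply Cfsg.Agent.Lib.Helper8.centralizer_generalizedFittingSubgroup_le
    rw [Subgroup.mem_centralizer_iff]
    intro g _
    exact hyc g
  -- the center of F* is ⊥ or ⊤
  have hcen := Subgroup.Normal.eq_bot_or_eq_top
    (inferInstance : (Subgroup.center ↥(Cfsg.generalizedFittingSubgroup G)).Normal)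
  have hymem : (⟨y, hyF⟩ : ↥(Cfsg.generalizedFittingSubgroup G)) ∈
      Subgroup.center ↥(Cfsg.generalizedFittingSubgroup G) := by
    rw [Subgroup.mem_center_iff]
    intro g
    apply Subtype.ext
    exact hyc g
  rcases hcen with h | h
  · rw [h, Subgroup.mem_bot] at hymem
    have hy1 : y = 1 := congrArg Subtype.val hymem
    rw [hy1, orderOf_one] at hy
    omega
  · apply hF'
    refine ⟨⟨fun a b => ?_⟩⟩
    have ha : a ∈ Subgroup.center ↥(Cfsg.generalizedFittingSubgroup G) := by
      rw [h]; exact Subgroup.mem_top a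
    rw [Subgroup.mem_center_iff] at ha
    exact (ha b).symm

end Cfsg.Agent.Lib.Helper9.TCL
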