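import Mathlib

/-! Farm TCL (S1775), unit U7: centralizers of involutions lift through odd-order normal
subgroups. -/
set_option autoImplicit false

namespace Cfsg.Agent.Lib.Helper9.TCL

/-- An involutive self-map of a finite type of odd cardinality has a fixed point. -/
theorem exists_fixed_of_odd {α : Type*} [Finite α] (f : α → α)
    (hf : ∀ x, f (f x) = x) (hα : Odd (Nat.card α)) : ∃ x, f x = x := by
  classical
  haveI : Fintype α := Fintype.ofFinite α
  haveI : Fact (Nat.Prime 2) := ⟨Nat.prime_two⟩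
  let g : Function.End α := f
  have hg : g ^ 2 ^ 1 = 1 := by
    rw [pow_one, sq]
    funext x
    exact hf x
  have h1 := Equiv.Perm.card_fixedPoints_modEq (p := 2) (n := 1) hg
  rw [Nat.card_eq_fintype_card] at hα
  have h2 : Fintype.card ↥(Function.fixedPoints g) ≠ 0 := by
    intro h0
    rw [h0] at h1
    have h3 : Fintype.card α % 2 = 0 := h1
    rw [Nat.odd_iff] at hα
    omega
  obtain ⟨⟨x, hx⟩⟩ := Fintype.card_pos_iff.mp (Nat.pos_of_ne_zero h2)
  exact ⟨x, hx⟩

/-- U7: centralizers of involutions lift through odd-order normal subgroups. -/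
theorem U7 {X : Type*} [Group X] [Finite X] (N : Subgroup X) [N.Normal]
    (hN : Odd (Nat.card ↥N)) (x : X) (hx : x ^ 2 = 1) :
    (Subgroup.centralizer ({x} : Set X)).map (QuotientGroup.mk' N) =
      Subgroup.centralizer ({QuotientGroup.mk' N x} : Set (X ⧸ N)) := by
  have hxx : x * x = 1 := by rw [← sq]; exact hx
  have hxi : x⁻¹ = x := inv_eq_of_mul_eq_one_right hxx
  apply le_antisymm
  · rintro _ ⟨c, hc, rfl⟩
    rw [SetLike.mem_coe] at hc
    rw [Subgroup.mem_centralizer_singleton_iff] at hc ⊢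
    rw [← map_mul, ← map_mul, hc]
  · intro q hq
    obtain ⟨g, rfl⟩ := QuotientGroup.mk'_surjective N q
    rw [Subgroup.mem_centralizer_singleton_iff] at hq
    -- g⁻¹ x g x⁻¹ ∈ N
    have hgN : g⁻¹ * x * g * x⁻¹ ∈ N := by
      rw [← QuotientGroup.eq_one_iff]
      have e : ((g⁻¹ * x * g * x⁻¹ : X) : X ⧸ N) =
          (QuotientGroup.mk' N g)⁻¹ * (QuotientGroup.mk' N x * QuotientGroup.mk' N g) *
            (QuotientGroup.mk' N x)⁻¹ := by
        simp only [QuotientGroup.mk'_apply, QuotientGroup.mk_mul, QuotientGroup.mk_inv, mul_assoc]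
      rw [e, ← hq]
      group
    let f : ↥N → ↥N := fun n =>
      ⟨g⁻¹ * x * g * n * x⁻¹, by
        have h2 : x * (n : X) * x⁻¹ ∈ N := Subgroup.Normal.conj_mem inferInstance _ n.2 x
        have e : g⁻¹ * x * g * (n : X) * x⁻¹ = (g⁻¹ * x * g * x⁻¹) * (x * n * x⁻¹) := by group
        rw [e]
        exact N.mul_mem hgN h2⟩
    have hf : ∀ n, f (f n) = n := by
      intro n
      apply Subtype.ext
      show g⁻¹ * x * g * (g⁻¹ * x * g * (n : X) * x⁻¹) * x⁻¹ = n
      have e : g⁻¹ * x * g * (g⁻¹ * x * g * (n : X) * x⁻¹) * x⁻¹ =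
          g⁻¹ * (x * x) * g * n * (x * x)⁻¹ := by group
      rw [e, hxx]
      group
    obtain ⟨n, hn⟩ := exists_fixed_of_odd f hf hN
    have hn' : g⁻¹ * x * g * (n : X) * x⁻¹ = n := congrArg Subtype.val hn
    refine ⟨g * n, ?_, ?_⟩
    · rw [SetLike.mem_coe, Subgroup.mem_centralizer_singleton_iff]
      -- (g n) x = x (g n)
      have e1 : x * (g * (n : X)) = g * (g⁻¹ * x * g * (n : X) * x⁻¹) * x := by group
      rw [e1, hn']
    · rw [map_mul]
      have : QuotientGroup.mk' N (n : X) = 1 := by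
        rw [QuotientGroup.mk'_apply, QuotientGroup.eq_one_iff]
        exact n.2
      rw [this, mul_one]

end Cfsg.Agent.Lib.Helper9.TCL
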