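import Mathlib
import Cfsg.Agent.Lib.Helper3.TGSDefs

set_option autoImplicit false

/-! Farm TGS (S3161), unit U6b1: the squaring map of `G` in coordinates. -/

namespace Cfsg.Agent.Lib.Helper9.TGSU6b1

open Cfsg.Agent.Lib.Helper3.TGSDefs

section

variable {F : Type} [Field F] [Fintype F] [CharP F 2] {mu : F}

/-- U6b1: the squaring map of `G` in coordinates. -/
theorem U6b1_sqdata (hmu : ∀ x : F, x ≠ 0 → ∃ k : ℕ, x = mu ^ k)
    {G : Type*} {B : Type*} [Group G] [Group B] [Finite G]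
    {α ρ : MulAut G} {ι : F → G} (h : Hyp mu α ρ ι) (hcen : ∀ a g, ι a * g = g * ι a)
    {α' ρ' : MulAut B} {p : G →* B} (hq : Quo α ρ α' ρ' p)
    {ι' : F → B} (hel : ∀ b : B, b ^ 2 = 1)
    {X W : B → F} (hc : Coord2Data mu α' ρ' ι' X W) :
    ∃ S : F → F → F, SqData mu ι p X W S := by
  classical
  have hι0 : ι 0 = 1 := by
    have h0 := h.iota_add 0 0
    rw [add_zero] at h0
    exact mul_left_cancel (a := ι 0) (by rw [mul_one]; exact h0.symm)
  have hιι : ∀ c, ι c * ι c = 1 := by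
    intro c
    rw [← h.iota_add, CharTwo.add_self_eq_zero, hι0]
  have hιinv : ∀ c, (ι c)⁻¹ = ι c := by
    intro c
    exact inv_eq_of_mul_eq_one_left (hιι c)
  have hker : ∀ g : G, p g = 1 → ∃ c, ι c = g := by
    intro g hg
    exact (h.iota_fix _).mp ((hq.ker _).mp hg)
  have hBcomm : ∀ b b' : B, b * b' = b' * b := by
    intro b b'
    have h1 := hel (b * b')
    have h2 := hel b
    have h3 := hel b'
    rw [pow_two] at h1 h2 h3
    have hb : b⁻¹ = b := inv_eq_of_mul_eq_one_left h2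
    have hb' : b'⁻¹ = b' := inv_eq_of_mul_eq_one_left h3
    have : b * b' = (b * b')⁻¹ := (inv_eq_of_mul_eq_one_left h1).symm
    rw [this, mul_inv_rev, hb, hb']
  have hX1 : X (1 : B) = 0 := by
    have := hc.X_mul 1 1
    rw [mul_one] at this
    exact left_eq_add.mp this
  have hW1 : W (1 : B) = 0 := by
    have := hc.W_mul 1 1
    rw [mul_one] at this
    exact left_eq_add.mp this
  have hXinv : ∀ b, X b⁻¹ = - X b := by
    intro b
    have := hc.X_mul b b⁻¹
    rw [mul_inv_cancel, hX1] at this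
    exact (neg_eq_of_add_eq_zero_right this.symm).symm
  have hWinv : ∀ b, W b⁻¹ = - W b := by
    intro b
    have := hc.W_mul b b⁻¹
    rw [mul_inv_cancel, hW1] at this
    exact (neg_eq_of_add_eq_zero_right this.symm).symm
  -- squares lie in `range ι`
  have hsqker : ∀ g : G, ∃ c, ι c = g ^ 2 := by
    intro g
    apply hker
    rw [map_pow, hel]
  -- lifts
  have hlift : ∀ x w : F, ∃ g : G, X (p g) = x ∧ W (p g) = w := by
    intro x w
    obtain ⟨b, hb1, hb2⟩ := hc.surj x w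
    obtain ⟨g, hg⟩ := hq.surj b
    exact ⟨g, by rw [hg, hb1], by rw [hg, hb2]⟩
  choose L hLX hLW using hlift
  choose sqc hsqc using hsqker
  -- squares depend on the coordinates only
  have hsame : ∀ g g' : G, X (p g) = X (p g') → W (p g) = W (p g') → g ^ 2 = g' ^ 2 := by
    intro g g' hx hw
    have hpp : p (g * g'⁻¹) = 1 := by
      apply hc.inj
      · rw [map_mul, map_inv, hc.X_mul, hXinv, hx]; ring
      · rw [map_mul, map_inv, hc.W_mul, hWinv, hw]; ring
    obtain ⟨e, he⟩ := hker _ hpp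
    have hg : g = ι e * g' := by rw [he]; group
    rw [hg, pow_two, pow_two]
    calc ι e * g' * (ι e * g') = ι e * (g' * ι e) * g' := by group
      _ = ι e * (ι e * g') * g' := by rw [hcen e g']
      _ = (ι e * ι e) * g' * g' := by group
      _ = g' * g' := by rw [hιι, one_mul]
  refine ⟨fun x w => sqc (L x w), ?_⟩
  have hsq : ∀ g : G, g ^ 2 = ι (sqc (L (X (p g)) (W (p g)))) := by
    intro g
    rw [hsqc]
    exact hsame g _ (hLX _ _).symm (hLW _ _).symm
  have hcomm : ∀ g k : G, g * k * g⁻¹ * k⁻¹ =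
      ι (sqc (L (X (p g) + X (p k)) (W (p g) + W (p k))) + sqc (L (X (p g)) (W (p g))) +
        sqc (L (X (p k)) (W (p k)))) := by
    intro g k
    have hpk : p (g * k * g⁻¹ * k⁻¹) = 1 := by
      rw [map_mul, map_mul, map_mul, map_inv, map_inv, hBcomm (p g) (p k)]
      group
    obtain ⟨c, hcc⟩ := hker _ hpk
    -- k g = ι c * g k
    have hkg : k * g = ι c * (g * k) := by
      have : k * g = (g * k * g⁻¹ * k⁻¹)⁻¹ * (g * k) := by group
      rw [this, ← hcc, hιinv]
    have hgk2 : (g * k) ^ 2 = ι c * g ^ 2 * k ^ 2 := by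
      calc (g * k) ^ 2 = g * (k * g) * k := by rw [pow_two]; group
        _ = g * (ι c * (g * k)) * k := by rw [hkg]
        _ = (g * ι c) * g * k * k := by group
        _ = (ι c * g) * g * k * k := by rw [hcen c g]
        _ = ι c * g ^ 2 * k ^ 2 := by rw [pow_two, pow_two]; group
    have h1 := hsq (g * k)
    rw [map_mul, hc.X_mul, hc.W_mul] at h1
    rw [h1, hsq g, hsq k, ← h.iota_add, ← h.iota_add] at hgk2
    have h2 := h.iota_inj hgk2
    rw [← hcc]
    congr 1
    -- c = S(sum) + S g + S k in char 2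
    have h3 : c = sqc (L (X (p g) + X (p k)) (W (p g) + W (p k))) -
        sqc (L (X (p g)) (W (p g))) - sqc (L (X (p k)) (W (p k))) := by
      rw [h2]; ring
    rw [h3, CharTwo.sub_eq_add, CharTwo.sub_eq_add]
  refine
    { sq := hsq
      comm := hcomm
      polar := ?_
      equiv := ?_
      alpha := ?_ }
  · intro x w x₁ w₁ x₂ w₂
    -- bimultiplicativity of the commutator
    set g := L x w with hg
    set g₁ := L x₁ w₁ with hg₁
    set g₂ := L x₂ w₂ with hg₂
    have e1 := hcomm (g * g₁) g₂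
    have e2 := hcomm g g₂
    have e3 := hcomm g₁ g₂
    have hbi : (g * g₁) * g₂ * (g * g₁)⁻¹ * g₂⁻¹ =
        (g * g₂ * g⁻¹ * g₂⁻¹) * (g₁ * g₂ * g₁⁻¹ * g₂⁻¹) := by
      rw [e3]
      calc (g * g₁) * g₂ * (g * g₁)⁻¹ * g₂⁻¹
          = g * (g₁ * g₂ * g₁⁻¹ * g₂⁻¹) * g₂ * g⁻¹ * g₂⁻¹ := by group
        _ = g * ι _ * g₂ * g⁻¹ * g₂⁻¹ := by rw [e3]
        _ = (ι _ * g) * g₂ * g⁻¹ * g₂⁻¹ := by rw [hcen _ g]
        _ = ι _ * (g * g₂ * g⁻¹ * g₂⁻¹) := by group
        _ = (g * g₂ * g⁻¹ * g₂⁻¹) * ι _ := hcen _ _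
    rw [e1, e2, e3, ← h.iota_add] at hbi
    have h4 := h.iota_inj hbi
    simp only [map_mul, hc.X_mul, hc.W_mul, hg, hg₁, hg₂, hLX, hLW] at h4
    exact h4
  · intro x w
    have h1 := hsq (ρ (L x w))
    have hX : X (p (ρ (L x w))) = mu ^ 2 * x := by rw [← hq.rho, hc.X_rho, hLX]
    have hW : W (p (ρ (L x w))) = mu ^ 2 * w := by rw [← hq.rho, hc.W_rho, hLW]
    rw [hX, hW] at h1
    have h2 : (ρ (L x w)) ^ 2 = ι (mu ^ 2 * sqc (L x w)) := by
      rw [← map_pow, ← hsqc, h.iota_rho]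
    rw [h2] at h1
    exact (h.iota_inj h1).symm
  · intro x w
    have h1 := hsq (α (L x w))
    have hX : X (p (α (L x w))) = x + w := by rw [← hq.alpha, hc.X_alpha, hLX, hLW]
    have hW : W (p (α (L x w))) = w := by rw [← hq.alpha, hc.W_alpha, hLW]
    rw [hX, hW] at h1
    have h2 : (α (L x w)) ^ 2 = ι (sqc (L x w)) := by
      rw [← map_pow, ← hsqc]
      exact (h.iota_fix _).mpr ⟨_, rfl⟩
    rw [h2] at h1
    exact (h.iota_inj h1).symm

end

end Cfsg.Agent.Lib.Helper9.TGSU6b1
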