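import Mathlib

set_option autoImplicit false

/-! Quadratic forms in `n` variables written as successive completed squares
(`L D Lᵀ` form), their dual forms and Gram maps. -/

namespace Cfsg.Agent.Lib.Helper9.ThA

open Finset

/-- data of a quadratic form `∑ dᵢ (xᵢ + ∑_{j>i} cᵢⱼ xⱼ)²` -/
def LD (K : Type) : ℕ → Type
  | 0 => Unit
  | n + 1 => K × (Fin n → K) × LD K n

variable {K : Type} [Field K]

/-- the quadratic form -/
def Q : (n : ℕ) → LD K n → (Fin n → K) → K
  | 0, _, _ => 0
  | n + 1, (d, l, r), x =>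
      d * (x 0 + ∑ j, l j * x j.succ) ^ 2 + Q n r (fun j => x j.succ)

/-- the bilinear form -/
def bil : (n : ℕ) → LD K n → (Fin n → K) → (Fin n → K) → K
  | 0, _, _, _ => 0
  | n + 1, (d, l, r), x, y =>
      d * (x 0 + ∑ j, l j * x j.succ) * (y 0 + ∑ j, l j * y j.succ) +
        bil n r (fun j => x j.succ) (fun j => y j.succ)

/-- the dual quadratic form -/
def Qd : (n : ℕ) → LD K n → (Fin n → K) → K
  | 0, _, _ => 0
  | n + 1, (d, l, r), z =>
      (z 0) ^ 2 / d + Qd n r (fun j => z j.succ - z 0 * l j)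

/-- the Gram map -/
def G : (n : ℕ) → LD K n → (Fin n → K) → (Fin n → K)
  | 0, _, _ => fun i => i.elim0
  | n + 1, (d, l, r), x =>
      Fin.cons (d * (x 0 + ∑ j, l j * x j.succ))
        (fun j => d * (x 0 + ∑ j, l j * x j.succ) * l j + G n r (fun j => x j.succ) j)

/-- nonvanishing of the diagonal -/
def NZ : (n : ℕ) → LD K n → Prop
  | 0, _ => True
  | n + 1, (d, _, r) => d ≠ 0 ∧ NZ n r

theorem Q_succ {n : ℕ} (d : K) (l : Fin n → K) (r : LD K n) (x : Fin (n + 1) → K) :
    Q (n + 1) (d, l, r) x =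
      d * (x 0 + ∑ j, l j * x j.succ) ^ 2 + Q n r (fun j => x j.succ) := rfl

theorem Qd_succ {n : ℕ} (d : K) (l : Fin n → K) (r : LD K n) (z : Fin (n + 1) → K) :
    Qd (n + 1) (d, l, r) z =
      (z 0) ^ 2 / d + Qd n r (fun j => z j.succ - z 0 * l j) := rfl

theorem bil_succ {n : ℕ} (d : K) (l : Fin n → K) (r : LD K n) (x y : Fin (n + 1) → K) :
    bil (n + 1) (d, l, r) x y =
      d * (x 0 + ∑ j, l j * x j.succ) * (y 0 + ∑ j, l j * y j.succ) +
        bil n r (fun j => x j.succ) (fun j => y j.succ) := rfl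

theorem G_succ {n : ℕ} (d : K) (l : Fin n → K) (r : LD K n) (x : Fin (n + 1) → K) :
    G (n + 1) (d, l, r) x =
      Fin.cons (d * (x 0 + ∑ j, l j * x j.succ))
        (fun j => d * (x 0 + ∑ j, l j * x j.succ) * l j + G n r (fun j => x j.succ) j) := rfl

/-- the dual form at the Gram image -/
theorem Qd_G : ∀ (n : ℕ) (r : LD K n), NZ n r → ∀ x : Fin n → K, Qd n r (G n r x) = Q n r x
  | 0, _, _, _ => rfl
  | n + 1, (d, l, r), h, x => by
      rw [Qd_succ, G_succ, Q_succ]
      simp only [Fin.cons_zero, Fin.cons_succ]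
      have h1 : (fun j : Fin n => d * (x 0 + ∑ j, l j * x j.succ) * l j +
          G n r (fun j => x j.succ) j - d * (x 0 + ∑ j, l j * x j.succ) * l j) =
          G n r (fun j => x j.succ) := by
        funext j; ring
      rw [h1, Qd_G n r h.2]
      have hd : d ≠ 0 := h.1
      field_simp

/-- the Gram map represents the bilinear form -/
theorem G_dot : ∀ (n : ℕ) (r : LD K n) (x y : Fin n → K),
    ∑ i, G n r x i * y i = bil n r x y
  | 0, _, _, _ => by simp [bil]
  | n + 1, (d, l, r), x, y => by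
      rw [Fin.sum_univ_succ, G_succ, bil_succ]
      simp only [Fin.cons_zero, Fin.cons_succ]
      rw [← G_dot n r (fun j => x j.succ) (fun j => y j.succ)]
      simp only [add_mul, Finset.sum_add_distrib]
      have : ∑ j : Fin n, d * (x 0 + ∑ j, l j * x j.succ) * l j * y j.succ =
          d * (x 0 + ∑ j, l j * x j.succ) * ∑ j : Fin n, l j * y j.succ := by
        rw [Finset.mul_sum]
        apply Finset.sum_congr rfl
        intro j _; ring
      rw [this]; ring

/-- polarisation -/
theorem Q_add : ∀ (n : ℕ) (r : LD K n) (x y : Fin n → K),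
    Q n r (x + y) = Q n r x + 2 * bil n r x y + Q n r y
  | 0, _, _, _ => by simp [Q, bil]
  | n + 1, (d, l, r), x, y => by
      rw [Q_succ, Q_succ, Q_succ, bil_succ]
      have h1 : (fun j : Fin n => (x + y) j.succ) =
          (fun j : Fin n => x j.succ) + (fun j : Fin n => y j.succ) := rfl
      rw [h1, Q_add n r]
      have h2 : ∑ j : Fin n, l j * (x + y) j.succ =
          ∑ j : Fin n, l j * x j.succ + ∑ j : Fin n, l j * y j.succ := by
        rw [← Finset.sum_add_distrib]
        apply Finset.sum_congr rfl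
        intro j _; rw [Pi.add_apply]; ring
      rw [h2, Pi.add_apply]; ring

end Cfsg.Agent.Lib.Helper9.ThA
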