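import Mathlib
import Cfsg.Agent.Lib.Helper9.ThA

set_option autoImplicit false
set_option linter.unusedSectionVars false

/-! Existence of the completed-squares form of a positive definite symmetric matrix. -/

namespace Cfsg.Agent.Lib.Helper9.ThB

open Finset Matrix Cfsg.Agent.Lib.Helper9.ThA

section ordered

variable {K : Type} [Field K] [LinearOrder K] [IsStrictOrderedRing K]

/-- positivity of the diagonal -/
def Pos : (n : ℕ) → LD K n → Prop
  | 0, _ => True
  | n + 1, (d, _, r) => 0 < d ∧ Pos n r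

theorem Pos.nz : ∀ (n : ℕ) (r : LD K n), Pos n r → NZ n r
  | 0, _, _ => trivial
  | n + 1, (_, _, r), h => ⟨ne_of_gt h.1, Pos.nz n r h.2⟩

/-- expansion of the quadratic form of a symmetric matrix along the first variable -/
theorem expand {n : ℕ} (A : Matrix (Fin (n + 1)) (Fin (n + 1)) K) (hA : A.IsSymm)
    (hd : A 0 0 ≠ 0) (x : Fin (n + 1) → K) :
    x ⬝ᵥ (A *ᵥ x) = A 0 0 * (x 0 + ∑ j : Fin n, A 0 j.succ / A 0 0 * x j.succ) ^ 2 +
      (fun j : Fin n => x j.succ) ⬝ᵥ
        ((Matrix.of fun i j : Fin n => A i.succ j.succ - A 0 i.succ * A 0 j.succ / A 0 0) *ᵥ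
          (fun j : Fin n => x j.succ)) := by
  have hs : ∀ i : Fin n, A i.succ 0 = A 0 i.succ := fun i => hA.apply 0 i.succ
  set S := ∑ j : Fin n, A 0 j.succ * x j.succ with hS
  have h1 : ∑ j : Fin n, A 0 j.succ / A 0 0 * x j.succ = S / A 0 0 := by
    rw [hS, Finset.sum_div]
    apply Finset.sum_congr rfl
    intro j _; ring
  have h2 : x ⬝ᵥ (A *ᵥ x) = A 0 0 * x 0 ^ 2 + 2 * x 0 * S +
      ∑ i : Fin n, x i.succ * ∑ j : Fin n, A i.succ j.succ * x j.succ := by
    unfold dotProduct mulVec dotProduct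
    rw [Fin.sum_univ_succ]
    simp only [Fin.sum_univ_succ (fun j => A _ j * x j)]
    simp only [hs, mul_add, Finset.sum_add_distrib]
    have : ∑ i : Fin n, x i.succ * (A 0 i.succ * x 0) = x 0 * S := by
      rw [hS, Finset.mul_sum]
      apply Finset.sum_congr rfl
      intro j _; ring
    rw [this]; ring
  have h3 : (fun j : Fin n => x j.succ) ⬝ᵥ
        ((Matrix.of fun i j : Fin n => A i.succ j.succ - A 0 i.succ * A 0 j.succ / A 0 0) *ᵥ
          (fun j : Fin n => x j.succ)) =
      ∑ i : Fin n, x i.succ * ∑ j : Fin n, A i.succ j.succ * x j.succ - S ^ 2 / A 0 0 := by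
    unfold dotProduct mulVec dotProduct
    simp only [Matrix.of_apply, sub_mul, Finset.sum_sub_distrib, mul_sub]
    congr 1
    have : ∀ i : Fin n, x i.succ * ∑ j : Fin n, A 0 i.succ * A 0 j.succ / A 0 0 * x j.succ =
        (A 0 i.succ * x i.succ) * (S / A 0 0) := by
      intro i
      rw [hS, Finset.sum_div, Finset.mul_sum, Finset.mul_sum]
      apply Finset.sum_congr rfl
      intro j _; ring
    rw [Finset.sum_congr rfl (fun i _ => this i), ← Finset.sum_mul, ← hS]
    ring
  rw [h2, h3, h1]
  field_simp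
  ring

/-- a positive definite symmetric matrix has a completed-squares form -/
theorem exists_LD : ∀ (n : ℕ) (A : Matrix (Fin n) (Fin n) K), A.IsSymm →
    (∀ x : Fin n → K, x ≠ 0 → 0 < x ⬝ᵥ (A *ᵥ x)) →
    ∃ r : LD K n, Pos n r ∧ ∀ x : Fin n → K, Q n r x = x ⬝ᵥ (A *ᵥ x)
  | 0, A, _, _ => ⟨(), trivial, fun x => by simp [Q, dotProduct]⟩
  | n + 1, A, hA, hpos => by
      have hd : 0 < A 0 0 := by
        have h := hpos (Pi.single 0 1) (by
          intro h
          have := congrFun h 0
          simp at this)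
        simpa using h
      have hd' : A 0 0 ≠ 0 := ne_of_gt hd
      set A' : Matrix (Fin n) (Fin n) K :=
        Matrix.of fun i j : Fin n => A i.succ j.succ - A 0 i.succ * A 0 j.succ / A 0 0 with hA'
      have hsymm' : A'.IsSymm := by
        apply Matrix.IsSymm.ext
        intro i j
        rw [hA', Matrix.of_apply, Matrix.of_apply, hA.apply]
        ring
      have hpos' : ∀ x : Fin n → K, x ≠ 0 → 0 < x ⬝ᵥ (A' *ᵥ x) := by
        intro x hx
        set y : Fin (n + 1) → K :=
          Fin.cons (-∑ j : Fin n, A 0 j.succ / A 0 0 * x j) x with hy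
        have hy0 : y ≠ 0 := by
          intro h
          apply hx
          funext j
          have := congrFun h j.succ
          rw [hy, Fin.cons_succ] at this
          exact this
        have h := hpos y hy0
        rw [expand A hA hd' y] at h
        have e1 : (fun j : Fin n => y j.succ) = x := by
          funext j; rw [hy, Fin.cons_succ]
        have e2 : y 0 = -∑ j : Fin n, A 0 j.succ / A 0 0 * x j := by
          rw [hy, Fin.cons_zero]
        rw [e1] at h
        have e3 : y 0 + ∑ j : Fin n, A 0 j.succ / A 0 0 * y j.succ = 0 := by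
          rw [e2]
          have : ∀ j : Fin n, y j.succ = x j := fun j => congrFun e1 j
          simp only [this]
          ring
        rw [e3] at h
        simpa using h
      obtain ⟨r, hr, hQ⟩ := exists_LD n A' hsymm' hpos'
      refine ⟨(A 0 0, fun j => A 0 j.succ / A 0 0, r), ⟨hd, hr⟩, fun x => ?_⟩
      rw [Q_succ, hQ, expand A hA hd' x]

end ordered

/-- cast of rational data to real data -/
def toReal : (n : ℕ) → LD ℚ n → LD ℝ n
  | 0, _ => ()
  | n + 1, (d, l, r) => ((d : ℝ), (fun j => (l j : ℝ)), toReal n r)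

theorem Pos_toReal : ∀ (n : ℕ) (r : LD ℚ n), Pos n r → Pos n (toReal n r)
  | 0, _, _ => trivial
  | n + 1, (d, l, r), h => ⟨by exact_mod_cast h.1, Pos_toReal n r h.2⟩

theorem Q_toReal : ∀ (n : ℕ) (r : LD ℚ n) (x : Fin n → ℚ),
    Q n (toReal n r) (fun i => (x i : ℝ)) = ((Q n r x : ℚ) : ℝ)
  | 0, _, _ => by simp [Q]
  | n + 1, (d, l, r), x => by
      change Q (n + 1) ((d : ℝ), (fun j => (l j : ℝ)), toReal n r) _ = _
      rw [Q_succ, Q_succ, Q_toReal n r]
      push_cast
      rfl

end Cfsg.Agent.Lib.Helper9.ThB
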