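import Mathlib

set_option autoImplicit false

/-! One-dimensional Gaussian sums with real characteristics: uniform bounds and the
inversion formula. -/

namespace Cfsg.Agent.Lib.Helper9.ThC

open Real Complex

/-- Gaussian sums over the integers converge -/
theorem summable_gauss {a : ℝ} (ha : 0 < a) : Summable (fun k : ℤ => rexp (-a * (k : ℝ) ^ 2)) := by
  have h := summable_pow_mul_jacobiTheta₂_term_bound 0 (T := a / π) (div_pos ha pi_pos) 0
  refine h.congr (fun k => ?_)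
  simp only [pow_zero, one_mul, mul_zero, zero_mul, sub_zero]
  congr 1
  field_simp

/-- the uniform bound for shifted Gaussian sums -/
noncomputable def M1 (a : ℝ) : ℝ := rexp a * ∑' k : ℤ, rexp (-(a / 2) * (k : ℝ) ^ 2)

theorem M1_nonneg (a : ℝ) : 0 ≤ M1 a :=
  mul_nonneg (Real.exp_pos _).le (tsum_nonneg fun _ => (Real.exp_pos _).le)

theorem gauss_le {a : ℝ} (ha : 0 < a) {t : ℝ} (ht0 : 0 ≤ t) (ht1 : t ≤ 1) (k : ℤ) :
    rexp (-a * ((k : ℝ) + t) ^ 2) ≤ rexp a * rexp (-(a / 2) * (k : ℝ) ^ 2) := by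
  rw [← Real.exp_add, Real.exp_le_exp]
  have h1 : (k : ℝ) ^ 2 ≤ 2 * ((k : ℝ) + t) ^ 2 + 2 * t ^ 2 := by nlinarith [sq_nonneg ((k : ℝ) + 2 * t)]
  have h2 : t ^ 2 ≤ 1 := by nlinarith
  nlinarith

theorem gauss_shift_aux {a : ℝ} (ha : 0 < a) {t : ℝ} (ht0 : 0 ≤ t) (ht1 : t ≤ 1) :
    Summable (fun k : ℤ => rexp (-a * ((k : ℝ) + t) ^ 2)) ∧
      ∑' k : ℤ, rexp (-a * ((k : ℝ) + t) ^ 2) ≤ M1 a := by
  have hs : Summable (fun k : ℤ => rexp a * rexp (-(a / 2) * (k : ℝ) ^ 2)) :=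
    (summable_gauss (half_pos ha)).mul_left _
  have h1 : Summable (fun k : ℤ => rexp (-a * ((k : ℝ) + t) ^ 2)) :=
    Summable.of_nonneg_of_le (fun _ => (Real.exp_pos _).le) (gauss_le ha ht0 ht1) hs
  refine ⟨h1, ?_⟩
  unfold M1
  rw [← tsum_mul_left]
  exact h1.tsum_le_tsum (gauss_le ha ht0 ht1) hs

/-- shifted Gaussian sums converge and are uniformly bounded -/
theorem gauss_shift {a : ℝ} (ha : 0 < a) (t : ℝ) :
    Summable (fun k : ℤ => rexp (-a * ((k : ℝ) + t) ^ 2)) ∧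
      ∑' k : ℤ, rexp (-a * ((k : ℝ) + t) ^ 2) ≤ M1 a := by
  obtain ⟨h1, h2⟩ := gauss_shift_aux ha (Int.fract_nonneg t) (Int.fract_lt_one t).le
  have e : (fun k : ℤ => rexp (-a * ((k : ℝ) + t) ^ 2)) =
      (fun k : ℤ => rexp (-a * ((k : ℝ) + Int.fract t) ^ 2)) ∘ (Equiv.addRight ⌊t⌋) := by
    funext k
    simp only [Function.comp_apply, Equiv.coe_addRight, Int.cast_add]
    congr 3
    have := Int.floor_add_fract t
    linarith
  rw [e]
  refine ⟨(Equiv.summable_iff _).mpr h1, ?_⟩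
  have := Equiv.tsum_eq (Equiv.addRight ⌊t⌋) (fun k : ℤ => rexp (-a * ((k : ℝ) + Int.fract t) ^ 2))
  calc tsum ((fun k : ℤ => rexp (-a * ((k : ℝ) + Int.fract t) ^ 2)) ∘ ⇑(Equiv.addRight ⌊t⌋))
      = ∑' k : ℤ, rexp (-a * ((k : ℝ) + Int.fract t) ^ 2) := this
    _ ≤ M1 a := h2

section inversion

variable (τ : ℂ) (hτ : 0 < τ.im) (d : ℝ) (hd : 0 < d) (s w : ℝ)

/-- the terms on the two sides -/
noncomputable def f1 (m : ℤ) : ℂ :=
  cexp (π * I * τ * d * ((m : ℂ) + s) ^ 2 + 2 * π * I * w * m)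

noncomputable def f2 (n : ℤ) : ℂ :=
  cexp (-π * I * ((n : ℂ) - w) ^ 2 / (τ * d) + 2 * π * I * s * ((n : ℂ) - w))

theorem norm_f1 (m : ℤ) : ‖f1 τ d s w m‖ = rexp (-(π * d * τ.im) * ((m : ℝ) + s) ^ 2) := by
  unfold f1
  rw [Complex.norm_exp]
  congr 1
  have e : (π : ℂ) * I * τ * d * ((m : ℂ) + s) ^ 2 + 2 * π * I * w * m =
      ((π * d * ((m : ℝ) + s) ^ 2 : ℝ) : ℂ) * (I * τ) + ((2 * π * w * m : ℝ) : ℂ) * I := by
    push_cast; ring
  rw [e, Complex.add_re, Complex.re_ofReal_mul, Complex.re_ofReal_mul]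
  simp only [Complex.mul_re, Complex.I_re, Complex.I_im, zero_mul, one_mul, zero_sub, mul_zero,
    add_zero]
  ring

include hτ hd in
theorem norm_f2 (n : ℤ) :
    ‖f2 τ d s w n‖ = rexp (-(π * τ.im / (d * Complex.normSq τ)) * ((n : ℝ) + (-w)) ^ 2) := by
  unfold f2
  rw [Complex.norm_exp]
  congr 1
  have hτ0 : τ ≠ 0 := by
    intro h; rw [h] at hτ; simp at hτ
  have e : -(π : ℂ) * I * ((n : ℂ) - w) ^ 2 / (τ * d) + 2 * π * I * s * ((n : ℂ) - w) =
      ((-(π * ((n : ℝ) - w) ^ 2 / d) : ℝ) : ℂ) * (I * τ⁻¹) +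
        ((2 * π * s * ((n : ℝ) - w) : ℝ) : ℂ) * I := by
    have hd0 : (d : ℂ) ≠ 0 := by exact_mod_cast hd.ne'
    push_cast
    field_simp
  rw [e, Complex.add_re, Complex.re_ofReal_mul, Complex.re_ofReal_mul]
  simp only [Complex.mul_re, Complex.I_re, Complex.I_im, zero_mul, one_mul, zero_sub, mul_zero,
    add_zero, Complex.inv_im]
  have hn : Complex.normSq τ ≠ 0 := (Complex.normSq_pos.mpr hτ0).ne'
  field_simp
  ring

include hτ hd in
theorem summable_f1 : Summable (f1 τ d s w) := by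
  apply Summable.of_norm
  simp only [norm_f1]
  exact (gauss_shift (by positivity) s).1

include hτ hd in
theorem summable_f2 : Summable (f2 τ d s w) := by
  apply Summable.of_norm
  simp only [norm_f2 τ hτ d hd]
  have hτ0 : τ ≠ 0 := by
    intro h; rw [h] at hτ; simp at hτ
  have : 0 < Complex.normSq τ := Complex.normSq_pos.mpr hτ0
  exact (gauss_shift (by positivity) (-w)).1

include hτ hd in
/-- the inversion formula in one variable -/
theorem inversion :
    ∑' m : ℤ, f1 τ d s w m = 1 / (-I * τ * d) ^ (1 / 2 : ℂ) * ∑' n : ℤ, f2 τ d s w n := by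
  have hτ0 : τ ≠ 0 := by
    intro h; rw [h] at hτ; simp at hτ
  have hd0 : (d : ℂ) ≠ 0 := by exact_mod_cast hd.ne'
  have ha : 0 < (-I * τ * d).re := by
    have : -I * τ * d = ((d : ℝ) : ℂ) * (-I * τ) := by ring
    rw [this, Complex.re_ofReal_mul]
    simp only [neg_mul, Complex.neg_re, Complex.mul_re, Complex.I_re, Complex.I_im, zero_mul,
      one_mul, zero_sub, neg_neg]
    positivity
  have key := Complex.tsum_exp_neg_quadratic ha (I * τ * d * s + I * w)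
  have e1 : ∀ m : ℤ, f1 τ d s w m = cexp (π * I * τ * d * s ^ 2) *
      cexp (-π * (-I * τ * d) * (m : ℂ) ^ 2 + 2 * π * (I * τ * d * s + I * w) * m) := by
    intro m
    unfold f1
    rw [← Complex.exp_add]
    congr 1
    ring
  have e2 : ∀ n : ℤ, cexp (π * I * τ * d * s ^ 2) *
      cexp (-π / (-I * τ * d) * ((n : ℂ) + I * (I * τ * d * s + I * w)) ^ 2) = f2 τ d s w n := by
    intro n
    unfold f2
    rw [← Complex.exp_add]
    congr 1
    field_simp
    ring_nf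
    simp only [Complex.I_sq, Complex.I_pow_four]
    ring_nf
  rw [tsum_congr e1, tsum_mul_left, key, ← tsum_congr e2, tsum_mul_left]
  ring

end inversion

end Cfsg.Agent.Lib.Helper9.ThC
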