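import Mathlib
import Cfsg.Agent.Lib.Helper9.ThB
import Cfsg.Agent.Lib.Helper9.ThC

set_option autoImplicit false

/-! Norm bounds for Gaussian sums in `n` variables. -/

namespace Cfsg.Agent.Lib.Helper9.ThD

open Real Finset Cfsg.Agent.Lib.Helper9.ThA Cfsg.Agent.Lib.Helper9.ThB
  Cfsg.Agent.Lib.Helper9.ThC

/-- integer vectors as real vectors -/
def rv {n : ℕ} (x : Fin n → ℤ) : Fin n → ℝ := fun i => (x i : ℝ)

theorem rv_cons {n : ℕ} (m : ℤ) (x : Fin n → ℤ) :
    rv (Fin.cons m x : Fin (n + 1) → ℤ) = Fin.cons (m : ℝ) (rv x) := by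
  funext i
  refine Fin.cases ?_ (fun j => ?_) i
  · simp [rv]
  · simp [rv]

/-- the splitting of the first coordinate -/
def cE (n : ℕ) : ℤ × (Fin n → ℤ) ≃ (Fin (n + 1) → ℤ) := Fin.consEquiv (fun _ => ℤ)

theorem cE_apply {n : ℕ} (m : ℤ) (x : Fin n → ℤ) : cE n (m, x) = Fin.cons m x := rfl

/-- the splitting with the first coordinate last -/
def cE' (n : ℕ) : (Fin n → ℤ) × ℤ ≃ (Fin (n + 1) → ℤ) := (Equiv.prodComm _ _).trans (cE n)

theorem cE'_apply {n : ℕ} (m : ℤ) (x : Fin n → ℤ) : cE' n (x, m) = Fin.cons m x := rfl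

theorem Q_cons {n : ℕ} (d : ℝ) (l : Fin n → ℝ) (r : LD ℝ n) (m : ℤ) (x : Fin n → ℤ) :
    Q (n + 1) (d, l, r) (rv (Fin.cons m x : Fin (n + 1) → ℤ)) =
      d * ((m : ℝ) + ∑ j, l j * rv x j) ^ 2 + Q n r (rv x) := by
  rw [rv_cons, Q_succ]
  simp only [Fin.cons_zero, Fin.cons_succ]

theorem Qd_cons {n : ℕ} (d : ℝ) (l : Fin n → ℝ) (r : LD ℝ n) (k : ℤ) (y : Fin n → ℤ)
    (u : Fin (n + 1) → ℝ) :
    Qd (n + 1) (d, l, r) (fun i => rv (Fin.cons k y : Fin (n + 1) → ℤ) i - u i) =
      ((k : ℝ) - u 0) ^ 2 / d +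
        Qd n r (fun j => rv y j - (u j.succ + ((k : ℝ) - u 0) * l j)) := by
  rw [rv_cons, Qd_succ]
  simp only [Fin.cons_zero, Fin.cons_succ]
  congr 2
  funext j; ring

/-- Gaussian sums in `n` variables converge -/
theorem summable_Q : ∀ (n : ℕ) (r : LD ℝ n), Pos n r → ∀ c : ℝ, 0 < c →
    Summable (fun x : Fin n → ℤ => rexp (-c * Q n r (rv x)))
  | 0, _, _, _, _ => Summable.of_finite
  | n + 1, (d, l, r), h, c, hc => by
      have ih := summable_Q n r h.2 c hc
      have hd : 0 < d := h.1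
      have hfg : ∀ p : (Fin n → ℤ) × ℤ,
          rexp (-c * Q (n + 1) (d, l, r) (rv (cE' n p))) =
          rexp (-(c * d) * ((p.2 : ℝ) + ∑ j, l j * rv p.1 j) ^ 2) * rexp (-c * Q n r (rv p.1)) := by
        rintro ⟨x, m⟩
        rw [cE'_apply, Q_cons, ← Real.exp_add]
        congr 1
        ring
      have hcd : 0 < c * d := mul_pos hc hd
      have hg : Summable (fun p : (Fin n → ℤ) × ℤ =>
          rexp (-(c * d) * ((p.2 : ℝ) + ∑ j, l j * rv p.1 j) ^ 2) * rexp (-c * Q n r (rv p.1))) := by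
        refine (summable_prod_of_nonneg ?_).mpr ⟨fun x => ?_, ?_⟩
        · intro p; positivity
        · show Summable (fun m : ℤ => rexp (-(c * d) * ((m : ℝ) + ∑ j, l j * rv x j) ^ 2) *
            rexp (-c * Q n r (rv x)))
          exact (gauss_shift hcd (∑ j, l j * rv x j)).1.mul_right _
        · show Summable (fun x : Fin n → ℤ => ∑' m : ℤ,
            rexp (-(c * d) * ((m : ℝ) + ∑ j, l j * rv x j) ^ 2) * rexp (-c * Q n r (rv x)))
          refine Summable.of_nonneg_of_le (fun x => tsum_nonneg fun m => by positivity)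
            (fun x => ?_) (ih.mul_left (M1 (c * d)))
          rw [tsum_mul_right]
          exact mul_le_mul_of_nonneg_right (gauss_shift hcd (∑ j, l j * rv x j)).2
            (Real.exp_pos _).le
      have h1 : Summable ((fun x : Fin (n + 1) → ℤ => rexp (-c * Q (n + 1) (d, l, r) (rv x))) ∘
          cE' n) := hg.congr (fun p => (hfg p).symm)
      exact (cE' n).summable_iff.mp h1

/-- dual Gaussian sums with arbitrary real shifts converge and are uniformly bounded -/
theorem bound_Qd : ∀ (n : ℕ) (r : LD ℝ n), Pos n r → ∀ c : ℝ, 0 < c →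
    ∃ M : ℝ, ∀ u : Fin n → ℝ,
      Summable (fun y : Fin n → ℤ => rexp (-c * Qd n r (fun i => rv y i - u i))) ∧
      ∑' y : Fin n → ℤ, rexp (-c * Qd n r (fun i => rv y i - u i)) ≤ M
  | 0, _, _, c, _ => ⟨1, fun u => ⟨Summable.of_finite, by
      rw [tsum_fintype]
      simp [Qd]⟩⟩
  | n + 1, (d, l, r), h, c, hc => by
      obtain ⟨M', hM'⟩ := bound_Qd n r h.2 c hc
      have hd : 0 < d := h.1
      have hM'0 : 0 ≤ M' := le_trans (tsum_nonneg fun _ => by positivity) (hM' 0).2
      refine ⟨M1 (c / d) * M', fun u => ?_⟩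
      have hfg : ∀ p : ℤ × (Fin n → ℤ),
          rexp (-c * Qd (n + 1) (d, l, r) (fun i => rv (cE n p) i - u i)) =
          rexp (-(c / d) * ((p.1 : ℝ) + (-u 0)) ^ 2) *
          rexp (-c * Qd n r (fun j => rv p.2 j - (u j.succ + ((p.1 : ℝ) - u 0) * l j))) := by
        rintro ⟨k, y⟩
        rw [cE_apply, Qd_cons, ← Real.exp_add]
        congr 1
        field_simp
        ring
      have hcd : 0 < c / d := div_pos hc hd
      have hg : Summable (fun p : ℤ × (Fin n → ℤ) =>
          rexp (-(c / d) * ((p.1 : ℝ) + (-u 0)) ^ 2) *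
          rexp (-c * Qd n r (fun j => rv p.2 j - (u j.succ + ((p.1 : ℝ) - u 0) * l j)))) := by
        refine (summable_prod_of_nonneg ?_).mpr ⟨fun k => ?_, ?_⟩
        · intro p; positivity
        · show Summable (fun y : Fin n → ℤ => rexp (-(c / d) * ((k : ℝ) + (-u 0)) ^ 2) *
            rexp (-c * Qd n r (fun j => rv y j - (u j.succ + ((k : ℝ) - u 0) * l j))))
          exact (hM' (fun j => u j.succ + ((k : ℝ) - u 0) * l j)).1.mul_left _
        · show Summable (fun k : ℤ => ∑' y : Fin n → ℤ,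
            rexp (-(c / d) * ((k : ℝ) + (-u 0)) ^ 2) *
            rexp (-c * Qd n r (fun j => rv y j - (u j.succ + ((k : ℝ) - u 0) * l j))))
          refine Summable.of_nonneg_of_le (fun k => tsum_nonneg fun y => by positivity)
            (fun k => ?_) ((gauss_shift hcd (-u 0)).1.mul_right M')
          rw [tsum_mul_left]
          exact mul_le_mul_of_nonneg_left
            (hM' (fun j => u j.succ + ((k : ℝ) - u 0) * l j)).2 (Real.exp_pos _).le
      have h1 : Summable ((fun y : Fin (n + 1) → ℤ =>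
          rexp (-c * Qd (n + 1) (d, l, r) (fun i => rv y i - u i))) ∘ cE n) := hg.congr (fun p => (hfg p).symm)
      refine ⟨(cE n).summable_iff.mp h1, ?_⟩
      rw [← Equiv.tsum_eq (cE n)
        (fun y : Fin (n + 1) → ℤ => rexp (-c * Qd (n + 1) (d, l, r) (fun i => rv y i - u i))),
        tsum_congr hfg, hg.tsum_prod]
      calc ∑' k : ℤ, ∑' y : Fin n → ℤ, rexp (-(c / d) * ((k : ℝ) + (-u 0)) ^ 2) *
              rexp (-c * Qd n r (fun j => rv y j - (u j.succ + ((k : ℝ) - u 0) * l j)))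
          ≤ ∑' k : ℤ, rexp (-(c / d) * ((k : ℝ) + (-u 0)) ^ 2) * M' := by
            refine Summable.tsum_le_tsum (fun k => ?_) hg.prod
              ((gauss_shift hcd (-u 0)).1.mul_right M')
            rw [tsum_mul_left]
            exact mul_le_mul_of_nonneg_left
              (hM' (fun j => u j.succ + ((k : ℝ) - u 0) * l j)).2 (Real.exp_pos _).le
        _ ≤ M1 (c / d) * M' := by
            rw [tsum_mul_right]
            exact mul_le_mul_of_nonneg_right (gauss_shift hcd (-u 0)).2 hM'0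

end Cfsg.Agent.Lib.Helper9.ThD
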