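import Mathlib
import Cfsg.Agent.Lib.Helper9.ThD

set_option autoImplicit false

/-! Terms of the theta series of a quadratic form in completed-squares form and of its dual. -/

namespace Cfsg.Agent.Lib.Helper9.ThE

open Real Complex Finset Cfsg.Agent.Lib.Helper9.ThA Cfsg.Agent.Lib.Helper9.ThB
  Cfsg.Agent.Lib.Helper9.ThC Cfsg.Agent.Lib.Helper9.ThD

/-- the term of the theta series with real characteristic `v` -/
noncomputable def F (n : ℕ) (r : LD ℝ n) (τ : ℂ) (v : Fin n → ℝ) (x : Fin n → ℤ) : ℂ :=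
  cexp (π * I * τ * ((Q n r (rv x) : ℝ) : ℂ) + 2 * π * I * ((∑ i, v i * rv x i : ℝ) : ℂ))

/-- the term of the dual theta series -/
noncomputable def Fd (n : ℕ) (r : LD ℝ n) (τ : ℂ) (v : Fin n → ℝ) (y : Fin n → ℤ) : ℂ :=
  cexp (-π * I / τ * ((Qd n r (fun i => rv y i - v i) : ℝ) : ℂ))

/-- the one-variable Gaussian factor on the dual side -/
noncomputable def E (τ : ℂ) (d w : ℝ) (k : ℤ) : ℂ :=
  cexp (-π * I * ((k : ℂ) - w) ^ 2 / (τ * d))

/-- the constant of the inversion formula -/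
noncomputable def Cfac : (n : ℕ) → LD ℝ n → ℂ → ℂ
  | 0, _, _ => 1
  | n + 1, (d, _, r), τ => 1 / (-I * τ * d) ^ (1 / 2 : ℂ) * Cfac n r τ

theorem Cfac_succ {n : ℕ} (d : ℝ) (l : Fin n → ℝ) (r : LD ℝ n) (τ : ℂ) :
    Cfac (n + 1) (d, l, r) τ = 1 / (-I * τ * d) ^ (1 / 2 : ℂ) * Cfac n r τ := rfl

theorem norm_F (n : ℕ) (r : LD ℝ n) (τ : ℂ) (v : Fin n → ℝ) (x : Fin n → ℤ) :
    ‖F n r τ v x‖ = rexp (-(π * τ.im) * Q n r (rv x)) := by
  unfold F
  rw [Complex.norm_exp]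
  congr 1
  have e : (π : ℂ) * I * τ * ((Q n r (rv x) : ℝ) : ℂ) +
      2 * π * I * ((∑ i, v i * rv x i : ℝ) : ℂ) =
      ((π * Q n r (rv x) : ℝ) : ℂ) * (I * τ) + ((2 * π * ∑ i, v i * rv x i : ℝ) : ℂ) * I := by
    push_cast; ring
  rw [e, Complex.add_re, Complex.re_ofReal_mul, Complex.re_ofReal_mul]
  simp only [Complex.mul_re, Complex.I_re, Complex.I_im, zero_mul, one_mul, zero_sub, mul_zero,
    add_zero]
  ring

theorem norm_Fd (n : ℕ) (r : LD ℝ n) (τ : ℂ) (v : Fin n → ℝ) (y : Fin n → ℤ) :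
    ‖Fd n r τ v y‖ =
      rexp (-(π * τ.im / Complex.normSq τ) * Qd n r (fun i => rv y i - v i)) := by
  unfold Fd
  rw [Complex.norm_exp]
  congr 1
  have e : -(π : ℂ) * I / τ * ((Qd n r (fun i => rv y i - v i) : ℝ) : ℂ) =
      ((-(π * Qd n r (fun i => rv y i - v i)) : ℝ) : ℂ) * (I * τ⁻¹) := by
    push_cast; ring
  rw [e, Complex.re_ofReal_mul]
  simp only [Complex.mul_re, Complex.I_re, Complex.I_im, zero_mul, one_mul, zero_sub,
    Complex.inv_im]
  ring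

theorem norm_E (τ : ℂ) (d w : ℝ) (k : ℤ) :
    ‖E τ d w k‖ = rexp (-(π * τ.im / (d * Complex.normSq τ)) * ((k : ℝ) + (-w)) ^ 2) := by
  unfold E
  rw [Complex.norm_exp]
  congr 1
  have e : -(π : ℂ) * I * ((k : ℂ) - w) ^ 2 / (τ * d) =
      ((-(π * ((k : ℝ) - w) ^ 2 / d) : ℝ) : ℂ) * (I * τ⁻¹) := by
    push_cast; ring
  rw [e, Complex.re_ofReal_mul]
  simp only [Complex.mul_re, Complex.I_re, Complex.I_im, zero_mul, one_mul, zero_sub,
    Complex.inv_im]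
  ring

theorem summable_F (n : ℕ) (r : LD ℝ n) (hr : Pos n r) (τ : ℂ) (hτ : 0 < τ.im)
    (v : Fin n → ℝ) : Summable (F n r τ v) := by
  apply Summable.of_norm
  simp only [norm_F]
  exact summable_Q n r hr _ (mul_pos pi_pos hτ)

theorem summable_Fd (n : ℕ) (r : LD ℝ n) (hr : Pos n r) (τ : ℂ) (hτ : 0 < τ.im)
    (v : Fin n → ℝ) : Summable (Fd n r τ v) := by
  apply Summable.of_norm
  simp only [norm_Fd]
  have hτ0 : τ ≠ 0 := by
    intro h; rw [h] at hτ; simp at hτ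
  have hn : 0 < Complex.normSq τ := Complex.normSq_pos.mpr hτ0
  obtain ⟨M, hM⟩ := bound_Qd n r hr (π * τ.im / Complex.normSq τ) (by positivity)
  exact (hM v).1

theorem summable_E (τ : ℂ) (hτ : 0 < τ.im) (d : ℝ) (hd : 0 < d) (w : ℝ) :
    Summable (fun k : ℤ => ‖E τ d w k‖) := by
  simp only [norm_E]
  have hτ0 : τ ≠ 0 := by
    intro h; rw [h] at hτ; simp at hτ
  have hn : 0 < Complex.normSq τ := Complex.normSq_pos.mpr hτ0
  exact (gauss_shift (by positivity) (-w)).1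

/-- splitting off the first variable -/
theorem F_cons {n : ℕ} (d : ℝ) (l : Fin n → ℝ) (r : LD ℝ n) (τ : ℂ) (v : Fin (n + 1) → ℝ)
    (m : ℤ) (x : Fin n → ℤ) :
    F (n + 1) (d, l, r) τ v (Fin.cons m x) =
      f1 τ d (∑ j, l j * rv x j) (v 0) m * F n r τ (fun j => v j.succ) x := by
  unfold F f1
  rw [← Complex.exp_add, Q_cons, Fin.sum_univ_succ, rv_cons]
  simp only [Fin.cons_zero, Fin.cons_succ]
  congr 1
  push_cast
  ring

/-- moving the linear phase into the characteristic -/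
theorem f2_mul_F {n : ℕ} (d : ℝ) (l : Fin n → ℝ) (r : LD ℝ n) (τ : ℂ) (w : ℝ)
    (v : Fin n → ℝ) (k : ℤ) (x : Fin n → ℤ) :
    f2 τ d (∑ j, l j * rv x j) w k * F n r τ v x =
      E τ d w k * F n r τ (fun j => v j + ((k : ℝ) - w) * l j) x := by
  unfold f2 F E
  rw [← Complex.exp_add, ← Complex.exp_add]
  congr 1
  have : ∑ i, (v i + ((k : ℝ) - w) * l i) * rv x i =
      ∑ i, v i * rv x i + ((k : ℝ) - w) * ∑ j, l j * rv x j := by
    rw [Finset.mul_sum, ← Finset.sum_add_distrib]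
    apply Finset.sum_congr rfl
    intro i _; ring
  rw [this]
  push_cast
  ring

/-- splitting off the first variable on the dual side -/
theorem Fd_cons {n : ℕ} (d : ℝ) (hd : d ≠ 0) (l : Fin n → ℝ) (r : LD ℝ n) (τ : ℂ)
    (v : Fin (n + 1) → ℝ) (k : ℤ) (y : Fin n → ℤ) :
    Fd (n + 1) (d, l, r) τ v (Fin.cons k y) =
      E τ d (v 0) k * Fd n r τ (fun j => v j.succ + ((k : ℝ) - v 0) * l j) y := by
  unfold Fd E
  rw [← Complex.exp_add, Qd_cons]
  congr 1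
  have hd0 : (d : ℂ) ≠ 0 := by exact_mod_cast hd
  push_cast
  by_cases hτ : τ = 0
  · subst hτ; simp
  · field_simp
    ring

end Cfsg.Agent.Lib.Helper9.ThE
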