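import Mathlib
import Cfsg.Agent.Lib.Helper9.ThE

set_option autoImplicit false

/-! The theta inversion formula in `n` variables. -/

namespace Cfsg.Agent.Lib.Helper9.ThF

open Real Complex Finset Cfsg.Agent.Lib.Helper9.ThA Cfsg.Agent.Lib.Helper9.ThB
  Cfsg.Agent.Lib.Helper9.ThC Cfsg.Agent.Lib.Helper9.ThD Cfsg.Agent.Lib.Helper9.ThE

/-- the theta inversion formula for a positive definite form in completed-squares form,
with a real characteristic -/
theorem theta_inv : ∀ (n : ℕ) (r : LD ℝ n), Pos n r → ∀ τ : ℂ, 0 < τ.im → ∀ v : Fin n → ℝ,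
    ∑' x : Fin n → ℤ, F n r τ v x = Cfac n r τ * ∑' y : Fin n → ℤ, Fd n r τ v y
  | 0, _, _, τ, _, v => by
      rw [tsum_fintype, tsum_fintype]
      simp [F, Fd, Q, Qd, Cfac]
  | n + 1, (d, l, r), h, τ, hτ, v => by
      have ih := theta_inv n r h.2 τ hτ
      have hd : 0 < d := h.1
      have hF := summable_F (n + 1) (d, l, r) h τ hτ v
      have hFd := summable_Fd (n + 1) (d, l, r) h τ hτ v
      -- split off the first variable
      have s1 : ∑' x : Fin (n + 1) → ℤ, F (n + 1) (d, l, r) τ v x =
          ∑' x' : Fin n → ℤ, ∑' m : ℤ, F (n + 1) (d, l, r) τ v (Fin.cons m x') := by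
        rw [← Equiv.tsum_eq (cE' n) (F (n + 1) (d, l, r) τ v)]
        have hs : Summable (fun p : (Fin n → ℤ) × ℤ => F (n + 1) (d, l, r) τ v (cE' n p)) :=
          (cE' n).summable_iff.mpr hF
        rw [hs.tsum_prod]
        rfl
      -- one-variable inversion
      have s2 : ∀ x' : Fin n → ℤ, ∑' m : ℤ, F (n + 1) (d, l, r) τ v (Fin.cons m x') =
          1 / (-I * τ * d) ^ (1 / 2 : ℂ) * ∑' k : ℤ, E τ d (v 0) k *
            F n r τ (fun j => v j.succ + ((k : ℝ) - v 0) * l j) x' := by
        intro x'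
        rw [tsum_congr (fun m => F_cons d l r τ v m x'), tsum_mul_right,
          inversion τ hτ d hd, mul_assoc, ← tsum_mul_right]
        congr 1
        exact tsum_congr (fun k => f2_mul_F d l r τ (v 0) (fun j => v j.succ) k x')
      -- exchange the sums
      have hsum : Summable (Function.uncurry (fun (k : ℤ) (x' : Fin n → ℤ) =>
          E τ d (v 0) k * F n r τ (fun j => v j.succ + ((k : ℝ) - v 0) * l j) x')) := by
        apply Summable.of_norm
        have h1 := (summable_E τ hτ d hd (v 0)).mul_of_nonneg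
          (summable_Q n r h.2 (π * τ.im) (mul_pos pi_pos hτ))
          (fun k => norm_nonneg _) (fun x' => (Real.exp_pos _).le)
        refine h1.congr (fun p => ?_)
        obtain ⟨k, x'⟩ := p
        simp only [Function.uncurry_apply_pair, norm_mul, norm_F]
      have s3 : ∑' x' : Fin n → ℤ, ∑' k : ℤ, E τ d (v 0) k *
            F n r τ (fun j => v j.succ + ((k : ℝ) - v 0) * l j) x' =
          ∑' k : ℤ, ∑' x' : Fin n → ℤ, E τ d (v 0) k *
            F n r τ (fun j => v j.succ + ((k : ℝ) - v 0) * l j) x' :=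
        hsum.tsum_comm
      -- induction hypothesis
      have s4 : ∀ k : ℤ, ∑' x' : Fin n → ℤ, E τ d (v 0) k *
            F n r τ (fun j => v j.succ + ((k : ℝ) - v 0) * l j) x' =
          Cfac n r τ * ∑' y' : Fin n → ℤ, E τ d (v 0) k *
            Fd n r τ (fun j => v j.succ + ((k : ℝ) - v 0) * l j) y' := by
        intro k
        rw [tsum_mul_left, ih, tsum_mul_left]
        ring
      -- regroup the dual side
      have s5 : ∑' y : Fin (n + 1) → ℤ, Fd (n + 1) (d, l, r) τ v y =
          ∑' k : ℤ, ∑' y' : Fin n → ℤ, E τ d (v 0) k *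
            Fd n r τ (fun j => v j.succ + ((k : ℝ) - v 0) * l j) y' := by
        rw [← Equiv.tsum_eq (cE n) (Fd (n + 1) (d, l, r) τ v)]
        have hs : Summable (fun p : ℤ × (Fin n → ℤ) => Fd (n + 1) (d, l, r) τ v (cE n p)) :=
          (cE n).summable_iff.mpr hFd
        rw [hs.tsum_prod]
        apply tsum_congr
        intro k
        apply tsum_congr
        intro y'
        rw [cE_apply, Fd_cons d hd.ne']
      rw [s1, tsum_congr s2, tsum_mul_left, s3, tsum_congr s4, tsum_mul_left, s5, Cfac_succ]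
      ring

end Cfsg.Agent.Lib.Helper9.ThF
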