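import Mathlib
import Cfsg.Agent.Lib.Helper9.ThD

set_option autoImplicit false

/-! Completed-squares form of an integral positive definite Gram matrix. -/

namespace Cfsg.Agent.Lib.Helper9.ThG

open Finset Matrix Cfsg.Agent.Lib.Helper9.ThA Cfsg.Agent.Lib.Helper9.ThB
  Cfsg.Agent.Lib.Helper9.ThD

/-- clearing denominators -/
theorem clear_den {n : ℕ} (x : Fin n → ℚ) :
    ∃ (N : ℕ) (y : Fin n → ℤ), 0 < N ∧ ∀ i, (N : ℚ) * x i = (y i : ℚ) := by
  refine ⟨∏ i, (x i).den, fun i => (x i).num * ∏ j ∈ univ.erase i, ((x j).den : ℤ), ?_, ?_⟩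
  · exact Finset.prod_pos (fun i _ => (x i).den_pos)
  · intro i
    rw [← Finset.mul_prod_erase univ (fun i => (x i).den) (Finset.mem_univ i)]
    push_cast
    have h : ((x i).den : ℚ) * x i = (x i).num := by
      rw [mul_comm]; exact Rat.mul_den_eq_num (x i)
    rw [← h]
    ring

theorem rat_pos {n : ℕ} (B : Matrix (Fin n) (Fin n) ℤ)
    (hpos : ∀ x : Fin n → ℤ, x ≠ 0 → 0 < x ⬝ᵥ (B *ᵥ x)) :
    ∀ x : Fin n → ℚ, x ≠ 0 → 0 < x ⬝ᵥ ((B.map (Int.cast : ℤ → ℚ)) *ᵥ x) := by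
  intro x hx
  obtain ⟨N, y, hN, hy⟩ := clear_den x
  have hNq : (0 : ℚ) < N := by exact_mod_cast hN
  have hy0 : y ≠ 0 := by
    intro h
    apply hx
    funext i
    have := hy i
    rw [h] at this
    simp only [Pi.zero_apply, Int.cast_zero, mul_eq_zero] at this
    rcases this with h1 | h1
    · exact absurd h1 hNq.ne'
    · exact h1
  have key : ((N : ℚ) * N) * (x ⬝ᵥ ((B.map (Int.cast : ℤ → ℚ)) *ᵥ x)) =
      ((y ⬝ᵥ (B *ᵥ y) : ℤ) : ℚ) := by
    unfold dotProduct mulVec dotProduct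
    push_cast
    simp only [Matrix.map_apply, ← hy]
    rw [Finset.mul_sum]
    apply Finset.sum_congr rfl
    intro i _
    rw [Finset.mul_sum, Finset.mul_sum, Finset.mul_sum]
    apply Finset.sum_congr rfl
    intro j _
    ring
  have h1 : (0 : ℚ) < ((y ⬝ᵥ (B *ᵥ y) : ℤ) : ℚ) := by exact_mod_cast hpos y hy0
  rw [← key] at h1
  exact (mul_pos_iff_of_pos_left (mul_pos hNq hNq)).mp h1

theorem G_toReal : ∀ (n : ℕ) (r : LD ℚ n) (x : Fin n → ℚ),
    G n (toReal n r) (fun i => (x i : ℝ)) = fun i => ((G n r x i : ℚ) : ℝ)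
  | 0, _, _ => by funext i; exact i.elim0
  | n + 1, (d, l, r), x => by
      change G (n + 1) ((d : ℝ), (fun j => (l j : ℝ)), toReal n r) _ = _
      rw [G_succ, G_succ, G_toReal n r]
      funext i
      refine Fin.cases ?_ (fun j => ?_) i
      · simp only [Fin.cons_zero]; push_cast; rfl
      · simp only [Fin.cons_succ]; push_cast; rfl

theorem bil_eq {K : Type} [Field K] [NeZero (2 : K)] {n : ℕ} (r : LD K n)
    (A : Matrix (Fin n) (Fin n) K) (hA : A.IsSymm)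
    (hQ : ∀ x : Fin n → K, Q n r x = x ⬝ᵥ (A *ᵥ x)) (x y : Fin n → K) :
    bil n r x y = y ⬝ᵥ (A *ᵥ x) := by
  have h := Q_add n r x y
  rw [hQ, hQ, hQ] at h
  have hs : x ⬝ᵥ (A *ᵥ y) = y ⬝ᵥ (A *ᵥ x) := by
    rw [Matrix.dotProduct_mulVec, ← Matrix.mulVec_transpose, hA.eq, dotProduct_comm]
  rw [Matrix.mulVec_add, add_dotProduct, dotProduct_add, dotProduct_add, hs] at h
  have h2 : (2 : K) ≠ 0 := NeZero.ne 2
  have : 2 * bil n r x y = 2 * (y ⬝ᵥ (A *ᵥ x)) := by linear_combination -h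
  exact mul_left_cancel₀ h2 this

theorem G_eq {K : Type} [Field K] [NeZero (2 : K)] {n : ℕ} (r : LD K n)
    (A : Matrix (Fin n) (Fin n) K) (hA : A.IsSymm)
    (hQ : ∀ x : Fin n → K, Q n r x = x ⬝ᵥ (A *ᵥ x)) (x : Fin n → K) :
    G n r x = A *ᵥ x := by
  funext i
  have h := G_dot n r x (Pi.single i 1)
  rw [bil_eq r A hA hQ] at h
  rw [single_one_dotProduct] at h
  rw [← h]
  simp [Pi.single_apply]

/-- the real completed-squares form of an integral positive definite symmetric matrix -/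
theorem exists_real_LD (n : ℕ) (B : Matrix (Fin n) (Fin n) ℤ) (hB : B.IsSymm)
    (hpos : ∀ x : Fin n → ℤ, x ≠ 0 → 0 < x ⬝ᵥ (B *ᵥ x)) :
    ∃ r : LD ℝ n, Pos n r ∧
      (∀ x : Fin n → ℤ, Q n r (rv x) = ((x ⬝ᵥ (B *ᵥ x) : ℤ) : ℝ)) ∧
      (∀ x : Fin n → ℤ, G n r (rv x) = rv (B *ᵥ x)) := by
  have hA : (B.map (Int.cast : ℤ → ℚ)).IsSymm := by
    apply Matrix.IsSymm.ext
    intro i j
    simp only [Matrix.map_apply, hB.apply]
  obtain ⟨r, hr, hQ⟩ := exists_LD n (B.map (Int.cast : ℤ → ℚ)) hA (rat_pos B hpos)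
  have hcast : ∀ x : Fin n → ℤ, (fun i => (((x i : ℤ) : ℚ) : ℝ)) = rv x := by
    intro x; funext i; simp [rv]
  have hmv : ∀ x : Fin n → ℤ, (B.map (Int.cast : ℤ → ℚ)) *ᵥ (fun i => ((x i : ℤ) : ℚ)) =
      fun i => (((B *ᵥ x) i : ℤ) : ℚ) := by
    intro x
    funext i
    unfold mulVec dotProduct
    push_cast
    simp only [Matrix.map_apply]
  refine ⟨toReal n r, Pos_toReal n r hr, fun x => ?_, fun x => ?_⟩
  · rw [← hcast, Q_toReal, hQ, hmv]
    unfold dotProduct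
    push_cast
    rfl
  · rw [← hcast, G_toReal, G_eq r _ hA hQ, hmv, ← hcast]

end Cfsg.Agent.Lib.Helper9.ThG
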