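import Mathlib
import Cfsg.Agent.Lib.Helper9.ThF
import Cfsg.Agent.Lib.Helper9.ThG

set_option autoImplicit false

/-! The theta series of a unimodular form and its behaviour under `τ ↦ -1/τ`. -/

namespace Cfsg.Agent.Lib.Helper9.ThH

open Real Complex Finset Matrix Cfsg.Agent.Lib.Helper9.ThA Cfsg.Agent.Lib.Helper9.ThB
  Cfsg.Agent.Lib.Helper9.ThC Cfsg.Agent.Lib.Helper9.ThD Cfsg.Agent.Lib.Helper9.ThE
  Cfsg.Agent.Lib.Helper9.ThF Cfsg.Agent.Lib.Helper9.ThG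

/-- the theta series -/
noncomputable def th (n : ℕ) (r : LD ℝ n) (τ : ℂ) : ℂ :=
  ∑' x : Fin n → ℤ, cexp (π * I * τ * ((Q n r (rv x) : ℝ) : ℂ))

theorem F_zero (n : ℕ) (r : LD ℝ n) (τ : ℂ) (x : Fin n → ℤ) :
    F n r τ 0 x = cexp (π * I * τ * ((Q n r (rv x) : ℝ) : ℂ)) := by
  unfold F
  simp

theorem Fd_zero (n : ℕ) (r : LD ℝ n) (τ : ℂ) (y : Fin n → ℤ) :
    Fd n r τ 0 y = cexp (-π * I / τ * ((Qd n r (rv y) : ℝ) : ℂ)) := by
  unfold Fd
  simp only [Pi.zero_apply, sub_zero]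

theorem summable_th (n : ℕ) (r : LD ℝ n) (hr : Pos n r) (τ : ℂ) (hτ : 0 < τ.im) :
    Summable (fun x : Fin n → ℤ => cexp (π * I * τ * ((Q n r (rv x) : ℝ) : ℂ))) :=
  (summable_F n r hr τ hτ 0).congr (fun x => F_zero n r τ x)

/-- multiplication by a unimodular matrix as a bijection of the lattice -/
noncomputable def mvE {n : ℕ} (B : Matrix (Fin n) (Fin n) ℤ) (h : B.det = 1) : (Fin n → ℤ) ≃ (Fin n → ℤ) where
  toFun x := B *ᵥ x
  invFun y := B⁻¹ *ᵥ y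
  left_inv x := by
    show B⁻¹ *ᵥ (B *ᵥ x) = x
    rw [Matrix.mulVec_mulVec, Matrix.nonsing_inv_mul B (by rw [h]; exact isUnit_one),
      Matrix.one_mulVec]
  right_inv y := by
    show B *ᵥ (B⁻¹ *ᵥ y) = y
    rw [Matrix.mulVec_mulVec, Matrix.mul_nonsing_inv B (by rw [h]; exact isUnit_one),
      Matrix.one_mulVec]

theorem mvE_apply {n : ℕ} (B : Matrix (Fin n) (Fin n) ℤ) (h : B.det = 1) (x : Fin n → ℤ) :
    mvE B h x = B *ᵥ x := rfl

/-- the raw inversion formula for a form whose Gram map preserves the lattice -/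
theorem th_inv_raw (n : ℕ) (r : LD ℝ n) (hr : Pos n r) (e : (Fin n → ℤ) ≃ (Fin n → ℤ))
    (he : ∀ x, G n r (rv x) = rv (e x)) (τ : ℂ) (hτ : 0 < τ.im) :
    th n r τ = Cfac n r τ * th n r (-1 / τ) := by
  unfold th
  rw [← tsum_congr (fun x => F_zero n r τ x), theta_inv n r hr τ hτ 0]
  congr 1
  rw [← Equiv.tsum_eq e]
  apply tsum_congr
  intro x
  rw [Fd_zero, ← he, Qd_G n r (Pos.nz n r hr)]
  congr 1
  ring

theorem mul_ofReal_cpow (z : ℂ) (hz : z ≠ 0) (d : ℝ) (hd : 0 < d) (w : ℂ) :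
    (z * d) ^ w = (d : ℂ) ^ w * z ^ w := by
  have hd0 : (d : ℂ) ≠ 0 := by exact_mod_cast hd.ne'
  rw [cpow_def_of_ne_zero (mul_ne_zero hz hd0), cpow_def_of_ne_zero hd0, cpow_def_of_ne_zero hz,
    log_mul_ofReal d hd z hz, ← Complex.exp_add, Complex.ofReal_log hd.le]
  congr 1
  ring

theorem Cfac_eq : ∀ (n : ℕ) (r : LD ℝ n), Pos n r → ∀ τ : ℂ, 0 < τ.im →
    Cfac n r τ = Cfac n r I * (((-I * τ) ^ (1 / 2 : ℂ))⁻¹) ^ n
  | 0, _, _, _, _ => by simp [Cfac]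
  | n + 1, (d, l, r), h, τ, hτ => by
      rw [Cfac_succ, Cfac_succ, Cfac_eq n r h.2 τ hτ]
      have hτ0 : τ ≠ 0 := by
        intro h0; rw [h0] at hτ; simp at hτ
      have hz : -I * τ ≠ 0 := mul_ne_zero (neg_ne_zero.mpr I_ne_zero) hτ0
      rw [mul_ofReal_cpow (-I * τ) hz d h.1]
      have h1 : -I * I = 1 := by rw [neg_mul, I_mul_I, neg_neg]
      rw [h1, one_mul, pow_succ]
      have hd0 : (d : ℂ) ^ (1 / 2 : ℂ) ≠ 0 := by
        rw [Ne, cpow_eq_zero_iff]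
        push Not
        intro h0
        exact absurd h0 (by exact_mod_cast h.1.ne')
      have hz0 : (-I * τ) ^ (1 / 2 : ℂ) ≠ 0 := by
        rw [Ne, cpow_eq_zero_iff]
        push Not
        intro h0
        exact absurd h0 hz
      field_simp

theorem th_I_pos (n : ℕ) (r : LD ℝ n) (hr : Pos n r) : th n r I ≠ 0 := by
  unfold th
  have h1 : ∀ x : Fin n → ℤ, cexp (π * I * I * ((Q n r (rv x) : ℝ) : ℂ)) =
      ((rexp (-π * Q n r (rv x)) : ℝ) : ℂ) := by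
    intro x
    rw [Complex.ofReal_exp]
    congr 1
    rw [mul_assoc (π : ℂ), I_mul_I]
    push_cast
    ring
  rw [tsum_congr h1, ← Complex.ofReal_tsum]
  have hs := summable_Q n r hr π pi_pos
  have hpos : 0 < ∑' x : Fin n → ℤ, rexp (-π * Q n r (rv x)) :=
    hs.tsum_pos (fun x => (Real.exp_pos _).le) 0 (Real.exp_pos _)
  exact_mod_cast hpos.ne'

theorem Cfac_I (n : ℕ) (r : LD ℝ n) (hr : Pos n r) (e : (Fin n → ℤ) ≃ (Fin n → ℤ))
    (he : ∀ x, G n r (rv x) = rv (e x)) : Cfac n r I = 1 := by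
  have h := th_inv_raw n r hr e he I (by simp)
  have h1 : (-1 : ℂ) / I = I := by
    rw [div_eq_iff I_ne_zero, I_mul_I]
  rw [h1] at h
  have h2 := th_I_pos n r hr
  have : (Cfac n r I - 1) * th n r I = 0 := by linear_combination -h
  rcases mul_eq_zero.mp this with h3 | h3
  · linear_combination h3
  · exact absurd h3 h2

theorem sqrt_pow_24 (z : ℂ) : (z ^ (1 / 2 : ℂ)) ^ 24 = z ^ 12 := by
  have h : (z ^ (1 / 2 : ℂ)) ^ 2 = z := by
    have := Complex.cpow_nat_inv_pow z (n := 2) (by norm_num)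
    rw [show (1 / 2 : ℂ) = ((2 : ℕ) : ℂ)⁻¹ by norm_num]
    exact this
  rw [show (24 : ℕ) = 2 * 12 by norm_num, pow_mul, h]

/-- the inversion formula in rank `24` -/
theorem th_inv (r : LD ℝ 24) (hr : Pos 24 r) (e : (Fin 24 → ℤ) ≃ (Fin 24 → ℤ))
    (he : ∀ x, G 24 r (rv x) = rv (e x)) (τ : ℂ) (hτ : 0 < τ.im) :
    th 24 r (-1 / τ) = τ ^ 12 * th 24 r τ := by
  have h := th_inv_raw 24 r hr e he τ hτ
  rw [Cfac_eq 24 r hr τ hτ, Cfac_I 24 r hr e he, one_mul, inv_pow, sqrt_pow_24, mul_pow] at h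
  have h12 : (-I) ^ 12 = 1 := by
    rw [show (12 : ℕ) = 2 * 6 by norm_num, pow_mul, neg_sq, I_sq]
    norm_num
  rw [h12, one_mul] at h
  have hτ0 : τ ≠ 0 := by
    intro h0; rw [h0] at hτ; simp at hτ
  rw [h]
  field_simp

end Cfsg.Agent.Lib.Helper9.ThH
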