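import Mathlib
import Cfsg.Agent.Lib.Helper9.ThH

set_option autoImplicit false

/-! The theta series of an even unimodular form of rank `24` as a modular form. -/

namespace Cfsg.Agent.Lib.Helper9.ThI

open Real Complex Finset Matrix Cfsg.Agent.Lib.Helper9.ThA Cfsg.Agent.Lib.Helper9.ThB
  Cfsg.Agent.Lib.Helper9.ThC Cfsg.Agent.Lib.Helper9.ThD Cfsg.Agent.Lib.Helper9.ThE
  Cfsg.Agent.Lib.Helper9.ThF Cfsg.Agent.Lib.Helper9.ThG Cfsg.Agent.Lib.Helper9.ThH

open UpperHalfPlane hiding I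
open scoped MatrixGroups ModularForm Manifold Topology

theorem norm_term (n : ℕ) (r : LD ℝ n) (τ : ℂ) (x : Fin n → ℤ) :
    ‖cexp (π * I * τ * ((Q n r (rv x) : ℝ) : ℂ))‖ = rexp (-(π * τ.im) * Q n r (rv x)) := by
  rw [← F_zero, norm_F]

theorem Q_nonneg : ∀ (n : ℕ) (r : LD ℝ n), Pos n r → ∀ x : Fin n → ℝ, 0 ≤ Q n r x
  | 0, _, _, _ => le_refl _
  | n + 1, (d, l, r), h, x => by
      rw [Q_succ]
      have := Q_nonneg n r h.2 (fun j => x j.succ)
      have hd : 0 < d := h.1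
      positivity

theorem diff_th (n : ℕ) (r : LD ℝ n) (hr : Pos n r) :
    DifferentiableOn ℂ (th n r) {z : ℂ | 0 < z.im} := by
  intro z hz
  have hz' : 0 < z.im := hz
  have hδ : 0 < z.im / 2 := by positivity
  have hopen : IsOpen {w : ℂ | z.im / 2 < w.im} :=
    isOpen_lt continuous_const Complex.continuous_im
  have hd : DifferentiableOn ℂ (fun w : ℂ => ∑' x : Fin n → ℤ,
      cexp (π * I * w * ((Q n r (rv x) : ℝ) : ℂ))) {w : ℂ | z.im / 2 < w.im} := by
    refine differentiableOn_tsum_of_summable_norm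
      (u := fun x : Fin n → ℤ => rexp (-(π * (z.im / 2)) * Q n r (rv x)))
      (summable_Q n r hr (π * (z.im / 2)) (mul_pos pi_pos hδ)) (fun x => ?_) hopen
      (fun x w hw => ?_)
    · apply Differentiable.differentiableOn
      fun_prop
    · rw [norm_term]
      apply Real.exp_le_exp.mpr
      have hw' : z.im / 2 < w.im := hw
      have hQ := Q_nonneg n r hr (rv x)
      have : π * (z.im / 2) ≤ π * w.im := mul_le_mul_of_nonneg_left hw'.le pi_pos.le
      nlinarith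
  have hmem : {w : ℂ | z.im / 2 < w.im} ∈ 𝓝 z := hopen.mem_nhds (by
    show z.im / 2 < z.im
    linarith)
  exact (hd.differentiableAt hmem).differentiableWithinAt

/-- the theta series on the upper half plane -/
noncomputable def Th (r : LD ℝ 24) (z : ℍ) : ℂ := th 24 r (z : ℂ)

theorem Th_mdiff (r : LD ℝ 24) (hr : Pos 24 r) : MDiff (Th r) := by
  rw [UpperHalfPlane.mdifferentiable_iff]
  refine (diff_th 24 r hr).congr (fun z hz => ?_)
  simp [Th, ofComplex_apply_of_im_pos hz]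

theorem Th_bdd (r : LD ℝ 24) (hr : Pos 24 r) : IsBoundedAtImInfty (Th r) := by
  rw [UpperHalfPlane.isBoundedAtImInfty_iff]
  refine ⟨∑' x : Fin 24 → ℤ, rexp (-π * Q 24 r (rv x)), 1, fun z hz => ?_⟩
  unfold Th th
  have hs := summable_Q 24 r hr π pi_pos
  have hn : Summable (fun x : Fin 24 → ℤ =>
      ‖cexp (π * I * (z : ℂ) * ((Q 24 r (rv x) : ℝ) : ℂ))‖) := by
    simp only [norm_term]
    exact summable_Q 24 r hr _ (mul_pos pi_pos z.im_pos)
  refine (norm_tsum_le_tsum_norm hn).trans ?_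
  refine hn.tsum_le_tsum (fun x => ?_) hs
  rw [norm_term]
  apply Real.exp_le_exp.mpr
  have hQ := Q_nonneg 24 r hr (rv x)
  have h1 : (1 : ℝ) ≤ (z : ℂ).im := hz
  have : π * 1 ≤ π * (z : ℂ).im := mul_le_mul_of_nonneg_left h1 pi_pos.le
  nlinarith

theorem th_add_one (n : ℕ) (r : LD ℝ n) (N : (Fin n → ℤ) → ℕ)
    (hN : ∀ x, Q n r (rv x) = 2 * (N x : ℝ)) (τ : ℂ) : th n r (τ + 1) = th n r τ := by
  unfold th
  apply tsum_congr
  intro x
  rw [hN]
  have : (π : ℂ) * I * (τ + 1) * ((2 * (N x : ℝ) : ℝ) : ℂ) =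
      π * I * τ * ((2 * (N x : ℝ) : ℝ) : ℂ) + (N x : ℂ) * (2 * π * I) := by
    push_cast; ring
  rw [this, Complex.exp_add, Complex.exp_nat_mul_two_pi_mul_I, mul_one]

set_option backward.isDefEq.respectTransparency.types false in
theorem Th_T (r : LD ℝ 24) (N : (Fin 24 → ℤ) → ℕ)
    (hN : ∀ x, Q 24 r (rv x) = 2 * (N x : ℝ)) :
    (Th r ∣[(12 : ℤ)] ModularGroup.T) = Th r := by
  ext z
  rw [ModularForm.SL_slash_apply, denom, modular_T_smul, ModularGroup.T]
  have h := th_add_one 24 r N hN (z : ℂ)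
  simp [Th, add_comm, h]

set_option backward.isDefEq.respectTransparency.types false in
theorem Th_S (r : LD ℝ 24) (hr : Pos 24 r) (e : (Fin 24 → ℤ) ≃ (Fin 24 → ℤ))
    (he : ∀ x, G 24 r (rv x) = rv (e x)) :
    (Th r ∣[(12 : ℤ)] ModularGroup.S) = Th r := by
  ext z
  have h := th_inv r hr e he (z : ℂ) z.im_pos
  suffices th 24 r (-(↑z)⁻¹) * ((z : ℂ) ^ 12)⁻¹ = th 24 r z by
    rw [ModularForm.SL_slash_apply, UpperHalfPlane.modular_S_smul]
    simpa [denom, ModularGroup.S, Th]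
  have e1 : (-1 : ℂ) / (z : ℂ) = -(↑z)⁻¹ := by rw [neg_div, one_div]
  rw [e1] at h
  rw [h]
  have hz : (z : ℂ) ≠ 0 := z.ne_zero
  field_simp

/-- the theta series as a modular form of weight `12` -/
noncomputable def ThMF (r : LD ℝ 24) (hr : Pos 24 r) (e : (Fin 24 → ℤ) ≃ (Fin 24 → ℤ))
    (he : ∀ x, G 24 r (rv x) = rv (e x)) (N : (Fin 24 → ℤ) → ℕ)
    (hN : ∀ x, Q 24 r (rv x) = 2 * (N x : ℝ)) : ModularForm 𝒮ℒ 12 where
  toFun := Th r
  slash_action_eq' A hA := by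
    obtain ⟨A, rfl⟩ := hA
    exact SlashInvariantForm.slash_action_generators_SL2Z (Th_S r hr e he) (Th_T r N hN) A
  holo' := Th_mdiff r hr
  bdd_at_cusps' {c} hc := by
    rw [Subgroup.IsArithmetic.isCusp_iff_isCusp_SL2Z] at hc
    rw [OnePoint.isBoundedAt_iff_forall_SL2Z hc]
    intro γ _
    rw [SlashInvariantForm.slash_action_generators_SL2Z (Th_S r hr e he) (Th_T r N hN)]
    exact Th_bdd r hr

theorem ThMF_apply (r : LD ℝ 24) (hr : Pos 24 r) (e : (Fin 24 → ℤ) ≃ (Fin 24 → ℤ))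
    (he : ∀ x, G 24 r (rv x) = rv (e x)) (N : (Fin 24 → ℤ) → ℕ)
    (hN : ∀ x, Q 24 r (rv x) = 2 * (N x : ℝ)) (z : ℍ) :
    ThMF r hr e he N hN z = th 24 r (z : ℂ) := rfl

end Cfsg.Agent.Lib.Helper9.ThI
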