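import Mathlib
import Cfsg.Agent.Lib.Helper9.ThI

set_option autoImplicit false

/-! The `q`-expansion of the theta series. -/

namespace Cfsg.Agent.Lib.Helper9.ThJ

open Real Complex Finset Matrix Cfsg.Agent.Lib.Helper9.ThA Cfsg.Agent.Lib.Helper9.ThB
  Cfsg.Agent.Lib.Helper9.ThC Cfsg.Agent.Lib.Helper9.ThD Cfsg.Agent.Lib.Helper9.ThE
  Cfsg.Agent.Lib.Helper9.ThF Cfsg.Agent.Lib.Helper9.ThG Cfsg.Agent.Lib.Helper9.ThH
  Cfsg.Agent.Lib.Helper9.ThI

open UpperHalfPlane hiding I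
open scoped MatrixGroups ModularForm Manifold Topology

theorem term_eq (n : ℕ) (r : LD ℝ n) (N : (Fin n → ℤ) → ℕ)
    (hN : ∀ x, Q n r (rv x) = 2 * (N x : ℝ)) (τ : ℂ) (x : Fin n → ℤ) :
    cexp (π * I * τ * ((Q n r (rv x) : ℝ) : ℂ)) = Function.Periodic.qParam 1 τ ^ (N x) := by
  unfold Function.Periodic.qParam
  rw [← Complex.exp_nat_mul, hN]
  congr 1
  push_cast
  ring

theorem fibre_finite (n : ℕ) (r : LD ℝ n) (hr : Pos n r) (N : (Fin n → ℤ) → ℕ)
    (hN : ∀ x, Q n r (rv x) = 2 * (N x : ℝ)) (m : ℕ) : Finite {x : Fin n → ℤ // N x = m} := by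
  by_contra hinf
  rw [not_finite_iff_infinite] at hinf
  have hs := (summable_th n r hr I (by simp)).subtype (fun x => N x = m)
  have hc : ∀ c : {x : Fin n → ℤ // N x = m},
      ((fun x : Fin n → ℤ => cexp (π * I * I * ((Q n r (rv x) : ℝ) : ℂ))) ∘ Subtype.val) c =
        Function.Periodic.qParam 1 I ^ m := by
    intro c
    show cexp (π * I * I * ((Q n r (rv c.1) : ℝ) : ℂ)) = _
    rw [term_eq n r N hN, c.2]
  have hs' : Summable (fun _ : {x : Fin n → ℤ // N x = m} => Function.Periodic.qParam 1 I ^ m) :=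
    hs.congr hc
  rw [summable_const_iff] at hs'
  have : Function.Periodic.qParam 1 I ≠ 0 := by
    unfold Function.Periodic.qParam
    exact Complex.exp_ne_zero _
  exact pow_ne_zero m this hs'

theorem hasSum_q (n : ℕ) (r : LD ℝ n) (hr : Pos n r) (N : (Fin n → ℤ) → ℕ)
    (hN : ∀ x, Q n r (rv x) = 2 * (N x : ℝ)) (τ : ℂ) (hτ : 0 < τ.im) :
    HasSum (fun m : ℕ => (Nat.card {x : Fin n → ℤ // N x = m} : ℂ) •
      Function.Periodic.qParam 1 τ ^ m) (th n r τ) := by
  have h1 : HasSum (fun x : Fin n → ℤ => Function.Periodic.qParam 1 τ ^ (N x)) (th n r τ) := by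
    have h0 : HasSum (fun x : Fin n → ℤ => cexp (π * I * τ * ((Q n r (rv x) : ℝ) : ℂ)))
        (th n r τ) := (summable_th n r hr τ hτ).hasSum
    have hfe : (fun x : Fin n → ℤ => cexp (π * I * τ * ((Q n r (rv x) : ℝ) : ℂ))) =
        fun x : Fin n → ℤ => Function.Periodic.qParam 1 τ ^ (N x) := by
      funext x; exact term_eq n r N hN τ x
    rw [hfe] at h0
    exact h0
  have h2 : HasSum (fun p : (m : ℕ) × {x : Fin n → ℤ // N x = m} =>
      Function.Periodic.qParam 1 τ ^ (N (Equiv.sigmaFiberEquiv N p))) (th n r τ) :=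
    (Equiv.sigmaFiberEquiv N).hasSum_iff.mpr h1
  refine HasSum.sigma h2 (fun m => ?_)
  have := fibre_finite n r hr N hN m
  haveI : Fintype {x : Fin n → ℤ // N x = m} := Fintype.ofFinite _
  have h3 := hasSum_fintype (fun c : {x : Fin n → ℤ // N x = m} =>
      Function.Periodic.qParam 1 τ ^ (N (Equiv.sigmaFiberEquiv N ⟨m, c⟩)))
  have h4 : ∑ c : {x : Fin n → ℤ // N x = m},
      Function.Periodic.qParam 1 τ ^ (N (Equiv.sigmaFiberEquiv N ⟨m, c⟩)) =
      (Nat.card {x : Fin n → ℤ // N x = m} : ℂ) • Function.Periodic.qParam 1 τ ^ m := by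
    have : ∀ c : {x : Fin n → ℤ // N x = m},
        Function.Periodic.qParam 1 τ ^ (N (Equiv.sigmaFiberEquiv N ⟨m, c⟩)) =
          Function.Periodic.qParam 1 τ ^ m := by
      intro c
      show Function.Periodic.qParam 1 τ ^ (N c.1) = _
      rw [c.2]
    rw [Finset.sum_congr rfl (fun c _ => this c), Finset.sum_const, Finset.card_univ,
      Nat.card_eq_fintype_card, nsmul_eq_mul, smul_eq_mul]
  rw [h4] at h3
  exact h3

/-- the `q`-expansion coefficients of the theta series count vectors -/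
theorem ThMF_coeff (r : LD ℝ 24) (hr : Pos 24 r) (e : (Fin 24 → ℤ) ≃ (Fin 24 → ℤ))
    (he : ∀ x, G 24 r (rv x) = rv (e x)) (N : (Fin 24 → ℤ) → ℕ)
    (hN : ∀ x, Q 24 r (rv x) = 2 * (N x : ℝ)) (m : ℕ) :
    (qExpansion 1 (ThMF r hr e he N hN)).coeff m =
      (Nat.card {x : Fin 24 → ℤ // N x = m} : ℂ) := by
  symm
  exact ModularFormClass.qExpansion_coeff_unique
    (c := fun m => (Nat.card {x : Fin 24 → ℤ // N x = m} : ℂ)) one_pos
    one_mem_strictPeriods_SL
    (f := ThMF r hr e he N hN) (fun τ => hasSum_q 24 r hr N hN (τ : ℂ) τ.im_pos) m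

end Cfsg.Agent.Lib.Helper9.ThJ
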