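import Mathlib

set_option autoImplicit false

/-! Coefficients of `E₄³` and `E₆²`. -/

namespace Cfsg.Agent.Lib.Helper9.ThK

open UpperHalfPlane ModularForm EisensteinSeries ArithmeticFunction
open scoped MatrixGroups ArithmeticFunction.sigma

theorem sig3 : σ 3 1 = 1 ∧ σ 3 2 = 9 ∧ σ 3 3 = 28 ∧ σ 3 4 = 73 := by
  refine ⟨?_, ?_, ?_, ?_⟩ <;> rw [sigma_apply] <;> decide

theorem sig5 : σ 5 1 = 1 ∧ σ 5 2 = 33 ∧ σ 5 3 = 244 ∧ σ 5 4 = 1057 := by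
  refine ⟨?_, ?_, ?_, ?_⟩ <;> rw [sigma_apply] <;> decide

theorem b4 : bernoulli 4 = -1 / 30 := by decide +kernel
theorem b6 : bernoulli 6 = 1 / 42 := by decide +kernel

theorem E4_c (m : ℕ) (hm : m ≠ 0) : (qExpansion 1 E₄).coeff m = 240 * (σ 3 m : ℂ) := by
  rw [E_qExpansion_coeff _ ⟨2, rfl⟩, if_neg hm, b4]
  norm_num

theorem E6_c (m : ℕ) (hm : m ≠ 0) : (qExpansion 1 E₆).coeff m = -504 * (σ 5 m : ℂ) := by
  rw [E_qExpansion_coeff _ ⟨3, rfl⟩, if_neg hm, b6]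
  norm_num


theorem mul5 (f g : PowerSeries ℂ) (a0 a1 a2 a3 a4 b0 b1 b2 b3 b4 : ℂ)
    (ha0 : f.coeff 0 = a0) (ha1 : f.coeff 1 = a1) (ha2 : f.coeff 2 = a2) (ha3 : f.coeff 3 = a3)
    (ha4 : f.coeff 4 = a4)
    (hb0 : g.coeff 0 = b0) (hb1 : g.coeff 1 = b1) (hb2 : g.coeff 2 = b2) (hb3 : g.coeff 3 = b3)
    (hb4 : g.coeff 4 = b4) :
    (f * g).coeff 0 = a0 * b0 ∧ (f * g).coeff 1 = a0 * b1 + a1 * b0 ∧
    (f * g).coeff 2 = a0 * b2 + a1 * b1 + a2 * b0 ∧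
    (f * g).coeff 3 = a0 * b3 + a1 * b2 + a2 * b1 + a3 * b0 ∧
    (f * g).coeff 4 = a0 * b4 + a1 * b3 + a2 * b2 + a3 * b1 + a4 * b0 := by
  refine ⟨?_, ?_, ?_, ?_, ?_⟩
  · simp [PowerSeries.coeff_mul, ha0, hb0]
  · simp [PowerSeries.coeff_mul, Finset.Nat.antidiagonal_succ, ha0, ha1, hb0, hb1]
  · simp [PowerSeries.coeff_mul, Finset.Nat.antidiagonal_succ, ha0, ha1, ha2, hb0, hb1, hb2]
    ring
  · simp [PowerSeries.coeff_mul, Finset.Nat.antidiagonal_succ, ha0, ha1, ha2, ha3, hb0, hb1, hb2,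
      hb3]
    ring
  · simp [PowerSeries.coeff_mul, Finset.Nat.antidiagonal_succ, ha0, ha1, ha2, ha3, ha4, hb0, hb1,
      hb2, hb3, hb4]
    ring

theorem E4_coeffs : (qExpansion 1 E₄).coeff 0 = 1 ∧ (qExpansion 1 E₄).coeff 1 = 240 ∧
    (qExpansion 1 E₄).coeff 2 = 2160 ∧ (qExpansion 1 E₄).coeff 3 = 6720 ∧
    (qExpansion 1 E₄).coeff 4 = 17520 := by
  refine ⟨E_qExpansion_coeff_zero _ ⟨2, rfl⟩, ?_, ?_, ?_, ?_⟩
  · rw [E4_c 1 (by norm_num), sig3.1]; norm_num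
  · rw [E4_c 2 (by norm_num), sig3.2.1]; norm_num
  · rw [E4_c 3 (by norm_num), sig3.2.2.1]; norm_num
  · rw [E4_c 4 (by norm_num), sig3.2.2.2]; norm_num

theorem E6_coeffs : (qExpansion 1 E₆).coeff 0 = 1 ∧ (qExpansion 1 E₆).coeff 1 = -504 ∧
    (qExpansion 1 E₆).coeff 2 = -16632 ∧ (qExpansion 1 E₆).coeff 3 = -122976 ∧
    (qExpansion 1 E₆).coeff 4 = -532728 := by
  refine ⟨E_qExpansion_coeff_zero _ ⟨3, rfl⟩, ?_, ?_, ?_, ?_⟩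
  · rw [E6_c 1 (by norm_num), sig5.1]; norm_num
  · rw [E6_c 2 (by norm_num), sig5.2.1]; norm_num
  · rw [E6_c 3 (by norm_num), sig5.2.2.1]; norm_num
  · rw [E6_c 4 (by norm_num), sig5.2.2.2]; norm_num

theorem E4sq_coeffs : (qExpansion 1 E₄ * qExpansion 1 E₄).coeff 0 = 1 ∧
    (qExpansion 1 E₄ * qExpansion 1 E₄).coeff 1 = 480 ∧
    (qExpansion 1 E₄ * qExpansion 1 E₄).coeff 2 = 61920 ∧
    (qExpansion 1 E₄ * qExpansion 1 E₄).coeff 3 = 1050240 ∧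
    (qExpansion 1 E₄ * qExpansion 1 E₄).coeff 4 = 7926240 := by
  obtain ⟨h0, h1, h2, h3, h4⟩ := E4_coeffs
  obtain ⟨k0, k1, k2, k3, k4⟩ := mul5 _ _ _ _ _ _ _ _ _ _ _ _ h0 h1 h2 h3 h4 h0 h1 h2 h3 h4
  refine ⟨?_, ?_, ?_, ?_, ?_⟩
  · rw [k0]; norm_num
  · rw [k1]; norm_num
  · rw [k2]; norm_num
  · rw [k3]; norm_num
  · rw [k4]; norm_num

theorem E4cu_coeffs : (qExpansion 1 E₄ * qExpansion 1 E₄ * qExpansion 1 E₄).coeff 0 = 1 ∧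
    (qExpansion 1 E₄ * qExpansion 1 E₄ * qExpansion 1 E₄).coeff 1 = 720 ∧
    (qExpansion 1 E₄ * qExpansion 1 E₄ * qExpansion 1 E₄).coeff 2 = 179280 ∧
    (qExpansion 1 E₄ * qExpansion 1 E₄ * qExpansion 1 E₄).coeff 3 = 16954560 ∧
    (qExpansion 1 E₄ * qExpansion 1 E₄ * qExpansion 1 E₄).coeff 4 = 396974160 := by
  obtain ⟨h0, h1, h2, h3, h4⟩ := E4_coeffs
  obtain ⟨s0, s1, s2, s3, s4⟩ := E4sq_coeffs
  obtain ⟨k0, k1, k2, k3, k4⟩ := mul5 _ _ _ _ _ _ _ _ _ _ _ _ s0 s1 s2 s3 s4 h0 h1 h2 h3 h4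
  refine ⟨?_, ?_, ?_, ?_, ?_⟩
  · rw [k0]; norm_num
  · rw [k1]; norm_num
  · rw [k2]; norm_num
  · rw [k3]; norm_num
  · rw [k4]; norm_num

theorem E6sq_coeffs : (qExpansion 1 E₆ * qExpansion 1 E₆).coeff 0 = 1 ∧
    (qExpansion 1 E₆ * qExpansion 1 E₆).coeff 1 = -1008 ∧
    (qExpansion 1 E₆ * qExpansion 1 E₆).coeff 2 = 220752 ∧
    (qExpansion 1 E₆ * qExpansion 1 E₆).coeff 3 = 16519104 ∧
    (qExpansion 1 E₆ * qExpansion 1 E₆).coeff 4 = 399517776 := by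
  obtain ⟨h0, h1, h2, h3, h4⟩ := E6_coeffs
  obtain ⟨k0, k1, k2, k3, k4⟩ := mul5 _ _ _ _ _ _ _ _ _ _ _ _ h0 h1 h2 h3 h4 h0 h1 h2 h3 h4
  refine ⟨?_, ?_, ?_, ?_, ?_⟩
  · rw [k0]; norm_num
  · rw [k1]; norm_num
  · rw [k2]; norm_num
  · rw [k3]; norm_num
  · rw [k4]; norm_num

/-- the modular form `(7 E₄³ + 5 E₆²) / 12` -/
noncomputable def Ecomb : ModularForm 𝒮ℒ 12 :=
  (7 / 12 : ℂ) • ModularForm.mcast (by decide) (E₄.pow 3) +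
    (5 / 12 : ℂ) • ModularForm.mcast (by decide) (E₆.pow 2)

theorem Ecomb_qExpansion : qExpansion 1 Ecomb =
    (7 / 12 : ℂ) • (qExpansion 1 E₄ * qExpansion 1 E₄ * qExpansion 1 E₄) +
      (5 / 12 : ℂ) • (qExpansion 1 E₆ * qExpansion 1 E₆) := by
  unfold Ecomb
  rw [FunLike.coe_add, ModularForm.qExpansion_add one_pos one_mem_strictPeriods_SL,
    FunLike.coe_smul, FunLike.coe_smul,
    ModularForm.qExpansion_smul one_pos one_mem_strictPeriods_SL,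
    ModularForm.qExpansion_smul one_pos one_mem_strictPeriods_SL]
  simp only [ModularForm.qExpansion_mcast, ModularForm.qExpansion_pow one_pos one_mem_strictPeriods_SL]
  rw [pow_succ, pow_succ, pow_one, pow_succ, pow_one]

theorem Ecomb_coeffs : (qExpansion 1 Ecomb).coeff 0 = 1 ∧ (qExpansion 1 Ecomb).coeff 1 = 0 ∧
    (qExpansion 1 Ecomb).coeff 2 = 196560 ∧ (qExpansion 1 Ecomb).coeff 3 = 16773120 ∧
    (qExpansion 1 Ecomb).coeff 4 = 398034000 := by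
  obtain ⟨h0, h1, h2, h3, h4⟩ := E4cu_coeffs
  obtain ⟨s0, s1, s2, s3, s4⟩ := E6sq_coeffs
  rw [Ecomb_qExpansion]
  simp only [map_add, PowerSeries.coeff_smul, smul_eq_mul, h0, h1, h2, h3, h4, s0, s1, s2, s3, s4]
  norm_num

end Cfsg.Agent.Lib.Helper9.ThK
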