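import Mathlib
import Cfsg.Agent.Lib.Helper9.ThJ
import Cfsg.Agent.Lib.Helper9.ThK

set_option autoImplicit false

/-! Numbers of short vectors in an even unimodular lattice of rank `24` without roots. -/

namespace Cfsg.Agent.Lib.Helper9.ThL

open Real Complex Finset Matrix Cfsg.Agent.Lib.Helper9.ThA Cfsg.Agent.Lib.Helper9.ThB
  Cfsg.Agent.Lib.Helper9.ThC Cfsg.Agent.Lib.Helper9.ThD Cfsg.Agent.Lib.Helper9.ThE
  Cfsg.Agent.Lib.Helper9.ThF Cfsg.Agent.Lib.Helper9.ThG Cfsg.Agent.Lib.Helper9.ThH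
  Cfsg.Agent.Lib.Helper9.ThI Cfsg.Agent.Lib.Helper9.ThJ Cfsg.Agent.Lib.Helper9.ThK

open UpperHalfPlane hiding I
open ModularForm
open scoped MatrixGroups ModularForm Manifold Topology

theorem main (B : Matrix (Fin 24) (Fin 24) ℤ) (hsymm : B.IsSymm)
    (hpos : ∀ x : Fin 24 → ℤ, x ≠ 0 → 0 < x ⬝ᵥ (B *ᵥ x))
    (heven : ∀ x : Fin 24 → ℤ, (2 : ℤ) ∣ x ⬝ᵥ (B *ᵥ x)) (hdet : B.det = 1)
    (h2 : ∀ x : Fin 24 → ℤ, x ⬝ᵥ (B *ᵥ x) ≠ 2) :
    {x : Fin 24 → ℤ | x ⬝ᵥ (B *ᵥ x) = 4}.ncard = 196560 ∧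
    {x : Fin 24 → ℤ | x ⬝ᵥ (B *ᵥ x) = 6}.ncard = 16773120 ∧
    {x : Fin 24 → ℤ | x ⬝ᵥ (B *ᵥ x) = 8}.ncard = 398034000 := by
  obtain ⟨r, hr, hQ, hG⟩ := exists_real_LD 24 B hsymm hpos
  have hnn : ∀ x : Fin 24 → ℤ, 0 ≤ x ⬝ᵥ (B *ᵥ x) := by
    intro x
    by_cases hx : x = 0
    · subst hx; simp
    · exact (hpos x hx).le
  obtain ⟨N, hNint⟩ : ∃ N : (Fin 24 → ℤ) → ℕ, ∀ x, x ⬝ᵥ (B *ᵥ x) = 2 * (N x : ℤ) := by
    refine ⟨fun x => (x ⬝ᵥ (B *ᵥ x) / 2).toNat, fun x => ?_⟩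
    obtain ⟨k, hk⟩ := heven x
    have := hnn x
    show x ⬝ᵥ (B *ᵥ x) = 2 * (((x ⬝ᵥ (B *ᵥ x) / 2).toNat : ℕ) : ℤ)
    omega
  have hN : ∀ x, Q 24 r (rv x) = 2 * (N x : ℝ) := by
    intro x
    rw [hQ, hNint]
    push_cast
    ring
  have he : ∀ x, G 24 r (rv x) = rv (mvE B hdet x) := hG
  have hc := ThMF_coeff r hr (mvE B hdet) he N hN
  -- the count of vectors with `N x = 0`
  have hN0 : Nat.card {x : Fin 24 → ℤ // N x = 0} = 1 := by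
    rw [Nat.card_eq_one_iff_exists]
    have h00 : N 0 = 0 := by
      have := hNint 0
      simp at this
      exact this
    refine ⟨⟨0, h00⟩, fun y => ?_⟩
    apply Subtype.ext
    show y.1 = 0
    by_contra hy
    have h1 := hpos y.1 hy
    rw [hNint, y.2] at h1
    simp at h1
  have hN1 : Nat.card {x : Fin 24 → ℤ // N x = 1} = 0 := by
    have : IsEmpty {x : Fin 24 → ℤ // N x = 1} :=
      ⟨fun y => h2 y.1 (by rw [hNint, y.2]; rfl)⟩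
    exact Nat.card_of_isEmpty
  -- the difference vanishes
  have hD : ThMF r hr (mvE B hdet) he N hN - Ecomb = 0 := by
    apply sturm_bound_levelOne
    have hq : qExpansion 1 ((ThMF r hr (mvE B hdet) he N hN - Ecomb : ModularForm 𝒮ℒ 12) : ℍ → ℂ) =
        qExpansion 1 (ThMF r hr (mvE B hdet) he N hN) - qExpansion 1 Ecomb := by
      rw [FunLike.coe_sub, ModularForm.qExpansion_sub one_pos one_mem_strictPeriods_SL]
    have h2le : ((2 : ℕ) : ℕ∞) ≤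
        (qExpansion 1 ((ThMF r hr (mvE B hdet) he N hN - Ecomb : ModularForm 𝒮ℒ 12) :
          ℍ → ℂ)).order := by
      apply PowerSeries.nat_le_order
      intro i hi
      rw [hq, map_sub, hc]
      interval_cases i
      · rw [hN0, Ecomb_coeffs.1]; norm_num
      · rw [hN1, Ecomb_coeffs.2.1]; norm_num
    refine lt_of_lt_of_le ?_ h2le
    exact_mod_cast (by decide : (12 : ℤ).toNat / 12 < 2)
  have hΘ : ThMF r hr (mvE B hdet) he N hN = Ecomb := sub_eq_zero.mp hD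
  rw [hΘ] at hc
  have key : ∀ (v : ℤ) (m k : ℕ), v = 2 * (m : ℤ) → (qExpansion 1 Ecomb).coeff m = (k : ℂ) →
      {x : Fin 24 → ℤ | x ⬝ᵥ (B *ᵥ x) = v}.ncard = k := by
    intro v m k hv hk
    have hset : {x : Fin 24 → ℤ | x ⬝ᵥ (B *ᵥ x) = v} = {x : Fin 24 → ℤ | N x = m} := by
      ext x
      simp only [Set.mem_ofPred_eq, hNint, hv]
      omega
    rw [hset, ← Nat.card_coe_set_eq]
    have h3 : (Nat.card {x : Fin 24 → ℤ // N x = m} : ℂ) = (k : ℂ) := by rw [← hc, hk]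
    exact_mod_cast h3
  refine ⟨key 4 2 196560 (by norm_num) ?_, key 6 3 16773120 (by norm_num) ?_,
    key 8 4 398034000 (by norm_num) ?_⟩
  · rw [Ecomb_coeffs.2.2.1]; norm_num
  · rw [Ecomb_coeffs.2.2.2.1]; norm_num
  · rw [Ecomb_coeffs.2.2.2.2]; norm_num

end Cfsg.Agent.Lib.Helper9.ThL
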