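import Cfsg.Agent.Lib.Helper9.SylowConj2
import Cfsg.Prelude.Def_Transfer

set_option autoImplicit false

namespace Cfsg.Agent.Lib.Helper9

open Cfsg

variable {G : Type*} [Group G]

/-- the Thompson subgroup of `P` lies in `P` -/
theorem thompsonSubgroupOf_le (p : ℕ) (P : Subgroup G) : thompsonSubgroupOf p P ≤ P := by
  rintro _ ⟨x, -, rfl⟩
  exact x.2

/-- `J(P)` is weakly closed in `P`: a conjugate of `J(P)` inside `P` is contained in `J(P)`. -/
theorem thompsonSubgroupOf_cj_le (p : ℕ) (P : Subgroup G) [Finite P] (g : G)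
    (h : (thompsonSubgroupOf p P).map (MulAut.conj g).toMonoidHom ≤ P) :
    (thompsonSubgroupOf p P).map (MulAut.conj g).toMonoidHom ≤ thompsonSubgroupOf p P := by
  unfold thompsonSubgroupOf at h ⊢
  rw [Subgroup.map_map] at h ⊢
  rw [Subgroup.map_le_iff_le_comap]
  unfold thompsonSubgroup at h ⊢
  apply sSup_le
  intro A hA
  have hAJ : A ≤ sSup (maxElementaryAbelianSubgroups p P) := le_sSup hA
  have hAg : ∀ a : P, a ∈ A → g * (a : G) * g⁻¹ ∈ P := by
    intro a ha
    exact h ⟨a, hAJ ha, rfl⟩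
  -- the conjugate of `A`, as a subgroup of `P`
  let f : A →* P :=
    { toFun := fun a => ⟨g * ((a : P) : G) * g⁻¹, hAg a a.2⟩
      map_one' := by apply Subtype.ext; simp
      map_mul' := by
        intro a b
        apply Subtype.ext
        show g * (((a : P) : G) * ((b : P) : G)) * g⁻¹ = (g * a * g⁻¹) * (g * b * g⁻¹)
        group }
  have hf : Function.Injective f := by
    intro a b hab
    have h1 : g * ((a : P) : G) * g⁻¹ = g * ((b : P) : G) * g⁻¹ := congrArg Subtype.val hab
    exact Subtype.ext (Subtype.ext (mul_left_cancel (mul_right_cancel h1)))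
  have hA' : f.range ∈ maxElementaryAbelianSubgroups p P := by
    obtain ⟨⟨hAc, hAp⟩, hAmax⟩ := hA
    refine ⟨⟨?_, ?_⟩, ?_⟩
    · constructor
      constructor
      rintro ⟨_, a, rfl⟩ ⟨_, b, rfl⟩
      apply Subtype.ext
      show f a * f b = f b * f a
      rw [← map_mul, ← map_mul]
      congr 1
      exact hAc.is_comm.comm a b
    · rintro _ ⟨a, rfl⟩
      rw [← map_pow]
      have : a ^ p = 1 := Subtype.ext (by simpa using hAp a a.2)
      rw [this, map_one]
    · intro B hB
      have h1 := hAmax B hB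
      have h2 : Nat.card f.range = Nat.card A :=
        Nat.card_congr (MonoidHom.ofInjective hf).toEquiv.symm
      rw [h2]
      exact h1
  intro a ha
  have h1 : f ⟨a, ha⟩ ∈ sSup (maxElementaryAbelianSubgroups p P) :=
    le_sSup hA' ⟨⟨a, ha⟩, rfl⟩
  exact ⟨f ⟨a, ha⟩, h1, rfl⟩

theorem mem_normalizer_of_cj_le {H : Subgroup G} [Finite H] {g : G}
    (h : H.map (MulAut.conj g).toMonoidHom ≤ H) : g ∈ Subgroup.normalizer (H : Set G) := by
  have : Finite ((H : Set G)) := ‹Finite H›
  apply Subgroup.mem_normalizer_fintype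
  intro n hn
  exact h ⟨n, hn, rfl⟩

/-- Burnside-type control of fusion in the centre of the weakly closed subgroup `J(P)`. -/
theorem thompson_center_fusion [Finite G] (p : ℕ) [Fact p.Prime] (P : Sylow p G)
    (x y : G)
    (hx : ∀ j ∈ thompsonSubgroupOf p (P : Subgroup G), Commute j x)
    (hy : ∀ j ∈ thompsonSubgroupOf p (P : Subgroup G), Commute j y)
    (g : G) (hg : g * x * g⁻¹ = y) :
    ∃ n ∈ Subgroup.normalizer ((thompsonSubgroupOf p (P : Subgroup G) : Subgroup G) : Set G),
      n * x * n⁻¹ = y := by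
  set J := thompsonSubgroupOf p (P : Subgroup G) with hJ
  have hJP : J ≤ (P : Subgroup G) := thompsonSubgroupOf_le p _
  have hJp : IsPGroup p J := P.isPGroup'.to_le hJP
  set C := Subgroup.centralizer ({y} : Set G) with hC
  have hJC : J ≤ C := by
    intro j hj
    rw [hC, Subgroup.mem_centralizer_iff]
    intro z hz
    rw [Set.mem_singleton_iff] at hz
    rw [hz]
    exact ((hy j hj).eq).symm
  have hJgC : J.map (MulAut.conj g).toMonoidHom ≤ C := by
    rintro _ ⟨j, hj, rfl⟩
    rw [hC, Subgroup.mem_centralizer_iff]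
    intro z hz
    rw [Set.mem_singleton_iff] at hz
    rw [hz, ← hg]
    show g * x * g⁻¹ * (g * j * g⁻¹) = g * j * g⁻¹ * (g * x * g⁻¹)
    have := (hx j hj).eq
    calc g * x * g⁻¹ * (g * j * g⁻¹) = g * (x * j) * g⁻¹ := by group
      _ = g * (j * x) * g⁻¹ := by rw [this]
      _ = g * j * g⁻¹ * (g * x * g⁻¹) := by group
  have hJ'p : IsPGroup p (J.subgroupOf C) := hJp.comap_subtype
  obtain ⟨R, hR⟩ := hJ'p.exists_le_sylow
  have hRT : (R : Subgroup C) = ((R : Subgroup C).map C.subtype).subgroupOf C := by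
    rw [Subgroup.subgroupOf, Subgroup.comap_map_eq_self_of_injective C.subtype_injective]
  have hJgp : IsPGroup p (J.map (MulAut.conj g).toMonoidHom) := hJp.map _
  obtain ⟨c, hcC, hc⟩ := exists_cj_le_of_sylowIn R hRT hJgC hJgp
  have hR'p : IsPGroup p ((R : Subgroup C).map C.subtype) := R.isPGroup'.map _
  obtain ⟨h, hh⟩ := exists_cj_le_sylow P hR'p
  have hJR : J ≤ (R : Subgroup C).map C.subtype := by
    intro j hj
    exact ⟨⟨j, hJC hj⟩, hR hj, rfl⟩
  have h1 : J.map (MulAut.conj h).toMonoidHom ≤ (P : Subgroup G) :=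
    (cj_mono hJR).trans hh
  have h2 : J.map (MulAut.conj (h * (c * g))).toMonoidHom ≤ (P : Subgroup G) := by
    rw [← cj_cj, ← cj_cj]
    exact (cj_mono hc).trans hh
  have hfinP : Finite (P : Subgroup G) := inferInstance
  have hfinJ : Finite J := Finite.of_injective (Subgroup.inclusion hJP)
    (Subgroup.inclusion_injective hJP)
  have h3 := mem_normalizer_of_cj_le (thompsonSubgroupOf_cj_le p (P : Subgroup G) h h1)
  have h4 := mem_normalizer_of_cj_le (thompsonSubgroupOf_cj_le p (P : Subgroup G) _ h2)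
  refine ⟨c * g, ?_, ?_⟩
  · have h5 : c * g = h⁻¹ * (h * (c * g)) := by group
    rw [h5]
    exact Subgroup.mul_mem _ (Subgroup.inv_mem _ h3) h4
  · have h6 : c * y = y * c := by
      rw [hC, Subgroup.mem_centralizer_iff] at hcC
      exact (hcC y rfl).symm
    calc c * g * x * (c * g)⁻¹ = c * (g * x * g⁻¹) * c⁻¹ := by group
      _ = c * y * c⁻¹ := by rw [hg]
      _ = y := by rw [h6]; group

end Cfsg.Agent.Lib.Helper9
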