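import Mathlib
import Cfsg.Prelude.Def_FischerSpaces
import Cfsg.Agent.Lib.Helper9.SylowConj2

set_option autoImplicit false

namespace Cfsg.Agent.Lib.Helper9

open Cfsg

variable {G : Type*} [Group G]

theorem sq_eq_one_of_three_trans {D : Set G} (hD : IsThreeTranspositionSet D) {d : G} (hd : d ∈ D) :
    d * d = 1 := by
  have := pow_orderOf_eq_one d
  rwa [hD.1 d hd, pow_two] at this

theorem inv_eq_self_of_three_trans {D : Set G} (hD : IsThreeTranspositionSet D) {d : G}
    (hd : d ∈ D) : d⁻¹ = d :=
  inv_eq_of_mul_eq_one_right (sq_eq_one_of_three_trans hD hd)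

/-- two involutions with product of order at most two commute -/
theorem commute_of_sq_mul {d e : G} (hd : d * d = 1) (he : e * e = 1) (h : (d * e) ^ 2 = 1) :
    d * e = e * d := by
  have hdi : d⁻¹ = d := inv_eq_of_mul_eq_one_right hd
  have hei : e⁻¹ = e := inv_eq_of_mul_eq_one_right he
  have h1 : d * e * (d * e) = 1 := by rw [← pow_two]; exact h
  have h2 := eq_inv_of_mul_eq_one_left h1
  rw [mul_inv_rev, hdi, hei] at h2
  exact h2

/-- members of a set of `3`-transpositions lying in a common `2`-subgroup commute -/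
theorem commute_of_mem_two_group {D : Set G} (hD : IsThreeTranspositionSet D) {T : Subgroup G}
    (hT : IsPGroup 2 T) {d e : G} (hd : d ∈ D) (he : e ∈ D) (hdT : d ∈ T) (heT : e ∈ T) :
    d * e = e * d := by
  apply commute_of_sq_mul (sq_eq_one_of_three_trans hD hd) (sq_eq_one_of_three_trans hD he)
  rcases hD.2 d hd e he with h | h
  · exact h
  · obtain ⟨k, hk⟩ := hT ⟨d * e, T.mul_mem hdT heT⟩
    have hk' : (d * e) ^ (2 ^ k) = 1 := by
      have := congrArg Subtype.val hk
      simpa using this
    have h1 : orderOf (d * e) ∣ 2 ^ k := orderOf_dvd_of_pow_eq_one hk'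
    have h2 : orderOf (d * e) ∣ 3 := orderOf_dvd_of_pow_eq_one h
    have h3 : orderOf (d * e) = 1 :=
      Nat.eq_one_of_dvd_coprimes (Nat.Coprime.pow_left k (by decide)) h1 h2
    rw [orderOf_eq_one_iff.mp h3, one_pow]

/-- a set of pairwise commuting involutions generates a `2`-group -/
theorem isPGroup_two_closure_of_commuting {E : Set G} (hinv : ∀ a ∈ E, a * a = 1)
    (hcomm : ∀ a ∈ E, ∀ b ∈ E, a * b = b * a) : IsPGroup 2 (Subgroup.closure E) := by
  have hc := Subgroup.isMulCommutative_closure hcomm
  have key : ∀ x ∈ Subgroup.closure E, x * x = 1 := by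
    intro x hx
    induction hx using Subgroup.closure_induction with
    | mem y hy => exact hinv y hy
    | one => simp
    | mul a b ha hb iha ihb =>
      have h1 : a * b = b * a := by
        have := hc.is_comm.comm (⟨a, ha⟩ : Subgroup.closure E) ⟨b, hb⟩
        exact congrArg Subtype.val this
      calc a * b * (a * b) = a * (b * a) * b := by group
        _ = a * (a * b) * b := by rw [h1]
        _ = (a * a) * (b * b) := by group
        _ = 1 := by rw [iha, ihb, one_mul]
    | inv a ha iha =>
      have : a⁻¹ = a := inv_eq_of_mul_eq_one_right iha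
      rw [this, iha]
  intro x
  refine ⟨1, ?_⟩
  apply Subtype.ext
  rw [pow_one, pow_two]
  exact key x x.2

/-- S5345 -/
theorem three_trans_sylow_width [Finite G] {D : Set G} (hD : IsThreeTranspositionGroup D)
    (T : Sylow 2 G) :
    IsMulCommutative (Subgroup.closure {d : G | d ∈ D ∧ d ∈ T}) ∧
      {d : G | d ∈ D ∧ d ∈ T}.ncard = commutingWidth D := by
  have : Fact (Nat.Prime 2) := ⟨Nat.prime_two⟩
  obtain ⟨hD3, hconj, -⟩ := hD
  have hcomm : ∀ x ∈ {d : G | d ∈ D ∧ d ∈ T}, ∀ y ∈ {d : G | d ∈ D ∧ d ∈ T}, x * y = y * x :=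
    fun x hx y hy => commute_of_mem_two_group hD3 T.isPGroup' hx.1 hy.1 hx.2 hy.2
  refine ⟨Subgroup.isMulCommutative_closure hcomm, ?_⟩
  unfold commutingWidth
  apply le_antisymm
  · apply le_csSup
    · refine ⟨Nat.card G, ?_⟩
      rintro n ⟨E, -, -, -, rfl⟩
      rw [← Set.ncard_univ]
      exact Set.ncard_le_ncard (Set.subset_univ E) (Set.toFinite _)
    · exact ⟨_, fun x hx => hx.1, Set.toFinite _, fun a ha b hb => hcomm a ha b hb, rfl⟩
  · apply csSup_le
    · exact ⟨0, ∅, Set.empty_subset _, Set.finite_empty, fun a ha => absurd ha (Set.notMem_empty a),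
        Set.ncard_empty G⟩
    · rintro n ⟨E, hED, hEfin, hEcomm, rfl⟩
      have hEp : IsPGroup 2 (Subgroup.closure E) :=
        isPGroup_two_closure_of_commuting (fun a ha => sq_eq_one_of_three_trans hD3 (hED ha))
          (fun a ha b hb => hEcomm a ha b hb)
      obtain ⟨g, hg⟩ := exists_cj_le_sylow T hEp
      have hsub : (fun e => g * e * g⁻¹) '' E ⊆ {d : G | d ∈ D ∧ d ∈ T} := by
        rintro _ ⟨e, he, rfl⟩
        exact ⟨hconj g e (hED he), hg ⟨e, Subgroup.subset_closure he, rfl⟩⟩
      have hinj : Function.Injective (fun e : G => g * e * g⁻¹) := by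
        intro a b hab
        exact mul_left_cancel (mul_right_cancel hab)
      rw [← Set.ncard_image_of_injective E hinj]
      exact Set.ncard_le_ncard hsub (Set.toFinite _)

end Cfsg.Agent.Lib.Helper9
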