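import Cfsg.Agent.Lib.Helper9.ThreeTrans1

set_option autoImplicit false

namespace Cfsg.Agent.Lib.Helper9

open Cfsg

variable {G : Type*} [Group G]

theorem mem_zpowers_of_order_two {t x : G} (ht : t * t = 1) (hx : x ∈ Subgroup.zpowers t) :
    x = 1 ∨ x = t := by
  obtain ⟨k, rfl⟩ := hx
  have hti : t⁻¹ = t := inv_eq_of_mul_eq_one_right ht
  rcases Int.even_or_odd' k with ⟨m, rfl | rfl⟩
  · left
    show t ^ (2 * m) = 1
    rw [zpow_mul, zpow_two, ht, one_zpow]
  · right
    show t ^ (2 * m + 1) = t
    rw [zpow_add, zpow_mul, zpow_two, ht, one_zpow, one_mul, zpow_one]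

/-- S5364 -/
theorem three_trans_lift_central [Finite G] {D : Set G} (hinv : ∀ d ∈ D, orderOf d = 2)
    (hconj : ∀ g : G, ∀ d ∈ D, g * d * g⁻¹ ∈ D) (t : G) (ht : orderOf t = 2)
    (htZ : t ∈ Subgroup.center G) (hDt : ∀ d ∈ D, d * t ∉ D) [(Subgroup.zpowers t).Normal]
    (himg : IsThreeTranspositionSet
      ((QuotientGroup.mk : G → G ⧸ Subgroup.zpowers t) '' D)) : IsThreeTranspositionSet D := by
  refine ⟨hinv, ?_⟩
  intro d hd e he
  have hdd : d * d = 1 := by
    have := pow_orderOf_eq_one d
    rwa [hinv d hd, pow_two] at this
  have hee : e * e = 1 := by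
    have := pow_orderOf_eq_one e
    rwa [hinv e he, pow_two] at this
  have htt : t * t = 1 := by
    have := pow_orderOf_eq_one t
    rwa [ht, pow_two] at this
  have hdi : d⁻¹ = d := inv_eq_of_mul_eq_one_right hdd
  have hei : e⁻¹ = e := inv_eq_of_mul_eq_one_right hee
  have htc : ∀ g : G, g * t = t * g := fun g => Subgroup.mem_center_iff.mp htZ g
  have h1 := himg.2 _ ⟨d, hd, rfl⟩ _ ⟨e, he, rfl⟩
  rcases h1 with h | h
  · left
    have h2 : (d * e) ^ 2 ∈ Subgroup.zpowers t := by
      rw [← QuotientGroup.eq_one_iff]
      exact h
    rcases mem_zpowers_of_order_two htt h2 with h3 | h3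
    · exact h3
    · exfalso
      have h4 : e * d * e⁻¹ ∈ D := hconj e d hd
      apply hDt d hd
      have h5 : e * d * e⁻¹ = d * t := by
        rw [← h3, pow_two, hei]
        calc e * d * e = (d * d) * e * d * e := by rw [hdd, one_mul]
          _ = d * (d * e * (d * e)) := by group
      rw [← h5]
      exact h4
  · right
    have h2 : (d * e) ^ 3 ∈ Subgroup.zpowers t := by
      rw [← QuotientGroup.eq_one_iff]
      exact h
    rcases mem_zpowers_of_order_two htt h2 with h3 | h3
    · exact h3
    · exfalso
      have h4 : d * e * d⁻¹ ∈ D := hconj d e he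
      have h5 : e * d * e⁻¹ ∈ D := hconj e d hd
      apply hDt _ h5
      have h6 : e * d * e⁻¹ * t = d * e * d⁻¹ := by
        rw [← h3, hei, hdi]
        have h7 : (e * d * e) * (e * d * e) = 1 := by
          calc (e * d * e) * (e * d * e) = e * d * (e * e) * d * e := by group
            _ = e * (d * d) * e := by rw [hee]; group
            _ = 1 := by rw [hdd, mul_one, hee]
        calc e * d * e * (d * e) ^ 3 = (e * d * e) * ((d * e * d) * (e * d * e)) := by
              rw [pow_succ, pow_two]; group
          _ = (d * e * d) * ((e * d * e) * (e * d * e)) := by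
              have hc : (e * d * e) * (d * e * d) = (d * e * d) * (e * d * e) := by
                have e1 : (d * e * d) * (e * d * e) = t := by
                  rw [← h3, pow_succ, pow_two]; group
                have e2 : (e * d * e) * (d * e * d) = t := by
                  have : (e * d * e) * (d * e * d) = e * ((d * e * d) * (e * d * e)) * e⁻¹ := by
                    rw [hei]
                    calc (e * d * e) * (d * e * d) = e * (d * e * d * e * d) * (e * e) := by
                          rw [hee]; group
                      _ = e * ((d * e * d) * (e * d * e)) * e := by group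
                  rw [this, e1, hei, htc e, mul_assoc, hee, mul_one]
                rw [e1, e2]
              rw [← mul_assoc, hc, mul_assoc]
          _ = d * e * d := by rw [h7, mul_one]
      rw [h6]
      exact h4

end Cfsg.Agent.Lib.Helper9
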