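import Cfsg.Agent.Lib.Helper9.TitsA

set_option autoImplicit false
set_option maxRecDepth 1000000

/-! Part TitsB1c of the checks on the list of the 4096 elements of the Sylow `2`-subgroup of `²F₄(2)`, by
evaluation in the kernel. -/

namespace Cfsg.Agent.Lib.Helper9.TitsB

open Cfsg.Agent.Lib.Helper9.TitsA Cfsg.Agent.Lib.Helper9.Chunk

theorem clos_1_16 : chunkB (closB 1) 128 4096 16 = true := by decide +kernel
theorem clos_1_17 : chunkB (closB 1) 128 4096 17 = true := by decide +kernel
theorem clos_1_18 : chunkB (closB 1) 128 4096 18 = true := by decide +kernel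
theorem clos_1_19 : chunkB (closB 1) 128 4096 19 = true := by decide +kernel
theorem clos_1_20 : chunkB (closB 1) 128 4096 20 = true := by decide +kernel
theorem clos_1_21 : chunkB (closB 1) 128 4096 21 = true := by decide +kernel
theorem clos_1_22 : chunkB (closB 1) 128 4096 22 = true := by decide +kernel
theorem clos_1_23 : chunkB (closB 1) 128 4096 23 = true := by decide +kernel

end Cfsg.Agent.Lib.Helper9.TitsB
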