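import Cfsg.Agent.Lib.Helper9.TitsB2a
import Cfsg.Agent.Lib.Helper9.TitsB2b
import Cfsg.Agent.Lib.Helper9.TitsB2c
import Cfsg.Agent.Lib.Helper9.TitsB2d

set_option autoImplicit false
set_option maxRecDepth 1000000

/-! Part TitsB2 of the checks on the list of the 4096 elements of the Sylow `2`-subgroup of `²F₄(2)`, by
evaluation in the kernel. -/

namespace Cfsg.Agent.Lib.Helper9.TitsB

open Cfsg.Agent.Lib.Helper9.TitsA Cfsg.Agent.Lib.Helper9.Chunk

theorem clos_2 : ∀ m < 4096, closB 2 m = true := by
  apply all_of_chunks (closB 2) 128 32 4096 (by norm_num) (by norm_num)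
  intro k hk
  interval_cases k
  · exact clos_2_0
  · exact clos_2_1
  · exact clos_2_2
  · exact clos_2_3
  · exact clos_2_4
  · exact clos_2_5
  · exact clos_2_6
  · exact clos_2_7
  · exact clos_2_8
  · exact clos_2_9
  · exact clos_2_10
  · exact clos_2_11
  · exact clos_2_12
  · exact clos_2_13
  · exact clos_2_14
  · exact clos_2_15
  · exact clos_2_16
  · exact clos_2_17
  · exact clos_2_18
  · exact clos_2_19
  · exact clos_2_20
  · exact clos_2_21
  · exact clos_2_22
  · exact clos_2_23
  · exact clos_2_24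
  · exact clos_2_25
  · exact clos_2_26
  · exact clos_2_27
  · exact clos_2_28
  · exact clos_2_29
  · exact clos_2_30
  · exact clos_2_31

end Cfsg.Agent.Lib.Helper9.TitsB
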