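import Cfsg.Agent.Lib.Helper9.TitsE

set_option autoImplicit false
set_option maxRecDepth 1000000

/-! Part TitsB3i of the checks on the list of the 4096 elements of the Sylow `2`-subgroup of `²F₄(2)`, by
evaluation in the kernel: the index of each element is found from its matrix. -/

namespace Cfsg.Agent.Lib.Helper9.TitsB

open Cfsg.Agent.Lib.Helper9.TitsA Cfsg.Agent.Lib.Helper9.TitsE Cfsg.Agent.Lib.Helper9.Chunk

theorem linv_24 : chunkB linvB 128 4096 24 = true := by decide +kernel
theorem linv_25 : chunkB linvB 128 4096 25 = true := by decide +kernel
theorem linv_26 : chunkB linvB 128 4096 26 = true := by decide +kernel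
theorem linv_27 : chunkB linvB 128 4096 27 = true := by decide +kernel
theorem linv_28 : chunkB linvB 128 4096 28 = true := by decide +kernel
theorem linv_29 : chunkB linvB 128 4096 29 = true := by decide +kernel
theorem linv_30 : chunkB linvB 128 4096 30 = true := by decide +kernel
theorem linv_31 : chunkB linvB 128 4096 31 = true := by decide +kernel

end Cfsg.Agent.Lib.Helper9.TitsB
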