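import Cfsg.Agent.Lib.Helper9.TitsB3f
import Cfsg.Agent.Lib.Helper9.TitsB3g
import Cfsg.Agent.Lib.Helper9.TitsB3h
import Cfsg.Agent.Lib.Helper9.TitsB3i

set_option autoImplicit false
set_option maxRecDepth 1000000

/-! Part TitsB3e of the checks on the list of the 4096 elements of the Sylow `2`-subgroup of `²F₄(2)`: the
index of each element is found from its matrix, so the elements are different. -/

namespace Cfsg.Agent.Lib.Helper9.TitsB

open Cfsg.Agent.Lib.Helper9.TitsA Cfsg.Agent.Lib.Helper9.TitsE Cfsg.Agent.Lib.Helper9.Chunk

theorem linv_all : ∀ m < 4096, linvB m = true := by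
  apply all_of_chunks linvB 128 32 4096 (by norm_num) (by norm_num)
  intro k hk
  interval_cases k
  · exact linv_0
  · exact linv_1
  · exact linv_2
  · exact linv_3
  · exact linv_4
  · exact linv_5
  · exact linv_6
  · exact linv_7
  · exact linv_8
  · exact linv_9
  · exact linv_10
  · exact linv_11
  · exact linv_12
  · exact linv_13
  · exact linv_14
  · exact linv_15
  · exact linv_16
  · exact linv_17
  · exact linv_18
  · exact linv_19
  · exact linv_20
  · exact linv_21
  · exact linv_22
  · exact linv_23
  · exact linv_24
  · exact linv_25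
  · exact linv_26
  · exact linv_27
  · exact linv_28
  · exact linv_29
  · exact linv_30
  · exact linv_31

theorem swT_inj : ∀ m < 4096, ∀ m' < 4096, swT m = swT m' → m = m' :=
  swT_inj_of_linv linv_all

end Cfsg.Agent.Lib.Helper9.TitsB
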