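import Cfsg.Agent.Lib.Helper9.TitsB3a
import Cfsg.Agent.Lib.Helper9.TitsB3b
import Cfsg.Agent.Lib.Helper9.TitsB3c
import Cfsg.Agent.Lib.Helper9.TitsB3d
import Cfsg.Agent.Lib.Helper9.TitsB3e

set_option autoImplicit false
set_option maxRecDepth 1000000

/-! Part TitsB3 of the checks on the list of the 4096 elements of the Sylow `2`-subgroup of `²F₄(2)`, by
evaluation in the kernel. -/

namespace Cfsg.Agent.Lib.Helper9.TitsB

open Cfsg.Agent.Lib.Helper9.TitsA Cfsg.Agent.Lib.Helper9.Chunk

theorem sq_all : ∀ m < 4096, sqB m = true := by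
  apply all_of_chunks sqB 128 32 4096 (by norm_num) (by norm_num)
  intro k hk
  interval_cases k
  · exact sq_0
  · exact sq_1
  · exact sq_2
  · exact sq_3
  · exact sq_4
  · exact sq_5
  · exact sq_6
  · exact sq_7
  · exact sq_8
  · exact sq_9
  · exact sq_10
  · exact sq_11
  · exact sq_12
  · exact sq_13
  · exact sq_14
  · exact sq_15
  · exact sq_16
  · exact sq_17
  · exact sq_18
  · exact sq_19
  · exact sq_20
  · exact sq_21
  · exact sq_22
  · exact sq_23
  · exact sq_24
  · exact sq_25
  · exact sq_26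
  · exact sq_27
  · exact sq_28
  · exact sq_29
  · exact sq_30
  · exact sq_31

end Cfsg.Agent.Lib.Helper9.TitsB
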