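import Cfsg.Agent.Lib.Helper9.TitsB0
import Cfsg.Agent.Lib.Helper9.TitsB1
import Cfsg.Agent.Lib.Helper9.TitsB2
import Cfsg.Agent.Lib.Helper9.TitsB3

/-! The checks on the list of the 4096 elements of the Sylow `2`-subgroup of `²F₄(2)`, by evaluation in
the kernel (files `TitsB0`-`TitsB3`): the products with the generators, the squares of the elements
outside the derived subgroup, and the absence of repetitions. -/
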