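import Cfsg.Agent.Lib.Helper9.TitsA

set_option autoImplicit false
set_option maxRecDepth 1000000

/-! Part TitsB0b of the checks on the list of the 4096 elements of the Sylow `2`-subgroup of `²F₄(2)`, by
evaluation in the kernel. -/

namespace Cfsg.Agent.Lib.Helper9.TitsB

open Cfsg.Agent.Lib.Helper9.TitsA Cfsg.Agent.Lib.Helper9.Chunk

theorem clos_0_8 : chunkB (closB 0) 128 4096 8 = true := by decide +kernel
theorem clos_0_9 : chunkB (closB 0) 128 4096 9 = true := by decide +kernel
theorem clos_0_10 : chunkB (closB 0) 128 4096 10 = true := by decide +kernel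
theorem clos_0_11 : chunkB (closB 0) 128 4096 11 = true := by decide +kernel
theorem clos_0_12 : chunkB (closB 0) 128 4096 12 = true := by decide +kernel
theorem clos_0_13 : chunkB (closB 0) 128 4096 13 = true := by decide +kernel
theorem clos_0_14 : chunkB (closB 0) 128 4096 14 = true := by decide +kernel
theorem clos_0_15 : chunkB (closB 0) 128 4096 15 = true := by decide +kernel

end Cfsg.Agent.Lib.Helper9.TitsB
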