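import Cfsg.Agent.Lib.Helper9.TitsB0a
import Cfsg.Agent.Lib.Helper9.TitsB0b
import Cfsg.Agent.Lib.Helper9.TitsB0c
import Cfsg.Agent.Lib.Helper9.TitsB0d

set_option autoImplicit false
set_option maxRecDepth 1000000

/-! Part TitsB0 of the checks on the list of the 4096 elements of the Sylow `2`-subgroup of `²F₄(2)`, by
evaluation in the kernel. -/

namespace Cfsg.Agent.Lib.Helper9.TitsB

open Cfsg.Agent.Lib.Helper9.TitsA Cfsg.Agent.Lib.Helper9.Chunk

theorem clos_0 : ∀ m < 4096, closB 0 m = true := by
  apply all_of_chunks (closB 0) 128 32 4096 (by norm_num) (by norm_num)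
  intro k hk
  interval_cases k
  · exact clos_0_0
  · exact clos_0_1
  · exact clos_0_2
  · exact clos_0_3
  · exact clos_0_4
  · exact clos_0_5
  · exact clos_0_6
  · exact clos_0_7
  · exact clos_0_8
  · exact clos_0_9
  · exact clos_0_10
  · exact clos_0_11
  · exact clos_0_12
  · exact clos_0_13
  · exact clos_0_14
  · exact clos_0_15
  · exact clos_0_16
  · exact clos_0_17
  · exact clos_0_18
  · exact clos_0_19
  · exact clos_0_20
  · exact clos_0_21
  · exact clos_0_22
  · exact clos_0_23
  · exact clos_0_24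
  · exact clos_0_25
  · exact clos_0_26
  · exact clos_0_27
  · exact clos_0_28
  · exact clos_0_29
  · exact clos_0_30
  · exact clos_0_31

end Cfsg.Agent.Lib.Helper9.TitsB
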