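import Cfsg.Agent.Lib.Helper9.TitsBs1a
import Cfsg.Agent.Lib.Helper9.TitsBs1b
import Cfsg.Agent.Lib.Helper9.TitsBs1c
import Cfsg.Agent.Lib.Helper9.TitsBs1d

set_option autoImplicit false
set_option maxRecDepth 1000000

/-! Part TitsB1 of the checks on the list of the 4096 elements of the Sylow `2`-subgroup of `²F₄(2)`, by
evaluation in the kernel. -/

namespace Cfsg.Agent.Lib.Helper9.TitsBs

open Cfsg.Agent.Lib.Helper9.TitsA Cfsg.Agent.Lib.Helper9.Chunk

theorem clos_1 : ∀ m < 4096, closB 1 m = true := by
  apply all_of_chunks (closB 1) 128 32 4096 (by norm_num) (by norm_num)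
  intro k hk
  interval_cases k
  · exact clos_1_0
  · exact clos_1_1
  · exact clos_1_2
  · exact clos_1_3
  · exact clos_1_4
  · exact clos_1_5
  · exact clos_1_6
  · exact clos_1_7
  · exact clos_1_8
  · exact clos_1_9
  · exact clos_1_10
  · exact clos_1_11
  · exact clos_1_12
  · exact clos_1_13
  · exact clos_1_14
  · exact clos_1_15
  · exact clos_1_16
  · exact clos_1_17
  · exact clos_1_18
  · exact clos_1_19
  · exact clos_1_20
  · exact clos_1_21
  · exact clos_1_22
  · exact clos_1_23
  · exact clos_1_24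
  · exact clos_1_25
  · exact clos_1_26
  · exact clos_1_27
  · exact clos_1_28
  · exact clos_1_29
  · exact clos_1_30
  · exact clos_1_31

end Cfsg.Agent.Lib.Helper9.TitsBs
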