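import Cfsg.Agent.Lib.Helper9.TitsA

set_option autoImplicit false
set_option Elab.async false
set_option maxRecDepth 1000000

/-! Part TitsB3d of the checks on the list of the 4096 elements of the Sylow `2`-subgroup of `²F₄(2)`, by
evaluation in the kernel (one evaluation at a time, to bound the memory of a build). -/

namespace Cfsg.Agent.Lib.Helper9.TitsBs

open Cfsg.Agent.Lib.Helper9.TitsA Cfsg.Agent.Lib.Helper9.Chunk

theorem sq_24 : chunkB sqB 128 4096 24 = true := by decide +kernel
theorem sq_25 : chunkB sqB 128 4096 25 = true := by decide +kernel
theorem sq_26 : chunkB sqB 128 4096 26 = true := by decide +kernel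
theorem sq_27 : chunkB sqB 128 4096 27 = true := by decide +kernel
theorem sq_28 : chunkB sqB 128 4096 28 = true := by decide +kernel
theorem sq_29 : chunkB sqB 128 4096 29 = true := by decide +kernel
theorem sq_30 : chunkB sqB 128 4096 30 = true := by decide +kernel
theorem sq_31 : chunkB sqB 128 4096 31 = true := by decide +kernel

end Cfsg.Agent.Lib.Helper9.TitsBs
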