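import Cfsg.Agent.Lib.Helper9.TitsBs

set_option autoImplicit false
set_option linter.unusedSectionVars false
set_option linter.unusedVariables false

/-! Every involution of `²F₄(2)` lies in the derived subgroup: a Sylow `2`-subgroup of order 4096 is
listed, the listed elements outside the derived subgroup have squares other than one, and by Sylow's
theorem every involution is conjugate to a listed element. -/

namespace Cfsg.Agent.Lib.Helper9.TitsCs

open Cfsg.Lie Cfsg.Agent.Lib.Helper4.LaneMat Cfsg.Agent.Lib.Helper4.F4Tits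
  Cfsg.Agent.Lib.Helper9.TitsA Cfsg.Agent.Lib.Helper9.TitsBs Cfsg.Agent.Lib.Helper8.FastDec

local notation "tm" => C52.toMat eG
local notation "mu" => C52.mul
local notation "i52" => C52.one

/-- the Sylow subgroup -/
def Sy : Subgroup G52 := Subgroup.closure (Set.range gsG)

theorem clos_tab (j m : ℕ) (hj : j < 3) (hm : m < 4096) :
    gtT j m < 4096 ∧ mu (gsT j) (swT m) = swT (gtT j m) := by
  have h : closB j m = true := by
    interval_cases j
    · exact clos_0 m hm
    · exact clos_1 m hm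
    · exact clos_2 m hm
  unfold closB at h
  rw [Bool.and_eq_true, Nat.blt_eq] at h
  exact ⟨h.1, Nat.eq_of_beq_eq_true h.2⟩

theorem gs_mul_sw (j m : ℕ) (hj : j < 3) (hm : m < 4096) :
    gtT j m < 4096 ∧ gsG j * sw m = sw (gtT j m) := by
  obtain ⟨h1, h2⟩ := clos_tab j m hj hm
  refine ⟨h1, ?_⟩
  apply Units.ext
  rw [Units.val_mul, val_gsG, val_sw, val_sw, ← C52.toMat_mul eG (gsT_valid j) (swT_valid m), h2]

theorem gsG_ge (l : ℕ) (h : ¬ l < 3) : gsG l = 1 := by
  match l, h with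
  | 0, h => exact absurd (by norm_num) h
  | 1, h => exact absurd (by norm_num) h
  | 2, h => exact absurd (by norm_num) h
  | (n + 3), _ => rfl

theorem sw_mem_Sy (m : ℕ) : sw m ∈ Sy := by
  unfold sw wp
  apply Subgroup.list_prod_mem
  intro x hx
  rw [List.mem_map] at hx
  obtain ⟨l, _, rfl⟩ := hx
  exact Subgroup.subset_closure ⟨l, rfl⟩

theorem mem_Sy_iff (g : G52) : g ∈ Sy ↔ ∃ m < 4096, sw m = g := by
  apply listed_iff _ sw 4096 (by norm_num) sw_zero (fun m _ => sw_mem_Sy m)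
  rintro s ⟨l, rfl⟩ m hm
  by_cases hl : l < 3
  · obtain ⟨h1, h2⟩ := gs_mul_sw l m hl hm
    exact ⟨_, h1, h2⟩
  · rw [gsG_ge l hl, one_mul]
    exact ⟨m, hm, rfl⟩

theorem sw_inj : ∀ m < 4096, ∀ m' < 4096, sw m = sw m' → m = m' := by
  intro m hm m' hm' e
  apply swT_inj m hm m' hm'
  apply packed_inj (swT_lt m) (swT_lt m') (swT_valid m) (swT_valid m')
  rw [← val_sw, ← val_sw, e]

theorem card_Sy : Nat.card Sy = 2 ^ 12 := by
  rw [card_listed Sy sw 4096 mem_Sy_iff sw_inj]
  norm_num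

/-- the listed involutions lie in the derived subgroup -/
theorem sw_mem_T (m : ℕ) (hm : m < 4096) (h : sw m * sw m = 1) : sw m ∈ phi.range := by
  have hs := sq_all m hm
  unfold sqB at hs
  rw [wv_eq, Bool.or_eq_true, Bool.not_eq_true', Bool.not_eq_true'] at hs
  rcases hs with h1 | h1
  · exact (wp_parity (wordOf 13 m)).1 h1
  · exfalso
    have h2 : mu (swT m) (swT m) = i52 := by
      apply packed_inj (mul_lt_bnd _ _) one_lt_bnd (C52.valid_mul _ _) C52.valid_one
      rw [C52.toMat_mul eG (swT_valid m) (swT_valid m), ← val_sw, ← Units.val_mul, h, C52.toMat_one]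
      rfl
    rw [h2, Nat.beq_refl] at h1
    exact absurd h1 (by decide)

theorem gsG_mem_R (l : ℕ) : gsG l ∈ R := by
  have h2 : uG2 ∈ R := mem_R (Or.inl ⟨1, Or.inl rfl⟩) rfl
  have h3 : uG3 ∈ R := mem_R (Or.inl ⟨1, Or.inr rfl⟩) rfl
  match l with
  | 0 => exact h2
  | 1 => exact sig_mem
  | 2 => exact mul_mem (mul_mem (mul_mem (mul_mem h3 h2) sig_mem) h2) h3
  | (n + 3) => exact one_mem _

theorem Sy_le_R : Sy ≤ R := by
  unfold Sy
  rw [Subgroup.closure_le]
  rintro _ ⟨l, rfl⟩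
  exact gsG_mem_R l

theorem card_R : Nat.card ↥R = 35942400 := by
  have h := Subgroup.index_mul_card (commutator ↥R)
  have h1 : (commutator ↥R).index = 2 := index_commutator
  have h2 : Nat.card (commutator ↥R) = 2 ^ 11 * 3 ^ 3 * 5 ^ 2 * 13 := tits_facts.2.2.2
  rw [h1, h2] at h
  rw [← h]
  norm_num

instance fact_two : Fact (Nat.Prime 2) := ⟨Nat.prime_two⟩

/-- every involution of `²F₄(2)` lies in the derived subgroup -/
theorem main (g : ↥R) (hg : orderOf g = 2) : g ∈ commutator ↥R := by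
  have hfac : (Nat.card ↥R).factorization 2 = 12 := by
    rw [card_R]
    exact fac_of_dvd 2 35942400 12 (by norm_num) (by norm_num) (by norm_num) (by norm_num)
  have hP0 : Nat.card (Sy.subgroupOf R) = 2 ^ 12 := by
    rw [Nat.card_congr (Subgroup.subgroupOfEquivOfLe Sy_le_R).toEquiv, card_Sy]
  obtain ⟨P, hP⟩ : ∃ P : Sylow 2 ↥R, (P : Subgroup ↥R) = Sy.subgroupOf R :=
    ⟨Sylow.ofCard (Sy.subgroupOf R) (by rw [hP0, hfac]), rfl⟩
  have hz : IsPGroup 2 (Subgroup.zpowers g) :=
    IsPGroup.of_card (n := 1) (by rw [Nat.card_zpowers, hg, pow_one])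
  obtain ⟨Q, hQ⟩ := hz.exists_le_sylow
  obtain ⟨h, hh⟩ := MulAction.exists_smul_eq ↥R Q P
  have h1 : h * g * h⁻¹ ∈ (P : Subgroup ↥R) := by
    rw [← hh, Sylow.coe_subgroup_smul]
    have := Subgroup.smul_mem_pointwise_smul g (MulAut.conj h) (Q : Subgroup ↥R)
      (hQ (Subgroup.mem_zpowers g))
    rwa [MulAut.smul_def, MulAut.conj_apply] at this
  rw [hP, Subgroup.mem_subgroupOf] at h1
  obtain ⟨m, hm, e⟩ := (mem_Sy_iff _).mp h1
  have hg2 : g * g = 1 := by
    have := pow_orderOf_eq_one g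
    rw [hg, pow_two] at this
    exact this
  have hsq : sw m * sw m = 1 := by
    rw [e, ← Subgroup.coe_mul]
    have : h * g * h⁻¹ * (h * g * h⁻¹) = 1 := by
      have e2 : h * g * h⁻¹ * (h * g * h⁻¹) = h * (g * g) * h⁻¹ := by group
      rw [e2, hg2, mul_one, mul_inv_cancel]
    rw [this]
    rfl
  have hT := sw_mem_T m hm hsq
  rw [e, ← comm_eq, ← Subgroup.map_subtype_commutator, Subgroup.mem_map] at hT
  obtain ⟨y, hy, hy2⟩ := hT
  have hy3 : y = h * g * h⁻¹ := Subtype.ext hy2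
  rw [hy3] at hy
  have hn : (commutator ↥R).Normal := inferInstance
  have := hn.conj_mem _ hy h⁻¹
  have e3 : h⁻¹ * (h * g * h⁻¹) * h⁻¹⁻¹ = g := by group
  rw [e3] at this
  exact this

end Cfsg.Agent.Lib.Helper9.TitsCs
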