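import Mathlib
import Cfsg.Prelude.Def_SporadicB
import Cfsg.Agent.Lib.Helper9.SylowConj2

set_option autoImplicit false

namespace Cfsg.Agent.Lib.Helper9

open Cfsg

variable {G : Type*} [Group G]

theorem isPGroup_zpowers_of_orderOf {x : G} {p k : ℕ} [Fact p.Prime] (h : orderOf x = p ^ k) :
    IsPGroup p (Subgroup.zpowers x) := by
  apply IsPGroup.of_card (n := k)
  rw [Nat.card_zpowers, h]

/-- S5438 -/
theorem twoCentral_unique_fixed_coset [Finite G] (z : G) (hz : IsTwoCentralInvolution z)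
    (H : Subgroup G) (hzH : z ∈ H) (hfix : ∀ g : G, g⁻¹ * z * g ∈ H → g ∈ H) :
    Odd H.index ∧ ∀ x ∈ H, (∃ k : ℕ, orderOf x = 2 ^ k) → ∀ g : G, g * x * g⁻¹ ∈ H →
      ∃ h ∈ H, h * x * h⁻¹ = g * x * g⁻¹ := by
  have : Fact (Nat.Prime 2) := ⟨Nat.prime_two⟩
  obtain ⟨hz2, P, hzP, hzc⟩ := hz
  have hfix' : ∀ g : G, g * z * g⁻¹ ∈ H → g ∈ H := by
    intro g hg
    have h1 : g⁻¹ ∈ H := hfix g⁻¹ (by rwa [inv_inv])
    have := H.inv_mem h1
    rwa [inv_inv] at this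
  -- `P ≤ H`
  have hPH : (P : Subgroup G) ≤ H := by
    intro x hx
    apply hfix'
    have : x * z * x⁻¹ = z := by
      rw [hzc x hx]
      group
    rw [this]
    exact hzH
  -- every `2`-subgroup containing `z` lies in `H`
  have key : ∀ R : Subgroup G, IsPGroup 2 R → z ∈ R → R ≤ H := by
    intro R hR hzR
    obtain ⟨g, hg⟩ := exists_cj_le_sylow P hR
    have hgH : g ∈ H := hfix' g (hPH (hg ⟨z, hzR, rfl⟩))
    intro r hr
    have h1 : g * r * g⁻¹ ∈ H := hPH (hg ⟨r, hr, rfl⟩)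
    have h2 : r = g⁻¹ * (g * r * g⁻¹) * g := by group
    rw [h2]
    exact H.mul_mem (H.mul_mem (H.inv_mem hgH) h1) hgH
  constructor
  · have h1 : H.index ∣ (P : Subgroup G).index := Subgroup.index_dvd_of_le hPH
    have h2 : ¬ 2 ∣ (P : Subgroup G).index := P.not_dvd_index
    rw [← Nat.not_even_iff_odd, even_iff_two_dvd]
    intro h3
    exact h2 (h3.trans h1)
  · rintro x hxH ⟨kx, hkx⟩ g hyH
    set y := g * x * g⁻¹ with hy
    have hxp : IsPGroup 2 (Subgroup.zpowers x) := isPGroup_zpowers_of_orderOf hkx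
    have hyp : IsPGroup 2 (Subgroup.zpowers y) := by
      apply isPGroup_zpowers_of_orderOf (k := kx)
      rw [hy]
      have : g * x * g⁻¹ = MulAut.conj g x := rfl
      rw [this, MulEquiv.orderOf_eq]
      exact hkx
    have hPsub : ((P.subtype hPH : Sylow 2 H) : Subgroup H) = (P : Subgroup G).subgroupOf H :=
      Sylow.coe_subtype P hPH
    obtain ⟨h₁, hh₁, hle₁⟩ := exists_cj_le_of_sylowIn (P.subtype hPH) hPsub
      (Subgroup.zpowers_le.mpr hxH) hxp
    obtain ⟨h₂, hh₂, hle₂⟩ := exists_cj_le_of_sylowIn (P.subtype hPH) hPsub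
      (Subgroup.zpowers_le.mpr hyH) hyp
    have hx₁ : h₁ * x * h₁⁻¹ ∈ (P : Subgroup G) := hle₁ ⟨x, Subgroup.mem_zpowers x, rfl⟩
    have hx₂ : h₂ * y * h₂⁻¹ ∈ (P : Subgroup G) := hle₂ ⟨y, Subgroup.mem_zpowers y, rfl⟩
    set x₁ := h₁ * x * h₁⁻¹ with hx₁def
    set x₂ := h₂ * y * h₂⁻¹ with hx₂def
    set k := h₂ * g * h₁⁻¹ with hk
    have hkx : k * x₁ * k⁻¹ = x₂ := by
      rw [hk, hx₁def, hx₂def, hy]
      group
    have hzx₁ : x₁ * z = z * x₁ := hzc x₁ hx₁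
    have hzx₂ : x₂ * z = z * x₂ := hzc x₂ hx₂
    -- inside the centralizer of `x₂`
    set C := Subgroup.centralizer ({x₂} : Set G) with hC
    have hzC : z ∈ C := by
      rw [hC, Subgroup.mem_centralizer_iff]
      intro w hw
      rw [Set.mem_singleton_iff] at hw
      rw [hw]
      exact hzx₂
    have hkzC : k * z * k⁻¹ ∈ C := by
      rw [hC, Subgroup.mem_centralizer_iff]
      intro w hw
      rw [Set.mem_singleton_iff] at hw
      rw [hw, ← hkx]
      calc k * x₁ * k⁻¹ * (k * z * k⁻¹) = k * (x₁ * z) * k⁻¹ := by group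
        _ = k * (z * x₁) * k⁻¹ := by rw [hzx₁]
        _ = k * z * k⁻¹ * (k * x₁ * k⁻¹) := by group
    have hzp : IsPGroup 2 (Subgroup.zpowers z) :=
      isPGroup_zpowers_of_orderOf (k := 1) (by rw [hz2, pow_one])
    have hkzp : IsPGroup 2 (Subgroup.zpowers (k * z * k⁻¹)) := by
      apply isPGroup_zpowers_of_orderOf (k := 1)
      have : k * z * k⁻¹ = MulAut.conj k z := rfl
      rw [this, MulEquiv.orderOf_eq, hz2, pow_one]
    obtain ⟨R, hR⟩ := (hzp.comap_subtype (K := C)).exists_le_sylow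
    have hRsub : (R : Subgroup C) = ((R : Subgroup C).map C.subtype).subgroupOf C :=
      (Subgroup.comap_map_eq_self_of_injective (Subgroup.subtype_injective _) _).symm
    obtain ⟨c, hcC, hcle⟩ := exists_cj_le_of_sylowIn R hRsub
      (Subgroup.zpowers_le.mpr hkzC) hkzp
    have hT'p : IsPGroup 2 ((R : Subgroup C).map C.subtype) := R.isPGroup'.map _
    have hzT' : z ∈ (R : Subgroup C).map C.subtype :=
      ⟨⟨z, hzC⟩, hR (Subgroup.mem_subgroupOf.mpr (Subgroup.mem_zpowers z)), rfl⟩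
    have hT'H := key _ hT'p hzT'
    have h1 : c * (k * z * k⁻¹) * c⁻¹ ∈ H :=
      hT'H (hcle ⟨k * z * k⁻¹, Subgroup.mem_zpowers _, rfl⟩)
    have hckH : c * k ∈ H := by
      apply hfix'
      have : c * k * z * (c * k)⁻¹ = c * (k * z * k⁻¹) * c⁻¹ := by group
      rw [this]
      exact h1
    have hcx₂ : c * x₂ * c⁻¹ = x₂ := by
      rw [hC, Subgroup.mem_centralizer_iff] at hcC
      have := hcC x₂ (Set.mem_singleton x₂)
      calc c * x₂ * c⁻¹ = (x₂ * c) * c⁻¹ := by rw [this]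
        _ = x₂ := by group
    refine ⟨h₂⁻¹ * (c * k) * h₁, H.mul_mem (H.mul_mem (H.inv_mem hh₂) hckH) hh₁, ?_⟩
    have h2 : h₂⁻¹ * (c * k) * h₁ * x * (h₂⁻¹ * (c * k) * h₁)⁻¹ =
        h₂⁻¹ * (c * (k * x₁ * k⁻¹) * c⁻¹) * h₂ := by
      rw [hx₁def]
      group
    rw [h2, hkx, hcx₂, hx₂def]
    group

end Cfsg.Agent.Lib.Helper9
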