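import Cfsg.Agent.Lib.Helper9.DihedralPair
import Cfsg.Agent.Lib.Helper9.FixCoset
import Cfsg.Agent.Lib.Helper9.OddClass

set_option autoImplicit false

namespace Cfsg.Agent.Lib.Helper9

variable {G : Type*} [Group G]

/-- an element commuting with an element of `H` that fixes only the coset `H` lies in `H` -/
theorem mem_of_commute_of_unique_fix {H : Subgroup G} {a y : G} (haH : a ∈ H)
    (hfix : ∃! c : G ⧸ H, a • c = c) (hc : a * y = y * a) : y ∈ H := by
  obtain ⟨c, -, huniq⟩ := hfix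
  have e1 : (QuotientGroup.mk 1 : G ⧸ H) = c := by
    apply huniq
    show a • (QuotientGroup.mk 1 : G ⧸ H) = QuotientGroup.mk 1
    rw [smul_mk_eq_iff]
    simpa using haH
  have e2 : y • (QuotientGroup.mk 1 : G ⧸ H) = c := by
    apply huniq
    show a • (y • (QuotientGroup.mk 1 : G ⧸ H)) = y • QuotientGroup.mk 1
    rw [← mul_smul, hc, mul_smul]
    congr 1
    show a • (QuotientGroup.mk 1 : G ⧸ H) = QuotientGroup.mk 1
    rw [smul_mk_eq_iff]
    simpa using haH
  have e3 : y • (QuotientGroup.mk 1 : G ⧸ H) = QuotientGroup.mk 1 := e2.trans e1.symm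
  rw [smul_mk_eq_iff] at e3
  simpa using e3

/-- S5439 -/
theorem eq_top_of_two_classes [Finite G] (I J : Set G) (a₀ b₀ : G) (ha₀ : orderOf a₀ = 2)
    (hb₀ : orderOf b₀ = 2) (hI : I = {x | IsConj a₀ x}) (hJ : J = {x | IsConj b₀ x})
    (hIJ : I ≠ J) (H : Subgroup G) (hfix : ∀ x ∈ I ∪ J, ∃! c : G ⧸ H, x • c = c)
    (hcent : ∀ a ∈ I, a ∈ H → ∀ b ∈ I ∪ J, b ∈ H → a ≠ b → a * b = b * a →
      Subgroup.centralizer ({a * b} : Set G) ≤ H) : H = ⊤ := by
  have hI' : I = conjugatesOf a₀ := hI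
  have hJ' : J = conjugatesOf b₀ := hJ
  have hIc : ∀ g : G, ∀ x ∈ I, g * x * g⁻¹ ∈ I := by
    intro g x hx
    rw [hI'] at hx ⊢
    exact conj_mem_conjugatesOf g hx
  have hJc : ∀ g : G, ∀ x ∈ J, g * x * g⁻¹ ∈ J := by
    intro g x hx
    rw [hJ'] at hx ⊢
    exact conj_mem_conjugatesOf g hx
  have hIsq : ∀ x ∈ I, x * x = 1 := by
    intro x hx
    rw [hI'] at hx
    exact sq_eq_one_of_mem_conjugatesOf ha₀ hx
  have hJsq : ∀ x ∈ J, x * x = 1 := by
    intro x hx
    rw [hJ'] at hx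
    exact sq_eq_one_of_mem_conjugatesOf hb₀ hx
  have hdisj : ∀ x, x ∈ I → x ∈ J → False := by
    intro x hxI hxJ
    apply hIJ
    rw [hI', hJ']
    rw [hI'] at hxI
    rw [hJ'] at hxJ
    have h1 : IsConj a₀ x := hxI
    have h2 : IsConj b₀ x := hxJ
    exact (h1.trans h2.symm).conjugatesOf_eq
  have ha₀I : a₀ ∈ I := by rw [hI']; exact mem_conjugatesOf_self
  have hb₀J : b₀ ∈ J := by rw [hJ']; exact mem_conjugatesOf_self
  -- a member of `I` in `H`
  obtain ⟨a, haI, haH⟩ : ∃ a, a ∈ I ∧ a ∈ H := by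
    obtain ⟨c, hc, -⟩ := hfix a₀ (Or.inl ha₀I)
    obtain ⟨g, rfl⟩ := QuotientGroup.mk_surjective c
    have hc' : a₀ • (QuotientGroup.mk g : G ⧸ H) = QuotientGroup.mk g := hc
    rw [smul_mk_eq_iff] at hc'
    refine ⟨g⁻¹ * a₀ * g, ?_, hc'⟩
    have := hIc g⁻¹ a₀ ha₀I
    rwa [inv_inv] at this
  have haa := hIsq a haI
  -- every member of `J` lies in `H`
  have hJH : ∀ b ∈ J, b ∈ H := by
    intro b hbJ
    have hbb := hJsq b hbJ
    rcases Nat.even_or_odd (orderOf (a * b)) with heven | hodd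
    · obtain ⟨m, hm⟩ := heven
      have hnpos : 0 < orderOf (a * b) := orderOf_pos _
      have hmpos : 0 < m := by omega
      obtain ⟨huu, hu1, hau, hbu⟩ := dih_central_invol haa hbb hmpos hm
      set u := (a * b) ^ m with hu
      have hauIJ : a * u ∈ I ∪ J := by
        obtain ⟨g, h | h⟩ := dih_refl_conj haa hbb m
        · left
          rw [← hu] at h
          rw [h]
          exact hIc g a haI
        · right
          rw [← hu] at h
          rw [h]
          exact hJc g b hbJ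
      have hcomm : a * (a * u) = a * u * a := by
        rw [mul_assoc, ← hau]
      have hauH : a * u ∈ H :=
        mem_of_commute_of_unique_fix haH (hfix a (Or.inl haI)) hcomm
      have hne : a ≠ a * u := by
        intro h1
        apply hu1
        calc u = a⁻¹ * (a * u) := by group
          _ = 1 := by rw [← h1]; group
      have h1 := hcent a haI haH (a * u) hauIJ hauH hne hcomm
      apply h1
      rw [Subgroup.mem_centralizer_iff]
      intro w hw
      rw [Set.mem_singleton_iff] at hw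
      rw [hw, ← mul_assoc, haa, one_mul]
      exact hbu.symm
    · exfalso
      obtain ⟨g, hg⟩ := dih_conj_of_odd haa hbb hodd
      apply hdisj b _ hbJ
      rw [hg]
      exact hIc g a haI
  -- conclusion
  rw [eq_top_iff]
  intro g _
  obtain ⟨c, -, huniq⟩ := hfix b₀ (Or.inr hb₀J)
  have e1 : (QuotientGroup.mk 1 : G ⧸ H) = c := by
    apply huniq
    show b₀ • (QuotientGroup.mk 1 : G ⧸ H) = QuotientGroup.mk 1
    rw [smul_mk_eq_iff]
    simpa using hJH b₀ hb₀J
  have e2 : (QuotientGroup.mk g : G ⧸ H) = c := by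
    apply huniq
    show b₀ • (QuotientGroup.mk g : G ⧸ H) = QuotientGroup.mk g
    rw [smul_mk_eq_iff]
    apply hJH
    have := hJc g⁻¹ b₀ hb₀J
    rwa [inv_inv] at this
  have := e1.trans e2.symm
  rw [QuotientGroup.eq] at this
  simpa using this

end Cfsg.Agent.Lib.Helper9
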