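import Cfsg.Agent.S0493

set_option autoImplicit false

/-! A perfect group of order 168 is simple; a group of type (2,3,7) is perfect. -/

namespace Cfsg.Agent.Lib.Helper9.U33

universe u

theorem perfect_of_237 {G : Type*} [Group G] (a b : G)
    (hgen : Subgroup.closure ({a, b} : Set G) = ⊤) (ha : a ^ 2 = 1) (hb : b ^ 3 = 1)
    (hab : (a * b) ^ 7 = 1) : commutator G = ⊤ := by
  have h2 : (Abelianization.of a) ^ 2 = 1 := by rw [← map_pow, ha, map_one]
  have h3 : (Abelianization.of b) ^ 3 = 1 := by rw [← map_pow, hb, map_one]
  have h7 : (Abelianization.of a * Abelianization.of b) ^ 7 = 1 := by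
    rw [← map_mul, ← map_pow, hab, map_one]
  rw [mul_pow] at h7
  have e1 : (Abelianization.of a) ^ 7 = Abelianization.of a := by
    have : (7 : ℕ) = 2 * 3 + 1 := by norm_num
    rw [this, pow_succ, pow_mul, h2, one_pow, one_mul]
  have e2 : (Abelianization.of b) ^ 7 = Abelianization.of b := by
    have : (7 : ℕ) = 3 * 2 + 1 := by norm_num
    rw [this, pow_succ, pow_mul, h3, one_pow, one_mul]
  rw [e1, e2] at h7
  have e3 : Abelianization.of a = (Abelianization.of b)⁻¹ := eq_inv_of_mul_eq_one_left h7
  have e4 : (Abelianization.of a) ^ 3 = 1 := by rw [e3, inv_pow, h3, inv_one]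
  have e5 : Abelianization.of a = 1 := by
    have : (Abelianization.of a) ^ 3 = (Abelianization.of a) ^ 2 * Abelianization.of a := pow_succ _ 2
    rw [e4, h2, one_mul] at this
    exact this.symm
  have e6 : Abelianization.of b = 1 := by
    rw [e5] at e3
    rw [← inv_inj, ← e3, inv_one]
  have ka : a ∈ commutator G := by
    rw [← Abelianization.ker_of, MonoidHom.mem_ker]
    exact e5
  have kb : b ∈ commutator G := by
    rw [← Abelianization.ker_of, MonoidHom.mem_ker]
    exact e6
  rw [eq_top_iff, ← hgen, Subgroup.closure_le]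
  intro x hx
  rw [Set.mem_insert_iff, Set.mem_singleton_iff] at hx
  rcases hx with rfl | rfl
  · exact ka
  · exact kb

theorem perfect_quotient {G : Type u} [Group G] (K : Subgroup G) [K.Normal]
    (h : commutator G = ⊤) : commutator (G ⧸ K) = ⊤ := by
  rw [commutator_def] at h ⊢
  have := Subgroup.map_commutator (⊤ : Subgroup G) ⊤ (QuotientGroup.mk' K)
  rw [h, Subgroup.map_top_of_surjective _ (QuotientGroup.mk'_surjective K)] at this
  exact this.symm

theorem not_cyclic_of_perfect {G : Type u} [Group G] [Nontrivial G] (h : commutator G = ⊤) :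
    ¬ IsCyclic G := by
  intro hc
  have hb : commutator G = ⊥ := by
    rw [commutator_def, Subgroup.commutator_eq_bot_iff_le_centralizer]
    intro g _
    rw [Subgroup.mem_centralizer_iff]
    intro x _
    exact (IsCyclic.isMulCommutative (α := G)).is_comm.comm x g
  rw [h] at hb
  exact top_ne_bot hb

theorem exists_normal_of_not_simple {G : Type u} [Group G] [Nontrivial G] (h : ¬ IsSimpleGroup G) :
    ∃ K : Subgroup G, K.Normal ∧ K ≠ ⊥ ∧ K ≠ ⊤ := by
  by_contra hcon
  push Not at hcon
  apply h
  refine ⟨fun K hK => ?_⟩
  by_cases hb : K = ⊥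
  · left; exact hb
  · right; exact hcon K hK hb

/-- a perfect group of order properly dividing 168 is trivial -/
theorem trivial_of_perfect : ∀ d : ℕ, ∀ (Q : Type u) [Group Q] [Finite Q], Nat.card Q = d →
    d ∣ 168 → d < 168 → commutator Q = ⊤ → d = 1 := by
  intro d
  induction d using Nat.strong_induction_on with
  | _ d ih =>
    intro Q _ _ hc hd hlt hperf
    by_contra hd1
    have hd0 : d ≠ 0 := by
      rw [← hc]
      exact Nat.card_pos.ne'
    haveI : Nontrivial Q := by
      rw [← Finite.one_lt_card_iff_nontrivial, hc]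
      omega
    by_cases hs : IsSimpleGroup Q
    · have h60 := Cfsg.Agent.S0493.result (G := Q) (not_cyclic_of_perfect hperf) (by
        rw [hc]
        have := Nat.le_of_dvd (by norm_num) hd
        have h2 : d ≠ 168 := by omega
        by_contra hgt
        push Not at hgt
        have hmem : d ∈ Nat.divisors 168 := Nat.mem_divisors.mpr ⟨hd, by norm_num⟩
        have hdiv : ∀ e ∈ Nat.divisors 168, 100 < e → e = 168 := by decide
        exact h2 (hdiv d hmem hgt))
      rw [hc] at h60
      rw [h60] at hd
      norm_num at hd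
    · obtain ⟨K, hK, hKb, hKt⟩ := exists_normal_of_not_simple hs
      have hidx := Subgroup.card_mul_index K
      rw [hc] at hidx
      have hq : Nat.card (Q ⧸ K) = K.index := rfl
      have hK1 : 1 < Nat.card K := by
        by_contra hle
        have : Nat.card K = 1 := by
          have := Nat.card_pos (α := K)
          omega
        exact hKb (Subgroup.card_eq_one.mp this)
      have hi0 : K.index ≠ 0 := Subgroup.index_ne_zero_of_finite
      have hlt' : K.index < d := by
        rw [← hidx]
        nlinarith [Nat.pos_of_ne_zero hi0]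
      have hdvd : K.index ∣ 168 := Dvd.dvd.trans ⟨Nat.card K, by rw [← hidx, mul_comm]⟩ hd
      have := ih K.index hlt' (Q ⧸ K) hq hdvd (by omega) (perfect_quotient K hperf)
      exact hKt (Subgroup.index_eq_one.mp this)

theorem simple_of_perfect_168 {G : Type u} [Group G] [Finite G] (hc : Nat.card G = 168)
    (hperf : commutator G = ⊤) : IsSimpleGroup G := by
  haveI : Nontrivial G := by
    rw [← Finite.one_lt_card_iff_nontrivial, hc]
    norm_num
  by_contra hs
  obtain ⟨K, hK, hKb, hKt⟩ := exists_normal_of_not_simple hs
  have hidx := Subgroup.card_mul_index K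
  rw [hc] at hidx
  have hq : Nat.card (G ⧸ K) = K.index := rfl
  have hK1 : 1 < Nat.card K := by
    by_contra hle
    have : Nat.card K = 1 := by
      have := Nat.card_pos (α := K)
      omega
    exact hKb (Subgroup.card_eq_one.mp this)
  have hi0 : K.index ≠ 0 := Subgroup.index_ne_zero_of_finite
  have hlt' : K.index < 168 := by
    rw [← hidx]
    nlinarith [Nat.pos_of_ne_zero hi0]
  have hdvd : K.index ∣ 168 := ⟨Nat.card K, by rw [← hidx, mul_comm]⟩
  have := trivial_of_perfect K.index (G ⧸ K) hq hdvd hlt' (perfect_quotient K hperf)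
  exact hKt (Subgroup.index_eq_one.mp this)

/-- a perfect group whose order is a multiple of 84 and at most 168 has order 168 -/
theorem card_eq_168 {G : Type u} [Group G] [Finite G] (h84 : 84 ∣ Nat.card G)
    (hle : Nat.card G ≤ 168) (hperf : commutator G = ⊤) : Nat.card G = 168 := by
  obtain ⟨k, hk⟩ := h84
  have hpos := Nat.card_pos (α := G)
  have hk12 : k = 1 ∨ k = 2 := by omega
  rcases hk12 with rfl | rfl
  · exfalso
    have := trivial_of_perfect 84 G (by omega) (by norm_num) (by norm_num) hperf
    norm_num at this
  · omega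

end Cfsg.Agent.Lib.Helper9.U33
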