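import Cfsg.Agent.Lib.Helper9.U33A
import Cfsg.Agent.Lib.Helper9.U33B

set_option autoImplicit false

/-! The model subgroup of `SL(3,9)`: order 168, perfect, simple. -/

namespace Cfsg.Agent.Lib.Helper9.U33

abbrev SL3 := Matrix.SpecialLinearGroup (Fin 3) GF9

theorem det_A0 : A0.det = 1 := by
  rw [Matrix.det_fin_three]
  decide +kernel

theorem det_B0 : B0.det = 1 := by
  rw [Matrix.det_fin_three]
  decide +kernel

def a0 : SL3 := ⟨A0, det_A0⟩

def b0 : SL3 := ⟨B0, det_B0⟩

def H0 : Subgroup SL3 := Subgroup.closure {a0, b0}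

theorem a0_sq : a0 ^ 2 = 1 := by
  apply Subtype.ext
  rw [Matrix.SpecialLinearGroup.coe_pow, Matrix.SpecialLinearGroup.coe_one]
  show A0 ^ 2 = 1
  rw [powM_eq]
  decide +kernel

theorem b0_cube : b0 ^ 3 = 1 := by
  apply Subtype.ext
  rw [Matrix.SpecialLinearGroup.coe_pow, Matrix.SpecialLinearGroup.coe_one]
  show B0 ^ 3 = 1
  rw [powM_eq]
  decide +kernel

theorem ab_seven : (a0 * b0) ^ 7 = 1 := by
  apply Subtype.ext
  rw [Matrix.SpecialLinearGroup.coe_pow, Matrix.SpecialLinearGroup.coe_one,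
    Matrix.SpecialLinearGroup.coe_mul]
  show (A0 * B0) ^ 7 = 1
  rw [powM_eq, mul3_eq]
  decide +kernel

theorem ab_ne_one : a0 * b0 ≠ 1 := by
  intro h
  have := congrArg Subtype.val h
  rw [Matrix.SpecialLinearGroup.coe_mul, Matrix.SpecialLinearGroup.coe_one] at this
  change A0 * B0 = 1 at this
  rw [mul3_eq] at this
  revert this
  decide +kernel

theorem b0_ne_one : b0 ≠ 1 := by
  intro h
  have := congrArg Subtype.val h
  rw [Matrix.SpecialLinearGroup.coe_one] at this
  change B0 = 1 at this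
  revert this
  decide +kernel

/-- the commutator `a b a b⁻¹` has order 4 -/
def c0 : SL3 := a0 * b0 * a0 * b0 * b0

theorem c0_four : c0 ^ 4 = 1 := by
  apply Subtype.ext
  rw [Matrix.SpecialLinearGroup.coe_pow, Matrix.SpecialLinearGroup.coe_one]
  show (A0 * B0 * A0 * B0 * B0) ^ 4 = 1
  rw [powM_eq, mul3_eq, mul3_eq, mul3_eq, mul3_eq]
  decide +kernel

theorem c0_two : ¬ c0 ^ 2 = 1 := by
  intro h
  have := congrArg Subtype.val h
  rw [Matrix.SpecialLinearGroup.coe_pow, Matrix.SpecialLinearGroup.coe_one] at this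
  change (A0 * B0 * A0 * B0 * B0) ^ 2 = 1 at this
  rw [powM_eq, mul3_eq, mul3_eq, mul3_eq, mul3_eq] at this
  revert this
  decide +kernel

theorem a0_mem : a0 ∈ H0 := Subgroup.subset_closure (Set.mem_insert _ _)

theorem b0_mem : b0 ∈ H0 := Subgroup.subset_closure (Set.mem_insert_of_mem _ rfl)

theorem mem_L_of_mem (g : SL3) (hg : g ∈ H0) : ∃ n ∈ L, g.val = dec n := by
  have stepA : ∀ y : SL3, (∃ n ∈ L, y.val = dec n) → ∃ n ∈ L, (a0 * y).val = dec n := by
    rintro y ⟨n, hn, e⟩
    obtain ⟨m, hm, e2⟩ := (L_closed n hn).1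
    refine ⟨m, hm, ?_⟩
    rw [Matrix.SpecialLinearGroup.coe_mul, e]
    show A0 * dec n = dec m
    rw [mul3_eq, e2]
  have stepB : ∀ y : SL3, (∃ n ∈ L, y.val = dec n) → ∃ n ∈ L, (b0 * y).val = dec n := by
    rintro y ⟨n, hn, e⟩
    obtain ⟨m, hm, e2⟩ := (L_closed n hn).2
    refine ⟨m, hm, ?_⟩
    rw [Matrix.SpecialLinearGroup.coe_mul, e]
    show B0 * dec n = dec m
    rw [mul3_eq, e2]
  have ha_inv : a0⁻¹ = a0 := by
    rw [inv_eq_iff_mul_eq_one, ← pow_two]
    exact a0_sq
  have hb_inv : b0⁻¹ = b0 * b0 := by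
    rw [inv_eq_iff_mul_eq_one, ← pow_two, ← pow_succ']
    exact b0_cube
  unfold H0 at hg
  induction hg using Subgroup.closure_induction_left with
  | one => exact ⟨43053283, by decide +kernel, by rw [Matrix.SpecialLinearGroup.coe_one]; exact one_mem_L⟩
  | mul_left x hx y hy ih =>
    rw [Set.mem_insert_iff, Set.mem_singleton_iff] at hx
    rcases hx with rfl | rfl
    · exact stepA y ih
    · exact stepB y ih
  | inv_mul_cancel x hx y hy ih =>
    rw [Set.mem_insert_iff, Set.mem_singleton_iff] at hx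
    rcases hx with rfl | rfl
    · rw [ha_inv]
      exact stepA y ih
    · rw [hb_inv, mul_assoc]
      exact stepB _ (stepB y ih)

instance : Finite SL3 := inferInstance

theorem card_H0_le : Nat.card H0 ≤ 168 := by
  classical
  let S : Finset Mat := (L.toFinset).image dec
  have hS : S.card ≤ 168 := by
    refine (Finset.card_image_le).trans ?_
    refine (List.toFinset_card_le L).trans ?_
    rw [L_length]
  let f : H0 → S := fun g => ⟨g.1.val, by
    obtain ⟨n, hn, e⟩ := mem_L_of_mem g.1 g.2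
    rw [e]
    exact Finset.mem_image_of_mem _ (List.mem_toFinset.mpr hn)⟩
  have hf : Function.Injective f := by
    intro g h e
    have e' : g.1.val = h.1.val := by
      have := congrArg (fun s : S => s.1) e
      exact this
    exact Subtype.ext (Subtype.ext e')
  have := Nat.card_le_card_of_injective f hf
  rw [Nat.card_eq_fintype_card (α := S), Fintype.card_coe] at this
  exact this.trans hS

theorem perfect_H0 : commutator H0 = ⊤ := by
  apply perfect_of_237 (⟨a0, a0_mem⟩ : H0) ⟨b0, b0_mem⟩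
  · have h := Subgroup.closure_closure_coe_preimage (k := ({a0, b0} : Set SL3))
    have e : ((↑) : Subgroup.closure ({a0, b0} : Set SL3) → SL3) ⁻¹' ({a0, b0} : Set SL3) =
        ({⟨a0, a0_mem⟩, ⟨b0, b0_mem⟩} : Set H0) := by
      ext x
      simp only [Set.mem_preimage, Set.mem_insert_iff, Set.mem_singleton_iff]
      constructor
      · rintro (h | h)
        · left; exact Subtype.ext h
        · right; exact Subtype.ext h
      · rintro (h | h)
        · left; exact congrArg Subtype.val h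
        · right; exact congrArg Subtype.val h
    rw [e] at h
    exact h
  · exact Subtype.ext a0_sq
  · exact Subtype.ext b0_cube
  · exact Subtype.ext ab_seven

theorem card_H0 : Nat.card H0 = 168 := by
  haveI : Fact (Nat.Prime 7) := ⟨by norm_num⟩
  haveI : Fact (Nat.Prime 3) := ⟨by norm_num⟩
  haveI : Fact (Nat.Prime 2) := ⟨by norm_num⟩
  apply card_eq_168 _ card_H0_le perfect_H0
  have o7 : orderOf (a0 * b0) = 7 := orderOf_eq_prime ab_seven ab_ne_one
  have o3 : orderOf b0 = 3 := orderOf_eq_prime b0_cube b0_ne_one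
  have o4 : orderOf c0 = 2 ^ (1 + 1) := orderOf_eq_prime_pow (by rw [pow_one]; exact c0_two) c0_four
  have m7 : a0 * b0 ∈ H0 := H0.mul_mem a0_mem b0_mem
  have mc : c0 ∈ H0 := H0.mul_mem (H0.mul_mem (H0.mul_mem (H0.mul_mem a0_mem b0_mem) a0_mem) b0_mem) b0_mem
  have d7 : 7 ∣ Nat.card H0 := by
    have := orderOf_dvd_natCard (⟨a0 * b0, m7⟩ : H0)
    rw [Subgroup.orderOf_mk, o7] at this
    exact this
  have d3 : 3 ∣ Nat.card H0 := by
    have := orderOf_dvd_natCard (⟨b0, b0_mem⟩ : H0)
    rw [Subgroup.orderOf_mk, o3] at this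
    exact this
  have d4 : 4 ∣ Nat.card H0 := by
    have := orderOf_dvd_natCard (⟨c0, mc⟩ : H0)
    rw [Subgroup.orderOf_mk, o4] at this
    exact this
  have h12 : 12 ∣ Nat.card H0 := Nat.Coprime.mul_dvd_of_dvd_of_dvd (by norm_num : Nat.Coprime 4 3) d4 d3
  exact Nat.Coprime.mul_dvd_of_dvd_of_dvd (by norm_num : Nat.Coprime 12 7) h12 d7

instance simple_H0 : IsSimpleGroup H0 := simple_of_perfect_168 card_H0 perfect_H0

end Cfsg.Agent.Lib.Helper9.U33
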