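import Cfsg.Agent.Lib.Helper9.U33D

set_option autoImplicit false

/-! The model subgroup embeds into `PSU(3,3)` over any field with nine elements. -/

namespace Cfsg.Agent.Lib.Helper9.U33

open Cfsg Matrix

theorem nontrivial_H0 : Nontrivial H0 := by
  rw [← Finite.one_lt_card_iff_nontrivial, card_H0]
  norm_num

theorem not_comm_H0 : ¬ ∀ x y : H0, x * y = y * x := by
  intro hcomm
  haveI := nontrivial_H0
  have hb : commutator H0 = ⊥ := by
    rw [commutator_def, Subgroup.commutator_eq_bot_iff_le_centralizer]
    intro g _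
    rw [Subgroup.mem_centralizer_iff]
    intro x _
    exact hcomm x g
  rw [perfect_H0] at hb
  exact top_ne_bot hb

theorem exists_embedding {F : Type*} [Field F] [Fintype F] (hF : Fintype.card F = 9) :
    ∃ ψ : H0 →* PSU 3 F 3, Function.Injective ψ := by
  haveI : Fact (Nat.Prime 3) := ⟨by norm_num⟩
  haveI : CharP F 3 := charP_of_card_eq_prime_pow (p := 3) (f := 2) (by rw [hF]; norm_num)
  obtain ⟨j, hj⟩ : IsSquare (-1 : F) := FiniteField.isSquare_neg_one_iff.mpr (by rw [hF]; norm_num)
  have hφ : Function.Injective (toF j hj.symm) := RingHom.injective _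
  have hm_inj : Function.Injective (Matrix.SpecialLinearGroup.map (n := Fin 3) (toF j hj.symm)) := by
    intro g h e
    have e' := congrArg Subtype.val e
    apply Subtype.ext
    ext i k
    have e2 := congrFun (congrFun e' i) k
    exact hφ e2
  have hmem : ∀ g ∈ H0, Matrix.SpecialLinearGroup.map (n := Fin 3) (toF j hj.symm) g ∈ SU 3 F 3 := by
    intro g hg
    have hle : H0 ≤ (SU 3 F 3).comap (Matrix.SpecialLinearGroup.map (n := Fin 3) (toF j hj.symm)) := by
      unfold H0
      rw [Subgroup.closure_le]
      intro x hx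
      rw [Set.mem_insert_iff, Set.mem_singleton_iff] at hx
      rcases hx with rfl | rfl
      · intro u v
        exact herm_of_unitary (A0.map (toF j hj.symm)) (unitary_map _ A0 unitary_A0) u v
      · intro u v
        exact herm_of_unitary (B0.map (toF j hj.symm)) (unitary_map _ B0 unitary_B0) u v
    exact hle hg
  let ι : H0 →* SU 3 F 3 :=
    ((Matrix.SpecialLinearGroup.map (n := Fin 3) (toF j hj.symm)).comp H0.subtype).codRestrict
      (SU 3 F 3) (fun g => hmem g.1 g.2)
  have hι : Function.Injective ι := by
    intro g h e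
    have e' : Matrix.SpecialLinearGroup.map (n := Fin 3) (toF j hj.symm) g.1 =
        Matrix.SpecialLinearGroup.map (n := Fin 3) (toF j hj.symm) h.1 := congrArg Subtype.val e
    exact Subtype.ext (hm_inj e')
  refine ⟨(QuotientGroup.mk' (Subgroup.center (SU 3 F 3))).comp ι, ?_⟩
  rw [← MonoidHom.ker_eq_bot_iff]
  rcases (MonoidHom.normal_ker ((QuotientGroup.mk' (Subgroup.center (SU 3 F 3))).comp ι)).eq_bot_or_eq_top
    with h | h
  · exact h
  · exfalso
    apply not_comm_H0
    intro x y
    apply hι
    rw [map_mul, map_mul]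
    have hx : x ∈ ((QuotientGroup.mk' (Subgroup.center (SU 3 F 3))).comp ι).ker := by
      rw [h]
      exact Subgroup.mem_top x
    rw [MonoidHom.mem_ker, MonoidHom.comp_apply, QuotientGroup.mk'_apply,
      QuotientGroup.eq_one_iff] at hx
    exact (Subgroup.mem_center_iff.mp hx (ι y)).symm

end Cfsg.Agent.Lib.Helper9.U33
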