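import Mathlib
import Cfsg.Agent.Lib.Helper4.U42pMain
import Cfsg.Agent.Lib.Helper4.U42Sp
import Cfsg.Agent.Lib.Helper9.Sift4

/-!
The element orders of the presented group `U42p` (the group `U₄(2) ≅ PSp₄(3)` of order `25920`), and so of
`PSp 2 F` for a field `F` with three elements: they are `1, 2, 3, 4, 5, 6, 9, 12`.
-/

set_option autoImplicit false

namespace Cfsg.Agent.Lib.Helper9.U42Spec

open Cfsg.Agent.Lib.Helper4 Cfsg.Agent.Lib.Helper4.TC Cfsg.Agent.Lib.Helper4.TCD Cfsg.Agent.Lib.Helper4.TC.Log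
  Cfsg.Agent.Lib.Helper9.Sift Cfsg.Agent.Lib.Helper9.Sift4

set_option maxRecDepth 1000000
set_option Elab.async false

/-! ### the tables of the conjugating elements -/

noncomputable def repTab_0 : Nat := nat_lit 0x21861861861861861841041041041041041041041041041041041041041041041040
noncomputable def j1Tab_0 : Nat := nat_lit 0x800820000000114508c154142085502045505045501154501041001042080
noncomputable def j2Tab_0 : Nat := nat_lit 0x1000401000010401000400400810431011011000420420c4001000044000041000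
noncomputable def j3Tab_0 : Nat := nat_lit 0x1042041002002000081040040041000002002081082040000080002081000000000
noncomputable def repF (i : Nat) : Nat := rdw 6 63 repTab_0 i
noncomputable def j1F (i : Nat) : Nat := rdw 6 63 j1Tab_0 i
noncomputable def j2F (i : Nat) : Nat := rdw 6 63 j2Tab_0 i
noncomputable def j3F (i : Nat) : Nat := rdw 6 63 j3Tab_0 i

/-! ### the kernel checks -/

theorem c_F0 : allBelow (fun idx => Nat.ble (Nat.succ (U42pL.S.dep 0 idx)) 7) 45 = true := by decide +kernel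
theorem c_F1 : allBelow (fun idx => Nat.ble (Nat.succ (U42pL.S.dep 1 idx)) 7) 32 = true := by decide +kernel
theorem c_F2 : allBelow (fun idx => Nat.ble (Nat.succ (U42pL.S.dep 2 idx)) 7) 6 = true := by decide +kernel
theorem c_F3 : allBelow (fun idx => Nat.ble (Nat.succ (U42pL.S.dep 3 idx)) 7) 3 = true := by decide +kernel

theorem c_conj : allBelow (conjOK U42pL.S 7 repF j1F j2F j3F) 45 = true := by decide +kernel
theorem c_rep : allBelow (fun i0 => bor (Nat.beq (repF i0) 0) (bor (Nat.beq (repF i0) 1) (Nat.beq (repF i0) 33))) 45 =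
    true := by decide +kernel

theorem c_ord_0_0 : allRange (fun i1 => allBelow (fun i2 => allBelow (fun i3 => ordOK U42pL.S 7 0 i1 i2 i3) 3) 6) 0 8 = true := by decide +kernel
theorem c_ord_0_1 : allRange (fun i1 => allBelow (fun i2 => allBelow (fun i3 => ordOK U42pL.S 7 0 i1 i2 i3) 3) 6) 8 16 = true := by decide +kernel
theorem c_ord_0_2 : allRange (fun i1 => allBelow (fun i2 => allBelow (fun i3 => ordOK U42pL.S 7 0 i1 i2 i3) 3) 6) 16 24 = true := by decide +kernel
theorem c_ord_0_3 : allRange (fun i1 => allBelow (fun i2 => allBelow (fun i3 => ordOK U42pL.S 7 0 i1 i2 i3) 3) 6) 24 32 = true := by decide +kernel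
theorem c_ord_1_0 : allRange (fun i1 => allBelow (fun i2 => allBelow (fun i3 => ordOK U42pL.S 7 1 i1 i2 i3) 3) 6) 0 8 = true := by decide +kernel
theorem c_ord_1_1 : allRange (fun i1 => allBelow (fun i2 => allBelow (fun i3 => ordOK U42pL.S 7 1 i1 i2 i3) 3) 6) 8 16 = true := by decide +kernel
theorem c_ord_1_2 : allRange (fun i1 => allBelow (fun i2 => allBelow (fun i3 => ordOK U42pL.S 7 1 i1 i2 i3) 3) 6) 16 24 = true := by decide +kernel
theorem c_ord_1_3 : allRange (fun i1 => allBelow (fun i2 => allBelow (fun i3 => ordOK U42pL.S 7 1 i1 i2 i3) 3) 6) 24 32 = true := by decide +kernel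
theorem c_ord_33_0 : allRange (fun i1 => allBelow (fun i2 => allBelow (fun i3 => ordOK U42pL.S 7 33 i1 i2 i3) 3) 6) 0 8 = true := by decide +kernel
theorem c_ord_33_1 : allRange (fun i1 => allBelow (fun i2 => allBelow (fun i3 => ordOK U42pL.S 7 33 i1 i2 i3) 3) 6) 8 16 = true := by decide +kernel
theorem c_ord_33_2 : allRange (fun i1 => allBelow (fun i2 => allBelow (fun i3 => ordOK U42pL.S 7 33 i1 i2 i3) 3) 6) 16 24 = true := by decide +kernel
theorem c_ord_33_3 : allRange (fun i1 => allBelow (fun i2 => allBelow (fun i3 => ordOK U42pL.S 7 33 i1 i2 i3) 3) 6) 24 32 = true := by decide +kernel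

theorem c_e12 : fixB U42pL.S (elt U42pL.S 7 0 0 3 1) 12 = true := by decide +kernel
theorem c_e12_6 : Nat.beq (iter (elt U42pL.S 7 0 0 3 1) 6 1) 1 = false := by decide +kernel
theorem c_e12_4 : Nat.beq (iter (elt U42pL.S 7 0 0 3 1) 4 2) 2 = false := by decide +kernel
theorem c_e9 : fixB U42pL.S (elt U42pL.S 7 1 0 0 1) 9 = true := by decide +kernel
theorem c_e9_3 : Nat.beq (iter (elt U42pL.S 7 1 0 0 1) 3 0) 0 = false := by decide +kernel
theorem c_e5 : fixB U42pL.S (elt U42pL.S 7 1 0 0 2) 5 = true := by decide +kernel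
theorem c_e5_1 : Nat.beq (iter (elt U42pL.S 7 1 0 0 2) 1 0) 0 = false := by decide +kernel

/-! ### the permutation representation -/

/-- the presented group -/
abbrev Grp : Type := PU42p.P.Grp

/-- the permutation representation on 45 points -/
noncomputable def phi : Grp →* Equiv.Perm (Fin 45) := U42pA.inst.phi

theorem phi_injective : Function.Injective phi := U42pMain.order_aux.2.1

theorem card_grp : Nat.card Grp = 25920 := U42pMain.order_aux.2.2

instance : Finite Grp := U42pMain.order_aux.1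

/-- the images of the letters -/
noncomputable def q0 : ℕ → Equiv.Perm (Fin 45) := fun i => phi (PU42p.P.gR i)

theorem q0_val (i : ℕ) (hi : i < 4) (p : Fin 45) : (q0 i p).1 = U42pA.T.tbl p.1 (U42pA.D.inv i) := by
  have hg : Inst.gE PU42p.P U42pA.subs i = PU42p.P.gR i := extG_le (le_of_lt hi)
  have := U42pA.inst.hphi i hi p
  rw [hg] at this
  exact this

theorem range_eq : phi.range = Subgroup.closure (q0 '' Set.Iio 4) := by
  have h1 : (⊤ : Subgroup Grp) = Subgroup.closure (PU42p.P.gR '' Set.Iio 4) := PU42p.valid.gen_top.symm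
  rw [MonoidHom.range_eq_map, h1, MonoidHom.map_closure, Set.image_image]
  rfl

theorem card_range : Nat.card (Subgroup.closure (q0 '' Set.Iio 4)) = 25920 := by
  rw [← range_eq, ← card_grp]
  exact (Nat.card_congr (MonoidHom.ofInjective phi_injective).toEquiv).symm

/-- the letters act as the first four stored permutations -/
theorem h0L : ∀ i, i < U42pL.S.k → ∀ p : Fin U42pL.S.N, ((q0 i : Equiv.Perm (Fin U42pL.S.N)) p).1 =
    U42pL.S.tab i p.1 := by
  intro i hi p
  have hi : i < 4 := hi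
  rw [q0_val i hi p]
  interval_cases i <;> rfl

theorem hr : U42pL.S.r = 4 := rfl

theorem hF : ∀ j, j < 4 → ∀ idx, idx < U42pL.S.n j → U42pL.S.dep j idx < 7 := by
  intro j hj idx hidx
  interval_cases j
  · rw [U42pL.c_n0] at hidx; exact ble_succ (allBelow_eq_true.1 c_F0 idx hidx)
  · rw [U42pL.c_n1] at hidx; exact ble_succ (allBelow_eq_true.1 c_F1 idx hidx)
  · rw [U42pL.c_n2] at hidx; exact ble_succ (allBelow_eq_true.1 c_F2 idx hidx)
  · rw [U42pL.c_n3] at hidx; exact ble_succ (allBelow_eq_true.1 c_F3 idx hidx)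

theorem hcard : Nat.card (Subgroup.closure ((q0 : ℕ → Equiv.Perm (Fin U42pL.S.N)) '' Set.Iio U42pL.S.k)) ≤
    U42pL.S.n 0 * U42pL.S.n 1 * U42pL.S.n 2 * U42pL.S.n 3 := by
  rw [U42pL.c_n0, U42pL.c_n1, U42pL.c_n2, U42pL.c_n3]
  exact le_of_eq card_range

theorem hconj : ∀ i0, i0 < U42pL.S.n 0 → conjOK U42pL.S 7 repF j1F j2F j3F i0 = true := by
  intro i0 hi0
  rw [U42pL.c_n0] at hi0
  exact allBelow_eq_true.1 c_conj i0 hi0

theorem hchk : ∀ i0, i0 < U42pL.S.n 0 → ∀ i1, i1 < U42pL.S.n 1 → ∀ i2, i2 < U42pL.S.n 2 → ∀ i3, i3 < U42pL.S.n 3 →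
    ordOK U42pL.S 7 (repF i0) i1 i2 i3 = true := by
  intro i0 hi0 i1 hi1 i2 hi2 i3 hi3
  rw [U42pL.c_n0] at hi0
  rw [U42pL.c_n1] at hi1
  rw [U42pL.c_n2] at hi2
  rw [U42pL.c_n3] at hi3
  have hrep := allBelow_eq_true.1 c_rep i0 hi0
  rw [bor_eq_true, bor_eq_true] at hrep
  obtain ⟨k, hk⟩ : ∃ k, k = i1 / 8 := ⟨_, rfl⟩
  have hk4 : k < 4 := by omega
  rcases hrep with h | h | h
  · rw [beq_eq h]
    interval_cases k
    · exact allBelow_eq_true.1 (allBelow_eq_true.1 (range_of_allRange c_ord_0_0 i1 (by omega) (by omega)) i2 hi2) i3 hi3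
    · exact allBelow_eq_true.1 (allBelow_eq_true.1 (range_of_allRange c_ord_0_1 i1 (by omega) (by omega)) i2 hi2) i3 hi3
    · exact allBelow_eq_true.1 (allBelow_eq_true.1 (range_of_allRange c_ord_0_2 i1 (by omega) (by omega)) i2 hi2) i3 hi3
    · exact allBelow_eq_true.1 (allBelow_eq_true.1 (range_of_allRange c_ord_0_3 i1 (by omega) (by omega)) i2 hi2) i3 hi3
  · rw [beq_eq h]
    interval_cases k
    · exact allBelow_eq_true.1 (allBelow_eq_true.1 (range_of_allRange c_ord_1_0 i1 (by omega) (by omega)) i2 hi2) i3 hi3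
    · exact allBelow_eq_true.1 (allBelow_eq_true.1 (range_of_allRange c_ord_1_1 i1 (by omega) (by omega)) i2 hi2) i3 hi3
    · exact allBelow_eq_true.1 (allBelow_eq_true.1 (range_of_allRange c_ord_1_2 i1 (by omega) (by omega)) i2 hi2) i3 hi3
    · exact allBelow_eq_true.1 (allBelow_eq_true.1 (range_of_allRange c_ord_1_3 i1 (by omega) (by omega)) i2 hi2) i3 hi3
  · rw [beq_eq h]
    interval_cases k
    · exact allBelow_eq_true.1 (allBelow_eq_true.1 (range_of_allRange c_ord_33_0 i1 (by omega) (by omega)) i2 hi2) i3 hi3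
    · exact allBelow_eq_true.1 (allBelow_eq_true.1 (range_of_allRange c_ord_33_1 i1 (by omega) (by omega)) i2 hi2) i3 hi3
    · exact allBelow_eq_true.1 (allBelow_eq_true.1 (range_of_allRange c_ord_33_2 i1 (by omega) (by omega)) i2 hi2) i3 hi3
    · exact allBelow_eq_true.1 (allBelow_eq_true.1 (range_of_allRange c_ord_33_3 i1 (by omega) (by omega)) i2 hi2) i3 hi3

/-- every element of the presented group has order dividing `12`, `9` or `5` -/
theorem pow_cases_grp (g : Grp) : g ^ 12 = 1 ∨ g ^ 9 = 1 ∨ g ^ 5 = 1 := by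
  have hm : phi g ∈ Subgroup.closure ((q0 : ℕ → Equiv.Perm (Fin U42pL.S.N)) '' Set.Iio U42pL.S.k) := by
    have : phi g ∈ phi.range := ⟨g, rfl⟩
    rw [range_eq] at this
    exact this
  rcases Sift4.pow_cases_conj U42pL.ok q0 h0L hr 7 hF hcard repF j1F j2F j3F hconj hchk (phi g) hm with h | h | h
  · left; apply phi_injective; rw [map_pow, map_one]; exact h
  · right; left; apply phi_injective; rw [map_pow, map_one]; exact h
  · right; right; apply phi_injective; rw [map_pow, map_one]; exact h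

/-- pulling back a product of transversal elements -/
theorem exists_of_elt (i0 i1 i2 i3 : ℕ) (hi0 : i0 < 45) (hi1 : i1 < 32) (hi2 : i2 < 6) (hi3 : i3 < 3) :
    ∃ g : Grp, phi g = Sift.tr U42pL.S q0 0 7 i0 * Sift.tr U42pL.S q0 1 7 i1 * Sift.tr U42pL.S q0 2 7 i2 *
      Sift.tr U42pL.S q0 3 7 i3 := by
  have hm := Sift4.prod_mem U42pL.ok q0 h0L hr 7 i0 i1 i2 i3 (by rw [U42pL.c_n0]; exact hi0)
    (by rw [U42pL.c_n1]; exact hi1) (by rw [U42pL.c_n2]; exact hi2) (by rw [U42pL.c_n3]; exact hi3)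
  have hm' : Sift.tr U42pL.S q0 0 7 i0 * Sift.tr U42pL.S q0 1 7 i1 * Sift.tr U42pL.S q0 2 7 i2 *
      Sift.tr U42pL.S q0 3 7 i3 ∈ phi.range := by rw [range_eq]; exact hm
  obtain ⟨g, hg⟩ := hm'
  exact ⟨g, hg⟩

theorem ne_of_beq_false {a b : ℕ} (h : Nat.beq a b = false) : a ≠ b := by
  intro e
  rw [e, Nat.beq_refl] at h
  exact absurd h (by decide)

theorem exists_twelve : ∃ g : Grp, orderOf g = 12 := by
  obtain ⟨g, hg⟩ := exists_of_elt 0 0 3 1 (by norm_num) (by norm_num) (by norm_num) (by norm_num)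
  refine ⟨g, ?_⟩
  rw [← orderOf_injective phi phi_injective g, hg]
  have b0 : 0 < U42pL.S.n 0 := by rw [U42pL.c_n0]; norm_num
  have b1 : 0 < U42pL.S.n 1 := by rw [U42pL.c_n1]; norm_num
  have b2 : 3 < U42pL.S.n 2 := by rw [U42pL.c_n2]; norm_num
  have b3 : 1 < U42pL.S.n 3 := by rw [U42pL.c_n3]; norm_num
  apply orderOf_eq_twelve
  · exact pow_eq_one_of_fixB U42pL.ok q0 h0L hr 7 hF hcard 0 0 3 1 b0 b1 b2 b3 12 c_e12
  · exact pow_ne_one_of_iter U42pL.ok q0 h0L hr 7 0 0 3 1 b0 b1 b2 b3 6 1 (by show 1 < 45; norm_num)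
      (ne_of_beq_false c_e12_6)
  · exact pow_ne_one_of_iter U42pL.ok q0 h0L hr 7 0 0 3 1 b0 b1 b2 b3 4 2 (by show 2 < 45; norm_num)
      (ne_of_beq_false c_e12_4)

theorem exists_nine : ∃ g : Grp, orderOf g = 9 := by
  obtain ⟨g, hg⟩ := exists_of_elt 1 0 0 1 (by norm_num) (by norm_num) (by norm_num) (by norm_num)
  refine ⟨g, ?_⟩
  rw [← orderOf_injective phi phi_injective g, hg]
  have b0 : 1 < U42pL.S.n 0 := by rw [U42pL.c_n0]; norm_num
  have b1 : 0 < U42pL.S.n 1 := by rw [U42pL.c_n1]; norm_num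
  have b2 : 0 < U42pL.S.n 2 := by rw [U42pL.c_n2]; norm_num
  have b3 : 1 < U42pL.S.n 3 := by rw [U42pL.c_n3]; norm_num
  apply orderOf_eq_nine
  · exact pow_eq_one_of_fixB U42pL.ok q0 h0L hr 7 hF hcard 1 0 0 1 b0 b1 b2 b3 9 c_e9
  · exact pow_ne_one_of_iter U42pL.ok q0 h0L hr 7 1 0 0 1 b0 b1 b2 b3 3 0 (by show 0 < 45; norm_num)
      (ne_of_beq_false c_e9_3)

theorem exists_five : ∃ g : Grp, orderOf g = 5 := by
  obtain ⟨g, hg⟩ := exists_of_elt 1 0 0 2 (by norm_num) (by norm_num) (by norm_num) (by norm_num)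
  refine ⟨g, ?_⟩
  rw [← orderOf_injective phi phi_injective g, hg]
  have b0 : 1 < U42pL.S.n 0 := by rw [U42pL.c_n0]; norm_num
  have b1 : 0 < U42pL.S.n 1 := by rw [U42pL.c_n1]; norm_num
  have b2 : 0 < U42pL.S.n 2 := by rw [U42pL.c_n2]; norm_num
  have b3 : 2 < U42pL.S.n 3 := by rw [U42pL.c_n3]; norm_num
  apply orderOf_eq_five
  · exact pow_eq_one_of_fixB U42pL.ok q0 h0L hr 7 hF hcard 1 0 0 2 b0 b1 b2 b3 5 c_e5
  · have := pow_ne_one_of_iter U42pL.ok q0 h0L hr 7 1 0 0 2 b0 b1 b2 b3 1 0 (by show 0 < 45; norm_num)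
      (ne_of_beq_false c_e5_1)
    rwa [pow_one] at this

/-- the element orders of a group all of whose elements have order dividing `12`, `9` or `5`, with elements of
orders `12`, `9` and `5` -/
theorem range_orderOf_of {G : Type*} [Group G] [Finite G] (hc : ∀ g : G, g ^ 12 = 1 ∨ g ^ 9 = 1 ∨ g ^ 5 = 1)
    (h12 : ∃ g : G, orderOf g = 12) (h9 : ∃ g : G, orderOf g = 9) (h5 : ∃ g : G, orderOf g = 5) :
    Set.range (orderOf : G → ℕ) = {1, 2, 3, 4, 5, 6, 9, 12} := by
  ext n
  simp only [Set.mem_range, Set.mem_insert_iff, Set.mem_singleton_iff]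
  constructor
  · rintro ⟨h, rfl⟩
    have hpos : 0 < orderOf h := orderOf_pos h
    rcases hc h with hc | hc | hc
    · have hd := orderOf_dvd_of_pow_eq_one hc
      have hle := Nat.le_of_dvd (by norm_num) hd
      generalize orderOf h = o at hd hle hpos
      interval_cases o <;> omega
    · have hd := orderOf_dvd_of_pow_eq_one hc
      have hle := Nat.le_of_dvd (by norm_num) hd
      generalize orderOf h = o at hd hle hpos
      interval_cases o <;> omega
    · have hd := orderOf_dvd_of_pow_eq_one hc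
      have hle := Nat.le_of_dvd (by norm_num) hd
      generalize orderOf h = o at hd hle hpos
      interval_cases o <;> omega
  · obtain ⟨x, hx⟩ := h12
    have hp : ∀ k, k ≠ 0 → orderOf (x ^ k) = 12 / Nat.gcd 12 k := by
      intro k hk
      rw [orderOf_pow' x hk, hx]
    rintro (rfl | rfl | rfl | rfl | rfl | rfl | rfl | rfl)
    · exact ⟨1, orderOf_one⟩
    · exact ⟨x ^ 6, by rw [hp 6 (by norm_num)]; rfl⟩
    · exact ⟨x ^ 4, by rw [hp 4 (by norm_num)]; rfl⟩
    · exact ⟨x ^ 3, by rw [hp 3 (by norm_num)]; rfl⟩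
    · exact h5
    · exact ⟨x ^ 2, by rw [hp 2 (by norm_num)]; rfl⟩
    · exact h9
    · exact ⟨x, hx⟩

theorem range_orderOf_grp : Set.range (orderOf : Grp → ℕ) = {1, 2, 3, 4, 5, 6, 9, 12} :=
  range_orderOf_of pow_cases_grp exists_twelve exists_nine exists_five

/-- the element orders of `PSp₄(3)` -/
theorem range_orderOf_PSp {F : Type*} [Field F] [Fintype F] (hF : Fintype.card F = 3) :
    Set.range (orderOf : Cfsg.PSp 2 F → ℕ) = {1, 2, 3, 4, 5, 6, 9, 12} := by
  obtain ⟨e⟩ := U42Sp.equiv_PSp hF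
  rw [← range_orderOf_grp]
  ext n
  constructor
  · rintro ⟨x, rfl⟩
    exact ⟨e.symm x, MulEquiv.orderOf_eq e.symm x⟩
  · rintro ⟨x, rfl⟩
    exact ⟨e x, MulEquiv.orderOf_eq e x⟩

end Cfsg.Agent.Lib.Helper9.U42Spec
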