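import Mathlib
import Cfsg.Agent.Lib.Helper8.W2Defs

set_option autoImplicit false
set_option linter.unusedVariables false
set_option linter.style.longLine false

/-! # W2 = S4402, EXISTS-CONC, part A: the concrete model `T0 = (D8 × D8) ⋊ Z2` of `Syl₂(S₈)` and the
element-level facts, all by `decide +kernel` on the 128 elements. -/

namespace Cfsg.Agent.Lib.Helper9.W2Conc

open Cfsg.Agent.Lib.Helper8.W2

abbrev D : Type := DihedralGroup 4
abbrev N : Type := D × D
abbrev C2 : Type := Multiplicative (ZMod 2)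

def swapAut : MulAut N := MulEquiv.prodComm

def phiFun (s : C2) : MulAut N := if s = 1 then 1 else swapAut

theorem phiFun_mul : ∀ a b : C2, phiFun (a * b) = phiFun a * phiFun b := by decide

def phi : C2 →* MulAut N := MonoidHom.mk' phiFun phiFun_mul

/-- the concrete group `D8 ≀ Z2` of order 128 -/
abbrev T0 : Type := N ⋊[phi] C2

instance instFintypeT0 : Fintype T0 := Fintype.ofEquiv _ SemidirectProduct.equivProd.symm

def z1 : T0 := ⟨(DihedralGroup.r 2, 1), 1⟩
def z2 : T0 := ⟨(1, DihedralGroup.r 2), 1⟩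
def tau : T0 := ⟨1, Multiplicative.ofAdd 1⟩

def inE1 (a : D) : Prop := a = 1 ∨ a = DihedralGroup.r 2 ∨ a = DihedralGroup.sr 0 ∨ a = DihedralGroup.sr 2
def inE2 (a : D) : Prop := a = 1 ∨ a = DihedralGroup.r 2 ∨ a = DihedralGroup.sr 1 ∨ a = DihedralGroup.sr 3
def inZD (a : D) : Prop := a = 1 ∨ a = DihedralGroup.r 2

instance : DecidablePred inE1 := fun a =>
  inferInstanceAs (Decidable (a = 1 ∨ a = DihedralGroup.r 2 ∨ a = DihedralGroup.sr 0 ∨ a = DihedralGroup.sr 2))
instance : DecidablePred inE2 := fun a =>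
  inferInstanceAs (Decidable (a = 1 ∨ a = DihedralGroup.r 2 ∨ a = DihedralGroup.sr 1 ∨ a = DihedralGroup.sr 3))
instance : DecidablePred inZD := fun a => inferInstanceAs (Decidable (a = 1 ∨ a = DihedralGroup.r 2))

def inB (x : T0) : Prop := x.right = 1
def inV1 (x : T0) : Prop := x.right = 1 ∧ inE1 x.left.1 ∧ inE1 x.left.2
def inV2 (x : T0) : Prop := x.right = 1 ∧ inE2 x.left.1 ∧ inE2 x.left.2
def inZ0 (x : T0) : Prop := x.right = 1 ∧ inZD x.left.1 ∧ inZD x.left.2

instance : DecidablePred inB := fun x => inferInstanceAs (Decidable (x.right = 1))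
instance : DecidablePred inV1 := fun x =>
  inferInstanceAs (Decidable (x.right = 1 ∧ inE1 x.left.1 ∧ inE1 x.left.2))
instance : DecidablePred inV2 := fun x =>
  inferInstanceAs (Decidable (x.right = 1 ∧ inE2 x.left.1 ∧ inE2 x.left.2))
instance : DecidablePred inZ0 := fun x =>
  inferInstanceAs (Decidable (x.right = 1 ∧ inZD x.left.1 ∧ inZD x.left.2))

/-- `w ∈ B` and `[w, B] ⊆ {1, zi}`, decidable form of `InC` -/
def inC (zi w : T0) : Prop := inB w ∧ ∀ d : T0, inB d → cm w d = 1 ∨ cm w d = zi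

instance (zi w : T0) : Decidable (inC zi w) :=
  inferInstanceAs (Decidable (inB w ∧ ∀ d : T0, inB d → cm w d = 1 ∨ cm w d = zi))

/-- involutions of `B` commuting with all conjugates of `v` -/
def inK (v y : T0) : Prop := y * y = 1 ∧ inB y ∧ ∀ g : T0, y * (g * v * g⁻¹) = (g * v * g⁻¹) * y

instance (v y : T0) : Decidable (inK v y) :=
  inferInstanceAs (Decidable (y * y = 1 ∧ inB y ∧ ∀ g : T0, y * (g * v * g⁻¹) = (g * v * g⁻¹) * y))

set_option maxRecDepth 100000

theorem card_T0 : Fintype.card T0 = 128 := by decide +kernel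

/-! ### closure properties -/

theorem B_mul : ∀ a b : T0, inB a → inB b → inB (a * b) := by decide +kernel
theorem B_inv : ∀ a : T0, inB a → inB a⁻¹ := by decide +kernel
theorem V1_mul : ∀ a b : T0, inV1 a → inV1 b → inV1 (a * b) := by decide +kernel
theorem V1_inv : ∀ a : T0, inV1 a → inV1 a⁻¹ := by decide +kernel
theorem V2_mul : ∀ a b : T0, inV2 a → inV2 b → inV2 (a * b) := by decide +kernel
theorem V2_inv : ∀ a : T0, inV2 a → inV2 a⁻¹ := by decide +kernel
theorem Z0_mul : ∀ a b : T0, inZ0 a → inZ0 b → inZ0 (a * b) := by decide +kernel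
theorem Z0_inv : ∀ a : T0, inZ0 a → inZ0 a⁻¹ := by decide +kernel

/-! ### the facts -/

theorem f_V1n : ∀ g v : T0, inV1 v → inV1 (g * v * g⁻¹) := by decide +kernel
theorem f_V2n : ∀ g v : T0, inV2 v → inV2 (g * v * g⁻¹) := by decide +kernel
theorem f_V1comm : ∀ a b : T0, inV1 a → inV1 b → a * b = b * a := by decide +kernel
theorem f_V2comm : ∀ a b : T0, inV2 a → inV2 b → a * b = b * a := by decide +kernel
theorem f_V1sq : ∀ a : T0, inV1 a → a * a = 1 := by decide +kernel
theorem f_V2sq : ∀ a : T0, inV2 a → a * a = 1 := by decide +kernel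
theorem f_cardV1 : (Finset.univ.filter (fun x : T0 => inV1 x)).card = 16 := by decide +kernel
theorem f_cardV2 : (Finset.univ.filter (fun x : T0 => inV2 x)).card = 16 := by decide +kernel
theorem f_cardB : (Finset.univ.filter (fun x : T0 => inB x)).card = 64 := by decide +kernel
theorem f_cardZ0 : (Finset.univ.filter (fun x : T0 => inZ0 x)).card = 4 := by decide +kernel
theorem f_V1B : ∀ x : T0, inV1 x → inB x := fun x h => h.1
theorem f_V2B : ∀ x : T0, inV2 x → inB x := fun x h => h.1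
theorem f_Bsup : ∀ b : T0, inB b → ∃ v : T0, inV1 v ∧ inV2 (v⁻¹ * b) := by decide +kernel
theorem f_Z0 : ∀ x : T0, inZ0 x ↔ (inV1 x ∧ inV2 x) := by decide +kernel
theorem f_memZ0 : ∀ x : T0, inZ0 x ↔ x = 1 ∨ x = z1 ∨ x = z2 ∨ x = z1 * z2 := by decide +kernel
theorem f_z1ne : z1 ≠ 1 := by decide +kernel
theorem f_z2ne : z2 ≠ 1 := by decide +kernel
theorem f_z12 : z1 ≠ z2 := by decide +kernel
theorem f_center : ∀ c : T0, (∀ g : T0, c * g = g * c) → c = 1 ∨ c = z1 * z2 := by decide +kernel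
theorem f_zcentral : ∀ g : T0, (z1 * z2) * g = g * (z1 * z2) := by decide +kernel
theorem f_sqB : ∀ d : T0, inB d → inZ0 (d * d) := by decide +kernel
theorem f_commB : ∀ d d' : T0, inB d → inB d' → inZ0 (cm d d') := by decide +kernel
theorem f_Z0c : ∀ c d : T0, inZ0 c → inB d → c * d = d * c := by decide +kernel
theorem f_selfC : ∀ d : T0, inB d → (∀ d' : T0, inB d' → d * d' = d' * d) → inZ0 d := by decide +kernel
theorem f_tauB : ¬ inB tau := by decide +kernel
theorem f_tausq : tau * tau = 1 := by decide +kernel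
theorem f_tauz : tau * z1 * tau⁻¹ = z2 := by decide +kernel
theorem f_invol : ∀ t : T0, ¬ inB t → t * t = 1 → ∃ p : T0, t = p * tau * p⁻¹ := by decide +kernel
theorem f_centtau : (Finset.univ.filter (fun x : T0 => tau * x = x * tau)).card = 16 := by decide +kernel
theorem f_Z2 : ∀ n : T0, (∀ g : T0, cm n g = 1 ∨ cm n g = z1 * z2) → inZ0 n := by decide +kernel
theorem f_p8a1 : ∀ u u' : T0, ((inV1 u ∧ inV1 u') ∨ (inV2 u ∧ inV2 u')) → inC z1 u → inC z1 u' →
    ¬ inZ0 u → ¬ inZ0 u' → inZ0 (u' * u⁻¹) := by decide +kernel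
theorem f_p8a2 : ∀ u u' : T0, ((inV1 u ∧ inV1 u') ∨ (inV2 u ∧ inV2 u')) → inC z2 u → inC z2 u' →
    ¬ inZ0 u → ¬ inZ0 u' → inZ0 (u' * u⁻¹) := by decide +kernel

def s1 : T0 := ⟨(DihedralGroup.sr 0, 1), 1⟩
def s2 : T0 := ⟨(DihedralGroup.sr 1, 1), 1⟩
def s3 : T0 := ⟨(1, DihedralGroup.sr 0), 1⟩
def s4 : T0 := ⟨(1, DihedralGroup.sr 1), 1⟩

theorem f_s1 : inV1 s1 ∧ inC z1 s1 := by decide +kernel
theorem f_s2 : inV2 s2 ∧ inC z1 s2 := by decide +kernel
theorem f_s3 : inV1 s3 ∧ inC z2 s3 := by decide +kernel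
theorem f_s4 : inV2 s4 ∧ inC z2 s4 := by decide +kernel

theorem f_gen : ∀ b : T0, inB b → ∃ i j : Fin 4, ∃ e f : Fin 2,
    b = (s1 * s2) ^ (i : ℕ) * s1 ^ (e : ℕ) * (s3 * s4) ^ (j : ℕ) * s3 ^ (f : ℕ) := by decide +kernel

theorem f_ne12 : inV1 s1 ∧ ¬ inV2 s1 := by decide +kernel

/-- an involution outside `B` does not commute with all its conjugates -/
theorem f_F1 : ∀ t : T0, ¬ inB t → t * t = 1 → ∃ g : T0, (g * t * g⁻¹) * t ≠ t * (g * t * g⁻¹) := by
  decide +kernel

/-- the involutions of `B` commuting with all conjugates of a noncentral involution of `B` lie in `V1` or in `V2` -/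
theorem f_F2 : ∀ v : T0, inB v → v * v = 1 → ¬ inZ0 v →
    (∀ y : T0, inK v y → inV1 y) ∨ (∀ y : T0, inK v y → inV2 y) := by decide +kernel

end Cfsg.Agent.Lib.Helper9.W2Conc
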