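import Mathlib
import Cfsg.Agent.Lib.Helper8.W2Defs
import Cfsg.Agent.Lib.Helper9.W2ConcA

set_option autoImplicit false
set_option linter.unusedVariables false
set_option linter.style.longLine false

/-! # W2 = S4402, EXISTS-CONC, part B: the subgroups and the structure `WD` on `⊤ : Subgroup T0`. -/

namespace Cfsg.Agent.Lib.Helper9.W2Conc

open Cfsg.Agent.Lib.Helper8.W2

set_option maxRecDepth 100000

theorem one_B : inB (1 : T0) := by decide
theorem one_V1 : inV1 (1 : T0) := by decide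
theorem one_V2 : inV2 (1 : T0) := by decide
theorem one_Z0 : inZ0 (1 : T0) := by decide

def sB : Subgroup T0 where
  carrier := {x | inB x}
  mul_mem' := fun {a b} ha hb => B_mul a b ha hb
  one_mem' := one_B
  inv_mem' := fun {a} ha => B_inv a ha

def sV1 : Subgroup T0 where
  carrier := {x | inV1 x}
  mul_mem' := fun {a b} ha hb => V1_mul a b ha hb
  one_mem' := one_V1
  inv_mem' := fun {a} ha => V1_inv a ha

def sV2 : Subgroup T0 where
  carrier := {x | inV2 x}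
  mul_mem' := fun {a b} ha hb => V2_mul a b ha hb
  one_mem' := one_V2
  inv_mem' := fun {a} ha => V2_inv a ha

def sZ0 : Subgroup T0 where
  carrier := {x | inZ0 x}
  mul_mem' := fun {a b} ha hb => Z0_mul a b ha hb
  one_mem' := one_Z0
  inv_mem' := fun {a} ha => Z0_inv a ha

theorem mem_sB (x : T0) : x ∈ sB ↔ inB x := Iff.rfl
theorem mem_sV1 (x : T0) : x ∈ sV1 ↔ inV1 x := Iff.rfl
theorem mem_sV2 (x : T0) : x ∈ sV2 ↔ inV2 x := Iff.rfl
theorem mem_sZ0 (x : T0) : x ∈ sZ0 ↔ inZ0 x := Iff.rfl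

instance : DecidablePred (· ∈ sB) := fun x => inferInstanceAs (Decidable (inB x))
instance : DecidablePred (· ∈ sV1) := fun x => inferInstanceAs (Decidable (inV1 x))
instance : DecidablePred (· ∈ sV2) := fun x => inferInstanceAs (Decidable (inV2 x))
instance : DecidablePred (· ∈ sZ0) := fun x => inferInstanceAs (Decidable (inZ0 x))

/-- the order of a subgroup with decidable membership -/
theorem card_sub (K : Subgroup T0) (p : T0 → Prop) [DecidablePred p] (h : ∀ x, x ∈ K ↔ p x) :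
    Nat.card ↥K = (Finset.univ.filter (fun x : T0 => p x)).card := by
  classical
  rw [Nat.card_eq_fintype_card]
  refine Fintype.card_of_subtype (Finset.univ.filter (fun x : T0 => p x)) (fun x => ?_)
  rw [Finset.mem_filter]
  exact ⟨fun hx => (h x).mpr hx.2, fun hx => ⟨Finset.mem_univ x, (h x).mp hx⟩⟩

theorem card_sV1 : Nat.card ↥sV1 = 16 := by rw [card_sub sV1 inV1 mem_sV1, f_cardV1]
theorem card_sV2 : Nat.card ↥sV2 = 16 := by rw [card_sub sV2 inV2 mem_sV2, f_cardV2]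
theorem card_sB : Nat.card ↥sB = 64 := by rw [card_sub sB inB mem_sB, f_cardB]
theorem card_sZ0 : Nat.card ↥sZ0 = 4 := by rw [card_sub sZ0 inZ0 mem_sZ0, f_cardZ0]

theorem card_top : Nat.card ↥(⊤ : Subgroup T0) = 128 := by
  rw [Nat.card_congr Subgroup.topEquiv.toEquiv, Nat.card_eq_fintype_card, card_T0]

theorem elem_sV1 : Cfsg.IsElementaryAbelian 2 sV1 := by
  refine ⟨⟨⟨fun a b => Subtype.ext (f_V1comm a.1 b.1 a.2 b.2)⟩⟩, fun a ha => ?_⟩
  rw [pow_two]
  exact f_V1sq a ha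

theorem elem_sV2 : Cfsg.IsElementaryAbelian 2 sV2 := by
  refine ⟨⟨⟨fun a b => Subtype.ext (f_V2comm a.1 b.1 a.2 b.2)⟩⟩, fun a ha => ?_⟩
  rw [pow_two]
  exact f_V2sq a ha

theorem comm_of_elem {V : Subgroup T0} (h : Cfsg.IsElementaryAbelian 2 V) (a b : T0) (ha : a ∈ V) (hb : b ∈ V) :
    a * b = b * a := by
  have := h.1.is_comm.comm (⟨a, ha⟩ : ↥V) ⟨b, hb⟩
  exact congrArg Subtype.val this

theorem sq_of_elem {V : Subgroup T0} (h : Cfsg.IsElementaryAbelian 2 V) (a : T0) (ha : a ∈ V) : a * a = 1 := by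
  have := h.2 a ha
  rwa [pow_two] at this

theorem hB_eq : sB = sV1 ⊔ sV2 := by
  apply le_antisymm
  · intro b hb
    obtain ⟨v, hv1, hv2⟩ := f_Bsup b hb
    have : b = v * (v⁻¹ * b) := by group
    rw [this]
    exact Subgroup.mul_mem_sup hv1 hv2
  · exact sup_le (fun x hx => f_V1B x hx) (fun x hx => f_V2B x hx)

theorem hZ0_eq : sZ0 = sV1 ⊓ sV2 := by
  ext x
  rw [Subgroup.mem_inf]
  exact f_Z0 x

theorem uniq_T0 (V : Subgroup T0) (hVn : ∀ g ∈ (⊤ : Subgroup T0), ∀ v ∈ V, g * v * g⁻¹ ∈ V)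
    (hVe : Cfsg.IsElementaryAbelian 2 V) (hVc : Nat.card V = 16) : V = sV1 ∨ V = sV2 := by
  have hVB : ∀ t ∈ V, inB t := by
    intro t ht
    by_contra hB
    obtain ⟨g, hg⟩ := f_F1 t hB (sq_of_elem hVe t ht)
    exact hg (comm_of_elem hVe _ _ (hVn g (Subgroup.mem_top g) t ht) ht)
  obtain ⟨v, hv, hvZ⟩ : ∃ v ∈ V, ¬ inZ0 v := by
    by_contra hcon
    push Not at hcon
    have hle : V ≤ sZ0 := fun x hx => hcon x hx
    have := Subgroup.card_le_of_le hle
    rw [hVc, card_sZ0] at this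
    omega
  have hK : ∀ y ∈ V, inK v y := fun y hy =>
    ⟨sq_of_elem hVe y hy, hVB y hy, fun g => comm_of_elem hVe _ _ hy (hVn g (Subgroup.mem_top g) v hv)⟩
  rcases f_F2 v (hVB v hv) (sq_of_elem hVe v hv) hvZ with h | h
  · left
    have hle : V ≤ sV1 := fun y hy => h y (hK y hy)
    exact Subgroup.eq_of_le_of_card_ge hle (by rw [hVc, card_sV1])
  · right
    have hle : V ≤ sV2 := fun y hy => h y (hK y hy)
    exact Subgroup.eq_of_le_of_card_ge hle (by rw [hVc, card_sV2])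

theorem InC_iff (zi w : T0) : InC sB zi w ↔ inC zi w := Iff.rfl

theorem card_centtau : Nat.card (⊤ ⊓ Subgroup.centralizer {tau} : Subgroup T0) = 16 := by
  rw [card_sub (⊤ ⊓ Subgroup.centralizer {tau} : Subgroup T0) (fun x => tau * x = x * tau), f_centtau]
  intro x
  rw [Subgroup.mem_inf, Subgroup.mem_centralizer_iff]
  constructor
  · rintro ⟨-, h⟩
    exact h tau (Set.mem_singleton tau)
  · intro h
    refine ⟨Subgroup.mem_top x, fun y hy => ?_⟩
    rw [Set.mem_singleton_iff] at hy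
    rw [hy]
    exact h

theorem p8b_T0 : sB ≤ Subgroup.closure {u : T0 | (u ∈ sV1 ∨ u ∈ sV2) ∧ (InC sB z1 u ∨ InC sB z2 u)} := by
  intro b hb
  have h1 : s1 ∈ Subgroup.closure {u : T0 | (u ∈ sV1 ∨ u ∈ sV2) ∧ (InC sB z1 u ∨ InC sB z2 u)} :=
    Subgroup.subset_closure ⟨Or.inl f_s1.1, Or.inl f_s1.2⟩
  have h2 : s2 ∈ Subgroup.closure {u : T0 | (u ∈ sV1 ∨ u ∈ sV2) ∧ (InC sB z1 u ∨ InC sB z2 u)} :=
    Subgroup.subset_closure ⟨Or.inr f_s2.1, Or.inl f_s2.2⟩
  have h3 : s3 ∈ Subgroup.closure {u : T0 | (u ∈ sV1 ∨ u ∈ sV2) ∧ (InC sB z1 u ∨ InC sB z2 u)} :=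
    Subgroup.subset_closure ⟨Or.inl f_s3.1, Or.inr f_s3.2⟩
  have h4 : s4 ∈ Subgroup.closure {u : T0 | (u ∈ sV1 ∨ u ∈ sV2) ∧ (InC sB z1 u ∨ InC sB z2 u)} :=
    Subgroup.subset_closure ⟨Or.inr f_s4.1, Or.inr f_s4.2⟩
  obtain ⟨i, j, e, f, rfl⟩ := f_gen b hb
  exact Subgroup.mul_mem _ (Subgroup.mul_mem _ (Subgroup.mul_mem _
    (Subgroup.pow_mem _ (Subgroup.mul_mem _ h1 h2) _) (Subgroup.pow_mem _ h1 _))
    (Subgroup.pow_mem _ (Subgroup.mul_mem _ h3 h4) _)) (Subgroup.pow_mem _ h3 _)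

/-- **EXISTS-CONC**: the facts `WD` hold for the concrete group `T0 = D8 ≀ Z2`. -/
theorem wd_T0 : WD (⊤ : Subgroup T0) sV1 sV2 sB sZ0 z1 z2 tau where
  cardP := card_top
  V1le := le_top
  V2le := le_top
  V1n := fun g _ v hv => f_V1n g v hv
  V2n := fun g _ v hv => f_V2n g v hv
  V1e := elem_sV1
  V2e := elem_sV2
  V1c := card_sV1
  V2c := card_sV2
  ne12 := by
    intro h
    have h1 : s1 ∈ sV1 := f_ne12.1
    rw [h] at h1
    exact f_ne12.2 h1
  uniq := fun V _ hVn hVe hVc => uniq_T0 V hVn hVe hVc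
  hB := hB_eq
  hZ0 := hZ0_eq
  cardB := card_sB
  memZ0 := f_memZ0
  z1ne := f_z1ne
  z2ne := f_z2ne
  z12 := f_z12
  center := fun c _ h => f_center c (fun g => h g (Subgroup.mem_top g))
  zcentral := fun g _ => f_zcentral g
  sqB := fun d hd => f_sqB d hd
  commB := fun d hd d' hd' => f_commB d d' hd hd'
  Z0c := fun c hc d hd => f_Z0c c d hc hd
  selfC := fun d hd h => f_selfC d hd h
  τP := Subgroup.mem_top _
  τB := f_tauB
  τsq := f_tausq
  τz := f_tauz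
  invol := fun t _ htB ht => by
    obtain ⟨p, hp⟩ := f_invol t htB ht
    exact ⟨p, Subgroup.mem_top p, hp⟩
  centτ := card_centtau
  Z2 := fun n _ h => f_Z2 n (fun g => h g (Subgroup.mem_top g))
  p8a := by
    rintro zi (rfl | rfl) u u' huu hu hu' hz hz'
    · exact f_p8a1 u u' huu hu hu' hz hz'
    · exact f_p8a2 u u' huu hu hu' hz hz'
  p8b := p8b_T0

end Cfsg.Agent.Lib.Helper9.W2Conc
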