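import Mathlib
import Cfsg.Agent.Lib.Helper9.SyTA
import Cfsg.Agent.Lib.Helper9.W2ConcA

set_option autoImplicit false
set_option linter.unusedVariables false
set_option linter.style.longLine false

/-! # W2 = S4402, EXISTS-CONC, part C: `T0` is isomorphic to every Sylow 2-subgroup of `Perm (Fin 8)`
(faithful action of `T0 = D8 ≀ Z2` on the 8 points `Bool × ZMod 4`). -/

namespace Cfsg.Agent.Lib.Helper9.W2Conc

abbrev Pt : Type := Bool × ZMod 4

/-- the natural action of `D8` on `ZMod 4` -/
def actD (a : D) (k : ZMod 4) : ZMod 4 :=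
  match a with
  | DihedralGroup.r i => k + i
  | DihedralGroup.sr i => -k - i

/-- the action of `T0` on the 8 points: first the block swap, then the two coordinates on their blocks -/
def act (x : T0) (p : Pt) : Pt :=
  let q : Pt := if x.right = 1 then p else (!p.1, p.2)
  if q.1 then (q.1, actD x.left.2 q.2) else (q.1, actD x.left.1 q.2)

set_option maxRecDepth 100000

theorem act_one : ∀ p : Pt, act 1 p = p := by decide +kernel

theorem act_mul : ∀ (x y : T0) (p : Pt), act (x * y) p = act x (act y p) := by decide +kernel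

theorem act_faithful : ∀ x : T0, (∀ p : Pt, act x p = p) → x = 1 := by decide +kernel

instance instMulActionT0 : MulAction T0 Pt where
  smul := act
  one_smul := act_one
  mul_smul := act_mul

theorem toPerm_inj : Function.Injective (MulAction.toPermHom T0 Pt) := by
  rw [injective_iff_map_eq_one]
  intro x hx
  apply act_faithful
  intro p
  have := congrArg (fun σ : Equiv.Perm Pt => σ p) hx
  exact this

theorem card_Pt : Fintype.card Pt = 8 := by decide

/-- an embedding of `T0` into `Perm (Fin 8)` -/
noncomputable def emb : T0 →* Equiv.Perm (Fin 8) :=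
  ((Fintype.equivFinOfCardEq card_Pt).permCongrHom.toMonoidHom).comp (MulAction.toPermHom T0 Pt)

theorem emb_inj : Function.Injective emb := by
  unfold emb
  rw [MonoidHom.coe_comp]
  exact (MulEquiv.injective _).comp toPerm_inj

theorem card_S8 : Nat.card (Equiv.Perm (Fin 8)) = 40320 := by
  rw [Nat.card_perm, Nat.card_eq_fintype_card (α := Fin 8), Fintype.card_fin]
  decide

theorem fact_S8 : (Nat.card (Equiv.Perm (Fin 8))).factorization 2 = 7 := by
  rw [card_S8]
  apply Cfsg.Agent.Lib.Helper9.SyT.factorization_two_of_dvd <;> norm_num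

theorem card_range : Nat.card ↥emb.range = 2 ^ 7 := by
  rw [← Nat.card_congr (MonoidHom.ofInjective emb_inj).toEquiv, Nat.card_eq_fintype_card, card_T0]
  norm_num

/-- `T0` is isomorphic to every Sylow 2-subgroup of `Perm (Fin 8)` -/
theorem iso_sylow (T : Sylow 2 (Equiv.Perm (Fin 8))) :
    Nonempty (T0 ≃* ↥(T : Subgroup (Equiv.Perm (Fin 8)))) := by
  have : Fact (Nat.Prime 2) := ⟨Nat.prime_two⟩
  obtain ⟨e⟩ := Cfsg.Agent.Lib.Helper9.SyT.sylow_iso fact_S8 emb.range card_range T
  exact ⟨(MonoidHom.ofInjective emb_inj).trans e.symm⟩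

end Cfsg.Agent.Lib.Helper9.W2Conc
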