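import Mathlib
import Cfsg.Agent.Lib.Helper8.W2Defs
import Cfsg.Agent.Lib.Helper9.W2ConcB
import Cfsg.Agent.Lib.Helper9.W2ConcC

set_option autoImplicit false
set_option linter.unusedVariables false
set_option linter.style.longLine false

/-! # W2 = S4402, EXISTS-CONC: the facts `WD` for a concrete group isomorphic to every Sylow 2-subgroup of `Perm (Fin 8)`. -/

namespace Cfsg.Agent.Lib.Helper9.W2Conc

open Cfsg.Agent.Lib.Helper8.W2

/-- **EXISTS-CONC** in the shape asked for by the TRANSPORT unit. -/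
theorem conc : ∃ (T : Type) (_ : Group T) (V1 V2 B Z0 : Subgroup T) (z1 z2 τ : T),
    WD (⊤ : Subgroup T) V1 V2 B Z0 z1 z2 τ ∧
      ∀ Q : Sylow 2 (Equiv.Perm (Fin 8)), Nonempty (T ≃* ↥(Q : Subgroup (Equiv.Perm (Fin 8)))) :=
  ⟨T0, inferInstance, sV1, sV2, sB, sZ0, z1, z2, tau, wd_T0, iso_sylow⟩

end Cfsg.Agent.Lib.Helper9.W2Conc
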