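import Cfsg.Agent.Lib.Helper9.WeaklyClosed1
import Cfsg.Agent.Lib.Helper9.Solvable2
import Cfsg.Agent.Lib.Helper9.FactorSys8
import Cfsg.Agent.Lib.Helper9.NormalSeries2

set_option autoImplicit false

namespace Cfsg.Agent.Lib.Helper9

open Cfsg Cfsg.FusionSystem
open scoped commutatorElement

variable {Ω : Type*} [Group Ω] {S : Subgroup Ω}

theorem weaklyClosed_range_eq (F : FusionSystem S) {W P : Subgroup Ω} (hW : F.WeaklyClosed W)
    (hPW : P = W) {φ : P →* Ω} (hφ : φ ∈ F.Hom P) : φ.range = P := by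
  subst hPW
  exact hW.2 φ hφ

/-- a weakly closed subgroup that is central modulo a strongly closed subgroup `T` in a strongly
closed subgroup `Q` is strongly closed -/
theorem stronglyClosed_of_weaklyClosed_central_mod [Finite S] {p : ℕ} [Fact p.Prime]
    (hS : IsPGroup p S) (F : FusionSystem S) (hF : F.IsSaturated p) {T Q W : Subgroup Ω}
    (hT : F.StronglyClosed T) (hQ : F.StronglyClosed Q) (hTW : T ≤ W) (hWQ : W ≤ Q)
    (hcomm : ⁅W, Q⁆ ≤ T) (hW : F.WeaklyClosed W) : F.StronglyClosed W := by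
  have := subgroupOf_normal_of_stronglyClosed F hT
  obtain ⟨E, hE⟩ := exists_factorSystem_quotient F T hT
  have hEsat := factorSystem_saturated p hS F hF hT _ E hE
  have hE' := hE
  obtain ⟨hTS, hker, hrange, hHom⟩ := hE'
  have hfin : Finite (⊤ : Subgroup (S ⧸ T.subgroupOf S)) := finite_of_range_eq _ hrange
  have hp' := isPGroup_of_range_eq hS _ hrange
  have hQ' := imageAlong_stronglyClosed F _ E hE hQ (hTW.trans hWQ)
  have hpre : preimageAlong (QuotientGroup.mk' (T.subgroupOf S))
      (imageAlong (QuotientGroup.mk' (T.subgroupOf S)) W) = W :=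
    preimageAlong_imageAlong _ hker hW.1 hTW
  have hW' : E.WeaklyClosed (imageAlong (QuotientGroup.mk' (T.subgroupOf S)) W) := by
    refine ⟨le_top, ?_⟩
    intro φ' hφ'
    obtain ⟨hP', φ, hφ, hind⟩ := (hHom _ φ').mp hφ'
    have h1 := range_eq_preimageAlong_of_induced F hT _ hker hrange hP' hφ hind
    have h2 := weaklyClosed_range_eq F hW hpre hφ
    have h3 := congrArg (imageAlong (QuotientGroup.mk' (T.subgroupOf S))) (h1.symm.trans h2)
    rwa [imageAlong_preimageAlong _ hrange le_top, imageAlong_preimageAlong _ hrange hP'] at h3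
  have hcomm' : ∀ w' ∈ imageAlong (QuotientGroup.mk' (T.subgroupOf S)) W,
      ∀ q' ∈ imageAlong (QuotientGroup.mk' (T.subgroupOf S)) Q, w' * q' = q' * w' := by
    intro w' hw' q' hq'
    obtain ⟨w, hwS, hw, rfl⟩ := (mem_imageAlong _ _ _).mp hw'
    obtain ⟨q, hqS, hq, rfl⟩ := (mem_imageAlong _ _ _).mp hq'
    rw [← map_mul, ← map_mul]
    have h1 : ⁅w, q⁆ ∈ T := hcomm (Subgroup.commutator_mem_commutator hw hq)
    have h2 : (⟨w, hwS⟩ * ⟨q, hqS⟩ : S) = ⟨⁅w, q⁆, hTS h1⟩ * (⟨q, hqS⟩ * ⟨w, hwS⟩) := by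
      apply Subtype.ext
      show w * q = ⁅w, q⁆ * (q * w)
      rw [commutatorElement_def]
      group
    rw [h2, map_mul, (hker _).mpr h1, one_mul]
  have hsc' := stronglyClosed_of_weaklyClosed_central hp' E hEsat hQ'
    (imageAlong_mono _ hWQ) hcomm' hW'
  have h4 := preimageAlong_stronglyClosed p hS F hF hT _ E hE hsc'
  rwa [hpre] at h4

/-- S5226 -/
theorem normal_iff_weaklyClosed_series [Finite S] (p : ℕ) [Fact p.Prime] (hS : IsPGroup p S)
    (F : FusionSystem S) (hF : F.IsSaturated p) (Q : Subgroup Ω) :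
    F.IsNormal Q ↔ F.StronglyClosed Q ∧ ∃ (n : ℕ) (C : Fin (n + 1) → Subgroup Ω), C 0 = ⊥ ∧
      C (Fin.last n) = Q ∧ Monotone C ∧ (∀ i : Fin n, ⁅C i.succ, Q⁆ ≤ C i.castSucc) ∧
      ∀ i : Fin n, F.WeaklyClosed (C i.castSucc) := by
  constructor
  · intro hQ
    refine ⟨stronglyClosed_of_normal F hQ, ?_⟩
    have hfinQ : Finite Q := finite_of_le hQ.1
    have hnil : Group.IsNilpotent Q := (isPGroup_of_le hS hQ.1).isNilpotent
    obtain ⟨m, hm⟩ := hnil.nilpotent'
    refine ⟨m, fun i => (Subgroup.upperCentralSeries Q i).map Q.subtype, ?_, ?_, ?_, ?_, ?_⟩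
    · show (Subgroup.upperCentralSeries Q ((0 : Fin (m + 1)) : ℕ)).map Q.subtype = ⊥
      rw [Fin.val_zero, Subgroup.upperCentralSeries_zero, Subgroup.map_bot]
    · show (Subgroup.upperCentralSeries Q ((Fin.last m : Fin (m + 1)) : ℕ)).map Q.subtype = Q
      rw [Fin.val_last, hm, ← MonoidHom.range_eq_map, Subgroup.range_subtype]
    · intro i j hij
      exact Subgroup.map_mono (Subgroup.upperCentralSeries_mono Q hij)
    · intro i
      show ⁅(Subgroup.upperCentralSeries Q ((i.succ : Fin (m + 1)) : ℕ)).map Q.subtype, Q⁆ ≤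
        (Subgroup.upperCentralSeries Q ((i.castSucc : Fin (m + 1)) : ℕ)).map Q.subtype
      rw [Fin.val_succ, Fin.val_castSucc, Subgroup.commutator_comm]
      exact commutator_upperCentralSeries_map_le Q i
    · intro i
      exact weaklyClosed_of_stronglyClosed F
        (stronglyClosed_of_normal F (upperCentralSeries_map_normal F hQ _))
  · rintro ⟨hQ, n, C, hC0, hCn, hCmono, hCcomm, hCw⟩
    have hsc : ∀ j (hj : j ≤ n), F.StronglyClosed (C ⟨j, by omega⟩) := by
      intro j
      induction j with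
      | zero =>
        intro _
        have : (⟨0, by omega⟩ : Fin (n + 1)) = 0 := rfl
        rw [this, hC0]
        exact stronglyClosed_bot F
      | succ j ih =>
        intro hj
        have ih' := ih (by omega)
        by_cases hjn : j + 1 = n
        · have : (⟨j + 1, by omega⟩ : Fin (n + 1)) = Fin.last n := Fin.ext hjn
          rw [this, hCn]
          exact hQ
        · have hlt : j + 1 < n := by omega
          have e1 : (⟨j + 1, by omega⟩ : Fin (n + 1)) = (⟨j + 1, hlt⟩ : Fin n).castSucc := rfl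
          have e2 : (⟨j + 1, by omega⟩ : Fin (n + 1)) = (⟨j, by omega⟩ : Fin n).succ := rfl
          have e3 : (⟨j, by omega⟩ : Fin (n + 1)) = (⟨j, by omega⟩ : Fin n).castSucc := rfl
          have hw := hCw ⟨j + 1, hlt⟩
          rw [← e1] at hw
          have hc := hCcomm ⟨j, by omega⟩
          rw [← e2, ← e3] at hc
          refine stronglyClosed_of_weaklyClosed_central_mod hS F hF ih' hQ ?_ ?_ hc hw
          · apply hCmono
            show j ≤ j + 1
            omega
          · rw [← hCn]
            apply hCmono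
            exact Fin.le_last _
    apply normal_of_series p hS F hF Q (fun j => if h : j ≤ n then C ⟨j, by omega⟩ else S) n
    · show (if h : 0 ≤ n then C ⟨0, by omega⟩ else S) = ⊥
      rw [dif_pos (Nat.zero_le n)]
      exact hC0
    · show (if h : n ≤ n then C ⟨n, by omega⟩ else S) = Q
      rw [dif_pos le_rfl]
      exact hCn
    · intro j
      show F.StronglyClosed (if h : j ≤ n then C ⟨j, by omega⟩ else S)
      by_cases h : j ≤ n
      · rw [dif_pos h]
        exact hsc j h
      · rw [dif_neg h]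
        exact stronglyClosed_top F
    · intro j hj
      show ⁅Q, (if h : j + 1 ≤ n then C ⟨j + 1, by omega⟩ else S)⁆ ≤
        (if h : j ≤ n then C ⟨j, by omega⟩ else S)
      rw [dif_pos (by omega : j + 1 ≤ n), dif_pos (by omega : j ≤ n), Subgroup.commutator_comm]
      exact hCcomm ⟨j, hj⟩
    · intro j hj
      show (if h : j ≤ n then C ⟨j, by omega⟩ else S) = S
      rw [dif_neg (by omega)]

end Cfsg.Agent.Lib.Helper9
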